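import Mathlib
import Cfsg.Prelude.Def_Characters

set_option autoImplicit false

namespace Cfsg.Agent.Helper11

open Cfsg

theorem extendByZero_of_mem {G : Type*} [Group G] (H : Subgroup G) (θ : H → ℂ) (u : G) (h : u ∈ H) :
    Cfsg.extendByZero H θ u = θ ⟨u, h⟩ := by
  unfold Cfsg.extendByZero
  exact Subtype.val_injective.extend_apply θ 0 ⟨u, h⟩

theorem extendByZero_of_not_mem {G : Type*} [Group G] (H : Subgroup G) (θ : H → ℂ) (u : G) (h : u ∉ H) :
    Cfsg.extendByZero H θ u = 0 := by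
  unfold Cfsg.extendByZero
  rw [Function.extend_apply']
  · rfl
  · rintro ⟨a, rfl⟩
    exact h a.2

theorem extendByZero_coe {G : Type*} [Group G] (H : Subgroup G) (θ : H → ℂ) (u : H) :
    Cfsg.extendByZero H θ (u : G) = θ u :=
  extendByZero_of_mem H θ u u.2

theorem indFun_apply {G : Type*} [Group G] [Fintype G] (H : Subgroup G) (θ : H → ℂ) (g : G) :
    Cfsg.indFun H θ g = (Nat.card H : ℂ)⁻¹ * ∑ x : G, Cfsg.extendByZero H θ (x⁻¹ * g * x) := rfl

/-- Sum over the group of a function supported on a subgroup `N` where it is constant. -/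
theorem sum_indicator_subgroup {G : Type*} [Group G] [Fintype G] (N : Subgroup G) (c : ℂ) (f : G → ℂ)
    (h1 : ∀ x ∈ N, f x = c) (h0 : ∀ x ∉ N, f x = 0) : ∑ x : G, f x = (Nat.card N : ℂ) * c := by
  classical
  have : ∀ x : G, f x = (if x ∈ N then 1 else 0) * c := by
    intro x
    by_cases hx : x ∈ N
    · rw [if_pos hx, one_mul, h1 x hx]
    · rw [if_neg hx, zero_mul, h0 x hx]
  rw [Finset.sum_congr rfl (fun x _ => this x), ← Finset.sum_mul, Finset.sum_boole]
  congr 2
  rw [Nat.card_eq_fintype_card, Fintype.card_subtype]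

/-- A sum over `G` of a function vanishing off the subgroup `H` is the sum over `H`. -/
theorem sum_eq_sum_subgroup {G : Type*} [Group G] [Fintype G] (H : Subgroup G) [Fintype H] (f : G → ℂ)
    (h0 : ∀ x ∉ H, f x = 0) : ∑ x : G, f x = ∑ h : H, f (h : G) := by
  classical
  have h1 : ∑ x ∈ (Finset.univ : Finset H).map ⟨Subtype.val, Subtype.val_injective⟩, f x = ∑ x : G, f x := by
    apply Finset.sum_subset (Finset.subset_univ _)
    intro x _ hx
    apply h0
    intro hxH
    apply hx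
    rw [Finset.mem_map]
    exact ⟨⟨x, hxH⟩, Finset.mem_univ _, rfl⟩
  rw [← h1, Finset.sum_map]
  rfl

theorem indFun_isClassFunction {G : Type*} [Group G] [Fintype G] (H : Subgroup G) (θ : H → ℂ) :
    Cfsg.IsClassFunction G (Cfsg.indFun H θ) := by
  intro g h
  rw [indFun_apply, indFun_apply]
  congr 1
  have := Equiv.sum_comp (Equiv.mulLeft h) (fun y => Cfsg.extendByZero H θ (y⁻¹ * (h * g * h⁻¹) * y))
  rw [← this]
  apply Finset.sum_congr rfl
  intro x _
  congr 1
  simp only [Equiv.coe_mulLeft]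
  group

open scoped ComplexConjugate in
/-- Frobenius reciprocity for functions. -/
theorem classInner_indFun {G : Type*} [Group G] [Fintype G] (H : Subgroup G) [Fintype H] (ψ : H → ℂ)
    (Φ : G → ℂ) (hΦ : Cfsg.IsClassFunction G Φ) :
    Cfsg.classInner (Cfsg.indFun H ψ) Φ = Cfsg.classInner ψ (fun h : H => Φ h) := by
  unfold Cfsg.classInner
  simp only [indFun_apply]
  have h1 : ∀ g : G, (Nat.card H : ℂ)⁻¹ * (∑ x : G, Cfsg.extendByZero H ψ (x⁻¹ * g * x)) * conj (Φ g)
      = (Nat.card H : ℂ)⁻¹ * ∑ x : G, Cfsg.extendByZero H ψ (x⁻¹ * g * x) * conj (Φ (x⁻¹ * g * x)) := by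
    intro g
    rw [mul_assoc, Finset.sum_mul]
    congr 1
    apply Finset.sum_congr rfl
    intro x _
    have := hΦ g x⁻¹
    rw [inv_inv] at this
    rw [this]
  rw [Finset.sum_congr rfl (fun g _ => h1 g), ← Finset.mul_sum, Finset.sum_comm]
  have h2 : ∀ x : G, ∑ g : G, Cfsg.extendByZero H ψ (x⁻¹ * g * x) * conj (Φ (x⁻¹ * g * x))
      = ∑ u : G, Cfsg.extendByZero H ψ u * conj (Φ u) := by
    intro x
    exact Equiv.sum_comp ((Equiv.mulLeft x⁻¹).trans (Equiv.mulRight x))
      (fun u => Cfsg.extendByZero H ψ u * conj (Φ u))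
  rw [Finset.sum_congr rfl (fun x _ => h2 x), Finset.sum_const, Finset.card_univ, nsmul_eq_mul]
  have h3 : ∑ u : G, Cfsg.extendByZero H ψ u * conj (Φ u) = ∑ h : H, ψ h * conj (Φ h) := by
    rw [sum_eq_sum_subgroup H]
    · apply Finset.sum_congr rfl
      intro h _
      rw [extendByZero_coe]
    · intro x hx
      rw [extendByZero_of_not_mem H ψ x hx, zero_mul]
  rw [h3]
  have hG : (Nat.card G : ℂ) ≠ 0 := by
    have : Nat.card G ≠ 0 := Nat.card_pos.ne'
    exact_mod_cast this
  rw [← Nat.card_eq_fintype_card]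
  field_simp

end Cfsg.Agent.Helper11
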