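import Mathlib
import Cfsg.Agent.Lib.Helper4.DicksonMain
import Cfsg.Agent.Lib.Helper2.SL2Sylow

set_option autoImplicit false
set_option linter.unusedVariables false
set_option linter.unusedSectionVars false
set_option linter.unusedSimpArgs false

/-! Dickson's theorem, the doubly transitive case in a normalized frame: matrix computations. -/

namespace Cfsg.Agent.Helper11.Dickson

open Matrix Matrix.SpecialLinearGroup
open scoped MatrixGroups
open Cfsg.Agent.Helper2.SL2S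
open Cfsg.Agent.Helper12

variable {F : Type*} [Field F]

theorem sl2_ext {x y : SL(2, F)} (h00 : x.1 0 0 = y.1 0 0) (h01 : x.1 0 1 = y.1 0 1)
    (h10 : x.1 1 0 = y.1 1 0) (h11 : x.1 1 1 = y.1 1 1) : x = y := by
  apply Subtype.ext
  ext i j
  fin_cases i <;> fin_cases j <;> assumption

theorem sl2_det (x : SL(2, F)) : x.1 0 0 * x.1 1 1 - x.1 0 1 * x.1 1 0 = 1 := by
  have := x.2
  rwa [Matrix.det_fin_two] at this

theorem m00 (X Y : SL(2, F)) : (X * Y).1 0 0 = X.1 0 0 * Y.1 0 0 + X.1 0 1 * Y.1 1 0 := by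
  simp [Matrix.mul_apply, Fin.sum_univ_two]

theorem m01 (X Y : SL(2, F)) : (X * Y).1 0 1 = X.1 0 0 * Y.1 0 1 + X.1 0 1 * Y.1 1 1 := by
  simp [Matrix.mul_apply, Fin.sum_univ_two]

theorem m10 (X Y : SL(2, F)) : (X * Y).1 1 0 = X.1 1 0 * Y.1 0 0 + X.1 1 1 * Y.1 1 0 := by
  simp [Matrix.mul_apply, Fin.sum_univ_two]

theorem m11 (X Y : SL(2, F)) : (X * Y).1 1 1 = X.1 1 0 * Y.1 0 1 + X.1 1 1 * Y.1 1 1 := by
  simp [Matrix.mul_apply, Fin.sum_univ_two]

theorem i00 (X : SL(2, F)) : (X⁻¹).1 0 0 = X.1 1 1 := by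
  simp [Matrix.SpecialLinearGroup.coe_inv, Matrix.adjugate_fin_two]

theorem i01 (X : SL(2, F)) : (X⁻¹).1 0 1 = -X.1 0 1 := by
  simp [Matrix.SpecialLinearGroup.coe_inv, Matrix.adjugate_fin_two]

theorem i10 (X : SL(2, F)) : (X⁻¹).1 1 0 = -X.1 1 0 := by
  simp [Matrix.SpecialLinearGroup.coe_inv, Matrix.adjugate_fin_two]

theorem i11 (X : SL(2, F)) : (X⁻¹).1 1 1 = X.1 0 0 := by
  simp [Matrix.SpecialLinearGroup.coe_inv, Matrix.adjugate_fin_two]

theorem u00 (a : F) : (u a).1 0 0 = 1 := by rw [u_coe]; simp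
theorem u01 (a : F) : (u a).1 0 1 = a := by rw [u_coe]; simp
theorem u10 (a : F) : (u a).1 1 0 = 0 := by rw [u_coe]; simp
theorem u11 (a : F) : (u a).1 1 1 = 1 := by rw [u_coe]; simp
theorem v00 (a : F) : (v a).1 0 0 = 1 := by rw [v_coe]; simp
theorem v01 (a : F) : (v a).1 0 1 = 0 := by rw [v_coe]; simp
theorem v10 (a : F) : (v a).1 1 0 = a := by rw [v_coe]; simp
theorem v11 (a : F) : (v a).1 1 1 = 1 := by rw [v_coe]; simp

/-- the monomial matrix with lower left entry `γ` -/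
def nn (γ : F) : SL(2, F) := u (-γ⁻¹) * v γ * u (-γ⁻¹)

theorem nn00 {γ : F} (hγ : γ ≠ 0) : (nn γ).1 0 0 = 0 := by
  simp only [nn, m00, m01, m10, m11, u00, u01, u10, u11, v00, v01, v10, v11]
  field_simp
  ring

theorem nn01 {γ : F} (hγ : γ ≠ 0) : (nn γ).1 0 1 = -γ⁻¹ := by
  simp only [nn, m00, m01, m10, m11, u00, u01, u10, u11, v00, v01, v10, v11]
  field_simp
  ring

theorem nn10 (γ : F) : (nn γ).1 1 0 = γ := by
  simp only [nn, m00, m01, m10, m11, u00, u01, u10, u11, v00, v01, v10, v11]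
  ring

theorem nn11 {γ : F} (hγ : γ ≠ 0) : (nn γ).1 1 1 = 0 := by
  simp only [nn, m00, m01, m10, m11, u00, u01, u10, u11, v00, v01, v10, v11]
  field_simp
  ring

/-- Bruhat decomposition of a matrix with nonzero lower left entry -/
theorem decomp (h : SL(2, F)) (α δ : F) (hγ : h.1 1 0 ≠ 0) (h0 : h.1 0 0 = α * h.1 1 0)
    (h1 : h.1 1 1 = δ * h.1 1 0) : h = u α * nn (h.1 1 0) * u δ := by
  have hdet := sl2_det h
  apply sl2_ext
  · simp only [m00, m01, m10, m11, u00, u01, u10, u11, nn00 hγ, nn01 hγ, nn10, nn11 hγ]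
    rw [h0]; ring
  · simp only [m00, m01, m10, m11, u00, u01, u10, u11, nn00 hγ, nn01 hγ, nn10, nn11 hγ]
    rw [h0, h1] at hdet
    field_simp
    linear_combination (-1 : F) * hdet
  · simp only [m00, m01, m10, m11, u00, u01, u10, u11, nn00 hγ, nn01 hγ, nn10, nn11 hγ]
    ring
  · simp only [m00, m01, m10, m11, u00, u01, u10, u11, nn00 hγ, nn01 hγ, nn10, nn11 hγ]
    rw [h1]; ring

theorem nn_conj_u {γ : F} (hγ : γ ≠ 0) (a : F) : nn γ * u a * (nn γ)⁻¹ = v (-(γ ^ 2 * a)) := by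
  apply sl2_ext <;>
  simp only [m00, m01, m10, m11, i00, i01, i10, i11, u00, u01, u10, u11, v00, v01, v10, v11,
    nn00 hγ, nn01 hγ, nn10, nn11 hγ] <;> field_simp <;> ring

theorem nn_conj_v {γ : F} (hγ : γ ≠ 0) (b : F) : (nn γ)⁻¹ * v b * nn γ = u (-(b / γ ^ 2)) := by
  apply sl2_ext <;>
  simp only [m00, m01, m10, m11, i00, i01, i10, i11, u00, u01, u10, u11, v00, v01, v10, v11,
    nn00 hγ, nn01 hγ, nn10, nn11 hγ] <;> field_simp <;> ring

/-- the diagonal matrix -/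
def dd (t : F) : SL(2, F) := negOneSL * (nn 1 * nn t)

theorem neg00 : (negOneSL : SL(2, F)).1 0 0 = -1 := by rw [negOneSL_coe]; simp
theorem neg01 : (negOneSL : SL(2, F)).1 0 1 = 0 := by rw [negOneSL_coe]; simp
theorem neg10 : (negOneSL : SL(2, F)).1 1 0 = 0 := by rw [negOneSL_coe]; simp
theorem neg11 : (negOneSL : SL(2, F)).1 1 1 = -1 := by rw [negOneSL_coe]; simp

theorem dd00 {t : F} (ht : t ≠ 0) : (dd t).1 0 0 = t := by
  simp only [dd, m00, m01, m10, m11, neg00, neg01, neg10, neg11, nn00 ht, nn01 ht, nn10, nn11 ht,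
    nn00 one_ne_zero, nn01 one_ne_zero, nn11 one_ne_zero]
  simp

theorem dd01 {t : F} (ht : t ≠ 0) : (dd t).1 0 1 = 0 := by
  simp only [dd, m00, m01, m10, m11, neg00, neg01, neg10, neg11, nn00 ht, nn01 ht, nn10, nn11 ht,
    nn00 one_ne_zero, nn01 one_ne_zero, nn11 one_ne_zero]
  simp

theorem dd10 {t : F} (ht : t ≠ 0) : (dd t).1 1 0 = 0 := by
  simp only [dd, m00, m01, m10, m11, neg00, neg01, neg10, neg11, nn00 ht, nn01 ht, nn10, nn11 ht,
    nn00 one_ne_zero, nn01 one_ne_zero, nn11 one_ne_zero]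
  simp

theorem dd11 {t : F} (ht : t ≠ 0) : (dd t).1 1 1 = t⁻¹ := by
  simp only [dd, m00, m01, m10, m11, neg00, neg01, neg10, neg11, nn00 ht, nn01 ht, nn10, nn11 ht,
    nn00 one_ne_zero, nn01 one_ne_zero, nn11 one_ne_zero]
  simp

theorem dd_conj_u {t : F} (ht : t ≠ 0) (a : F) : dd t * u a * (dd t)⁻¹ = u (t ^ 2 * a) := by
  apply sl2_ext <;>
  simp only [m00, m01, m10, m11, i00, i01, i10, i11, u00, u01, u10, u11,
    dd00 ht, dd01 ht, dd10 ht, dd11 ht] <;> field_simp <;> ring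

theorem dd_mul {s t : F} (hs : s ≠ 0) (ht : t ≠ 0) : dd s * dd t = dd (s * t) := by
  have hst : s * t ≠ 0 := mul_ne_zero hs ht
  apply sl2_ext <;>
  simp only [m00, m01, m10, m11, dd00 hs, dd01 hs, dd10 hs, dd11 hs, dd00 ht, dd01 ht, dd10 ht,
    dd11 ht, dd00 hst, dd01 hst, dd10 hst, dd11 hst] <;> field_simp <;> ring

/-- upper triangular matrices -/
theorem upper_eq (h : SL(2, F)) (h10 : h.1 1 0 = 0) :
    h = dd (h.1 0 0) * u (h.1 0 1 * h.1 1 1) := by
  have hdet := sl2_det h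
  rw [h10, mul_zero, sub_zero] at hdet
  have ht : h.1 0 0 ≠ 0 := left_ne_zero_of_mul_eq_one hdet
  have ht' : (h.1 0 0)⁻¹ = h.1 1 1 := inv_eq_of_mul_eq_one_right hdet
  apply sl2_ext
  · simp only [m00, m01, m10, m11, u00, u01, u10, u11, dd00 ht, dd01 ht, dd10 ht, dd11 ht]
    ring
  · simp only [m00, m01, m10, m11, u00, u01, u10, u11, dd00 ht, dd01 ht, dd10 ht, dd11 ht]
    linear_combination (-h.1 0 1) * hdet
  · simp only [m00, m01, m10, m11, u00, u01, u10, u11, dd00 ht, dd01 ht, dd10 ht, dd11 ht]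
    rw [h10]; ring
  · simp only [m00, m01, m10, m11, u00, u01, u10, u11, dd00 ht, dd01 ht, dd10 ht, dd11 ht]
    rw [ht']; ring

end Cfsg.Agent.Helper11.Dickson
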