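import Mathlib

set_option autoImplicit false

/-! Arithmetic of the class equation of a finite group all of whose non-central elements have
cyclic centralisers of index at most two in their normalisers (Klein's analysis).
For the `i`-th class: `a i` is the order of the centraliser modulo the centre, `e i ∈ {1, 2}` the
index of the centraliser in its normaliser, `m i` the index of the normaliser, and `h` the order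
of the group modulo the centre, so `h = m i * (e i * a i)`.  The class equation reads
`1 + ∑ m i * a i = h + ∑ m i`. -/

namespace Cfsg.Agent.Helper11.Klein

/-- linear data of a class -/
theorem ar_lin (h m a e : ℕ) (ha : 2 ≤ a) (he : e = 1 ∨ e = 2) (hh : m * (e * a) = h) :
    2 * m ≤ m * a ∧ (m * a = h ∨ 2 * (m * a) = h) := by
  refine ⟨by nlinarith, ?_⟩
  rcases he with rfl | rfl
  · left; rw [← hh]; ring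
  · right; rw [← hh]; ring

/-- one class exhausting the group -/
theorem ar_one (h m a e : ℕ) (hm : 1 ≤ m) (ha : 2 ≤ a) (he : e = 1 ∨ e = 2)
    (hh : m * (e * a) = h) (hs : 1 + m * a = h + m) : e = 1 ∧ m = 1 := by
  obtain ⟨h1, h2⟩ := ar_lin h m a e ha he hh
  rcases he with rfl | rfl
  · refine ⟨rfl, ?_⟩
    have : m * a = h := by rw [← hh]; ring
    omega
  · exfalso
    have : 2 * (m * a) = h := by rw [← hh]; ring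
    omega

/-- two classes: the core nonlinear case `e₁ = 1`, `e₂ = 2` -/
theorem ar_two_core (m₁ a₁ m₂ a₂ : ℕ) (hm₁ : 1 ≤ m₁) (hm₂ : 1 ≤ m₂) (ha₁ : 2 ≤ a₁) (ha₂ : 2 ≤ a₂)
    (h12 : m₁ * a₁ = 2 * (m₂ * a₂)) (hs : 1 + m₂ * a₂ = m₁ + m₂) :
    (a₁ = 2 ∧ m₂ = 1) ∨ (a₁ = 3 ∧ a₂ = 2 ∧ m₂ = 3 ∧ m₁ = 4) := by
  have ht₂ : 2 * m₂ ≤ m₂ * a₂ := by nlinarith
  have ha₁3 : a₁ ≤ 3 := by
    by_contra hcon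
    have h4 : 4 * m₁ ≤ m₁ * a₁ := by nlinarith
    omega
  have : a₁ = 2 ∨ a₁ = 3 := by omega
  rcases this with rfl | rfl
  · left
    refine ⟨rfl, ?_⟩
    omega
  · right
    have ha₂2 : a₂ = 2 := by
      by_contra hcon
      have h3' : 3 ≤ a₂ := by omega
      have h3 : 3 * m₂ ≤ m₂ * a₂ := by nlinarith
      omega
    subst ha₂2
    refine ⟨rfl, rfl, ?_, ?_⟩ <;> omega

/-- two classes exhausting the group -/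
theorem ar_two (h m₁ a₁ e₁ m₂ a₂ e₂ : ℕ) (hm₁ : 1 ≤ m₁) (hm₂ : 1 ≤ m₂) (ha₁ : 2 ≤ a₁)
    (ha₂ : 2 ≤ a₂) (he₁ : e₁ = 1 ∨ e₁ = 2) (he₂ : e₂ = 1 ∨ e₂ = 2)
    (hh₁ : m₁ * (e₁ * a₁) = h) (hh₂ : m₂ * (e₂ * a₂) = h)
    (hs : 1 + m₁ * a₁ + m₂ * a₂ = h + m₁ + m₂) :
    (e₁ = 1 ∧ e₂ = 2 ∧ ((a₁ = 2 ∧ m₂ = 1) ∨ (a₁ = 3 ∧ a₂ = 2 ∧ m₂ = 3 ∧ m₁ = 4))) ∨
    (e₂ = 1 ∧ e₁ = 2 ∧ ((a₂ = 2 ∧ m₁ = 1) ∨ (a₂ = 3 ∧ a₁ = 2 ∧ m₁ = 3 ∧ m₂ = 4))) := by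
  obtain ⟨l₁, -⟩ := ar_lin h m₁ a₁ e₁ ha₁ he₁ hh₁
  obtain ⟨l₂, -⟩ := ar_lin h m₂ a₂ e₂ ha₂ he₂ hh₂
  rcases he₁ with rfl | rfl <;> rcases he₂ with rfl | rfl
  · exfalso
    have e1 : m₁ * a₁ = h := by rw [← hh₁]; ring
    have e2 : m₂ * a₂ = h := by rw [← hh₂]; ring
    omega
  · left
    have e1 : m₁ * a₁ = h := by rw [← hh₁]; ring
    have e2 : 2 * (m₂ * a₂) = h := by rw [← hh₂]; ring
    exact ⟨rfl, rfl, ar_two_core m₁ a₁ m₂ a₂ hm₁ hm₂ ha₁ ha₂ (by omega) (by omega)⟩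
  · right
    have e1 : 2 * (m₁ * a₁) = h := by rw [← hh₁]; ring
    have e2 : m₂ * a₂ = h := by rw [← hh₂]; ring
    exact ⟨rfl, rfl, ar_two_core m₂ a₂ m₁ a₁ hm₂ hm₁ ha₂ ha₁ (by omega) (by omega)⟩
  · exfalso
    have e1 : 2 * (m₁ * a₁) = h := by rw [← hh₁]; ring
    have e2 : 2 * (m₂ * a₂) = h := by rw [← hh₂]; ring
    omega

/-- three classes: all normalisers have index two -/
theorem ar_three_eps (h m₁ a₁ e₁ m₂ a₂ e₂ m₃ a₃ e₃ : ℕ) (hm₁ : 1 ≤ m₁) (hm₂ : 1 ≤ m₂)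
    (hm₃ : 1 ≤ m₃) (ha₁ : 2 ≤ a₁) (ha₂ : 2 ≤ a₂) (ha₃ : 2 ≤ a₃)
    (he₁ : e₁ = 1 ∨ e₁ = 2) (he₂ : e₂ = 1 ∨ e₂ = 2) (he₃ : e₃ = 1 ∨ e₃ = 2)
    (hh₁ : m₁ * (e₁ * a₁) = h) (hh₂ : m₂ * (e₂ * a₂) = h) (hh₃ : m₃ * (e₃ * a₃) = h)
    (hs : 1 + m₁ * a₁ + m₂ * a₂ + m₃ * a₃ ≤ h + m₁ + m₂ + m₃) :
    e₁ = 2 ∧ e₂ = 2 ∧ e₃ = 2 := by
  obtain ⟨l₁, k₁⟩ := ar_lin h m₁ a₁ e₁ ha₁ he₁ hh₁
  obtain ⟨l₂, k₂⟩ := ar_lin h m₂ a₂ e₂ ha₂ he₂ hh₂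
  obtain ⟨l₃, k₃⟩ := ar_lin h m₃ a₃ e₃ ha₃ he₃ hh₃
  have q₁ : e₁ = 1 → m₁ * a₁ = h := by rintro rfl; rw [← hh₁]; ring
  have q₂ : e₂ = 1 → m₂ * a₂ = h := by rintro rfl; rw [← hh₂]; ring
  have q₃ : e₃ = 1 → m₃ * a₃ = h := by rintro rfl; rw [← hh₃]; ring
  refine ⟨?_, ?_, ?_⟩
  · rcases he₁ with r | r
    · have := q₁ r; omega
    · exact r
  · rcases he₂ with r | r
    · have := q₂ r; omega
    · exact r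
  · rcases he₃ with r | r
    · have := q₃ r; omega
    · exact r

/-- four classes are impossible -/
theorem ar_four (h m₁ a₁ e₁ m₂ a₂ e₂ m₃ a₃ e₃ m₄ a₄ e₄ : ℕ) (hm₁ : 1 ≤ m₁)
    (ha₁ : 2 ≤ a₁) (ha₂ : 2 ≤ a₂) (ha₃ : 2 ≤ a₃) (ha₄ : 2 ≤ a₄)
    (he₁ : e₁ = 1 ∨ e₁ = 2) (he₂ : e₂ = 1 ∨ e₂ = 2) (he₃ : e₃ = 1 ∨ e₃ = 2)
    (he₄ : e₄ = 1 ∨ e₄ = 2)
    (hh₁ : m₁ * (e₁ * a₁) = h) (hh₂ : m₂ * (e₂ * a₂) = h) (hh₃ : m₃ * (e₃ * a₃) = h)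
    (hh₄ : m₄ * (e₄ * a₄) = h)
    (hs : 1 + m₁ * a₁ + m₂ * a₂ + m₃ * a₃ + m₄ * a₄ ≤ h + m₁ + m₂ + m₃ + m₄) : False := by
  obtain ⟨l₁, k₁⟩ := ar_lin h m₁ a₁ e₁ ha₁ he₁ hh₁
  obtain ⟨l₂, k₂⟩ := ar_lin h m₂ a₂ e₂ ha₂ he₂ hh₂
  obtain ⟨l₃, k₃⟩ := ar_lin h m₃ a₃ e₃ ha₃ he₃ hh₃
  obtain ⟨l₄, k₄⟩ := ar_lin h m₄ a₄ e₄ ha₄ he₄ hh₄
  omega

/-- three classes with `a₁ = 2`, `a₂ = 3` -/
theorem ar_three_core (t m₁ m₂ m₃ a₃ : ℕ) (hm₃ : 1 ≤ m₃) (ha₃ : 2 ≤ a₃)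
    (h₁ : m₁ * 2 = t) (h₂ : m₂ * 3 = t) (h₃ : m₃ * a₃ = t) (hs : m₁ + m₂ + m₃ = t + 1) :
    (a₃ = 3 ∧ t = 6) ∨ (a₃ = 4 ∧ t = 12) ∨ (a₃ = 5 ∧ t = 30) := by
  have ha6 : a₃ < 6 := by
    by_contra hcon
    have : 6 * m₃ ≤ m₃ * a₃ := by nlinarith
    omega
  have : a₃ = 2 ∨ a₃ = 3 ∨ a₃ = 4 ∨ a₃ = 5 := by omega
  rcases this with rfl | rfl | rfl | rfl
  · exfalso; omega
  · left; exact ⟨rfl, by omega⟩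
  · right; left; exact ⟨rfl, by omega⟩
  · right; right; exact ⟨rfl, by omega⟩

/-- three classes with `a₁ = 2` -/
theorem ar_three_aux (t m₁ m₂ m₃ a₂ a₃ : ℕ) (hm₂ : 1 ≤ m₂) (hm₃ : 1 ≤ m₃)
    (ha₂ : 2 ≤ a₂) (ha₃ : 2 ≤ a₃)
    (h₁ : m₁ * 2 = t) (h₂ : m₂ * a₂ = t) (h₃ : m₃ * a₃ = t) (hs : m₁ + m₂ + m₃ = t + 1) :
    (m₂ = 1 ∨ m₃ = 1) ∨
    (t = 6 ∧ a₂ = 3 ∧ a₃ = 3) ∨
    (t = 12 ∧ ((a₂ = 3 ∧ a₃ = 4) ∨ (a₂ = 4 ∧ a₃ = 3))) ∨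
    (t = 30 ∧ ((a₂ = 3 ∧ a₃ = 5) ∨ (a₂ = 5 ∧ a₃ = 3))) := by
  have hsmall : a₂ ≤ 3 ∨ a₃ ≤ 3 := by
    by_contra hcon
    push Not at hcon
    have e2 : 4 * m₂ ≤ m₂ * a₂ := by nlinarith
    have e3 : 4 * m₃ ≤ m₃ * a₃ := by nlinarith
    omega
  rcases hsmall with hs2 | hs3
  · have : a₂ = 2 ∨ a₂ = 3 := by omega
    rcases this with rfl | rfl
    · left; right; omega
    · rcases ar_three_core t m₁ m₂ m₃ a₃ hm₃ ha₃ h₁ h₂ h₃ hs with ⟨r, s⟩ | ⟨r, s⟩ | ⟨r, s⟩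
      · right; left; exact ⟨s, rfl, r⟩
      · right; right; left; exact ⟨s, Or.inl ⟨rfl, r⟩⟩
      · right; right; right; exact ⟨s, Or.inl ⟨rfl, r⟩⟩
  · have : a₃ = 2 ∨ a₃ = 3 := by omega
    rcases this with rfl | rfl
    · left; left; omega
    · rcases ar_three_core t m₁ m₃ m₂ a₂ hm₂ ha₂ h₁ h₃ h₂ (by omega) with
        ⟨r, s⟩ | ⟨r, s⟩ | ⟨r, s⟩
      · right; left; exact ⟨s, r, rfl⟩
      · right; right; left; exact ⟨s, Or.inr ⟨r, rfl⟩⟩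
      · right; right; right; exact ⟨s, Or.inr ⟨r, rfl⟩⟩

/-- three classes exhausting the group, all normalisers of index two; `t = h / 2` -/
theorem ar_three (t m₁ a₁ m₂ a₂ m₃ a₃ : ℕ) (hm₁ : 1 ≤ m₁) (hm₂ : 1 ≤ m₂) (hm₃ : 1 ≤ m₃)
    (ha₁ : 2 ≤ a₁) (ha₂ : 2 ≤ a₂) (ha₃ : 2 ≤ a₃)
    (h₁ : m₁ * a₁ = t) (h₂ : m₂ * a₂ = t) (h₃ : m₃ * a₃ = t) (hs : m₁ + m₂ + m₃ = t + 1) :
    (m₁ = 1 ∨ m₂ = 1 ∨ m₃ = 1) ∨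
    (t = 6 ∧ ((a₁ = 3 ∧ a₂ = 3) ∨ (a₁ = 3 ∧ a₃ = 3) ∨ (a₂ = 3 ∧ a₃ = 3))) ∨
    (t = 12 ∧ (a₁ = 3 ∨ a₂ = 3 ∨ a₃ = 3)) ∨
    (t = 30 ∧ (a₁ = 2 ∨ a₁ = 3 ∨ a₁ = 5) ∧ (a₂ = 2 ∨ a₂ = 3 ∨ a₂ = 5) ∧
      (a₃ = 2 ∨ a₃ = 3 ∨ a₃ = 5)) := by
  have htwo : a₁ = 2 ∨ a₂ = 2 ∨ a₃ = 2 := by
    by_contra hcon
    push Not at hcon
    have e1 : 3 * m₁ ≤ m₁ * a₁ := by
      have : 3 ≤ a₁ := by omega
      nlinarith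
    have e2 : 3 * m₂ ≤ m₂ * a₂ := by
      have : 3 ≤ a₂ := by omega
      nlinarith
    have e3 : 3 * m₃ ≤ m₃ * a₃ := by
      have : 3 ≤ a₃ := by omega
      nlinarith
    omega
  rcases htwo with rfl | rfl | rfl
  · rcases ar_three_aux t m₁ m₂ m₃ a₂ a₃ hm₂ hm₃ ha₂ ha₃ h₁ h₂ h₃ hs with
      (r | r) | ⟨r, s, u⟩ | ⟨r, (⟨s, u⟩ | ⟨s, u⟩)⟩ | ⟨r, (⟨s, u⟩ | ⟨s, u⟩)⟩
    · left; right; left; exact r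
    · left; right; right; exact r
    · right; left; exact ⟨r, Or.inr (Or.inr ⟨s, u⟩)⟩
    · right; right; left; exact ⟨r, Or.inr (Or.inl s)⟩
    · right; right; left; exact ⟨r, Or.inr (Or.inr u)⟩
    · right; right; right; subst s; subst u; exact ⟨r, by omega, by omega, by omega⟩
    · right; right; right; subst s; subst u; exact ⟨r, by omega, by omega, by omega⟩
  · rcases ar_three_aux t m₂ m₁ m₃ a₁ a₃ hm₁ hm₃ ha₁ ha₃ h₂ h₁ h₃ (by omega) with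
      (r | r) | ⟨r, s, u⟩ | ⟨r, (⟨s, u⟩ | ⟨s, u⟩)⟩ | ⟨r, (⟨s, u⟩ | ⟨s, u⟩)⟩
    · left; left; exact r
    · left; right; right; exact r
    · right; left; exact ⟨r, Or.inr (Or.inl ⟨s, u⟩)⟩
    · right; right; left; exact ⟨r, Or.inl s⟩
    · right; right; left; exact ⟨r, Or.inr (Or.inr u)⟩
    · right; right; right; subst s; subst u; exact ⟨r, by omega, by omega, by omega⟩
    · right; right; right; subst s; subst u; exact ⟨r, by omega, by omega, by omega⟩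
  · rcases ar_three_aux t m₃ m₁ m₂ a₁ a₂ hm₁ hm₂ ha₁ ha₂ h₃ h₁ h₂ (by omega) with
      (r | r) | ⟨r, s, u⟩ | ⟨r, (⟨s, u⟩ | ⟨s, u⟩)⟩ | ⟨r, (⟨s, u⟩ | ⟨s, u⟩)⟩
    · left; left; exact r
    · left; right; left; exact r
    · right; left; exact ⟨r, Or.inl ⟨s, u⟩⟩
    · right; right; left; exact ⟨r, Or.inl s⟩
    · right; right; left; exact ⟨r, Or.inr (Or.inl u)⟩
    · right; right; right; subst s; subst u; exact ⟨r, by omega, by omega, by omega⟩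
    · right; right; right; subst s; subst u; exact ⟨r, by omega, by omega, by omega⟩

end Cfsg.Agent.Helper11.Klein
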