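import Mathlib
import Cfsg.Agent.Lib.Helper4.DicksonCount
import Cfsg.Agent.Lib.Helper11.KleinArith

set_option autoImplicit false
set_option linter.unusedVariables false
set_option linter.unusedSectionVars false

/-! Klein's analysis, abstractly: a finite group `G` with a central subgroup `Z` such that
every element outside `Z` has a cyclic centraliser, inverted by the elements of its normaliser
outside it (which square into `Z`).  Then `G ⧸ Z` is cyclic, dihedral, `A₄`, `S₄` or `A₅`.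
This file: the class equation and its numerical solutions. -/

namespace Cfsg.Agent.Helper11.Klein

open Cfsg.Agent.Helper4.DC

variable {G : Type*} [Group G] {Z : Subgroup G}

/-- normaliser of the centraliser of an element -/
abbrev Nor (g : G) : Subgroup G := Subgroup.normalizer ((Cen g : Subgroup G) : Set G)

/-- the axioms -/
structure KA (Z : Subgroup G) : Prop extends CA Z where
  cyc : ∀ g : G, g ∉ Z → IsCyclic (Cen g)
  inv : ∀ g : G, g ∉ Z → ∀ x ∈ Nor g, x ∉ Cen g →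
      (∀ c ∈ Cen g, x * c * x⁻¹ = c⁻¹) ∧ x * x ∈ Z

theorem Cen_le_Nor (g : G) : Cen g ≤ Nor g := Subgroup.le_normalizer

section finite

variable [Finite G]

/-- the normaliser of a centraliser has index at most two over it -/
theorem KA.card_Nor (ka : KA Z) {g : G} (hg : g ∉ Z) :
    Nat.card (Nor g) = Nat.card (Cen g) ∨ Nat.card (Nor g) = 2 * Nat.card (Cen g) := by
  by_cases hall : ∀ x ∈ Nor g, x ∈ Cen g
  · left
    have : Nor g = Cen g := le_antisymm hall (Cen_le_Nor g)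
    rw [this]
  · right
    push Not at hall
    obtain ⟨x₀, hx₀, hx₀C⟩ := hall
    have hinv : ∀ b ∈ Nor g, b ∉ Cen g → b * g * b⁻¹ = g⁻¹ := fun b hb hbC =>
      (ka.inv g hg b hb hbC).1 g (self_mem_Cen g)
    have hidx : ((Cen g).subgroupOf (Nor g)).index = 2 := by
      rw [Subgroup.index_eq_two_iff]
      refine ⟨⟨x₀, hx₀⟩, ?_⟩
      intro b
      rw [Subgroup.mem_subgroupOf, Subgroup.mem_subgroupOf]
      by_cases hb : (b : G) ∈ Cen g
      · refine Or.inr ⟨hb, ?_⟩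
        intro hbx
        apply hx₀C
        have : x₀ = (b : G)⁻¹ * ((b : G) * x₀) := by group
        rw [this]
        exact Subgroup.mul_mem _ (Subgroup.inv_mem _ hb) hbx
      · refine Or.inl ⟨?_, hb⟩
        change (b : G) * x₀ ∈ Cen g
        rw [mem_Cen]
        have h1 := hinv b b.2 hb
        have h2 := hinv x₀ hx₀ hx₀C
        have h3 : (b : G) * x₀ * g * ((b : G) * x₀)⁻¹ = g := by
          calc (b : G) * x₀ * g * ((b : G) * x₀)⁻¹ = (b : G) * (x₀ * g * x₀⁻¹) * (b : G)⁻¹ := by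
                group
            _ = ((b : G) * g * (b : G)⁻¹)⁻¹ := by rw [h2]; group
            _ = g := by rw [h1, inv_inv]
        calc g * ((b : G) * x₀) = ((b : G) * x₀ * g * ((b : G) * x₀)⁻¹) * ((b : G) * x₀) := by
              rw [h3]
          _ = (b : G) * x₀ * g := by group
    have hcard := Subgroup.card_mul_index ((Cen g).subgroupOf (Nor g))
    rw [hidx] at hcard
    have h1 : Nat.card ((Cen g).subgroupOf (Nor g)) = Nat.card (Cen g) :=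
      Nat.card_congr (Subgroup.subgroupOfEquivOfLe (Cen_le_Nor g)).toEquiv
    rw [h1] at hcard
    omega

/-- index of the normaliser -/
noncomputable def mOf (g : G) : ℕ := (Nor g).index

/-- order of the centraliser modulo `Z` -/
noncomputable def aOf (Z : Subgroup G) (g : G) : ℕ := Nat.card (Cen g) / Nat.card Z

/-- index of the centraliser in its normaliser -/
noncomputable def eOf (g : G) : ℕ := Nat.card (Nor g) / Nat.card (Cen g)

/-- class data -/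
structure CD (Z : Subgroup G) (h : ℕ) (g : G) : Prop where
  hg : g ∉ Z
  hm : 1 ≤ mOf g
  ha : 2 ≤ aOf Z g
  he : eOf g = 1 ∨ eOf g = 2
  hc : Nat.card (Cen g) = Nat.card Z * aOf Z g
  hn : Nat.card (Nor g) = eOf g * (Nat.card Z * aOf Z g)
  hh : mOf g * (eOf g * aOf Z g) = h
  hK : (K Z g).ncard + Nat.card Z * mOf g = Nat.card Z * (mOf g * aOf Z g)

theorem KA.cd (ka : KA Z) {h : ℕ} (hG : Nat.card G = Nat.card Z * h) {g : G} (hg : g ∉ Z) :
    CD Z h g := by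
  have hzpos : 0 < Nat.card Z := Nat.card_pos
  have hcpos : 0 < Nat.card (Cen g) := Nat.card_pos
  have hZC : Z ≤ Cen g := ka.toCA.le_Cen g
  have hdvd : Nat.card Z ∣ Nat.card (Cen g) := Subgroup.card_dvd_of_le hZC
  have hc : Nat.card (Cen g) = Nat.card Z * aOf Z g := by
    unfold aOf
    rw [Nat.mul_div_cancel' hdvd]
  have ha : 2 ≤ aOf Z g := by
    by_contra hcon
    have h01 : aOf Z g = 0 ∨ aOf Z g = 1 := by omega
    rcases h01 with h0 | h1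
    · rw [h0, mul_zero] at hc; omega
    · rw [h1, mul_one] at hc
      have : Z = Cen g := Subgroup.eq_of_le_of_card_ge hZC (by rw [hc])
      apply hg
      rw [this]
      exact self_mem_Cen g
  have he' : Nat.card (Nor g) = eOf g * Nat.card (Cen g) ∧ (eOf g = 1 ∨ eOf g = 2) := by
    unfold eOf
    rcases ka.card_Nor hg with h1 | h2
    · rw [h1, Nat.div_self hcpos]
      exact ⟨by ring, Or.inl rfl⟩
    · rw [h2, Nat.mul_div_cancel _ hcpos]
      exact ⟨rfl, Or.inr rfl⟩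
  have hn : Nat.card (Nor g) = eOf g * (Nat.card Z * aOf Z g) := by rw [← hc]; exact he'.1
  have hidx : Nat.card (Nor g) * mOf g = Nat.card G := Subgroup.card_mul_index (Nor g)
  have hm : 1 ≤ mOf g := by
    by_contra hcon
    have : mOf g = 0 := by omega
    rw [this, mul_zero] at hidx
    have : 0 < Nat.card G := Nat.card_pos
    omega
  have hh : mOf g * (eOf g * aOf Z g) = h := by
    apply Nat.eq_of_mul_eq_mul_left hzpos
    rw [← hG, ← hidx, hn]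
    ring
  have hK : (K Z g).ncard + Nat.card Z * mOf g = Nat.card Z * (mOf g * aOf Z g) := by
    have hk := ka.toCA.card_K hg
    change (K Z g).ncard * Nat.card (Nor g) = _ at hk
    rw [← hidx, hc] at hk
    have hnpos : 0 < Nat.card (Nor g) := Nat.card_pos
    have h1 : (K Z g).ncard = mOf g * (Nat.card Z * aOf Z g - Nat.card Z) := by
      apply Nat.eq_of_mul_eq_mul_right hnpos
      rw [hk]; ring
    rw [h1, Nat.mul_sub]
    have hle : mOf g * Nat.card Z ≤ mOf g * (Nat.card Z * aOf Z g) := by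
      apply Nat.mul_le_mul_left
      nlinarith
    have e : mOf g * Nat.card Z = Nat.card Z * mOf g := mul_comm _ _
    have e2 : mOf g * (Nat.card Z * aOf Z g) = Nat.card Z * (mOf g * aOf Z g) := by ring
    omega
  exact ⟨hg, hm, ha, he'.2, hc, hn, hh, hK⟩

/-- the class equation for a list of classes -/
theorem KA.list_eq (ka : KA Z) {h : ℕ} (hG : Nat.card G = Nat.card Z * h) (l : List G)
    (hl : ∀ g ∈ l, g ∉ Z) :
    Nat.card Z + (l.map (fun g => (K Z g).ncard)).sum + Nat.card Z * (l.map mOf).sum =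
      Nat.card Z * (1 + (l.map (fun g => mOf g * aOf Z g)).sum) := by
  induction l with
  | nil => simp
  | cons a l ih =>
    have ih' := ih (fun g hg => hl g (List.mem_cons_of_mem a hg))
    have hK := (ka.cd hG (hl a List.mem_cons_self)).hK
    simp only [List.map_cons, List.sum_cons]
    have e1 : Nat.card Z * (mOf a + (l.map mOf).sum) =
        Nat.card Z * mOf a + Nat.card Z * (l.map mOf).sum := by ring
    have e2 : Nat.card Z * (1 + (mOf a * aOf Z a + (l.map (fun g => mOf g * aOf Z g)).sum)) =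
        Nat.card Z * (mOf a * aOf Z a) +
          Nat.card Z * (1 + (l.map (fun g => mOf g * aOf Z g)).sum) := by ring
    rw [e1, e2, ← ih', ← hK]
    ring

theorem KA.list_le (ka : KA Z) {h : ℕ} (hG : Nat.card G = Nat.card Z * h) (l : List G)
    (hl : ∀ g ∈ l, g ∉ Z) (hpw : l.Pairwise (fun a b => ¬ Rel a b)) :
    1 + (l.map (fun g => mOf g * aOf Z g)).sum ≤ h + (l.map mOf).sum := by
  have hzpos : 0 < Nat.card Z := Nat.card_pos
  have h1 := ka.toCA.list_sum_le l hl hpw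
  have h2 := ka.list_eq hG l hl
  apply Nat.le_of_mul_le_mul_left _ hzpos
  rw [← h2, hG] at *
  rw [Nat.mul_add]
  omega

theorem KA.exists_of_lt (ka : KA Z) {h : ℕ} (hG : Nat.card G = Nat.card Z * h) (l : List G)
    (hl : ∀ g ∈ l, g ∉ Z) (hpw : l.Pairwise (fun a b => ¬ Rel a b))
    (hlt : 1 + (l.map (fun g => mOf g * aOf Z g)).sum < h + (l.map mOf).sum) :
    ∃ x : G, x ∉ Z ∧ ∀ g ∈ l, ¬ Rel x g := by
  have hzpos : 0 < Nat.card Z := Nat.card_pos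
  apply ka.toCA.exists_of_list_sum_lt l hl hpw
  have h2 := ka.list_eq hG l hl
  have h3 := Nat.mul_lt_mul_of_pos_left hlt hzpos
  rw [← h2, Nat.mul_add, ← hG] at h3
  omega

/-- there are at most three classes -/
theorem KA.no_four (ka : KA Z) {h : ℕ} (hG : Nat.card G = Nat.card Z * h) {g₁ g₂ g₃ g₄ : G}
    (h₁ : g₁ ∉ Z) (h₂ : g₂ ∉ Z) (h₃ : g₃ ∉ Z) (h₄ : g₄ ∉ Z)
    (r₂₁ : ¬ Rel g₂ g₁) (r₃₁ : ¬ Rel g₃ g₁) (r₃₂ : ¬ Rel g₃ g₂)
    (r₄₁ : ¬ Rel g₄ g₁) (r₄₂ : ¬ Rel g₄ g₂) (r₄₃ : ¬ Rel g₄ g₃) : False := by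
  have hle := ka.list_le hG [g₄, g₃, g₂, g₁]
    (by simp only [List.mem_cons, List.not_mem_nil, or_false]; rintro g (rfl | rfl | rfl | rfl) <;>
      assumption)
    (by simp only [List.pairwise_cons, List.mem_cons, List.not_mem_nil, or_false,
          forall_eq_or_imp, forall_eq, IsEmpty.forall_iff, implies_true, List.Pairwise.nil,
          and_true]
        exact ⟨⟨r₄₃, r₄₂, r₄₁⟩, ⟨r₃₂, r₃₁⟩, r₂₁⟩)
  simp only [List.map_cons, List.map_nil, List.sum_cons, List.sum_nil, add_zero] at hle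
  have d₁ := ka.cd hG h₁
  have d₂ := ka.cd hG h₂
  have d₃ := ka.cd hG h₃
  have d₄ := ka.cd hG h₄
  exact ar_four h (mOf g₁) (aOf Z g₁) (eOf g₁) (mOf g₂) (aOf Z g₂) (eOf g₂) (mOf g₃) (aOf Z g₃)
    (eOf g₃) (mOf g₄) (aOf Z g₄) (eOf g₄) d₁.hm d₁.ha d₂.ha d₃.ha d₄.ha d₁.he d₂.he d₃.he d₄.he
    d₁.hh d₂.hh d₃.hh d₄.hh (by omega)

/-- the numerical outcome of the class equation -/
theorem KA.analysis (ka : KA Z) :
    (∀ g : G, g ∈ Z) ∨
    (∃ g, g ∉ Z ∧ Nat.card G = Nat.card (Cen g)) ∨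
    (∃ g, g ∉ Z ∧ Nat.card G = 2 * Nat.card (Cen g)) ∨
    (Nat.card G = Nat.card Z * 12 ∧ ∃ g, g ∉ Z ∧ Nat.card (Cen g) = Nat.card Z * 3 ∧
        Nat.card (Nor g) = Nat.card Z * 3) ∨
    (Nat.card G = Nat.card Z * 12 ∧ ∃ g g', g ∉ Z ∧ g' ∉ Z ∧ ¬ Rel g g' ∧
        Nat.card (Cen g) = Nat.card Z * 3 ∧ Nat.card (Cen g') = Nat.card Z * 3 ∧
        Nat.card (Nor g) = Nat.card Z * 6) ∨
    (Nat.card G = Nat.card Z * 24 ∧ ∃ g, g ∉ Z ∧ Nat.card (Cen g) = Nat.card Z * 3 ∧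
        Nat.card (Nor g) = Nat.card Z * 6) ∨
    (Nat.card G = Nat.card Z * 60 ∧ ∃ g₁ g₂ g₃, g₁ ∉ Z ∧ g₂ ∉ Z ∧ g₃ ∉ Z ∧
        ¬ Rel g₂ g₁ ∧ ¬ Rel g₃ g₁ ∧ ¬ Rel g₃ g₂ ∧
        (∀ x, x ∉ Z → Rel x g₁ ∨ Rel x g₂ ∨ Rel x g₃) ∧
        mOf g₁ + mOf g₂ + mOf g₃ = 31 ∧
        (∀ g, g = g₁ ∨ g = g₂ ∨ g = g₃ → mOf g * aOf Z g = 30 ∧
          (aOf Z g = 2 ∨ aOf Z g = 3 ∨ aOf Z g = 5))) := by
  classical
  have hzpos : 0 < Nat.card Z := Nat.card_pos
  obtain ⟨h, hG⟩ : ∃ h, Nat.card G = Nat.card Z * h := Subgroup.card_subgroup_dvd_card Z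
  by_cases hall : ∀ g : G, g ∈ Z
  · exact Or.inl hall
  right
  push Not at hall
  obtain ⟨g₁, hg₁⟩ := hall
  have d₁ := ka.cd hG hg₁
  have hle1 := ka.list_le hG [g₁] (by simpa using hg₁) (by simp)
  simp only [List.map_cons, List.map_nil, List.sum_cons, List.sum_nil, add_zero] at hle1
  rcases Nat.lt_or_ge (1 + mOf g₁ * aOf Z g₁) (h + mOf g₁) with hlt1 | hge1
  swap
  · -- one class
    obtain ⟨he, hm⟩ := ar_one h (mOf g₁) (aOf Z g₁) (eOf g₁) d₁.hm d₁.ha d₁.he d₁.hh (by omega)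
    left
    refine ⟨g₁, hg₁, ?_⟩
    rw [hG, d₁.hc, ← d₁.hh, he, hm]
    ring
  right
  obtain ⟨g₂, hg₂, hr₂⟩ := ka.exists_of_lt hG [g₁] (by simpa using hg₁) (by simp)
    (by simpa using hlt1)
  have r₂₁ : ¬ Rel g₂ g₁ := hr₂ g₁ (by simp)
  have d₂ := ka.cd hG hg₂
  have hl2 : ∀ g ∈ [g₂, g₁], g ∉ Z := by
    simp only [List.mem_cons, List.not_mem_nil, or_false]
    rintro g (rfl | rfl) <;> assumption
  have hp2 : [g₂, g₁].Pairwise (fun a b => ¬ Rel a b) := by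
    simp only [List.pairwise_cons, List.mem_cons, List.not_mem_nil, or_false,
          forall_eq_or_imp, forall_eq, IsEmpty.forall_iff, implies_true, List.Pairwise.nil,
          and_true]
    exact r₂₁
  have hle2 := ka.list_le hG [g₂, g₁] hl2 hp2
  simp only [List.map_cons, List.map_nil, List.sum_cons, List.sum_nil, add_zero] at hle2
  rcases Nat.lt_or_ge (1 + (mOf g₂ * aOf Z g₂ + mOf g₁ * aOf Z g₁)) (h + (mOf g₂ + mOf g₁)) with
    hlt2 | hge2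
  swap
  · -- two classes
    rcases ar_two h (mOf g₁) (aOf Z g₁) (eOf g₁) (mOf g₂) (aOf Z g₂) (eOf g₂) d₁.hm d₂.hm d₁.ha
      d₂.ha d₁.he d₂.he d₁.hh d₂.hh (by omega) with
      ⟨he₁, he₂, (⟨ha, hm⟩ | ⟨ha₁, ha₂, hm₂, hm₁⟩)⟩ | ⟨he₂, he₁, (⟨ha, hm⟩ | ⟨ha₂, ha₁, hm₁, hm₂⟩)⟩
    · left
      refine ⟨g₂, hg₂, ?_⟩
      rw [hG, d₂.hc, ← d₂.hh, he₂, hm]
      ring
    · right; left
      refine ⟨?_, g₁, hg₁, ?_, ?_⟩
      · rw [hG, ← d₁.hh, he₁, hm₁, ha₁]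
      · rw [d₁.hc, ha₁]
      · rw [d₁.hn, he₁, ha₁]; ring
    · left
      refine ⟨g₁, hg₁, ?_⟩
      rw [hG, d₁.hc, ← d₁.hh, he₁, hm]
      ring
    · right; left
      refine ⟨?_, g₂, hg₂, ?_, ?_⟩
      · rw [hG, ← d₂.hh, he₂, hm₂, ha₂]
      · rw [d₂.hc, ha₂]
      · rw [d₂.hn, he₂, ha₂]; ring
  -- three classes
  obtain ⟨g₃, hg₃, hr₃⟩ := ka.exists_of_lt hG [g₂, g₁] hl2 hp2 (by simpa using hlt2)
  have r₃₁ : ¬ Rel g₃ g₁ := hr₃ g₁ (by simp)
  have r₃₂ : ¬ Rel g₃ g₂ := hr₃ g₂ (by simp)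
  have d₃ := ka.cd hG hg₃
  have hl3 : ∀ g ∈ [g₃, g₂, g₁], g ∉ Z := by
    simp only [List.mem_cons, List.not_mem_nil, or_false]
    rintro g (rfl | rfl | rfl) <;> assumption
  have hp3 : [g₃, g₂, g₁].Pairwise (fun a b => ¬ Rel a b) := by
    simp only [List.pairwise_cons, List.mem_cons, List.not_mem_nil, or_false,
          forall_eq_or_imp, forall_eq, IsEmpty.forall_iff, implies_true, List.Pairwise.nil,
          and_true]
    exact ⟨⟨r₃₂, r₃₁⟩, r₂₁⟩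
  have hle3 := ka.list_le hG [g₃, g₂, g₁] hl3 hp3
  simp only [List.map_cons, List.map_nil, List.sum_cons, List.sum_nil, add_zero] at hle3
  obtain ⟨he₁, he₂, he₃⟩ := ar_three_eps h (mOf g₁) (aOf Z g₁) (eOf g₁) (mOf g₂) (aOf Z g₂)
    (eOf g₂) (mOf g₃) (aOf Z g₃) (eOf g₃) d₁.hm d₂.hm d₃.hm d₁.ha d₂.ha d₃.ha d₁.he d₂.he d₃.he
    d₁.hh d₂.hh d₃.hh (by omega)
  have hexh : ∀ x, x ∉ Z → Rel x g₁ ∨ Rel x g₂ ∨ Rel x g₃ := by
    intro x hx
    by_contra hcon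
    push Not at hcon
    exact ka.no_four hG hg₁ hg₂ hg₃ hx r₂₁ r₃₁ r₃₂ hcon.1 hcon.2.1 hcon.2.2
  have heq3 : 1 + (mOf g₃ * aOf Z g₃ + (mOf g₂ * aOf Z g₂ + mOf g₁ * aOf Z g₁)) =
      h + (mOf g₃ + (mOf g₂ + mOf g₁)) := by
    by_contra hne
    obtain ⟨g₄, hg₄, hr₄⟩ := ka.exists_of_lt hG [g₃, g₂, g₁] hl3 hp3 (by
      simp only [List.map_cons, List.map_nil, List.sum_cons, List.sum_nil, add_zero]
      omega)
    exact ka.no_four hG hg₁ hg₂ hg₃ hg₄ r₂₁ r₃₁ r₃₂ (hr₄ g₁ (by simp)) (hr₄ g₂ (by simp))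
      (hr₄ g₃ (by simp))
  have t₁ : 2 * (mOf g₁ * aOf Z g₁) = h := by rw [← d₁.hh, he₁]; ring
  have t₂ : 2 * (mOf g₂ * aOf Z g₂) = h := by rw [← d₂.hh, he₂]; ring
  have t₃ : 2 * (mOf g₃ * aOf Z g₃) = h := by rw [← d₃.hh, he₃]; ring
  have hdih : ∀ g, CD Z h g → eOf g = 2 → mOf g = 1 → Nat.card G = 2 * Nat.card (Cen g) := by
    intro g d he hm
    rw [hG, d.hc, ← d.hh, he, hm]
    ring
  rcases ar_three (mOf g₁ * aOf Z g₁) (mOf g₁) (aOf Z g₁) (mOf g₂) (aOf Z g₂) (mOf g₃) (aOf Z g₃)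
    d₁.hm d₂.hm d₃.hm d₁.ha d₂.ha d₃.ha rfl (by omega) (by omega) (by omega) with
    (hm | hm | hm) | ⟨ht, hh3⟩ | ⟨ht, hh3⟩ | ⟨ht, hh1, hh2, hh3⟩
  · left; exact ⟨g₁, hg₁, hdih g₁ d₁ he₁ hm⟩
  · left; exact ⟨g₂, hg₂, hdih g₂ d₂ he₂ hm⟩
  · left; exact ⟨g₃, hg₃, hdih g₃ d₃ he₃ hm⟩
  · -- (2,3,3)
    right; right; left
    have hc3 : ∀ g, CD Z h g → aOf Z g = 3 → Nat.card (Cen g) = Nat.card Z * 3 := by
      intro g d ha; rw [d.hc, ha]
    have hn6 : ∀ g, CD Z h g → eOf g = 2 → aOf Z g = 3 → Nat.card (Nor g) = Nat.card Z * 6 := by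
      intro g d he ha; rw [d.hn, he, ha]; ring
    refine ⟨by rw [hG]; congr 1; omega, ?_⟩
    rcases hh3 with ⟨u, v⟩ | ⟨u, v⟩ | ⟨u, v⟩
    · exact ⟨g₂, g₁, hg₂, hg₁, r₂₁, hc3 g₂ d₂ v, hc3 g₁ d₁ u, hn6 g₂ d₂ he₂ v⟩
    · exact ⟨g₃, g₁, hg₃, hg₁, r₃₁, hc3 g₃ d₃ v, hc3 g₁ d₁ u, hn6 g₃ d₃ he₃ v⟩
    · exact ⟨g₃, g₂, hg₃, hg₂, r₃₂, hc3 g₃ d₃ v, hc3 g₂ d₂ u, hn6 g₃ d₃ he₃ v⟩
  · -- (2,3,4)
    right; right; right; left
    refine ⟨by rw [hG]; congr 1; omega, ?_⟩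
    rcases hh3 with u | u | u
    · exact ⟨g₁, hg₁, by rw [d₁.hc, u], by rw [d₁.hn, he₁, u]; ring⟩
    · exact ⟨g₂, hg₂, by rw [d₂.hc, u], by rw [d₂.hn, he₂, u]; ring⟩
    · exact ⟨g₃, hg₃, by rw [d₃.hc, u], by rw [d₃.hn, he₃, u]; ring⟩
  · -- (2,3,5)
    right; right; right; right
    refine ⟨by rw [hG]; congr 1; omega, g₁, g₂, g₃, hg₁, hg₂, hg₃, r₂₁, r₃₁, r₃₂, hexh,
      by omega, ?_⟩
    rintro g (rfl | rfl | rfl)
    · exact ⟨ht, hh1⟩
    · exact ⟨by omega, hh2⟩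
    · exact ⟨by omega, hh3⟩

end finite

end Cfsg.Agent.Helper11.Klein
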