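import Mathlib
import Cfsg.Agent.Lib.Helper11.KleinAbs1
import Cfsg.Agent.Lib.Helper12.SL2Quat
import Cfsg.Agent.Lib.Lead.DihedralRecog
import Cfsg.Agent.Lib.Helper2.PermIso

set_option autoImplicit false
set_option linter.unusedVariables false
set_option linter.unusedSectionVars false

/-! Klein's analysis, abstractly: identification of the quotient `G ⧸ Z` in the cyclic,
dihedral, tetrahedral and octahedral cases. -/

namespace Cfsg.Agent.Helper11.Klein

open Cfsg.Agent.Helper4.DC

variable {G : Type*} [Group G] {Z : Subgroup G} [Finite G]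

theorem pow_card_of_mem {H : Subgroup G} {x : G} (hx : x ∈ H) : x ^ Nat.card H = 1 := by
  have h3 : (⟨x, hx⟩ : H) ^ Nat.card H = 1 := pow_card_eq_one'
  have h4 := congrArg Subtype.val h3
  rw [Subgroup.coe_pow] at h4
  exact h4

/-- elements of a centraliser of order `|Z| a` have `a`-th power in `Z` -/
theorem KA.pow_mem_Z (ka : KA Z) {g : G} (hg : g ∉ Z) {a : ℕ}
    (hc : Nat.card (Cen g) = Nat.card Z * a) {x : G} (hx : x ∈ Cen g) : x ^ a ∈ Z := by
  apply Cfsg.Agent.Helper12.mem_of_pow_card_eq_one' (Cen g) Z (ka.cyc g hg) (ka.toCA.le_Cen g)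
    (x ^ a) (Subgroup.pow_mem _ hx a)
  rw [← pow_mul, mul_comm, ← hc]
  exact pow_card_of_mem hx

variable [hZn : Z.Normal]

theorem card_quot_mul (Z : Subgroup G) [Z.Normal] : Nat.card G = Nat.card (G ⧸ Z) * Nat.card Z :=
  Subgroup.card_eq_card_quotient_mul_card_subgroup Z

/-- the cyclic case -/
theorem KA.cyclic_case (ka : KA Z) {g : G} (hg : g ∉ Z) (hcard : Nat.card G = Nat.card (Cen g)) :
    IsCyclic (G ⧸ Z) ∧ Nat.card (Cen g) = Nat.card Z * Nat.card (G ⧸ Z) := by
  have htop : Cen g = ⊤ := (Subgroup.card_eq_iff_eq_top (Cen g)).1 hcard.symm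
  have := ka.cyc g hg
  have hG : IsCyclic G := by
    apply isCyclic_of_surjective (Cen g).subtype
    intro x
    exact ⟨⟨x, by rw [htop]; trivial⟩, rfl⟩
  refine ⟨isCyclic_of_surjective (QuotientGroup.mk' Z) (QuotientGroup.mk'_surjective Z), ?_⟩
  rw [← hcard, card_quot_mul Z, mul_comm]

/-- the dihedral case -/
theorem KA.dihedral_case (ka : KA Z) {g : G} (hg : g ∉ Z)
    (hcard : Nat.card G = 2 * Nat.card (Cen g)) :
    ∃ a, Nat.card (Cen g) = Nat.card Z * a ∧ Nonempty (G ⧸ Z ≃* DihedralGroup a) := by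
  obtain ⟨h, hG⟩ : ∃ h, Nat.card G = Nat.card Z * h := Subgroup.card_subgroup_dvd_card Z
  have d := ka.cd hG hg
  set a := aOf Z g with ha
  have hzpos : 0 < Nat.card Z := Nat.card_pos
  have hcpos : 0 < Nat.card (Cen g) := Nat.card_pos
  refine ⟨a, d.hc, ?_⟩
  have hidx : (Cen g).index = 2 := by
    have := Subgroup.card_mul_index (Cen g)
    rw [hcard] at this
    have h2 : Nat.card (Cen g) * (Cen g).index = Nat.card (Cen g) * 2 := by rw [this]; ring
    exact Nat.eq_of_mul_eq_mul_left hcpos h2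
  have : (Cen g).Normal := Subgroup.normal_of_index_eq_two hidx
  have hNtop : Nor g = ⊤ := Subgroup.normalizer_eq_top_iff.2 inferInstance
  obtain ⟨x, hx⟩ : ∃ x, x ∉ Cen g := by
    by_contra hcon
    push Not at hcon
    have : Cen g = ⊤ := by
      rw [eq_top_iff]; intro y _; exact hcon y
    rw [this, Subgroup.index_top] at hidx
    omega
  obtain ⟨hinv, hxx⟩ := ka.inv g hg x (by rw [hNtop]; trivial) hx
  have := ka.cyc g hg
  obtain ⟨c₀, hc₀⟩ := IsCyclic.exists_generator (α := Cen g)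
  have hord : orderOf (c₀ : G) = Nat.card Z * a := by
    rw [Subgroup.orderOf_coe, orderOf_eq_card_of_forall_mem_zpowers hc₀, d.hc]
  have hapos : 0 < a := by have := d.ha; omega
  have : NeZero a := ⟨by omega⟩
  set ab : G ⧸ Z := QuotientGroup.mk (c₀ : G) with hab
  set sb : G ⧸ Z := QuotientGroup.mk x with hsb
  have hpow : ∀ k : ℕ, ab ^ k = 1 ↔ (c₀ : G) ^ k ∈ Z := by
    intro k
    rw [hab, ← QuotientGroup.mk_pow, QuotientGroup.eq_one_iff]
  have habord : orderOf ab = a := by
    rw [orderOf_eq_iff hapos]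
    refine ⟨(hpow a).2 (ka.pow_mem_Z hg d.hc c₀.2), ?_⟩
    intro k hka hk0 hk1
    have h1 := (hpow k).1 hk1
    have h2 := pow_card_of_mem h1
    rw [← pow_mul] at h2
    have h3 := orderOf_dvd_of_pow_eq_one h2
    rw [hord, mul_comm] at h3
    have h4 : a ∣ k := Nat.dvd_of_mul_dvd_mul_right hzpos h3
    have := Nat.le_of_dvd hk0 h4
    omega
  have hss : sb * sb = 1 := by
    rw [hsb, ← QuotientGroup.mk_mul, QuotientGroup.eq_one_iff]
    exact hxx
  have hsinv : sb⁻¹ = sb := inv_eq_of_mul_eq_one_right hss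
  have hsa : sb * ab * sb = ab⁻¹ := by
    have h1 := hinv c₀ c₀.2
    have h2 : sb * ab * sb⁻¹ = ab⁻¹ := by
      rw [hsb, hab, ← QuotientGroup.mk_inv, ← QuotientGroup.mk_mul, ← QuotientGroup.mk_mul, h1,
        QuotientGroup.mk_inv]
    rwa [hsinv] at h2
  have hsn : sb ∉ Subgroup.zpowers ab := by
    intro hmem
    obtain ⟨k, hk⟩ := Subgroup.mem_zpowers_iff.1 hmem
    rw [hab, hsb, ← QuotientGroup.mk_zpow] at hk
    have h1 := QuotientGroup.eq.1 hk
    have h2 : ((c₀ : G) ^ k)⁻¹ * x ∈ Cen g := ka.toCA.le_Cen g h1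
    apply hx
    have h3 : x = (c₀ : G) ^ k * (((c₀ : G) ^ k)⁻¹ * x) := by group
    rw [h3]
    exact Subgroup.mul_mem _ (Subgroup.zpow_mem _ c₀.2 k) h2
  have hQ : Nat.card (G ⧸ Z) = 2 * a := by
    have h1 := card_quot_mul Z
    rw [hcard, d.hc] at h1
    have h2 : Nat.card Z * (2 * a) = Nat.card Z * Nat.card (G ⧸ Z) := by
      rw [mul_comm (Nat.card Z) (Nat.card (G ⧸ Z)), ← h1, ha]; ring
    exact (Nat.eq_of_mul_eq_mul_left hzpos h2).symm
  exact Cfsg.Agent.Lead.nonempty_mulEquiv_dihedral a ab sb habord hss hsa hsn hQ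

/-- the quotient `G ⧸ Z` embeds in the symmetric group on the cosets of a subgroup whose
normal core is `Z` -/
theorem lift_injective (N : Subgroup G) (hcore : N.normalCore = Z) :
    ∃ φ : G ⧸ Z →* Equiv.Perm (G ⧸ N), Function.Injective φ := by
  have hker : Z ≤ (MulAction.toPermHom G (G ⧸ N)).ker := by
    rw [← Subgroup.normalCore_eq_ker, hcore]
  refine ⟨QuotientGroup.lift Z (MulAction.toPermHom G (G ⧸ N)) hker, ?_⟩
  rw [injective_iff_map_eq_one]
  intro q hq
  obtain ⟨x, rfl⟩ := QuotientGroup.mk_surjective q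
  rw [QuotientGroup.lift_mk] at hq
  have : x ∈ (MulAction.toPermHom G (G ⧸ N)).ker := hq
  rw [← Subgroup.normalCore_eq_ker, hcore] at this
  exact (QuotientGroup.eq_one_iff x).2 this

/-- the tetrahedral case -/
theorem KA.tetra_case (ka : KA Z) (hcard : Nat.card G = Nat.card Z * 12) {g : G} (hg : g ∉ Z)
    (hc : Nat.card (Cen g) = Nat.card Z * 3) (hn : Nat.card (Nor g) = Nat.card Z * 3) :
    Nonempty (G ⧸ Z ≃* alternatingGroup (Fin 4)) := by
  classical
  have hzpos : 0 < Nat.card Z := Nat.card_pos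
  have hZC : Z ≤ Cen g := ka.toCA.le_Cen g
  -- the core of the centraliser is `Z`
  have hcore : (Cen g).normalCore = Z := by
    have h1 : Z ≤ (Cen g).normalCore := (Subgroup.normal_le_normalCore).2 hZC
    have h2 : (Cen g).normalCore ≤ Cen g := Subgroup.normalCore_le _
    obtain ⟨j, hj⟩ := Subgroup.card_dvd_of_le h1
    obtain ⟨i, hi⟩ := Subgroup.card_dvd_of_le h2
    rw [hc, hj, mul_assoc] at hi
    have hji : 3 = j * i := Nat.eq_of_mul_eq_mul_left hzpos hi
    have hj13 : j = 1 ∨ j = 3 := by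
      have : j ∣ 3 := ⟨i, hji⟩
      have := (Nat.dvd_prime Nat.prime_three).1 this
      exact this
    rcases hj13 with rfl | rfl
    · rw [mul_one] at hj
      exact (Subgroup.eq_of_le_of_card_ge h1 (by rw [hj])).symm
    · exfalso
      have heq : (Cen g).normalCore = Cen g :=
        Subgroup.eq_of_le_of_card_ge h2 (by rw [hj, hc])
      have hnorm : (Cen g).Normal := by rw [← heq]; infer_instance
      have hNtop : Nor g = ⊤ := Subgroup.normalizer_eq_top_iff.2 hnorm
      rw [hNtop, Subgroup.card_top, hcard] at hn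
      have := Nat.eq_of_mul_eq_mul_left hzpos hn
      omega
  obtain ⟨φ, hφ⟩ := lift_injective (Cen g) hcore
  have hQ : Nat.card (G ⧸ Z) = 12 := by
    have h1 := card_quot_mul Z
    rw [hcard, mul_comm] at h1
    exact (Nat.eq_of_mul_eq_mul_right hzpos h1).symm
  have hidx : (Cen g).index = 4 := by
    have h1 := Subgroup.card_mul_index (Cen g)
    rw [hcard, hc] at h1
    have h2 : Nat.card Z * (3 * (Cen g).index) = Nat.card Z * 12 := by rw [← h1]; ring
    have := Nat.eq_of_mul_eq_mul_left hzpos h2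
    omega
  let _ : Fintype (G ⧸ Cen g) := Fintype.ofFinite _
  refine Cfsg.Agent.Helper2.equiv_alternating_of_injective 4 ?_ φ hφ (by rw [hQ]; rfl)
  rw [← Nat.card_eq_fintype_card, ← Subgroup.index_eq_card, hidx]

/-- the case of two classes of order three does not occur -/
theorem KA.not_two_three (ka : KA Z) (hcard : Nat.card G = Nat.card Z * 12) {g g' : G}
    (hg : g ∉ Z) (hg' : g' ∉ Z) (hr : ¬ Rel g g')
    (hc : Nat.card (Cen g) = Nat.card Z * 3) (hc' : Nat.card (Cen g') = Nat.card Z * 3)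
    (hn : Nat.card (Nor g) = Nat.card Z * 6) : False := by
  have hzpos : 0 < Nat.card Z := Nat.card_pos
  have hidx : (Nor g).index = 2 := by
    have h1 := Subgroup.card_mul_index (Nor g)
    rw [hcard, hn] at h1
    have h2 : Nat.card Z * (6 * (Nor g).index) = Nat.card Z * 12 := by rw [← h1]; ring
    have := Nat.eq_of_mul_eq_mul_left hzpos h2
    omega
  have h2 : g' * g' ∈ Nor g := Subgroup.mul_self_mem_of_index_two hidx g'
  have h3 : g' ^ 3 ∈ Z := ka.pow_mem_Z hg' hc' (self_mem_Cen g')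
  have hZN : Z ≤ Nor g := (ka.toCA.le_Cen g).trans (Cen_le_Nor g)
  have h1 : g' ∈ Nor g := by
    have : g' = g' ^ 3 * (g' * g')⁻¹ := by group
    rw [this]
    exact Subgroup.mul_mem _ (hZN h3) (Subgroup.inv_mem _ h2)
  have hnC : g' ∉ Cen g := by
    intro hmem
    apply hr
    apply Rel.symm
    exact ⟨1, by simpa using hmem⟩
  have h4 := (ka.inv g hg g' h1 hnC).2
  apply hg'
  have : g' = g' ^ 3 * (g' * g')⁻¹ := by group
  rw [this]
  exact Subgroup.mul_mem _ h3 (Subgroup.inv_mem _ h4)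

/-- the normal core of the normaliser of a centraliser of order `|Z| a`, `a` odd, is `Z`, unless
the centraliser is normal -/
theorem KA.core_Nor (ka : KA Z) {g : G} (hg : g ∉ Z) {a : ℕ} (ha : Odd a)
    (hc : Nat.card (Cen g) = Nat.card Z * a) (hne : Nor g ≠ ⊤) : (Nor g).normalCore = Z := by
  have hZN : Z ≤ Nor g := (ka.toCA.le_Cen g).trans (Cen_le_Nor g)
  have h1 : Z ≤ (Nor g).normalCore := (Subgroup.normal_le_normalCore).2 hZN
  have h2 : (Nor g).normalCore ≤ Nor g := Subgroup.normalCore_le _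
  apply le_antisymm _ h1
  -- an element with square and `a`-th power in `Z` lies in `Z`
  have hodd : ∀ y : G, y * y ∈ Z → y ^ a ∈ Z → y ∈ Z := by
    intro y hy2 hya
    obtain ⟨k, hk⟩ := ha
    have : y = y ^ a * ((y * y) ^ k)⁻¹ := by
      rw [hk, ← pow_two, ← pow_mul]
      group
    rw [this]
    exact Subgroup.mul_mem _ hya (Subgroup.inv_mem _ (Subgroup.pow_mem _ hy2 k))
  -- step B
  have stepB : ∀ x : G, x ∈ (Nor g).normalCore → x ∈ Cen g → x ∈ Z := by
    intro x hxK hxC
    by_contra hxZ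
    apply hne
    rw [eq_top_iff]
    intro k _
    have hcx : Cen x = Cen g := ka.toCA.cen_eq hg hxZ hxC
    have hkx : k⁻¹ * x * k ∈ (Nor g).normalCore := by
      have := (Subgroup.normalCore_normal (Nor g)).conj_mem x hxK k⁻¹
      simpa using this
    have hkxN : k⁻¹ * x * k ∈ Nor g := h2 hkx
    have hkxZ : k⁻¹ * x * k ∉ Z := by
      intro hmem
      apply hxZ
      have := (ka.toCA.conj_mem_iff k⁻¹ x).1 (by simpa using hmem)
      exact this
    have hkxC : k⁻¹ * x * k ∈ Cen g := by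
      by_contra hnot
      have h5 := (ka.inv g hg _ hkxN hnot).2
      apply hkxZ
      apply hodd _ h5
      have h6 : (k⁻¹ * x * k) ^ a = k⁻¹ * x ^ a * k := by
        have := conj_pow (a := k⁻¹) (b := x) (i := a)
        simpa using this
      rw [h6]
      have h7 := ka.pow_mem_Z hg hc hxC
      have := (ka.toCA.conj_mem_iff k⁻¹ (x ^ a)).2 h7
      simpa using this
    have : k ∈ Nor x := by
      apply ka.toCA.mem_normalizer_of_conj_mem hxZ
      rw [hcx]; exact hkxC
    have e : Nor x = Nor g := by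
      change Subgroup.normalizer ((Cen x : Subgroup G) : Set G) = _
      rw [hcx]
    rw [← e]; exact this
  intro x hxK
  by_cases hxC : x ∈ Cen g
  · exact stepB x hxK hxC
  · -- step A
    exfalso
    have hxN := h2 hxK
    have hinv := (ka.inv g hg x hxN hxC).1 g (self_mem_Cen g)
    have hy : g⁻¹ * g⁻¹ ∈ (Nor g).normalCore := by
      have h5 : g * x⁻¹ * g⁻¹ ∈ (Nor g).normalCore :=
        (Subgroup.normalCore_normal (Nor g)).conj_mem x⁻¹ (Subgroup.inv_mem _ hxK) g
      have h6 : g⁻¹ * g⁻¹ = x * (g * x⁻¹ * g⁻¹) := by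
        calc g⁻¹ * g⁻¹ = (x * g * x⁻¹) * g⁻¹ := by rw [hinv]
          _ = x * (g * x⁻¹ * g⁻¹) := by group
      rw [h6]
      exact Subgroup.mul_mem _ hxK h5
    have hyC : g⁻¹ * g⁻¹ ∈ Cen g :=
      Subgroup.mul_mem _ (Subgroup.inv_mem _ (self_mem_Cen g)) (Subgroup.inv_mem _ (self_mem_Cen g))
    have hyZ := stepB _ hy hyC
    apply hg
    apply hodd g
    · have : g * g = (g⁻¹ * g⁻¹)⁻¹ := by simp
      rw [this]; exact Subgroup.inv_mem _ hyZ
    · exact ka.pow_mem_Z hg hc (self_mem_Cen g)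

/-- the octahedral case -/
theorem KA.octa_case (ka : KA Z) (hcard : Nat.card G = Nat.card Z * 24) {g : G} (hg : g ∉ Z)
    (hc : Nat.card (Cen g) = Nat.card Z * 3) (hn : Nat.card (Nor g) = Nat.card Z * 6) :
    Nonempty (G ⧸ Z ≃* Equiv.Perm (Fin 4)) := by
  classical
  have hzpos : 0 < Nat.card Z := Nat.card_pos
  have hne : Nor g ≠ ⊤ := by
    intro htop
    rw [htop, Subgroup.card_top, hcard] at hn
    have := Nat.eq_of_mul_eq_mul_left hzpos hn
    omega
  have hcore := ka.core_Nor hg (a := 3) (by decide) hc hne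
  obtain ⟨φ, hφ⟩ := lift_injective (Nor g) hcore
  have hQ : Nat.card (G ⧸ Z) = 24 := by
    have h1 := card_quot_mul Z
    rw [hcard, mul_comm] at h1
    exact (Nat.eq_of_mul_eq_mul_right hzpos h1).symm
  have hidx : (Nor g).index = 4 := by
    have h1 := Subgroup.card_mul_index (Nor g)
    rw [hcard, hn] at h1
    have h2 : Nat.card Z * (6 * (Nor g).index) = Nat.card Z * 24 := by rw [← h1]; ring
    have := Nat.eq_of_mul_eq_mul_left hzpos h2
    omega
  have hcard4 : Nat.card (G ⧸ Nor g) = 4 := by rw [← Subgroup.index_eq_card, hidx]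
  have hperm : Nat.card (Equiv.Perm (G ⧸ Nor g)) = 24 := by
    rw [Nat.card_perm, hcard4]; rfl
  have hbij : Function.Bijective φ := by
    rw [Nat.bijective_iff_injective_and_card]
    exact ⟨hφ, by rw [hQ, hperm]⟩
  have e1 : G ⧸ Z ≃* Equiv.Perm (G ⧸ Nor g) := MulEquiv.ofBijective φ hbij
  have e2 : (G ⧸ Nor g) ≃ Fin 4 := Finite.equivFinOfCardEq hcard4
  exact ⟨e1.trans e2.permCongrHom⟩

end Cfsg.Agent.Helper11.Klein
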