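import Mathlib
import Cfsg.Agent.Lib.Helper11.KleinAbs2
import Cfsg.Agent.Lib.Helper2.Order60

set_option autoImplicit false
set_option linter.unusedVariables false
set_option linter.unusedSectionVars false

/-! Klein's analysis, abstractly: the icosahedral case and the final statement. -/

namespace Cfsg.Agent.Helper11.Klein

open Cfsg.Agent.Helper4.DC

variable {G : Type*} [Group G] {Z : Subgroup G} [Finite G]

/-- numerical lemma for normal subgroups in the icosahedral case -/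
theorem ico_num (m₁ m₂ m₃ b₁ b₂ b₃ : ℕ)
    (h₁ : m₁ = 15 ∨ m₁ = 10 ∨ m₁ = 6) (h₂ : m₂ = 15 ∨ m₂ = 10 ∨ m₂ = 6)
    (h₃ : m₃ = 15 ∨ m₃ = 10 ∨ m₃ = 6) (hs : m₁ + m₂ + m₃ = 31)
    (hb₁ : b₁ = 0 ∨ b₁ = 1) (hb₂ : b₂ = 0 ∨ b₂ = 1) (hb₃ : b₃ = 0 ∨ b₃ = 1)
    (hd : (1 + b₁ * (30 - m₁) + b₂ * (30 - m₂) + b₃ * (30 - m₃)) ∣ 60) :
    (b₁ = 0 ∧ b₂ = 0 ∧ b₃ = 0) ∨ (b₁ = 1 ∧ b₂ = 1 ∧ b₃ = 1) := by
  rcases h₁ with rfl | rfl | rfl <;> rcases h₂ with rfl | rfl | rfl <;>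
    rcases h₃ with rfl | rfl | rfl <;> first | omega | skip
  all_goals
    rcases hb₁ with rfl | rfl <;> rcases hb₂ with rfl | rfl <;> rcases hb₃ with rfl | rfl <;>
      first | (left; exact ⟨rfl, rfl, rfl⟩) | (right; exact ⟨rfl, rfl, rfl⟩) |
        (exfalso; revert hd; decide)

/-- a normal subgroup containing `Z` contains a class as soon as it meets it, when the
centraliser has prime order modulo `Z` -/
theorem KA.class_subset (ka : KA Z) {g : G} (hg : g ∉ Z) {a : ℕ} (ha : a.Prime)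
    (hc : Nat.card (Cen g) = Nat.card Z * a) (M : Subgroup G) [M.Normal] (hZM : Z ≤ M)
    {x : G} (hxM : x ∈ M) (hxK : x ∈ K Z g) : K Z g ⊆ M := by
  have hzpos : 0 < Nat.card Z := Nat.card_pos
  obtain ⟨hxZ, k, hk⟩ := hxK
  have hyM : k * x * k⁻¹ ∈ M := ‹M.Normal›.conj_mem x hxM k
  have hyZ : k * x * k⁻¹ ∉ Z := fun hmem => hxZ ((ka.toCA.conj_mem_iff k x).1 hmem)
  have hZC : Z ≤ Cen g := ka.toCA.le_Cen g
  have hCM : Cen g ≤ M := by
    have h1 : Z ≤ M ⊓ Cen g := le_inf hZM hZC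
    have h2 : M ⊓ Cen g ≤ Cen g := inf_le_right
    obtain ⟨j, hj⟩ := Subgroup.card_dvd_of_le h1
    obtain ⟨i, hi⟩ := Subgroup.card_dvd_of_le h2
    rw [hc, hj, mul_assoc] at hi
    have hji : a = j * i := Nat.eq_of_mul_eq_mul_left hzpos hi
    have hj1a : j = 1 ∨ j = a := (Nat.dvd_prime ha).1 ⟨i, hji⟩
    rcases hj1a with rfl | rfl
    · exfalso
      rw [mul_one] at hj
      have : Z = M ⊓ Cen g := Subgroup.eq_of_le_of_card_ge h1 (by rw [hj])
      apply hyZ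
      rw [this]
      exact ⟨hyM, hk⟩
    · have : M ⊓ Cen g = Cen g := Subgroup.eq_of_le_of_card_ge h2 (by rw [hj, hc])
      rw [← this]
      exact inf_le_left
  rintro w ⟨hwZ, k', hk'⟩
  have h1 : k' * w * k'⁻¹ ∈ M := hCM hk'
  have h2 := ‹M.Normal›.conj_mem _ h1 k'⁻¹
  simpa [mul_assoc] using h2

variable [hZn : Z.Normal]

/-- the icosahedral case -/
theorem KA.ico_case (ka : KA Z) (hcard : Nat.card G = Nat.card Z * 60) {g₁ g₂ g₃ : G}
    (hg₁ : g₁ ∉ Z) (hg₂ : g₂ ∉ Z) (hg₃ : g₃ ∉ Z)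
    (r₂₁ : ¬ Rel g₂ g₁) (r₃₁ : ¬ Rel g₃ g₁) (r₃₂ : ¬ Rel g₃ g₂)
    (hexh : ∀ x, x ∉ Z → Rel x g₁ ∨ Rel x g₂ ∨ Rel x g₃)
    (hsum : mOf g₁ + mOf g₂ + mOf g₃ = 31)
    (hdata : ∀ g, g = g₁ ∨ g = g₂ ∨ g = g₃ → mOf g * aOf Z g = 30 ∧
          (aOf Z g = 2 ∨ aOf Z g = 3 ∨ aOf Z g = 5)) :
    Nonempty (G ⧸ Z ≃* alternatingGroup (Fin 5)) := by
  classical
  have hzpos : 0 < Nat.card Z := Nat.card_pos
  have hG : Nat.card G = Nat.card Z * 60 := hcard
  have d₁ := ka.cd hG hg₁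
  have d₂ := ka.cd hG hg₂
  have d₃ := ka.cd hG hg₃
  -- the values of `m`
  have hm : ∀ g, g = g₁ ∨ g = g₂ ∨ g = g₃ → (mOf g = 15 ∨ mOf g = 10 ∨ mOf g = 6) ∧
      (aOf Z g).Prime := by
    intro g hgg
    obtain ⟨h30, h235⟩ := hdata g hgg
    rcases h235 with h | h | h <;> rw [h] at h30 ⊢
    · exact ⟨Or.inl (by omega), Nat.prime_two⟩
    · exact ⟨Or.inr (Or.inl (by omega)), Nat.prime_three⟩
    · exact ⟨Or.inr (Or.inr (by omega)), Nat.prime_five⟩
  -- sizes of the classes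
  have hKsize : ∀ g, g = g₁ ∨ g = g₂ ∨ g = g₃ → CD Z 60 g →
      (K Z g).ncard = Nat.card Z * (30 - mOf g) := by
    intro g hgg d
    have h30 := (hdata g hgg).1
    have hK := d.hK
    rw [h30] at hK
    have hle : mOf g ≤ 30 := by
      rcases (hm g hgg).1 with h | h | h <;> omega
    rw [Nat.mul_sub]
    omega
  -- disjointness
  have dis₂₁ : Disjoint (K Z g₂) (K Z g₁) := ka.toCA.K_disjoint hg₂ r₂₁
  have dis₃₁ : Disjoint (K Z g₃) (K Z g₁) := ka.toCA.K_disjoint hg₃ r₃₁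
  have dis₃₂ : Disjoint (K Z g₃) (K Z g₂) := ka.toCA.K_disjoint hg₃ r₃₂
  -- normal subgroups containing `Z`
  have key : ∀ M : Subgroup G, M.Normal → Z ≤ M → M = Z ∨ M = ⊤ := by
    intro M hMn hZM
    have hsub : ∀ g, g = g₁ ∨ g = g₂ ∨ g = g₃ → g ∉ Z → CD Z 60 g →
        ((M : Set G) ∩ K Z g = ∅ ∨ (M : Set G) ∩ K Z g = K Z g) := by
      intro g hgg hgZ d
      by_cases hemp : (M : Set G) ∩ K Z g = ∅
      · exact Or.inl hemp
      · right
        obtain ⟨x, hxM, hxK⟩ := Set.nonempty_iff_ne_empty.2 hemp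
        have := ka.class_subset hgZ (hm g hgg).2 d.hc M hZM hxM hxK
        exact Set.inter_eq_right.2 this
    have hb : ∀ g, g = g₁ ∨ g = g₂ ∨ g = g₃ → g ∉ Z → CD Z 60 g →
        ∃ b : ℕ, (b = 0 ∨ b = 1) ∧ ((M : Set G) ∩ K Z g).ncard = Nat.card Z * (b * (30 - mOf g)) ∧
          (b = 1 → K Z g ⊆ M) := by
      intro g hgg hgZ d
      rcases hsub g hgg hgZ d with h | h
      · exact ⟨0, Or.inl rfl, by rw [h]; simp, by omega⟩
      · refine ⟨1, Or.inr rfl, by rw [h, hKsize g hgg d]; ring, fun _ => ?_⟩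
        exact Set.inter_eq_right.1 h
    obtain ⟨b₁, hb₁, hn₁, hs₁⟩ := hb g₁ (Or.inl rfl) hg₁ d₁
    obtain ⟨b₂, hb₂, hn₂, hs₂⟩ := hb g₂ (Or.inr (Or.inl rfl)) hg₂ d₂
    obtain ⟨b₃, hb₃, hn₃, hs₃⟩ := hb g₃ (Or.inr (Or.inr rfl)) hg₃ d₃
    -- decomposition of `M`
    have hdecomp : (M : Set G) = (((Z : Set G) ∪ ((M : Set G) ∩ K Z g₁)) ∪ ((M : Set G) ∩ K Z g₂)) ∪
        ((M : Set G) ∩ K Z g₃) := by
      ext x
      simp only [Set.mem_union, Set.mem_inter_iff, SetLike.mem_coe]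
      constructor
      · intro hx
        by_cases hxZ : x ∈ Z
        · exact Or.inl (Or.inl (Or.inl hxZ))
        · rcases hexh x hxZ with h | h | h
          · exact Or.inl (Or.inl (Or.inr ⟨hx, hxZ, h⟩))
          · exact Or.inl (Or.inr ⟨hx, hxZ, h⟩)
          · exact Or.inr ⟨hx, hxZ, h⟩
      · rintro (((h | h) | h) | h)
        · exact hZM h
        · exact h.1
        · exact h.1
        · exact h.1
    have hcardM : Nat.card M = Nat.card Z *
        (1 + b₁ * (30 - mOf g₁) + b₂ * (30 - mOf g₂) + b₃ * (30 - mOf g₃)) := by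
      have e0 : Nat.card M = (M : Set G).ncard := rfl
      rw [e0, hdecomp]
      have dA : Disjoint (Z : Set G) ((M : Set G) ∩ K Z g₁) :=
        (K_disjoint_Z g₁).mono_right Set.inter_subset_right
      have dB : Disjoint ((Z : Set G) ∪ ((M : Set G) ∩ K Z g₁)) ((M : Set G) ∩ K Z g₂) := by
        rw [Set.disjoint_union_left]
        exact ⟨(K_disjoint_Z g₂).mono_right Set.inter_subset_right,
          (dis₂₁.symm).mono Set.inter_subset_right Set.inter_subset_right⟩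
      have dC : Disjoint (((Z : Set G) ∪ ((M : Set G) ∩ K Z g₁)) ∪ ((M : Set G) ∩ K Z g₂))
          ((M : Set G) ∩ K Z g₃) := by
        rw [Set.disjoint_union_left, Set.disjoint_union_left]
        exact ⟨⟨(K_disjoint_Z g₃).mono_right Set.inter_subset_right,
          (dis₃₁.symm).mono Set.inter_subset_right Set.inter_subset_right⟩,
          (dis₃₂.symm).mono Set.inter_subset_right Set.inter_subset_right⟩
      rw [Set.ncard_union_eq dC (Set.toFinite _) (Set.toFinite _),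
        Set.ncard_union_eq dB (Set.toFinite _) (Set.toFinite _),
        Set.ncard_union_eq dA (Set.toFinite _) (Set.toFinite _), hn₁, hn₂, hn₃]
      have e1 : (Z : Set G).ncard = Nat.card Z := rfl
      rw [e1]
      ring
    have hdvd : (1 + b₁ * (30 - mOf g₁) + b₂ * (30 - mOf g₂) + b₃ * (30 - mOf g₃)) ∣ 60 := by
      have h1 := Subgroup.card_subgroup_dvd_card M
      rw [hcardM, hcard] at h1
      exact Nat.dvd_of_mul_dvd_mul_left hzpos h1
    rcases ico_num (mOf g₁) (mOf g₂) (mOf g₃) b₁ b₂ b₃ (hm g₁ (Or.inl rfl)).1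
      (hm g₂ (Or.inr (Or.inl rfl))).1 (hm g₃ (Or.inr (Or.inr rfl))).1 hsum hb₁ hb₂ hb₃ hdvd with
      ⟨rfl, rfl, rfl⟩ | ⟨rfl, rfl, rfl⟩
    · left
      simp only [zero_mul, add_zero, mul_one] at hcardM
      exact (Subgroup.eq_of_le_of_card_ge hZM (by rw [hcardM])).symm
    · right
      rw [eq_top_iff]
      intro x _
      by_cases hxZ : x ∈ Z
      · exact hZM hxZ
      · rcases hexh x hxZ with h | h | h
        · exact hs₁ rfl ⟨hxZ, h⟩
        · exact hs₂ rfl ⟨hxZ, h⟩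
        · exact hs₃ rfl ⟨hxZ, h⟩
  -- simplicity of the quotient
  have hQ : Nat.card (G ⧸ Z) = 60 := by
    have h1 := card_quot_mul Z
    rw [hcard, mul_comm] at h1
    exact (Nat.eq_of_mul_eq_mul_right hzpos h1).symm
  have hnt : Nontrivial (G ⧸ Z) := by
    rw [← Finite.one_lt_card_iff_nontrivial, hQ]; norm_num
  have hsimple : IsSimpleGroup (G ⧸ Z) := by
    refine ⟨fun H hH => ?_⟩
    have hMn : (H.comap (QuotientGroup.mk' Z)).Normal := inferInstance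
    have hZM : Z ≤ H.comap (QuotientGroup.mk' Z) := by
      intro x hx
      rw [Subgroup.mem_comap]
      have : (QuotientGroup.mk' Z) x = 1 := (QuotientGroup.eq_one_iff x).2 hx
      rw [this]; exact Subgroup.one_mem _
    have hmap : (H.comap (QuotientGroup.mk' Z)).map (QuotientGroup.mk' Z) = H :=
      Subgroup.map_comap_eq_self_of_surjective (QuotientGroup.mk'_surjective Z) H
    rcases key _ hMn hZM with h | h
    · left
      rw [← hmap, h, QuotientGroup.map_mk'_self]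
    · right
      rw [← hmap, h, ← MonoidHom.range_eq_map, MonoidHom.range_eq_top]
      exact QuotientGroup.mk'_surjective Z
  exact Cfsg.Agent.Helper2.simple_sixty_equiv_alternating hQ

/-- **Klein's theorem**, abstract form. -/
theorem KA.main (ka : KA Z) :
    (IsCyclic (G ⧸ Z) ∧ (Nat.card (G ⧸ Z) = 1 ∨
        ∃ g, g ∉ Z ∧ Nat.card (Cen g) = Nat.card Z * Nat.card (G ⧸ Z))) ∨
    (∃ g a, g ∉ Z ∧ Nat.card (Cen g) = Nat.card Z * a ∧ Nonempty (G ⧸ Z ≃* DihedralGroup a)) ∨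
    Nonempty (G ⧸ Z ≃* alternatingGroup (Fin 4)) ∨
    Nonempty (G ⧸ Z ≃* Equiv.Perm (Fin 4)) ∨
    Nonempty (G ⧸ Z ≃* alternatingGroup (Fin 5)) := by
  rcases ka.analysis with hall | ⟨g, hg, hc⟩ | ⟨g, hg, hc⟩ | ⟨hG, g, hg, hc, hn⟩ |
    ⟨hG, g, g', hg, hg', hr, hc, hc', hn⟩ | ⟨hG, g, hg, hc, hn⟩ |
    ⟨hG, g₁, g₂, g₃, hg₁, hg₂, hg₃, r₂₁, r₃₁, r₃₂, hexh, hsum, hdata⟩
  · left
    have htop : Z = ⊤ := by
      rw [eq_top_iff]; intro x _; exact hall x
    have hsub : Subsingleton (G ⧸ Z) := by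
      rw [htop]
      exact QuotientGroup.subsingleton_quotient_top
    refine ⟨inferInstance, Or.inl ?_⟩
    exact Nat.card_unique
  · left
    obtain ⟨h1, h2⟩ := ka.cyclic_case hg hc
    exact ⟨h1, Or.inr ⟨g, hg, h2⟩⟩
  · right; left
    obtain ⟨a, h1, h2⟩ := ka.dihedral_case hg hc
    exact ⟨g, a, hg, h1, h2⟩
  · right; right; left
    exact ka.tetra_case hG hg hc hn
  · exact (ka.not_two_three hG hg hg' hr hc hc' hn).elim
  · right; right; right; left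
    exact ka.octa_case hG hg hc hn
  · right; right; right; right
    exact ka.ico_case hG hg₁ hg₂ hg₃ r₂₁ r₃₁ r₃₂ hexh hsum hdata

end Cfsg.Agent.Helper11.Klein
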