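import Mathlib
import Cfsg.Agent.Lib.Helper4.DicksonFinal
import Cfsg.Agent.Lib.Helper12.SL2Nonsplit
import Cfsg.Agent.Lib.Helper12.SL2Split
import Cfsg.Agent.Lib.Helper12.SL2Sylow
import Cfsg.Agent.Lib.Helper11.KleinAbs3
import Cfsg.Agent.S0800

set_option autoImplicit false
set_option linter.unusedVariables false
set_option linter.unusedSectionVars false

/-! Subgroups of `SL₂(F)` of order prime to the characteristic satisfy the axioms of Klein's
analysis. -/

namespace Cfsg.Agent.Helper11.Klein

open Matrix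
open Cfsg.Agent.Helper12 Cfsg.Agent.Helper4.DC Cfsg.Agent.Helper4.DSL

variable {F : Type*} [Field F]

local notation "SL2" => Matrix.SpecialLinearGroup (Fin 2) F

/-- regular elements in characteristic two -/
theorem isRegularSL_of_trace_two (h2 : (2 : F) = 0) (g : SL2)
    (ht : (g : Matrix (Fin 2) (Fin 2) F).trace ≠ 0) : IsRegularSL g := by
  have hns : ¬ IsScalar2 (g : Matrix (Fin 2) (Fin 2) F) := by
    intro hs
    apply ht
    rw [Matrix.trace_fin_two, ← hs.2.2]
    linear_combination (g : Matrix (Fin 2) (Fin 2) F) 0 0 * h2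
  refine ⟨hns, ?_⟩
  intro h hh htr
  obtain ⟨a, b, hab⟩ := (mem_torus_iff_coe g h hns).1 hh
  set τ := (g : Matrix (Fin 2) (Fin 2) F).trace with hτ
  have h1 : 2 * a + b * τ = τ := by
    have := congrArg Matrix.trace hab
    rw [htr, Matrix.trace_add, Matrix.trace_smul, Matrix.trace_smul, Matrix.trace_one,
      ← hτ] at this
    simp at this
    linear_combination -this
  have h3 : a ^ 2 + a * b * τ + b ^ 2 = 1 := by
    have := congrArg Matrix.det hab
    rw [h.2, det_smul_one_add_smul, g.2, ← hτ] at this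
    linear_combination -this
  have hb : b = 1 := by
    have : (b - 1) * τ = 0 := by linear_combination h1 - a * h2
    rcases mul_eq_zero.1 this with h | h
    · linear_combination h
    · exact absurd h ht
  subst hb
  have h4 : a * (a + τ) = 0 := by linear_combination h3
  rcases mul_eq_zero.1 h4 with h5 | h5
  · left
    apply Subtype.ext
    rw [hab, h5]; simp
  · right
    apply Subtype.ext
    rw [hab, coe_inv_SL2, ← hτ]
    have ha : a = τ := by linear_combination h5 - τ * h2
    rw [ha]
    have : (1 : F) • (g : Matrix (Fin 2) (Fin 2) F) = - (g : Matrix (Fin 2) (Fin 2) F) := by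
      rw [one_smul]
      have : (2 : F) • (g : Matrix (Fin 2) (Fin 2) F) = 0 := by rw [h2, zero_smul]
      rw [two_smul] at this
      exact eq_neg_of_add_eq_zero_left this
    rw [this]
    abel

/-- regular elements in all characteristics -/
theorem isRegularSL_of_trace' (g : SL2)
    (ht : (g : Matrix (Fin 2) (Fin 2) F).trace ^ 2 ≠ 4) : IsRegularSL g := by
  by_cases h2 : (2 : F) = 0
  · apply isRegularSL_of_trace_two h2
    intro h0
    apply ht
    rw [h0]
    have : (4 : F) = 2 * 2 := by norm_num
    rw [this, h2]; simp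
  · exact isRegularSL_of_trace h2 g ht

/-- an element with two distinct eigenvalues in `F` is conjugate to a diagonal matrix -/
theorem exists_conj_split (g : SL2) (l : F)
    (hl : l ^ 2 - (g : Matrix (Fin 2) (Fin 2) F).trace * l + 1 = 0) (hl1 : l ^ 2 ≠ 1) :
    ∃ s d : SL2, IsSplitReg d ∧ g = s * d * s⁻¹ := by
  set M := (g : Matrix (Fin 2) (Fin 2) F) with hM
  set τ := M.trace with hτ
  set μ := τ - l with hμ
  have hlm : l * μ = 1 := by rw [hμ]; linear_combination -hl
  have hne : l ≠ μ := by
    intro h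
    apply hl1
    rw [pow_two]
    nth_rewrite 2 [h]
    exact hlm
  have hmu : μ ^ 2 - τ * μ + 1 = 0 := by rw [hμ]; linear_combination hl
  have hdetM : M 0 0 * M 1 1 - M 0 1 * M 1 0 = 1 := by
    have := g.2
    rw [Matrix.det_fin_two] at this
    exact this
  have htr : τ = M 0 0 + M 1 1 := Matrix.trace_fin_two M
  -- eigenvectors
  have hev : ∀ c : F, c ^ 2 - τ * c + 1 = 0 → ∃ v : Fin 2 → F, v ≠ 0 ∧ M.mulVec v = c • v := by
    intro c hc
    have hdet : (M - c • (1 : Matrix (Fin 2) (Fin 2) F)).det = 0 := by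
      rw [Matrix.det_fin_two]
      simp only [Matrix.sub_apply, Matrix.smul_apply, Matrix.one_apply_eq, Matrix.one_apply_ne,
        ne_eq, one_ne_zero, zero_ne_one, not_false_eq_true, smul_eq_mul, mul_one, mul_zero,
        sub_zero]
      rw [htr] at hc
      linear_combination hc + hdetM
    obtain ⟨v, hv, hv0⟩ := Matrix.exists_mulVec_eq_zero_iff.2 hdet
    refine ⟨v, hv, ?_⟩
    rw [Matrix.sub_mulVec, Matrix.smul_mulVec, Matrix.one_mulVec, sub_eq_zero] at hv0
    exact hv0
  obtain ⟨v, hv, hMv⟩ := hev l hl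
  obtain ⟨w, hw, hMw⟩ := hev μ hmu
  have ev0 := congrFun hMv 0
  have ev1 := congrFun hMv 1
  have ew0 := congrFun hMw 0
  have ew1 := congrFun hMw 1
  simp only [Matrix.mulVec, dotProduct, Fin.sum_univ_two, Pi.smul_apply,
    smul_eq_mul] at ev0 ev1 ew0 ew1
  set δ := v 0 * w 1 - w 0 * v 1 with hδ
  have hδ0 : δ ≠ 0 := by
    intro h0
    -- w 1 • v = v 1 • w and w 0 • v = v 0 • w
    have hlm' : l - μ ≠ 0 := sub_ne_zero.2 hne
    rw [hδ] at h0
    have k0 : (l - μ) * (w 1 * v 0) = 0 := by
      linear_combination (M 0 0 - μ) * h0 - w 1 * ev0 + v 1 * ew0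
    have k1 : (l - μ) * (w 1 * v 1) = 0 := by
      linear_combination (M 1 0) * h0 - w 1 * ev1 + v 1 * ew1
    have k2 : (l - μ) * (w 0 * v 0) = 0 := by
      linear_combination (-M 0 1) * h0 - w 0 * ev0 + v 0 * ew0
    have k3 : (l - μ) * (w 0 * v 1) = 0 := by
      linear_combination (μ - M 1 1) * h0 - w 0 * ev1 + v 0 * ew1
    have k0' := (mul_eq_zero.1 k0).resolve_left hlm'
    have k1' := (mul_eq_zero.1 k1).resolve_left hlm'
    have k2' := (mul_eq_zero.1 k2).resolve_left hlm'
    have k3' := (mul_eq_zero.1 k3).resolve_left hlm'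
    by_cases hv0 : v 0 = 0
    · have hv1 : v 1 ≠ 0 := by
        intro h1
        apply hv
        ext i
        fin_cases i
        · exact hv0
        · exact h1
      apply hw
      ext i
      fin_cases i
      · exact (mul_eq_zero.1 k3').resolve_right hv1
      · exact (mul_eq_zero.1 k1').resolve_right hv1
    · apply hw
      ext i
      fin_cases i
      · exact (mul_eq_zero.1 k2').resolve_right hv0
      · exact (mul_eq_zero.1 k0').resolve_right hv0
  let s : SL2 := ⟨!![v 0, w 0 / δ; v 1, w 1 / δ], by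
    rw [Matrix.det_fin_two_of]
    field_simp
    rw [hδ]⟩
  let d : SL2 := ⟨!![l, 0; 0, μ], by
    rw [Matrix.det_fin_two_of]
    linear_combination hlm⟩
  have hd : IsSplitReg d := ⟨rfl, rfl, hl1⟩
  refine ⟨s, d, hd, ?_⟩
  have hgs : g * s = s * d := by
    apply Subtype.ext
    rw [Matrix.SpecialLinearGroup.coe_mul, Matrix.SpecialLinearGroup.coe_mul]
    change M * !![v 0, w 0 / δ; v 1, w 1 / δ] = !![v 0, w 0 / δ; v 1, w 1 / δ] * !![l, 0; 0, μ]
    ext i j
    fin_cases i <;> fin_cases j
    · simp [Matrix.mul_apply, Fin.sum_univ_two]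
      linear_combination ev0
    · simp [Matrix.mul_apply, Fin.sum_univ_two]
      field_simp
      linear_combination ew0
    · simp [Matrix.mul_apply, Fin.sum_univ_two]
      linear_combination ev1
    · simp [Matrix.mul_apply, Fin.sum_univ_two]
      field_simp
      linear_combination ew1
  rw [← hgs]
  group

/-- the centraliser of a regular element of `SL₂` over a finite field is cyclic -/
theorem isCyclic_torus_of_trace [Finite F] (g : SL2)
    (ht : (g : Matrix (Fin 2) (Fin 2) F).trace ^ 2 ≠ 4) : IsCyclic (torus g) := by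
  by_cases hroot : ∃ l : F, l ^ 2 - (g : Matrix (Fin 2) (Fin 2) F).trace * l + 1 = 0
  · obtain ⟨l, hl⟩ := hroot
    have hl1 : l ^ 2 ≠ 1 := by
      intro h1
      apply ht
      have h2 : (g : Matrix (Fin 2) (Fin 2) F).trace * l = 2 := by linear_combination -hl + h1
      have : (g : Matrix (Fin 2) (Fin 2) F).trace ^ 2 * l ^ 2 = 4 := by
        rw [← mul_pow, h2]; norm_num
      rw [h1, mul_one] at this
      exact this
    obtain ⟨s, d, hd, rfl⟩ := exists_conj_split g l hl hl1
    exact isCyclic_torus_conj s d hd.isCyclic_torus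
  · push Not at hroot
    exact isCyclic_torus (isElliptic_of_charpoly g hroot)

section sub

variable [Fintype F] (p : ℕ) [hp : Fact p.Prime] [CharP F p] {Hs : Subgroup (Matrix.SpecialLinearGroup (Fin 2) F)}

/-- in a subgroup of order prime to `p`, elements of order dividing `p` are trivial -/
theorem eq_one_of_pow_p (hcop : ¬ p ∣ Nat.card ↥Hs) (x : ↥Hs) (hx : x ^ p = 1) : x = 1 := by
  have h1 : orderOf x ∣ p := orderOf_dvd_of_pow_eq_one hx
  rcases (Nat.dvd_prime hp.out).1 h1 with h | h
  · exact orderOf_eq_one_iff.1 h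
  · exfalso
    apply hcop
    rw [← h]
    exact orderOf_dvd_natCard x

/-- non-central elements of a subgroup of order prime to `p` are regular -/
theorem trace_sq_ne_four_of_coprime (hcop : ¬ p ∣ Nat.card ↥Hs) (g : ↥Hs) (hg : g ∉ ZZ Hs) :
    ((g : SL2) : Matrix (Fin 2) (Fin 2) F).trace ^ 2 ≠ 4 := by
  intro ht
  by_cases h2 : (2 : F) = 0
  · have hp2 : p = 2 := by
      have : ((2 : ℕ) : F) = 0 := by exact_mod_cast h2
      have hd := (CharP.cast_eq_zero_iff F p 2).1 this
      exact (Nat.prime_dvd_prime_iff_eq hp.out Nat.prime_two).1 hd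
    have h4 : (4 : F) = 0 := by
      have : (4 : F) = 2 * 2 := by norm_num
      rw [this, h2, mul_zero]
    rw [h4] at ht
    have ht0 : ((g : SL2) : Matrix (Fin 2) (Fin 2) F).trace = 0 := pow_eq_zero_iff (by norm_num) |>.1 ht
    have hsq : (g : SL2) * g = 1 := by
      apply Subtype.ext
      rw [Matrix.SpecialLinearGroup.coe_mul, sq_eq_SL, ht0, zero_smul, zero_sub,
        Matrix.SpecialLinearGroup.coe_one]
      have : (2 : F) • (1 : Matrix (Fin 2) (Fin 2) F) = 0 := by rw [h2, zero_smul]
      rw [two_smul] at this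
      exact (eq_neg_of_add_eq_zero_left this).symm
    have hgp : g ^ p = 1 := by
      rw [hp2, pow_two]
      apply Subtype.ext
      simpa using hsq
    apply hg
    rw [eq_one_of_pow_p p hcop g hgp]
    exact Subgroup.one_mem _
  · have h1 := sq_pow_p_of_trace p (g : SL2) h2 ht
    have hgg : (g * g) ^ p = 1 := by
      apply Subtype.ext
      simpa using h1
    have hgg1 := eq_one_of_pow_p p hcop (g * g) hgg
    have : (g : SL2) * g = 1 := by
      have := congrArg (fun y : ↥Hs => (y : SL2)) hgg1
      simpa using this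
    apply hg
    rw [mem_ZZ]
    rcases SL2_sq_eq_one h2 _ this with h | h
    · rw [h]; exact Subgroup.one_mem _
    · rw [h]; exact negOne_mem_center

/-- **subgroups of `SL₂(F)` of order prime to the characteristic satisfy Klein's axioms** -/
theorem ka_of_coprime (hcop : ¬ p ∣ Nat.card ↥Hs) : KA (ZZ Hs) where
  toCA := ca_ZZ
  cyc := by
    intro g hg
    have ht := trace_sq_ne_four_of_coprime p hcop g hg
    have hT := isCyclic_torus_of_trace (g : SL2) ht
    let f : ↥(Cen g) →* ↥(torus (g : SL2)) :=
      { toFun := fun x => ⟨((x : ↥Hs) : SL2), (mem_torus_iff _ _).2 (mem_Cen_iff.1 x.2)⟩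
        map_one' := rfl
        map_mul' := fun _ _ => rfl }
    refine isCyclic_of_injective f ?_
    intro x y hxy
    have := congrArg (fun t : ↥(torus (g : SL2)) => (t : SL2)) hxy
    exact Subtype.ext (Subtype.ext this)
  inv := by
    intro g hg x hx hxC
    have ht := trace_sq_ne_four_of_coprime p hcop g hg
    have hreg := isRegularSL_of_trace' (g : SL2) ht
    have h1 : x * g * x⁻¹ ∈ Cen g := (Subgroup.mem_normalizer_iff.1 hx g).1 (self_mem_Cen g)
    rw [mem_Cen_iff] at h1
    have htr : (((x * g * x⁻¹ : ↥Hs) : SL2) : Matrix (Fin 2) (Fin 2) F).trace =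
        ((g : SL2) : Matrix (Fin 2) (Fin 2) F).trace := by
      have e : ((x * g * x⁻¹ : ↥Hs) : SL2) = (x : SL2) * (g : SL2) * (x : SL2)⁻¹ := rfl
      rw [e]
      exact trace_conj (x : SL2) (g : SL2)
    have h3 := hreg.reg ((x * g * x⁻¹ : ↥Hs) : SL2) ((mem_torus_iff _ _).2 h1) htr
    have hinv : (x : SL2) * g * (x : SL2)⁻¹ = (g : SL2)⁻¹ := by
      rcases h3 with h3 | h3
      · exfalso
        apply hxC
        rw [mem_Cen]
        have e : x * g * x⁻¹ = g := Subtype.ext h3
        calc g * x = (x * g * x⁻¹) * x := by rw [e]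
          _ = x * g := by group
      · simpa using h3
    constructor
    · intro c hc
      apply Subtype.ext
      have := inverts_torus hreg.ns (x : SL2) hinv (c : SL2) ((mem_torus_iff _ _).2 (mem_Cen_iff.1 hc))
      simpa using this
    · rw [mem_ZZ_iff]
      have := sq_eq_neg_one_of_inverts hreg.ns (x : SL2) hinv
      rw [Subgroup.coe_mul, this]
      refine ⟨?_, ?_, ?_⟩ <;> simp

end sub

end Cfsg.Agent.Helper11.Klein
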