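import Mathlib
import Cfsg.Agent.Lib.Helper11.KleinSL2
import Cfsg.Agent.Lib.Helper2.CardSL

set_option autoImplicit false
set_option linter.unusedVariables false
set_option linter.unusedSectionVars false

/-! Klein's theorem for `PSL₂(F)`: the subgroups of order prime to the characteristic. -/

namespace Cfsg.Agent.Helper11.Klein

open Matrix
open Cfsg.Agent.Helper12 Cfsg.Agent.Helper4.DC Cfsg.Agent.Helper4.DSL

variable {F : Type*} [Field F] [Fintype F]

/-- the preimage in `SL₂(F)` of a subgroup of `PSL₂(F)` -/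
def preim (H : Subgroup (Matrix.ProjectiveSpecialLinearGroup (Fin 2) F)) :
    Subgroup (Matrix.SpecialLinearGroup (Fin 2) F) :=
  H.comap (QuotientGroup.mk' (Subgroup.center (Matrix.SpecialLinearGroup (Fin 2) F)))

theorem center_le_preim (H : Subgroup (Matrix.ProjectiveSpecialLinearGroup (Fin 2) F)) :
    Subgroup.center (Matrix.SpecialLinearGroup (Fin 2) F) ≤ preim H := by
  intro x hx
  change (QuotientGroup.mk' _ x) ∈ H
  have : (QuotientGroup.mk' (Subgroup.center (Matrix.SpecialLinearGroup (Fin 2) F))) x = 1 :=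
    (QuotientGroup.eq_one_iff x).2 hx
  rw [this]
  exact Subgroup.one_mem _

instance (H : Subgroup (Matrix.ProjectiveSpecialLinearGroup (Fin 2) F)) :
    (ZZ (preim H)).Normal := (ca_ZZ (Hs := preim H)).normal

/-- the preimage modulo the centre is the subgroup -/
theorem nonempty_quot_equiv (H : Subgroup (Matrix.ProjectiveSpecialLinearGroup (Fin 2) F)) :
    Nonempty ((↥(preim H) ⧸ ZZ (preim H)) ≃* ↥H) := by
  let π := QuotientGroup.mk' (Subgroup.center (Matrix.SpecialLinearGroup (Fin 2) F))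
  let f : ↥(preim H) →* ↥H := π.subgroupComap H
  have hf : Function.Surjective f :=
    π.subgroupComap_surjective_of_surjective H (QuotientGroup.mk'_surjective _)
  have hker : ZZ (preim H) = f.ker := by
    ext x
    rw [mem_ZZ, MonoidHom.mem_ker]
    constructor
    · intro hx
      apply Subtype.ext
      exact (QuotientGroup.eq_one_iff (x : Matrix.SpecialLinearGroup (Fin 2) F)).2 hx
    · intro hx
      have := congrArg Subtype.val hx
      exact (QuotientGroup.eq_one_iff (x : Matrix.SpecialLinearGroup (Fin 2) F)).1 this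
  exact ⟨(QuotientGroup.quotientMulEquivOfEq hker).trans
    (QuotientGroup.quotientKerEquivOfSurjective f hf)⟩

theorem card_ZZ_preim (H : Subgroup (Matrix.ProjectiveSpecialLinearGroup (Fin 2) F)) :
    Nat.card (ZZ (preim H)) = Nat.gcd 2 (Fintype.card F - 1) := by
  rw [← Cfsg.Agent.Helper2.card_center_SL 2 (by norm_num)]
  exact Nat.card_congr (Subgroup.subgroupOfEquivOfLe (center_le_preim H)).toEquiv

theorem card_preim (H : Subgroup (Matrix.ProjectiveSpecialLinearGroup (Fin 2) F)) :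
    Nat.card (preim H) = Nat.card H * Nat.gcd 2 (Fintype.card F - 1) := by
  obtain ⟨e⟩ := nonempty_quot_equiv H
  rw [← card_ZZ_preim H, ← Nat.card_congr e.toEquiv]
  exact Subgroup.card_eq_card_quotient_mul_card_subgroup _

variable (p : ℕ) [hp : Fact p.Prime] [CharP F p]

theorem not_dvd_gcd : ¬ p ∣ Nat.gcd 2 (Fintype.card F - 1) := by
  intro h
  obtain ⟨n, -, hn⟩ := FiniteField.card F p
  have h1 : p ∣ Fintype.card F - 1 := h.trans (Nat.gcd_dvd_right _ _)
  have h2 : p ∣ Fintype.card F := by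
    rw [hn]
    exact dvd_pow_self p n.ne_zero
  have hpos : 1 ≤ Fintype.card F := Fintype.card_pos
  have h3 : p ∣ 1 := by
    have := Nat.dvd_sub h2 h1
    rwa [Nat.sub_sub_self hpos] at this
  exact hp.out.one_lt.ne' (Nat.dvd_one.1 h3)

theorem not_dvd_card_preim (H : Subgroup (Matrix.ProjectiveSpecialLinearGroup (Fin 2) F))
    (hcop : ¬ p ∣ Nat.card H) : ¬ p ∣ Nat.card (preim H) := by
  rw [card_preim]
  intro h
  rcases (Nat.Prime.dvd_mul hp.out).1 h with h | h
  · exact hcop h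
  · exact not_dvd_gcd p h

/-- the order of a centraliser in a subgroup of order prime to `p` divides `q - 1` or `q + 1` -/
theorem card_Cen_dvd {Hs : Subgroup (Matrix.SpecialLinearGroup (Fin 2) F)}
    (hcop : ¬ p ∣ Nat.card ↥Hs) (g : ↥Hs) (hg : g ∉ ZZ Hs) :
    Nat.card (Cen g) ∣ Fintype.card F - 1 ∨ Nat.card (Cen g) ∣ Fintype.card F + 1 := by
  have hcyc := (ka_of_coprime p hcop).cyc g hg
  obtain ⟨c₀, hc₀⟩ := IsCyclic.exists_generator (α := Cen g)
  have hord : orderOf (((c₀ : ↥Hs) : Matrix.SpecialLinearGroup (Fin 2) F)) = Nat.card (Cen g) := by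
    rw [Subgroup.orderOf_coe, Subgroup.orderOf_coe, orderOf_eq_card_of_forall_mem_zpowers hc₀]
  rw [← hord]
  apply Cfsg.Agent.S0800.result rfl p
  rw [hord]
  apply Nat.Coprime.symm
  rw [Nat.Prime.coprime_iff_not_dvd hp.out]
  intro h
  exact hcop (h.trans (Subgroup.card_subgroup_dvd_card _))

/-- **Klein's theorem for `PSL₂(F)`**: a subgroup of order prime to the characteristic is cyclic,
dihedral, or isomorphic to `A₄`, `S₄` or `A₅`. -/
theorem klein_psl2 {q : ℕ} (hF : Fintype.card F = q)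
    (H : Subgroup (Matrix.ProjectiveSpecialLinearGroup (Fin 2) F)) (hcop : ¬ p ∣ Nat.card H) :
    (∃ k : ℕ, (k ∣ (q + 1) / Nat.gcd 2 (q - 1) ∨ k ∣ (q - 1) / Nat.gcd 2 (q - 1)) ∧
      ((IsCyclic H ∧ Nat.card H = k) ∨ Nonempty (H ≃* DihedralGroup k))) ∨
    Nonempty (H ≃* alternatingGroup (Fin 4)) ∨ Nonempty (H ≃* Equiv.Perm (Fin 4)) ∨
    Nonempty (H ≃* alternatingGroup (Fin 5)) := by
  subst hF
  have hcop' := not_dvd_card_preim p H hcop
  have ka := ka_of_coprime p hcop'
  obtain ⟨e⟩ := nonempty_quot_equiv H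
  have hz := card_ZZ_preim H
  -- divisibility
  have hdiv : ∀ (g : ↥(preim H)) (k : ℕ), g ∉ ZZ (preim H) →
      Nat.card (Cen g) = Nat.card (ZZ (preim H)) * k →
      (k ∣ (Fintype.card F + 1) / Nat.gcd 2 (Fintype.card F - 1) ∨
        k ∣ (Fintype.card F - 1) / Nat.gcd 2 (Fintype.card F - 1)) := by
    intro g k hg hc
    rw [hz] at hc
    rcases card_Cen_dvd p hcop' g hg with h | h
    · right
      rw [hc] at h
      exact Nat.dvd_div_of_mul_dvd h
    · left
      rw [hc] at h
      exact Nat.dvd_div_of_mul_dvd h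
  rcases ka.main with ⟨hcyc, hc⟩ | ⟨g, a, hg, hc, ⟨e'⟩⟩ | ⟨⟨e'⟩⟩ | ⟨⟨e'⟩⟩ | ⟨⟨e'⟩⟩
  · left
    refine ⟨Nat.card H, ?_, Or.inl ⟨?_, rfl⟩⟩
    · rcases hc with h1 | ⟨g, hg, hc⟩
      · rw [← Nat.card_congr e.toEquiv, h1]
        exact Or.inl (one_dvd _)
      · rw [← Nat.card_congr e.toEquiv]
        exact hdiv g _ hg hc
    · exact isCyclic_of_surjective e e.surjective
  · left
    exact ⟨a, hdiv g a hg hc, Or.inr ⟨e.symm.trans e'⟩⟩
  · right; left
    exact ⟨e.symm.trans e'⟩
  · right; right; left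
    exact ⟨e.symm.trans e'⟩
  · right; right; right
    exact ⟨e.symm.trans e'⟩

end Cfsg.Agent.Helper11.Klein
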