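import Mathlib
import Cfsg.Agent.Lib.Helper11.KleinPSL2
import Cfsg.Agent.Lib.Helper11.DicksonN1

set_option autoImplicit false
set_option linter.unusedVariables false
set_option linter.unusedSectionVars false
set_option linter.unusedSimpArgs false

/-! Dickson's theorem, the exceptional case in characteristic three: when the Sylow
`3`-subgroups have order three, Klein's analysis applies. -/

namespace Cfsg.Agent.Helper11.Dickson

open Matrix Matrix.SpecialLinearGroup
open scoped MatrixGroups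
open Cfsg.Agent.Helper2.SL2S
open Cfsg.Agent.Helper12 Cfsg.Agent.Helper4.DC Cfsg.Agent.Helper4.DSL
open Cfsg.Agent.Helper11.Klein

variable {F : Type*} [Field F] [Fintype F] (p : ℕ) [hp : Fact p.Prime] [CharP F p]
  {Hs : Subgroup SL(2, F)}

/-- Klein's axioms, given the unipotent part -/
theorem ka_of_unip
    (hcyc : ∀ g : ↥Hs, g ∉ ZZ Hs →
      ((g : SL(2, F)) : Matrix (Fin 2) (Fin 2) F).trace ^ 2 = 4 → IsCyclic (Cen g))
    (hinv : ∀ g : ↥Hs, g ∉ ZZ Hs →
      ((g : SL(2, F)) : Matrix (Fin 2) (Fin 2) F).trace ^ 2 = 4 → ∀ x ∈ Nor g, x ∉ Cen g →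
      (∀ c ∈ Cen g, x * c * x⁻¹ = c⁻¹) ∧ x * x ∈ ZZ Hs) : KA (ZZ Hs) where
  toCA := ca_ZZ
  cyc := by
    intro g hg
    by_cases ht : ((g : SL(2, F)) : Matrix (Fin 2) (Fin 2) F).trace ^ 2 = 4
    · exact hcyc g hg ht
    have hT := isCyclic_torus_of_trace (g : SL(2, F)) ht
    let f : ↥(Cen g) →* ↥(torus (g : SL(2, F))) :=
      { toFun := fun x => ⟨((x : ↥Hs) : SL(2, F)), (mem_torus_iff _ _).2 (mem_Cen_iff.1 x.2)⟩
        map_one' := rfl
        map_mul' := fun _ _ => rfl }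
    refine isCyclic_of_injective f ?_
    intro x y hxy
    have := congrArg (fun t : ↥(torus (g : SL(2, F))) => (t : SL(2, F))) hxy
    exact Subtype.ext (Subtype.ext this)
  inv := by
    intro g hg x hx hxC
    by_cases ht : ((g : SL(2, F)) : Matrix (Fin 2) (Fin 2) F).trace ^ 2 = 4
    · exact hinv g hg ht x hx hxC
    have hreg := isRegularSL_of_trace' (g : SL(2, F)) ht
    have h1 : x * g * x⁻¹ ∈ Cen g := (Subgroup.mem_normalizer_iff.1 hx g).1 (self_mem_Cen g)
    rw [mem_Cen_iff] at h1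
    have htr : (((x * g * x⁻¹ : ↥Hs) : SL(2, F)) : Matrix (Fin 2) (Fin 2) F).trace =
        ((g : SL(2, F)) : Matrix (Fin 2) (Fin 2) F).trace := by
      have e : ((x * g * x⁻¹ : ↥Hs) : SL(2, F)) = (x : SL(2, F)) * (g : SL(2, F)) * (x : SL(2, F))⁻¹ := rfl
      rw [e]
      exact trace_conj (x : SL(2, F)) (g : SL(2, F))
    have h3 := hreg.reg ((x * g * x⁻¹ : ↥Hs) : SL(2, F)) ((mem_torus_iff _ _).2 h1) htr
    have hinv' : (x : SL(2, F)) * g * (x : SL(2, F))⁻¹ = (g : SL(2, F))⁻¹ := by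
      rcases h3 with h3 | h3
      · exfalso
        apply hxC
        rw [mem_Cen]
        have e : x * g * x⁻¹ = g := Subtype.ext h3
        calc g * x = (x * g * x⁻¹) * x := by rw [e]
          _ = x * g := by group
      · simpa using h3
    constructor
    · intro c hc
      apply Subtype.ext
      have := inverts_torus hreg.ns (x : SL(2, F)) hinv' (c : SL(2, F)) ((mem_torus_iff _ _).2 (mem_Cen_iff.1 hc))
      simpa using this
    · rw [mem_ZZ_iff]
      have := sq_eq_neg_one_of_inverts hreg.ns (x : SL(2, F)) hinv'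
      rw [Subgroup.coe_mul, this]
      refine ⟨?_, ?_, ?_⟩ <;> simp

/-- the frame of a non-central element with `tr² = 4` -/
theorem unip_frame (hp2 : p ≠ 2) (g : ↥Hs) (hg : g ∉ ZZ Hs)
    (ht : ((g : SL(2, F)) : Matrix (Fin 2) (Fin 2) F).trace ^ 2 = 4) :
    ∃ (c : ↥Hs) (s : SL(2, F)) (a : F), a ≠ 0 ∧ s * (c : SL(2, F)) * s⁻¹ = u a ∧
      c ∈ Cen g ∧ Cen c = Cen g ∧ Cen g = ZZ Hs ⊔ Uhat Hs s := by
  have hdvd : p ∣ Nat.card (Cen g) := by
    by_contra h
    exact trace_sq_ne_four p hp2 g hg h ht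
  obtain ⟨c, hc⟩ := exists_prime_orderOf_dvd_card' p hdvd
  have hc1 : (c : ↥Hs) ≠ 1 := by
    intro h
    have : c = 1 := Subtype.ext h
    rw [this, orderOf_one] at hc
    exact hp.out.one_lt.ne hc
  have hcp : ((c : ↥Hs) : SL(2, F)) ^ p = 1 := by
    have h1 : c ^ p = 1 := by rw [← hc]; exact pow_orderOf_eq_one c
    have h2 : ((c : ↥Hs)) ^ p = 1 := by
      have := congrArg (fun y : ↥(Cen g) => (y : ↥Hs)) h1
      simpa using this
    have := congrArg (fun y : ↥Hs => (y : SL(2, F))) h2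
    simpa using this
  obtain ⟨s, a, ha, hs⟩ := exists_conj_u p _ hcp (coe_ne_one hc1)
  have h1 : Cen (c : ↥Hs) = Cen g := ca_ZZ.cen_eq hg (not_mem_ZZ_of_conj_u ha hs) c.2
  refine ⟨c, s, a, ha, hs, c.2, h1, ?_⟩
  rw [← h1]
  exact cen_eq_sup p hp2 (c : ↥Hs) s a ha hs


section three

variable [h3p : Fact (Nat.Prime 3)] [CharP F 3]
  (h3 : ∀ Q : Subgroup ↥Hs, IsPGroup 3 Q → Nat.card Q ∣ 3)

theorem coe_pow_three {c : ↥Hs} (h : (c : SL(2, F)) ^ 3 = 1) : c ^ 3 = 1 := by
  apply Subtype.ext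
  simpa using h

include h3 in
theorem card_Uhat_three (c : ↥Hs) (s : SL(2, F)) (a : F) (ha : a ≠ 0)
    (hs : s * (c : SL(2, F)) * s⁻¹ = u a) : Nat.card (Uhat Hs s) = 3 := by
  have h1 := h3 _ (isPGroup_Uhat 3 s)
  rcases (Nat.dvd_prime Nat.prime_three).1 h1 with h | h
  · exfalso
    have hc : c ∈ Uhat Hs s := mem_Uhat.2 ⟨a, hs⟩
    have hbot := (Subgroup.card_eq_one).1 h
    rw [hbot, Subgroup.mem_bot] at hc
    rw [hc, Subgroup.coe_one, mul_one, mul_inv_cancel] at hs
    exact ha ((u_eq_one_iff a).1 hs.symm)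
  · exact h

include h3 in
theorem cyc_three (g : ↥Hs) (hg : g ∉ ZZ Hs)
    (ht : ((g : SL(2, F)) : Matrix (Fin 2) (Fin 2) F).trace ^ 2 = 4) : IsCyclic (Cen g) := by
  have ax : Ax 3 (ZZ Hs) := ax_of_subgroup 3 (by norm_num)
  obtain ⟨c, s, a, ha, hs, hcg, hcc, hsup⟩ := unip_frame 3 (by norm_num) g hg ht
  have hU := card_Uhat_three h3 c s a ha hs
  have hcard : Nat.card (Cen g) = Nat.card (ZZ Hs) * 3 := by
    rw [hsup, ax.card_sup (isPGroup_Uhat 3 s), hU]
  have hc3 : c ^ 3 = 1 := by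
    apply coe_pow_three
    have : (s * (c : SL(2, F)) * s⁻¹) ^ 3 = 1 := by rw [hs]; exact u_pow_p 3 a
    rw [conj_pow] at this
    have h2 : (c : SL(2, F)) ^ 3 = s⁻¹ * (s * (c : SL(2, F)) ^ 3 * s⁻¹) * s := by group
    rw [h2, this]; group
  have hc1 : c ≠ 1 := by
    rintro rfl
    rw [Subgroup.coe_one, mul_one, mul_inv_cancel] at hs
    exact ha ((u_eq_one_iff a).1 hs.symm)
  have hoc : orderOf c = 3 := orderOf_eq_prime hc3 hc1
  have hz2 : Nat.card (ZZ Hs) ≤ 2 := card_ZZ_le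
  have hz0 : 0 < Nat.card (ZZ Hs) := Nat.card_pos
  have hz : Nat.card (ZZ Hs) = 1 ∨ Nat.card (ZZ Hs) = 2 := by omega
  rcases hz with hz | hz
  · rw [hz, one_mul] at hcard
    exact isCyclic_of_prime_card hcard
  · have hne : ZZ Hs ≠ ⊥ := by
      intro h
      rw [h, Subgroup.card_bot] at hz
      omega
    obtain ⟨⟨ζ, hζ⟩, hζne⟩ := (Subgroup.ne_bot_iff_exists_ne_one).1 hne
    have hζ1 : ζ ≠ 1 := fun h => hζne (Subtype.ext h)
    have hζ2 : ζ ^ 2 = 1 := by
      apply Subtype.ext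
      rw [Subgroup.coe_pow, pow_two]
      exact sq_eq_one_of_mem_center (mem_ZZ.1 hζ)
    have hoζ : orderOf ζ = 2 := orderOf_eq_prime hζ2 hζ1
    have hcomm : Commute ζ c := (Subgroup.mem_center_iff.1 (ZZ_central hζ) c).symm
    have hord : orderOf (ζ * c) = 2 * 3 := by
      rw [hcomm.orderOf_mul_eq_mul_orderOf_of_coprime (by rw [hoζ, hoc]; norm_num), hoζ, hoc]
    have hmem : ζ * c ∈ Cen g := Subgroup.mul_mem _ (ca_ZZ.le_Cen g hζ) hcg
    apply isCyclic_of_card_le_orderOf (⟨ζ * c, hmem⟩ : ↥(Cen g))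
    rw [Subgroup.orderOf_mk, hord, hcard, hz]


theorem two_eq_neg_one_three : (2 : F) = -1 := by
  have h : ((3 : ℕ) : F) = 0 := CharP.cast_eq_zero F 3
  push_cast at h
  linear_combination h

include h3 in
theorem inv_three (g : ↥Hs) (hg : g ∉ ZZ Hs)
    (ht : ((g : SL(2, F)) : Matrix (Fin 2) (Fin 2) F).trace ^ 2 = 4) (x : ↥Hs) (hx : x ∈ Nor g)
    (hxC : x ∉ Cen g) : (∀ c ∈ Cen g, x * c * x⁻¹ = c⁻¹) ∧ x * x ∈ ZZ Hs := by
  classical
  have ax : Ax 3 (ZZ Hs) := ax_of_subgroup 3 (by norm_num)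
  obtain ⟨c, s, a, ha, hs, hcg, hcc, hsup⟩ := unip_frame 3 (by norm_num) g hg ht
  have hU := card_Uhat_three h3 c s a ha hs
  have hc3 : c ^ 3 = 1 := by
    apply coe_pow_three
    have : (s * (c : SL(2, F)) * s⁻¹) ^ 3 = 1 := by rw [hs]; exact u_pow_p 3 a
    rw [conj_pow] at this
    have h2 : (c : SL(2, F)) ^ 3 = s⁻¹ * (s * (c : SL(2, F)) ^ 3 * s⁻¹) * s := by group
    rw [h2, this]; group
  have hc1 : c ≠ 1 := by
    rintro rfl
    rw [Subgroup.coe_one, mul_one, mul_inv_cancel] at hs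
    exact ha ((u_eq_one_iff a).1 hs.symm)
  have hoc : orderOf c = 3 := orderOf_eq_prime hc3 hc1
  have hcU : c ∈ Uhat Hs s := mem_Uhat.2 ⟨a, hs⟩
  -- the conjugate of `c`
  have hy : x * c * x⁻¹ ∈ Cen g := (Subgroup.mem_normalizer_iff.1 hx c).1 hcg
  have hy3 : (x * c * x⁻¹) ^ 3 ^ 1 = 1 := by
    rw [pow_one, conj_pow, hc3]; group
  have hyU : x * c * x⁻¹ ∈ Uhat Hs s := by
    rw [hsup] at hy
    exact ax.mem_of_mem_sup (isPGroup_Uhat 3 s) hy 1 hy3
  have hzp : Subgroup.zpowers c = Uhat Hs s := by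
    apply Subgroup.eq_of_le_of_card_ge
    · rw [Subgroup.zpowers_le]; exact hcU
    · rw [Nat.card_zpowers, hoc, hU]
  rw [← hzp, mem_zpowers_iff_mem_range_orderOf, hoc] at hyU
  obtain ⟨m, hm, hmy⟩ := Finset.mem_image.1 hyU
  have hm3 : m < 3 := Finset.mem_range.1 hm
  set X := s * (x : SL(2, F)) * s⁻¹ with hX
  have e1 : X * u a * X⁻¹ = u ((m : F) * a) := by
    rw [← u_pow, ← hs, conj_pow]
    have : ((c ^ m : ↥Hs) : SL(2, F)) = (c : SL(2, F)) ^ m := rfl
    rw [← this, hmy, hX]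
    simp only [Subgroup.coe_mul, Subgroup.coe_inv]
    group
  have hX10 : X.1 1 0 = 0 := by
    have h2 := congrArg (fun y : SL(2, F) => (y : Matrix (Fin 2) (Fin 2) F) 1 0) e1
    simp only [conj_u_coe, u_coe] at h2
    simp at h2
    rcases h2 with h3' | h3'
    · exact absurd h3' ha
    · exact h3'
  have hdet := sl2_det X
  rw [hX10, mul_zero, sub_zero] at hdet
  have e2 : (m : F) * a = a * X.1 0 0 * X.1 0 0 := by
    rw [conj_u_of_lower_zero X hX10] at e1
    exact (u_injective e1).symm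
  have hsq : X.1 0 0 * X.1 0 0 = (m : F) := by
    have : a * (X.1 0 0 * X.1 0 0 - (m : F)) = 0 := by linear_combination (-1 : F) * e2
    rcases mul_eq_zero.1 this with h | h
    · exact absurd h ha
    · exact sub_eq_zero.1 h
  have hX00 : X.1 0 0 ≠ 0 := left_ne_zero_of_mul_eq_one hdet
  have hm2 : X.1 0 0 * X.1 0 0 = -1 := by
    interval_cases m
    · exfalso
      simp at hsq
      exact hX00 hsq
    · exfalso
      -- `x` commutes with `c`
      apply hxC
      rw [← hcc, mem_Cen_iff]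
      have h11 : X.1 0 0 = X.1 1 1 := by
        have h5 : X.1 0 0 * (X.1 0 0 - X.1 1 1) = 0 := by
          push_cast at hsq
          linear_combination hsq - hdet
        rcases mul_eq_zero.1 h5 with h | h
        · exact absurd h hX00
        · exact sub_eq_zero.1 h
      have hcomm := (commute_u_iff ha X).2 ⟨hX10, h11⟩
      rw [← hs, hX] at hcomm
      have h6 : s⁻¹ * (s * (x : SL(2, F)) * s⁻¹ * (s * (c : SL(2, F)) * s⁻¹)) * s =
          s⁻¹ * (s * (c : SL(2, F)) * s⁻¹ * (s * (x : SL(2, F)) * s⁻¹)) * s := by rw [hcomm]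
      have h7 : (x : SL(2, F)) * c = c * x := by
        have l1 : s⁻¹ * (s * (x : SL(2, F)) * s⁻¹ * (s * (c : SL(2, F)) * s⁻¹)) * s =
            (x : SL(2, F)) * c := by group
        have l2 : s⁻¹ * (s * (c : SL(2, F)) * s⁻¹ * (s * (x : SL(2, F)) * s⁻¹)) * s =
            (c : SL(2, F)) * x := by group
        rw [← l1, ← l2, h6]
      exact h7.symm
    · push_cast at hsq
      rw [hsq]
      exact two_eq_neg_one_three
  have h11 : X.1 1 1 = -X.1 0 0 := by
    have h5 : X.1 0 0 * (X.1 1 1 + X.1 0 0) = 0 := by linear_combination hdet + hm2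
    rcases mul_eq_zero.1 h5 with h | h
    · exact absurd h hX00
    · exact eq_neg_of_add_eq_zero_left h
  have hback : ∀ y z : ↥Hs, s * (y : SL(2, F)) * s⁻¹ = s * (z : SL(2, F)) * s⁻¹ → y = z := by
    intro y z h
    apply Subtype.ext
    have : (y : SL(2, F)) = s⁻¹ * (s * (y : SL(2, F)) * s⁻¹) * s := by group
    rw [this, h]; group
  constructor
  · intro c' hc'
    rw [← hcc, mem_Cen_iff] at hc'
    set C := s * (c' : SL(2, F)) * s⁻¹ with hC
    have hCc : C * u a = u a * C := by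
      rw [← hs, hC]
      calc s * (c' : SL(2, F)) * s⁻¹ * (s * (c : SL(2, F)) * s⁻¹)
          = s * ((c' : SL(2, F)) * c) * s⁻¹ := by group
        _ = s * ((c : SL(2, F)) * c') * s⁻¹ := by rw [hc']
        _ = _ := by group
    obtain ⟨hC10, hC00⟩ := (commute_u_iff ha C).1 hCc
    apply hback
    have e3 : s * ((x * c' * x⁻¹ : ↥Hs) : SL(2, F)) * s⁻¹ = X * C * X⁻¹ := by
      rw [hX, hC]
      simp only [Subgroup.coe_mul, Subgroup.coe_inv]
      group
    have e4 : s * ((c'⁻¹ : ↥Hs) : SL(2, F)) * s⁻¹ = C⁻¹ := by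
      rw [hC]
      simp only [Subgroup.coe_inv]
      group
    rw [e3, e4]
    apply sl2_ext
    · simp only [m00, m01, m10, m11, i00, i01, i10, i11, hX10, hC10, h11, ← hC00]
      linear_combination (-C.1 0 0) * hm2
    · simp only [m00, m01, m10, m11, i00, i01, i10, i11, hX10, hC10, h11, ← hC00]
      linear_combination (C.1 0 1) * hm2
    · simp only [m00, m01, m10, m11, i00, i01, i10, i11, hX10, hC10, h11, ← hC00]
      ring
    · simp only [m00, m01, m10, m11, i00, i01, i10, i11, hX10, hC10, h11, ← hC00]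
      linear_combination (-C.1 0 0) * hm2
  · rw [mem_ZZ]
    have e5 : X * X = negOneSL := by
      apply sl2_ext
      · rw [m00, hX10, neg00, hm2]; ring
      · rw [m01, h11, neg01]; ring
      · rw [m10, hX10, neg10]; ring
      · rw [m11, hX10, h11, neg11]
        linear_combination hm2
    have e6 : ((x * x : ↥Hs) : SL(2, F)) = s⁻¹ * (X * X) * s := by
      rw [hX]
      simp only [Subgroup.coe_mul]
      group
    rw [e6, e5]
    have hcen := Subgroup.mem_center_iff.1 (negOne_mem_center (F := F)) s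
    have : s⁻¹ * negOneSL * s = negOneSL := by
      rw [mul_assoc, ← hcen, ← mul_assoc, inv_mul_cancel, one_mul]
    rw [this]
    exact negOne_mem_center

end three


/-- **Dickson, the exceptional case**: Sylow `3`-subgroups of order three, not normal. -/
theorem caseB [h3p : Fact (Nat.Prime 3)] [CharP F 3]
    (H : Subgroup (Matrix.ProjectiveSpecialLinearGroup (Fin 2) F))
    (h3 : ∀ Q : Subgroup ↥(preim H), IsPGroup 3 Q → Nat.card Q ∣ 3)
    (x y : ↥(preim H)) (hx : x ^ 3 = 1) (hy : y ^ 3 = 1) (hxy : x * y ≠ y * x) :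
    Nonempty (H ≃* alternatingGroup (Fin 4)) ∨ Nonempty (H ≃* Equiv.Perm (Fin 4)) ∨
      Nonempty (H ≃* alternatingGroup (Fin 5)) := by
  have ka : KA (ZZ (preim H)) := ka_of_unip (cyc_three h3) (inv_three h3)
  obtain ⟨e⟩ := nonempty_quot_equiv H
  rcases ka.main with ⟨hcyc, -⟩ | ⟨g, a, hg, hc, ⟨e'⟩⟩ | ⟨⟨e'⟩⟩ | ⟨⟨e'⟩⟩ | ⟨⟨e'⟩⟩
  · exfalso
    apply hxy
    refine commutative_of_cyclic_center_quotient (QuotientGroup.mk' (ZZ (preim H))) ?_ x y
    rw [QuotientGroup.ker_mk']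
    exact ZZ_central
  · exfalso
    have h1 := Subgroup.card_eq_card_quotient_mul_card_subgroup (ZZ (preim H))
    rw [Nat.card_congr e'.toEquiv, DihedralGroup.nat_card] at h1
    have h2 := (Cen g).card_mul_index
    have hpos : 0 < Nat.card (Cen g) := Nat.card_pos
    have hidx : (Cen g).index = 2 := by
      have : Nat.card (Cen g) * (Cen g).index = Nat.card (Cen g) * 2 := by
        rw [h2, h1, hc]; ring
      exact Nat.eq_of_mul_eq_mul_left hpos this
    have key : ∀ w : ↥(preim H), w ^ 3 = 1 → w ∈ Cen g := by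
      intro w hw
      have h4 : w = (w * w) * (w * w) := by
        have : (w * w) * (w * w) = w ^ 3 * w := by
          rw [pow_succ, pow_two]; simp only [mul_assoc]
        rw [this, hw, one_mul]
      rw [h4]
      exact Subgroup.mul_mem _ (Subgroup.mul_self_mem_of_index_two hidx w)
        (Subgroup.mul_self_mem_of_index_two hidx w)
    exact hxy (ca_ZZ.comm g hg x (key x hx) y (key y hy))
  · left; exact ⟨e.symm.trans e'⟩
  · right; left; exact ⟨e.symm.trans e'⟩
  · right; right; exact ⟨e.symm.trans e'⟩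

end Cfsg.Agent.Helper11.Dickson
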