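import Mathlib
import Cfsg.Agent.Lib.Helper11.KleinPSL2
import Cfsg.Agent.Lib.Helper4.DicksonMain
import Cfsg.Agent.Lib.Helper2.SL2Sylow

set_option autoImplicit false
set_option linter.unusedVariables false
set_option linter.unusedSectionVars false

/-! Dickson's theorem, the `p`-closed case: a subgroup of `SL₂(F)` with a normal nontrivial
Sylow `p`-subgroup lies in a Borel subgroup. -/

namespace Cfsg.Agent.Helper11.Dickson

open Matrix Matrix.SpecialLinearGroup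
open scoped MatrixGroups
open Cfsg.Agent.Helper2.SL2S
open Cfsg.Agent.Helper12 Cfsg.Agent.Helper4.DC Cfsg.Agent.Helper4.DSL
open Cfsg.Agent.Helper11.Klein

variable {F : Type*} [Field F] [Fintype F] (p : ℕ) [hp : Fact p.Prime] [CharP F p]

/-- a subgroup of `SL₂(F)` with a normal nontrivial Sylow `p`-subgroup is upper triangular in a
suitable frame -/
theorem exists_frame_of_normal (Hs : Subgroup SL(2, F)) (Q : Sylow p ↥Hs)
    (hQn : (Q : Subgroup ↥Hs).Normal) (hQ1 : (Q : Subgroup ↥Hs) ≠ ⊥) :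
    ∃ s : SL(2, F), ∀ h ∈ Hs, (s * h * s⁻¹).1 1 0 = 0 := by
  obtain ⟨⟨x, hx⟩, hxne⟩ := (Subgroup.ne_bot_iff_exists_ne_one).1 hQ1
  have hx1 : x ≠ 1 := fun h => hxne (Subtype.ext h)
  obtain ⟨k, hk⟩ := Q.2 ⟨x, hx⟩
  have hk' : x ^ p ^ k = 1 := by simpa using congrArg Subtype.val hk
  have hxp : (x : SL(2, F)) ^ p = 1 := sub_pow_p p x k hk'
  have hxs1 : (x : SL(2, F)) ≠ 1 := coe_ne_one hx1
  obtain ⟨s, a, ha, hs⟩ := exists_conj_u p (x : SL(2, F)) hxp hxs1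
  refine ⟨s, fun h hh => ?_⟩
  have hy : (⟨h, hh⟩ : ↥Hs) * x * (⟨h, hh⟩ : ↥Hs)⁻¹ ∈ (Q : Subgroup ↥Hs) := hQn.conj_mem x hx _
  have hc := sub_pGroup_comm p (Q : Subgroup ↥Hs) Q.2 x hx _ hy
  have hc' : (x : SL(2, F)) * (h * x * h⁻¹) = (h * x * h⁻¹) * x := by
    have := congrArg Subtype.val hc
    simpa using this
  set K := s * h * s⁻¹ with hK
  have e1 : K * u a * K⁻¹ = s * (h * (x : SL(2, F)) * h⁻¹) * s⁻¹ := by
    rw [← hs, hK]; group
  have e2 : (K * u a * K⁻¹) * u a = u a * (K * u a * K⁻¹) := by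
    rw [e1, ← hs]
    calc s * (h * (x : SL(2, F)) * h⁻¹) * s⁻¹ * (s * x * s⁻¹)
        = s * ((h * (x : SL(2, F)) * h⁻¹) * x) * s⁻¹ := by group
      _ = s * ((x : SL(2, F)) * (h * x * h⁻¹)) * s⁻¹ := by rw [hc']
      _ = _ := by group
  have e3 := ((commute_u_iff ha _).1 e2).1
  rw [conj_u_coe] at e3
  simp at e3
  rcases e3 with h0 | h0
  · exact absurd h0 ha
  · exact h0


/-- a subgroup of `SL₂(F)` that is upper triangular in a frame normalizes a Sylow `p`-subgroup -/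
theorem exists_sylow_of_frame (Hs : Subgroup SL(2, F)) (s : SL(2, F))
    (hs : ∀ h ∈ Hs, (s * h * s⁻¹).1 1 0 = 0) :
    ∃ P : Sylow p SL(2, F), Hs ≤ Subgroup.normalizer ((P : Subgroup SL(2, F)) : Set SL(2, F)) := by
  obtain ⟨P0, hP0⟩ := exists_sylow_eq_U (F := F) p
  refine ⟨s⁻¹ • P0, ?_⟩
  have key : ∀ h ∈ Hs, ∀ y ∈ (s⁻¹ • P0 : Sylow p SL(2, F)), h * y * h⁻¹ ∈ (s⁻¹ • P0 : Sylow p SL(2, F)) := by
    intro h hh y hy
    rw [Cfsg.Agent.Helper2.mem_sylow_smul_iff] at hy ⊢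
    have hy' : s⁻¹⁻¹ * y * s⁻¹ ∈ (P0 : Subgroup SL(2, F)) := hy
    rw [hP0, mem_U_iff] at hy'
    obtain ⟨b, hb⟩ := hy'
    change s⁻¹⁻¹ * (h * y * h⁻¹) * s⁻¹ ∈ (P0 : Subgroup SL(2, F))
    rw [hP0, mem_U_iff]
    refine ⟨b * (s * h * s⁻¹).1 0 0 * (s * h * s⁻¹).1 0 0, ?_⟩
    rw [← conj_u_of_lower_zero _ (hs h hh) b, hb]
    group
  intro h hh
  rw [Subgroup.mem_normalizer_iff]
  intro y
  constructor
  · intro hy
    exact key h hh y hy
  · intro hy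
    have := key h⁻¹ (Hs.inv_mem hh) _ hy
    have e : h⁻¹ * (h * y * h⁻¹) * h⁻¹⁻¹ = y := by group
    rwa [e] at this

/-- **Dickson, the `p`-closed case.** -/
theorem borel_case (H : Subgroup (Matrix.ProjectiveSpecialLinearGroup (Fin 2) F))
    (Q : Sylow p ↥(preim H)) (hQn : (Q : Subgroup ↥(preim H)).Normal)
    (hQ1 : (Q : Subgroup ↥(preim H)) ≠ ⊥) :
    ∃ (P : Sylow p (Matrix.ProjectiveSpecialLinearGroup (Fin 2) F))
      (K : Subgroup (Matrix.ProjectiveSpecialLinearGroup (Fin 2) F)),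
      K ≤ Subgroup.normalizer (P : Set (Matrix.ProjectiveSpecialLinearGroup (Fin 2) F)) ∧
        Nonempty (H ≃* K) := by
  obtain ⟨s, hs⟩ := exists_frame_of_normal p (preim H) Q hQn hQ1
  obtain ⟨PS, hPS⟩ := exists_sylow_of_frame p (preim H) s hs
  have hsurj : Function.Surjective
      (QuotientGroup.mk' (Subgroup.center (Matrix.SpecialLinearGroup (Fin 2) F))) :=
    QuotientGroup.mk'_surjective _
  refine ⟨PS.mapSurjective hsurj, H, ?_, ⟨MulEquiv.refl _⟩⟩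
  intro x hx
  obtain ⟨h, rfl⟩ := hsurj x
  have hh : h ∈ preim H := hx
  have h1 := Subgroup.le_normalizer_map
    (QuotientGroup.mk' (Subgroup.center (Matrix.SpecialLinearGroup (Fin 2) F)))
    (Subgroup.mem_map_of_mem _ (hPS hh))
  exact h1

end Cfsg.Agent.Helper11.Dickson
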