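import Mathlib
import Cfsg.Agent.Lib.Helper11.DicksonN1

set_option autoImplicit false
set_option linter.unusedVariables false
set_option linter.unusedSectionVars false
set_option linter.unusedSimpArgs false

/-! Dickson's theorem, the doubly transitive case in a normalized frame: the subfield. -/

namespace Cfsg.Agent.Helper11.Dickson

open Matrix Matrix.SpecialLinearGroup
open scoped MatrixGroups
open Cfsg.Agent.Helper2.SL2S
open Cfsg.Agent.Helper12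

variable {F : Type*} [Field F]

/-- the normalized doubly transitive situation -/
structure Nrm (Hs : Subgroup SL(2, F)) : Prop where
  neg : negOneSL ∈ Hs
  u1 : u 1 ∈ Hs
  vb : ∃ b : F, b ≠ 0 ∧ v b ∈ Hs
  R : ∀ h ∈ Hs, h.1 1 0 ≠ 0 → ∃ a : F, u a ∈ Hs ∧ h.1 0 0 = a * h.1 1 0

variable {Hs : Subgroup SL(2, F)}

theorem uA_add {a b : F} (ha : u a ∈ Hs) (hb : u b ∈ Hs) : u (a + b) ∈ Hs := by
  rw [u_add]; exact Hs.mul_mem ha hb

theorem uA_neg {a : F} (ha : u a ∈ Hs) : u (-a) ∈ Hs := by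
  rw [← u_inv]; exact Hs.inv_mem ha

theorem uA_sub {a b : F} (ha : u a ∈ Hs) (hb : u b ∈ Hs) : u (a - b) ∈ Hs := by
  rw [sub_eq_add_neg]; exact uA_add ha (uA_neg hb)

theorem uA_zero : u (0 : F) ∈ Hs := by rw [u_zero]; exact Hs.one_mem

theorem uA_nsmul {a : F} (ha : u a ∈ Hs) (n : ℕ) : u ((n : F) * a) ∈ Hs := by
  induction n with
  | zero => simpa using uA_zero
  | succ k ih =>
    have : ((k + 1 : ℕ) : F) * a = (k : F) * a + a := by push_cast; ring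
    rw [this]; exact uA_add ih ha

theorem vA_add {a b : F} (ha : v a ∈ Hs) (hb : v b ∈ Hs) : v (a + b) ∈ Hs := by
  rw [Cfsg.Agent.Helper4.DSL.v_add]; exact Hs.mul_mem ha hb

theorem vA_neg {a : F} (ha : v a ∈ Hs) : v (-a) ∈ Hs := by
  rw [← Cfsg.Agent.Helper4.DSL.v_inv]; exact Hs.inv_mem ha

namespace Nrm

variable (N : Nrm Hs)
include N

theorem R' (h : SL(2, F)) (hh : h ∈ Hs) (h10 : h.1 1 0 ≠ 0) :
    ∃ a : F, u a ∈ Hs ∧ h.1 1 1 = a * h.1 1 0 := by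
  obtain ⟨a, ha, hr⟩ := N.R h⁻¹ (Hs.inv_mem hh) (by rw [i10]; exact neg_ne_zero.2 h10)
  refine ⟨-a, uA_neg ha, ?_⟩
  rw [i00, i10] at hr
  rw [hr]; ring

theorem nn_mem (h : SL(2, F)) (hh : h ∈ Hs) (h10 : h.1 1 0 ≠ 0) : nn (h.1 1 0) ∈ Hs := by
  obtain ⟨α, hα, h0⟩ := N.R h hh h10
  obtain ⟨δ, hδ, h1⟩ := N.R' h hh h10
  have e := decomp h α δ h10 h0 h1
  have e2 : nn (h.1 1 0) = (u α)⁻¹ * h * (u δ)⁻¹ := by
    conv_rhs => rw [e]
    group
  rw [e2]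
  exact Hs.mul_mem (Hs.mul_mem (Hs.inv_mem hα) hh) (Hs.inv_mem hδ)

/-- from `A` to `A'` -/
theorem v_of_u {γ : F} (hγ : γ ≠ 0) (hn : nn γ ∈ Hs) {a : F} (ha : u a ∈ Hs) :
    v (γ ^ 2 * a) ∈ Hs := by
  have h1 : nn γ * u a * (nn γ)⁻¹ ∈ Hs := Hs.mul_mem (Hs.mul_mem hn ha) (Hs.inv_mem hn)
  rw [nn_conj_u hγ] at h1
  have := vA_neg h1
  rwa [neg_neg] at this

/-- from `A'` to `A` -/
theorem u_of_v {γ : F} (hγ : γ ≠ 0) (hn : nn γ ∈ Hs) {b : F} (hb : v b ∈ Hs) :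
    u (b / γ ^ 2) ∈ Hs := by
  have h1 : (nn γ)⁻¹ * v b * nn γ ∈ Hs := Hs.mul_mem (Hs.mul_mem (Hs.inv_mem hn) hb) hn
  rw [nn_conj_v hγ] at h1
  have := uA_neg h1
  rwa [neg_neg] at this

theorem nn_of_v {b : F} (hb : b ≠ 0) (hv : v b ∈ Hs) : nn b ∈ Hs := by
  have := N.nn_mem (v b) hv (by rw [v10]; exact hb)
  rwa [v10] at this

theorem inv_of_v {b : F} (hb : b ≠ 0) (hv : v b ∈ Hs) : u b⁻¹ ∈ Hs := by
  obtain ⟨a, ha, hr⟩ := N.R (v b) hv (by rw [v10]; exact hb)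
  rw [v00, v10] at hr
  have : a = b⁻¹ := eq_inv_of_mul_eq_one_left hr.symm
  rwa [this] at ha

theorem v1 : v (1 : F) ∈ Hs := by
  obtain ⟨b, hb, hv⟩ := N.vb
  have hn := N.nn_of_v hb hv
  have h1 : v (b ^ 2) ∈ Hs := by
    have := N.v_of_u hb hn N.u1
    rwa [mul_one] at this
  have hb2 : b ^ 2 ≠ 0 := pow_ne_zero 2 hb
  have h2 := N.inv_of_v hb2 h1
  have h3 := N.v_of_u hb hn h2
  rwa [mul_inv_cancel₀ hb2] at h3

theorem nn1 : nn (1 : F) ∈ Hs := N.nn_of_v one_ne_zero N.v1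

theorem v_iff_u (a : F) : v a ∈ Hs ↔ u a ∈ Hs := by
  constructor
  · intro h
    have := N.u_of_v one_ne_zero N.nn1 h
    simpa using this
  · intro h
    have := N.v_of_u one_ne_zero N.nn1 h
    simpa using this

theorem invA {a : F} (ha : u a ∈ Hs) : u a⁻¹ ∈ Hs := by
  by_cases h0 : a = 0
  · rw [h0, _root_.inv_zero]; exact uA_zero
  · exact N.inv_of_v h0 ((N.v_iff_u a).2 ha)

theorem nn_of_u {a : F} (h0 : a ≠ 0) (ha : u a ∈ Hs) : nn a ∈ Hs :=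
  N.nn_of_v h0 ((N.v_iff_u a).2 ha)

theorem sq_mul_mem {a c : F} (ha : u a ∈ Hs) (hc : u c ∈ Hs) : u (a ^ 2 * c) ∈ Hs := by
  by_cases h0 : a = 0
  · rw [h0]; simpa using (uA_zero (Hs := Hs))
  · exact (N.v_iff_u _).1 (N.v_of_u h0 (N.nn_of_u h0 ha) hc)

theorem half_mem (p : ℕ) [CharP F p] (hp : Odd p) {a : F} (ha : u a ∈ Hs) : u (a / 2) ∈ Hs := by
  obtain ⟨k, hk⟩ := hp
  have h2 : (2 : F) ≠ 0 := by
    intro h
    have h3 : ((2 : ℕ) : F) = 0 := by exact_mod_cast h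
    rw [CharP.cast_eq_zero_iff F p] at h3
    have h4 : ((p : ℕ) : F) = 0 := CharP.cast_eq_zero F p
    have : p ∣ 2 := h3
    have hp2 : p ≤ 2 := Nat.le_of_dvd (by norm_num) this
    have h5 : ((1 : ℕ) : F) = 0 := by
      have : p = 1 := by omega
      rw [← this]; exact h4
    simp at h5
  have h1 : ((k + 1 : ℕ) : F) * a = a / 2 := by
    have h4 : ((p : ℕ) : F) = 0 := CharP.cast_eq_zero F p
    rw [hk] at h4
    push_cast at h4 ⊢
    field_simp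
    linear_combination a * h4
  rw [← h1]
  exact uA_nsmul ha _

theorem mulA (p : ℕ) [CharP F p] (hp : Odd p) {a c : F} (ha : u a ∈ Hs) (hc : u c ∈ Hs) :
    u (a * c) ∈ Hs := by
  have h1 := N.sq_mul_mem (uA_add ha N.u1) hc
  have h2 := N.sq_mul_mem ha hc
  have h3 := uA_sub (uA_sub h1 h2) hc
  have h4 := N.half_mem p hp h3
  have h2' : (2 : F) ≠ 0 := by
    intro h
    obtain ⟨k, hk⟩ := hp
    have h4 : ((p : ℕ) : F) = 0 := CharP.cast_eq_zero F p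
    rw [hk] at h4
    push_cast at h4
    rw [h, zero_mul, zero_add] at h4
    exact one_ne_zero h4
  have e : ((a + 1) ^ 2 * c - a ^ 2 * c - c) / 2 = a * c := by
    field_simp
    ring
  rwa [e] at h4

/-- the subfield -/
def fld (p : ℕ) [CharP F p] (hp : Odd p) : Subfield F where
  carrier := {a | u a ∈ Hs}
  mul_mem' := fun ha hc => N.mulA p hp ha hc
  one_mem' := N.u1
  add_mem' := fun ha hb => uA_add ha hb
  zero_mem' := uA_zero
  neg_mem' := fun ha => uA_neg ha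
  inv_mem' := fun _ ha => N.invA ha

theorem mem_fld (p : ℕ) [CharP F p] (hp : Odd p) (a : F) : a ∈ N.fld p hp ↔ u a ∈ Hs := Iff.rfl

/-- the diagonal elements -/
theorem dd_of_nn {t : F} (ht : nn t ∈ Hs) : dd t ∈ Hs :=
  Hs.mul_mem N.neg (Hs.mul_mem N.nn1 ht)

theorem dd_of_u {a : F} (h0 : a ≠ 0) (ha : u a ∈ Hs) : dd a ∈ Hs := N.dd_of_nn (N.nn_of_u h0 ha)

theorem sq_of_dd {t : F} (h0 : t ≠ 0) (ht : dd t ∈ Hs) : u (t ^ 2) ∈ Hs := by
  have := Hs.mul_mem (Hs.mul_mem ht N.u1) (Hs.inv_mem ht)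
  rwa [dd_conj_u h0, mul_one] at this

/-- the structure of the elements of `Hs` -/
theorem exists_scalar (p : ℕ) [CharP F p] (hp : Odd p) (h : SL(2, F)) (hh : h ∈ Hs) :
    ∃ l : F, l ≠ 0 ∧ dd l ∈ Hs ∧ ∀ i j, l * h.1 i j ∈ N.fld p hp := by
  have key : ∀ h : SL(2, F), h ∈ Hs → h.1 1 0 ≠ 0 →
      dd (h.1 1 0) ∈ Hs ∧ ∀ i j, h.1 1 0 * h.1 i j ∈ N.fld p hp := by
    intro h hh h10
    obtain ⟨α, hα, h0⟩ := N.R h hh h10
    obtain ⟨δ, hδ, h1⟩ := N.R' h hh h10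
    have hn := N.nn_mem h hh h10
    have hd := N.dd_of_nn hn
    have hsq : (h.1 1 0) ^ 2 ∈ N.fld p hp := N.sq_of_dd h10 hd
    have hα' : α ∈ N.fld p hp := hα
    have hδ' : δ ∈ N.fld p hp := hδ
    have hdet := sl2_det h
    refine ⟨hd, ?_⟩
    have e00 : h.1 1 0 * h.1 0 0 = (h.1 1 0) ^ 2 * α := by rw [h0]; ring
    have e11 : h.1 1 0 * h.1 1 1 = (h.1 1 0) ^ 2 * δ := by rw [h1]; ring
    have e10 : h.1 1 0 * h.1 1 0 = (h.1 1 0) ^ 2 := by ring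
    have e01 : h.1 1 0 * h.1 0 1 = (h.1 1 0) ^ 2 * α * δ - 1 := by
      rw [h0, h1] at hdet
      linear_combination (-1 : F) * hdet
    intro i j
    fin_cases i <;> fin_cases j
    · change h.1 1 0 * h.1 0 0 ∈ N.fld p hp
      rw [e00]; exact mul_mem hsq hα'
    · change h.1 1 0 * h.1 0 1 ∈ N.fld p hp
      rw [e01]
      exact sub_mem (mul_mem (mul_mem hsq hα') hδ') (one_mem _)
    · change h.1 1 0 * h.1 1 0 ∈ N.fld p hp
      rw [e10]; exact hsq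
    · change h.1 1 0 * h.1 1 1 ∈ N.fld p hp
      rw [e11]; exact mul_mem hsq hδ'
  by_cases h10 : h.1 1 0 = 0
  · have hdet := sl2_det h
    rw [h10, mul_zero, sub_zero] at hdet
    have h11 : h.1 1 1 ≠ 0 := right_ne_zero_of_mul_eq_one hdet
    have hm : h * nn 1 ∈ Hs := Hs.mul_mem hh N.nn1
    have e10 : (h * nn 1).1 1 0 = h.1 1 1 := by
      rw [m10, nn10, nn00 one_ne_zero]; ring
    have e00 : (h * nn 1).1 0 0 = h.1 0 1 := by
      rw [m00, nn10, nn00 one_ne_zero]; ring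
    have e01 : (h * nn 1).1 0 1 = -h.1 0 0 := by
      rw [m01, nn01 one_ne_zero, nn11 one_ne_zero]; simp
    obtain ⟨hd, hk⟩ := key (h * nn 1) hm (by rw [e10]; exact h11)
    rw [e10] at hd hk
    refine ⟨h.1 1 1, h11, hd, ?_⟩
    intro i j
    fin_cases i <;> fin_cases j
    · change h.1 1 1 * h.1 0 0 ∈ N.fld p hp
      have := hk 0 1
      rw [e01] at this
      have h2 := neg_mem this
      have e : -(h.1 1 1 * -h.1 0 0) = h.1 1 1 * h.1 0 0 := by ring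
      rwa [e] at h2
    · change h.1 1 1 * h.1 0 1 ∈ N.fld p hp
      have := hk 0 0
      rwa [e00] at this
    · change h.1 1 1 * h.1 1 0 ∈ N.fld p hp
      rw [h10, mul_zero]; exact zero_mem _
    · change h.1 1 1 * h.1 1 1 ∈ N.fld p hp
      have := hk 1 0
      rwa [e10] at this
  · exact ⟨h.1 1 0, h10, (key h hh h10).1, (key h hh h10).2⟩

/-- matrices over the subfield lie in `Hs` -/
theorem mem_of_entries (p : ℕ) [CharP F p] (hp : Odd p) (g : SL(2, F))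
    (hg : ∀ i j, g.1 i j ∈ N.fld p hp) : g ∈ Hs := by
  by_cases h10 : g.1 1 0 = 0
  · rw [upper_eq g h10]
    have hdet := sl2_det g
    rw [h10, mul_zero, sub_zero] at hdet
    have h00 : g.1 0 0 ≠ 0 := left_ne_zero_of_mul_eq_one hdet
    exact Hs.mul_mem (N.dd_of_u h00 (hg 0 0)) (mul_mem (hg 0 1) (hg 1 1))
  · have hi : (g.1 1 0)⁻¹ ∈ N.fld p hp := inv_mem (hg 1 0)
    have e0 : g.1 0 0 = (g.1 0 0 * (g.1 1 0)⁻¹) * g.1 1 0 := by field_simp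
    have e1 : g.1 1 1 = (g.1 1 1 * (g.1 1 0)⁻¹) * g.1 1 0 := by field_simp
    rw [decomp g _ _ h10 e0 e1]
    have h1 : u (g.1 0 0 * (g.1 1 0)⁻¹) ∈ Hs := mul_mem (hg 0 0) hi
    have h2 : u (g.1 1 1 * (g.1 1 0)⁻¹) ∈ Hs := mul_mem (hg 1 1) hi
    exact Hs.mul_mem (Hs.mul_mem h1 (N.nn_of_u h10 (hg 1 0))) h2

end Nrm

end Cfsg.Agent.Helper11.Dickson
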