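import Mathlib
import Cfsg.Agent.Lib.Helper11.DicksonN2
import Cfsg.Agent.Lib.Helper28.SubfieldPSL2
import Cfsg.Agent.Lib.Helper2.Psln1

set_option autoImplicit false
set_option linter.unusedVariables false
set_option linter.unusedSectionVars false
set_option linter.unusedSimpArgs false

/-! Dickson's theorem, the doubly transitive case in a normalized frame: identification. -/

namespace Cfsg.Agent.Helper11.Dickson

open Matrix Matrix.SpecialLinearGroup
open scoped MatrixGroups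
open Cfsg.Agent.Helper2.SL2S
open Cfsg.Agent.Helper12
open Cfsg.Agent.Helper28.SubfieldPSL2
open Cfsg.Agent.Helper2.PN (mkn mkn_surjective)

variable {F : Type*} [Field F] {K : Type*} [Field K] (ι : K →+* F)

/-- a matrix of `SL₂(F)` with entries in the image of `ι` comes from `SL₂(K)` -/
theorem exists_map_eq (h : SL(2, F)) (hh : ∀ i j, ∃ y : K, ι y = h.1 i j) :
    ∃ g : SL(2, K), Matrix.SpecialLinearGroup.map ι g = h := by
  choose y hy using hh
  have hdet := sl2_det h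
  refine ⟨⟨!![y 0 0, y 0 1; y 1 0, y 1 1], ?_⟩, ?_⟩
  · rw [Matrix.det_fin_two_of]
    apply ι.injective
    rw [map_sub, map_mul, map_mul, hy, hy, hy, hy, map_one]
    exact hdet
  · apply sl2_ext
    · exact hy 0 0
    · exact hy 0 1
    · exact hy 1 0
    · exact hy 1 1

theorem map_entry (g : SL(2, K)) (i j : Fin 2) :
    (Matrix.SpecialLinearGroup.map ι g).1 i j = ι (g.1 i j) := rfl

variable {Hs : Subgroup SL(2, F)} (N : Nrm Hs) (p : ℕ) [CharP F p] (hp : Odd p)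
  (hι : ∀ x : F, x ∈ N.fld p hp ↔ ∃ y : K, ι y = x)

include hι in
/-- the case where the diagonal part lies over the subfield -/
theorem map_eq_range_sl (hT : ∀ t : F, t ≠ 0 → dd t ∈ Hs → t ∈ N.fld p hp) :
    Hs.map (mkn (ι := Fin 2) (F := F)) = (slToPSL ι).range := by
  ext x
  constructor
  · rintro ⟨h, hh, rfl⟩
    obtain ⟨l, hl0, hld, hl⟩ := N.exists_scalar p hp h hh
    have hlK := hT l hl0 hld
    have hent : ∀ i j, ∃ y : K, ι y = h.1 i j := by
      intro i j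
      apply (hι _).1
      have e : h.1 i j = l⁻¹ * (l * h.1 i j) := by field_simp
      rw [e]
      exact mul_mem (inv_mem hlK) (hl i j)
    obtain ⟨g, hg⟩ := exists_map_eq ι h hent
    exact ⟨g, by rw [← hg]; rfl⟩
  · rintro ⟨g, rfl⟩
    refine ⟨Matrix.SpecialLinearGroup.map ι g, ?_, rfl⟩
    apply N.mem_of_entries p hp
    intro i j
    rw [map_entry]
    exact (hι _).2 ⟨_, rfl⟩


/-- the product of two nonsquares of a finite field is a square -/
theorem isSquare_mul_of_not {K : Type*} [Field K] [Fintype K] {a b : K} (ha : ¬ IsSquare a)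
    (hb : ¬ IsSquare b) : IsSquare (a * b) := by
  classical
  have ha0 : a ≠ 0 := by rintro rfl; exact ha IsSquare.zero
  have hb0 : b ≠ 0 := by rintro rfl; exact hb IsSquare.zero
  rw [← quadraticChar_one_iff_isSquare (mul_ne_zero ha0 hb0), map_mul,
    quadraticChar_neg_one_iff_not_isSquare.2 ha, quadraticChar_neg_one_iff_not_isSquare.2 hb]
  norm_num

section caseii

variable [Fintype K] (t0 : F) (ht0 : t0 ≠ 0) (hd0 : dd t0 ∈ Hs) (hn0 : t0 ∉ N.fld p hp)

include hι ht0 hd0 hn0 in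
/-- squares of the subfield, up to the exceptional diagonal element -/
theorem sq_cases (x : K) (hx : x ≠ 0) :
    (∃ y : K, y ≠ 0 ∧ ι x = (ι y) ^ 2) ∨ (∃ y : K, y ≠ 0 ∧ ι x * t0 ^ 2 = (ι y) ^ 2) := by
  have hν : t0 ^ 2 ∈ N.fld p hp := N.sq_of_dd ht0 hd0
  obtain ⟨ν, hνe⟩ := (hι _).1 hν
  have hνns : ¬ IsSquare ν := by
    rintro ⟨y, hy⟩
    apply hn0
    have h1 : t0 ^ 2 = (ι y) ^ 2 := by rw [← hνe, hy, map_mul]; ring
    rcases sq_eq_sq_iff_eq_or_eq_neg.1 h1 with h | h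
    · rw [h]; exact (hι _).2 ⟨y, rfl⟩
    · rw [h]; exact neg_mem ((hι _).2 ⟨y, rfl⟩)
  by_cases hxs : IsSquare x
  · left
    obtain ⟨y, hy⟩ := hxs
    refine ⟨y, ?_, by rw [hy, map_mul]; ring⟩
    rintro rfl
    apply hx
    rw [hy, mul_zero]
  · right
    obtain ⟨y, hy⟩ := isSquare_mul_of_not hxs hνns
    refine ⟨y, ?_, by rw [← hνe, ← map_mul, hy, map_mul]; ring⟩
    rintro rfl
    have hν0 : ν ≠ 0 := by rintro rfl; exact hνns IsSquare.zero
    exact (mul_ne_zero hx hν0) (by rw [hy, mul_zero])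

include hι ht0 hd0 hn0 in
theorem hsq_of_exc : ∀ x : K, x ≠ 0 → IsSquare (ι x) := by
  intro x hx
  rcases sq_cases ι N p hp hι t0 ht0 hd0 hn0 x hx with ⟨y, -, hy⟩ | ⟨y, -, hy⟩
  · exact ⟨ι y, by rw [hy]; ring⟩
  · refine ⟨ι y / t0, ?_⟩
    field_simp
    rw [hy]

include hι ht0 hd0 hn0 in
/-- the diagonal part -/
theorem dd_of_sq (r : F) (hr : r ≠ 0) (hr2 : r ^ 2 ∈ N.fld p hp) : dd r ∈ Hs := by
  obtain ⟨x, hx⟩ := (hι _).1 hr2
  have hx0 : x ≠ 0 := by
    rintro rfl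
    rw [map_zero] at hx
    exact pow_ne_zero 2 hr hx.symm
  have hK : ∀ y : K, y ≠ 0 → ∀ c : F, c = ι y ∨ c = -ι y → dd c ∈ Hs := by
    intro y hy c hc
    have hy0 : ι y ≠ 0 := (map_ne_zero ι).2 hy
    rcases hc with rfl | rfl
    · exact N.dd_of_u hy0 ((hι _).2 ⟨y, rfl⟩)
    · exact N.dd_of_u (neg_ne_zero.2 hy0) (neg_mem ((hι _).2 ⟨y, rfl⟩) : -ι y ∈ N.fld p hp)
  rcases sq_cases ι N p hp hι t0 ht0 hd0 hn0 x hx0 with ⟨y, hy0, hy⟩ | ⟨y, hy0, hy⟩
  · rw [hx] at hy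
    exact hK y hy0 r (sq_eq_sq_iff_eq_or_eq_neg.1 hy)
  · rw [hx, ← mul_pow] at hy
    have h1 := hK y hy0 (r * t0) (sq_eq_sq_iff_eq_or_eq_neg.1 hy)
    rw [← dd_mul hr ht0] at h1
    have h2 := Hs.mul_mem h1 (Hs.inv_mem hd0)
    rwa [mul_inv_cancel_right] at h2

include hι ht0 hd0 hn0 in
/-- the case where the diagonal part is larger -/
theorem map_eq_range_gl :
    Hs.map (mkn (ι := Fin 2) (F := F)) =
      (glToPSL ι (hsq_of_exc ι N p hp hι t0 ht0 hd0 hn0)).range := by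
  set hsq := hsq_of_exc ι N p hp hι t0 ht0 hd0 hn0 with hsqdef
  ext x
  constructor
  · rintro ⟨h, hh, rfl⟩
    obtain ⟨l, hl0, hld, hl⟩ := N.exists_scalar p hp h hh
    have hent : ∀ i j, ∃ y : K, ι y = l * h.1 i j := fun i j => (hι _).1 (hl i j)
    choose y hy using hent
    have hdet := sl2_det h
    have hdy : ι (Matrix.det !![y 0 0, y 0 1; y 1 0, y 1 1]) = l ^ 2 := by
      rw [Matrix.det_fin_two_of, map_sub, map_mul, map_mul, hy, hy, hy, hy]
      linear_combination l ^ 2 * hdet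
    have hdy0 : Matrix.det !![y 0 0, y 0 1; y 1 0, y 1 1] ≠ 0 := by
      intro h0
      rw [h0, map_zero] at hdy
      exact pow_ne_zero 2 hl0 hdy.symm
    set g : GL (Fin 2) K := Matrix.GeneralLinearGroup.mkOfDetNeZero _ hdy0 with hg
    have hgc : (g : Matrix (Fin 2) (Fin 2) K) = !![y 0 0, y 0 1; y 1 0, y 1 1] := rfl
    refine ⟨g, ?_⟩
    rw [glToPSL_apply]
    have hs2 := sroot_mul_self ι hsq g
    rw [hgc, map_inv₀, hdy] at hs2
    have hs3 : (sroot ι hsq g * l) ^ 2 = 1 := by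
      rw [mul_pow, sq (sroot ι hsq g), hs2]
      field_simp
    have hmat : ∀ i j, (lift ι hsq g).1 i j = (sroot ι hsq g * l) * h.1 i j := by
      intro i j
      rw [lift_coe, hgc]
      have : (ι.mapMatrix !![y 0 0, y 0 1; y 1 0, y 1 1]) i j = l * h.1 i j := by
        fin_cases i <;> fin_cases j <;> simp [hy]
      rw [Matrix.smul_apply, this, smul_eq_mul]
      ring
    have hs4 : (sroot ι hsq g * l) ^ 2 = 1 ^ 2 := by rw [hs3]; ring
    rcases sq_eq_sq_iff_eq_or_eq_neg.1 hs4 with h1 | h1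
    · have e : lift ι hsq g = h := by
        apply sl2_ext <;> rw [hmat, h1, one_mul]
      rw [e]; rfl
    · have e : ((lift ι hsq g : SL(2, F)) : Matrix (Fin 2) (Fin 2) F) = -(h : Matrix (Fin 2) (Fin 2) F) := by
        ext i j
        rw [hmat, h1, Matrix.neg_apply]
        ring
      exact mk_eq_of_neg e
  · rintro ⟨g, rfl⟩
    rw [glToPSL_apply]
    refine ⟨lift ι hsq g, ?_, rfl⟩
    have hr0 := sroot_ne_zero ι hsq g
    have hr2 := sroot_mul_self ι hsq g
    have hrK : (sroot ι hsq g) ^ 2 ∈ N.fld p hp := by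
      rw [sq, hr2]
      exact (hι _).2 ⟨_, rfl⟩
    have hdr := dd_of_sq ι N p hp hι t0 ht0 hd0 hn0 _ hr0 hrK
    have hmat : ∀ i j, (lift ι hsq g).1 i j = sroot ι hsq g * ι ((g : Matrix (Fin 2) (Fin 2) K) i j) := by
      intro i j
      rw [lift_coe, Matrix.smul_apply, smul_eq_mul]
      rfl
    have h2 : (dd (sroot ι hsq g))⁻¹ * lift ι hsq g ∈ Hs := by
      apply N.mem_of_entries p hp
      have hK : ∀ i j, ι ((g : Matrix (Fin 2) (Fin 2) K) i j) ∈ N.fld p hp :=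
        fun i j => (hι _).2 ⟨_, rfl⟩
      intro i j
      fin_cases i <;> fin_cases j
      · change ((dd (sroot ι hsq g))⁻¹ * lift ι hsq g).1 0 0 ∈ N.fld p hp
        rw [m00, i00, i01, dd11 hr0, dd01 hr0, hmat, hmat]
        have e : (sroot ι hsq g)⁻¹ * (sroot ι hsq g * ι ((g : Matrix (Fin 2) (Fin 2) K) 0 0)) +
            -0 * (sroot ι hsq g * ι ((g : Matrix (Fin 2) (Fin 2) K) 1 0)) =
            ι ((g : Matrix (Fin 2) (Fin 2) K) 0 0) := by field_simp; ring
        rw [e]; exact hK 0 0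
      · change ((dd (sroot ι hsq g))⁻¹ * lift ι hsq g).1 0 1 ∈ N.fld p hp
        rw [m01, i00, i01, dd11 hr0, dd01 hr0, hmat, hmat]
        have e : (sroot ι hsq g)⁻¹ * (sroot ι hsq g * ι ((g : Matrix (Fin 2) (Fin 2) K) 0 1)) +
            -0 * (sroot ι hsq g * ι ((g : Matrix (Fin 2) (Fin 2) K) 1 1)) =
            ι ((g : Matrix (Fin 2) (Fin 2) K) 0 1) := by field_simp; ring
        rw [e]; exact hK 0 1
      · change ((dd (sroot ι hsq g))⁻¹ * lift ι hsq g).1 1 0 ∈ N.fld p hp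
        rw [m10, i10, i11, dd10 hr0, dd00 hr0, hmat, hmat]
        have e : -0 * (sroot ι hsq g * ι ((g : Matrix (Fin 2) (Fin 2) K) 0 0)) +
            sroot ι hsq g * (sroot ι hsq g * ι ((g : Matrix (Fin 2) (Fin 2) K) 1 0)) =
            (sroot ι hsq g) ^ 2 * ι ((g : Matrix (Fin 2) (Fin 2) K) 1 0) := by ring
        rw [e]; exact mul_mem hrK (hK 1 0)
      · change ((dd (sroot ι hsq g))⁻¹ * lift ι hsq g).1 1 1 ∈ N.fld p hp
        rw [m11, i10, i11, dd10 hr0, dd00 hr0, hmat, hmat]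
        have e : -0 * (sroot ι hsq g * ι ((g : Matrix (Fin 2) (Fin 2) K) 0 1)) +
            sroot ι hsq g * (sroot ι hsq g * ι ((g : Matrix (Fin 2) (Fin 2) K) 1 1)) =
            (sroot ι hsq g) ^ 2 * ι ((g : Matrix (Fin 2) (Fin 2) K) 1 1) := by ring
        rw [e]; exact mul_mem hrK (hK 1 1)
    have h3 := Hs.mul_mem hdr h2
    rwa [mul_inv_cancel_left] at h3

end caseii

end Cfsg.Agent.Helper11.Dickson
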