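import Mathlib
import Cfsg.Agent.Lib.Helper11.DicksonN3

set_option autoImplicit false
set_option linter.unusedVariables false
set_option linter.unusedSectionVars false
set_option linter.unusedSimpArgs false

/-! Dickson's theorem, the doubly transitive case in a normalized frame: conclusion. -/

namespace Cfsg.Agent.Helper11.Dickson

open Matrix Matrix.SpecialLinearGroup
open scoped MatrixGroups
open Cfsg.Agent.Helper2.SL2S
open Cfsg.Agent.Helper12
open Cfsg.Agent.Helper28.SubfieldPSL2
open Cfsg.Agent.Helper2.PN (mkn mkn_surjective)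

variable {F : Type*} [Field F] [Fintype F]

/-- a subfield of a finite field as the image of a small field -/
theorem exists_small_field (p : ℕ) [hpf : Fact p.Prime] [CharP F p] (K₀ : Subfield F) :
    ∃ (K : Type) (_ : Field K) (_ : Fintype K) (m : ℕ) (ι : K →+* F),
      Fintype.card K ^ m = Fintype.card F ∧ ∀ x : F, x ∈ K₀ ↔ ∃ y : K, ι y = x := by
  classical
  haveI : Fintype K₀ := Fintype.ofFinite _
  obtain ⟨n, -, hn⟩ := FiniteField.card K₀ p
  haveI : Finite (GaloisField p n) := Nat.finite_of_card_ne_zero (by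
    rw [GaloisField.card p n n.ne_zero]
    exact pow_ne_zero _ hpf.out.ne_zero)
  haveI : Fintype (GaloisField p n) := Fintype.ofFinite _
  have hcard : Fintype.card (GaloisField p n) = Fintype.card K₀ := by
    rw [hn, ← Nat.card_eq_fintype_card]
    exact GaloisField.card p n n.ne_zero
  let e : GaloisField p n ≃+* K₀ := FiniteField.ringEquivOfCardEq hcard
  let ι : GaloisField p n →+* F := K₀.subtype.comp e.toRingHom
  letI : Algebra (GaloisField p n) F := ι.toAlgebra
  refine ⟨GaloisField p n, inferInstance, inferInstance, Module.finrank (GaloisField p n) F, ι, ?_, ?_⟩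
  · exact (Module.card_eq_pow_finrank (K := GaloisField p n) (V := F)).symm
  · intro x
    constructor
    · intro hx
      refine ⟨e.symm ⟨x, hx⟩, ?_⟩
      change (K₀.subtype (e (e.symm ⟨x, hx⟩))) = x
      rw [e.apply_symm_apply]
      rfl
    · rintro ⟨y, rfl⟩
      exact (e y).2

theorem Nrm.main {Hs : Subgroup SL(2, F)} (N : Nrm Hs) (p : ℕ) [hpf : Fact p.Prime] [CharP F p]
    (hp : Odd p) :
    ∃ (K : Type) (_ : Field K) (_ : Fintype K) (m : ℕ), Fintype.card K ^ m = Fintype.card F ∧
      (Nonempty (↥(Hs.map (mkn (ι := Fin 2) (F := F))) ≃*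
          Matrix.ProjectiveSpecialLinearGroup (Fin 2) K) ∨
        Nonempty (↥(Hs.map (mkn (ι := Fin 2) (F := F))) ≃* Matrix.ProjGenLinGroup (Fin 2) K)) := by
  obtain ⟨K, iK, iF, m, ι, hm, hι⟩ := exists_small_field p (N.fld p hp)
  refine ⟨K, iK, iF, m, hm, ?_⟩
  by_cases hT : ∀ t : F, t ≠ 0 → dd t ∈ Hs → t ∈ N.fld p hp
  · left
    rw [map_eq_range_sl ι N p hp hι hT]
    exact ⟨((QuotientGroup.quotientMulEquivOfEq (ker_slToPSL ι)).symm.trans
      (QuotientGroup.quotientKerEquivRange (slToPSL ι))).symm⟩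
  · right
    push Not at hT
    obtain ⟨t0, ht0, hd0, hn0⟩ := hT
    rw [map_eq_range_gl ι N p hp hι t0 ht0 hd0 hn0]
    set hsq := hsq_of_exc ι N p hp hι t0 ht0 hd0 hn0
    have e : GL (Fin 2) K ⧸ Subgroup.center (GL (Fin 2) K) ≃* (glToPSL ι hsq).range :=
      (QuotientGroup.quotientMulEquivOfEq (ker_glToPSL ι hsq)).symm.trans
        (QuotientGroup.quotientKerEquivRange (glToPSL ι hsq))
    exact ⟨e.symm⟩

end Cfsg.Agent.Helper11.Dickson
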