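import Mathlib
import Cfsg.Agent.Lib.Helper11.DicksonN4
import Cfsg.Agent.Lib.Helper11.DicksonB
import Cfsg.Agent.Lib.Helper11.DicksonII

set_option autoImplicit false
set_option linter.unusedVariables false
set_option linter.unusedSectionVars false
set_option linter.unusedSimpArgs false

/-! Dickson's theorem in odd characteristic, the case of several Sylow `p`-subgroups. -/

namespace Cfsg.Agent.Helper11.Dickson

open Matrix Matrix.SpecialLinearGroup
open scoped MatrixGroups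
open Cfsg.Agent.Helper2.SL2S
open Cfsg.Agent.Helper12 Cfsg.Agent.Helper4.DC Cfsg.Agent.Helper4.DSL
open Cfsg.Agent.Helper11.Klein
open Cfsg.Agent.Helper2.PN (mkn mkn_surjective)
open Cfsg.Agent.Helper2.PA (desc desc_mk)

variable {F : Type*} [Field F]

/-- the diagonal matrix `diag(d, 1)` -/
def diagGL (d : F) (hd : d ≠ 0) : GL (Fin 2) F :=
  ⟨!![d, 0; 0, 1], !![d⁻¹, 0; 0, 1], by
    ext i j; fin_cases i <;> fin_cases j <;> simp [hd], by
    ext i j; fin_cases i <;> fin_cases j <;> simp [hd]⟩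

theorem conj_diag_u (d : F) (hd : d ≠ 0) (a : F) : Cfsg.Agent.Helper2.PN.conjSL (diagGL d hd) (u a) = u (d * a) := by
  apply Subtype.ext
  rw [Cfsg.Agent.Helper2.PN.conjSL_coe, u_coe, u_coe]
  change !![d, 0; 0, 1] * !![1, a; 0, 1] * !![d⁻¹, 0; 0, 1] = _
  ext i j; fin_cases i <;> fin_cases j <;> simp [hd]

theorem conj_diag_v (d : F) (hd : d ≠ 0) (b : F) : Cfsg.Agent.Helper2.PN.conjSL (diagGL d hd) (v b) = v (d⁻¹ * b) := by
  apply Subtype.ext
  rw [Cfsg.Agent.Helper2.PN.conjSL_coe, v_coe, v_coe]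
  change !![d, 0; 0, 1] * !![1, 0; b, 1] * !![d⁻¹, 0; 0, 1] = _
  ext i j; fin_cases i <;> fin_cases j <;> simp [hd, mul_comm]

/-- every element of order dividing `p` lies in a Sylow `p`-subgroup -/
theorem exists_sylow_mem {G : Type*} [Group G] (p : ℕ) [Fact p.Prime] (y : G) (hy : y ^ p = 1) :
    ∃ Q : Sylow p G, y ∈ Q := by
  have hz : IsPGroup p (Subgroup.zpowers y) := by
    rintro ⟨z, hz⟩
    obtain ⟨k, rfl⟩ := Subgroup.mem_zpowers_iff.1 hz
    refine ⟨1, ?_⟩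
    apply Subtype.ext
    simp only [pow_one, Subgroup.coe_pow, Subgroup.coe_one]
    rw [← zpow_natCast, ← _root_.zpow_mul, mul_comm, _root_.zpow_mul, zpow_natCast, hy, _root_.one_zpow]
  obtain ⟨Q, hQ⟩ := hz.exists_le_sylow
  exact ⟨Q, hQ (Subgroup.mem_zpowers y)⟩

section nrm

variable [Fintype F] (p : ℕ) [hp : Fact p.Prime] [CharP F p]

theorem v_pow_p (b : F) : (v b) ^ p = 1 := by
  rw [v_pow, CharP.cast_eq_zero, zero_mul, v_zero]

/-- the normalized situation from the axioms -/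
theorem nrm_of_ax (hp2 : p ≠ 2) (Hs : Subgroup SL(2, F)) (hneg : negOneSL ∈ Hs) (hu : u 1 ∈ Hs)
    (b : F) (hb : b ≠ 0) (hv : v b ∈ Hs) (P : Sylow p ↥Hs) (hP : (⟨u 1, hu⟩ : ↥Hs) ∈ P)
    (hn : Nat.card (Sylow p ↥Hs) = Nat.card (P : Subgroup ↥Hs) + 1) : Nrm Hs where
  neg := hneg
  u1 := hu
  vb := ⟨b, hb, hv⟩
  R := by
    intro h hh h10
    have ax : Ax p (ZZ Hs) := ax_of_subgroup p hp2
    have hs1 : (1 : SL(2, F)) * ((⟨u 1, hu⟩ : ↥Hs) : SL(2, F)) * 1⁻¹ = u 1 := by simp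
    have hPU := sylow_eq_Uhat p hp2 P ⟨u 1, hu⟩ hP 1 1 one_ne_zero hs1
    have hNB := normalizer_eq_Bhat p hp2 P ⟨u 1, hu⟩ hP 1 1 one_ne_zero hs1
    obtain ⟨Q, hyQ⟩ := exists_sylow_mem p (⟨v b, hv⟩ : ↥Hs) (by
      apply Subtype.ext
      simpa using v_pow_p p b)
    have hQP : Q ≠ P := by
      rintro rfl
      have : (⟨v b, hv⟩ : ↥Hs) ∈ (Q : Subgroup ↥Hs) := hyQ
      rw [hPU, mem_Uhat] at this
      obtain ⟨t, ht⟩ := this
      have h2 := congrArg (fun y : SL(2, F) => y.1 1 0) ht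
      simp only [one_mul, inv_one, mul_one] at h2
      rw [v10, u10] at h2
      exact hb h2
    have hR : (⟨h, hh⟩ : ↥Hs) • P ≠ P := by
      intro h1
      rw [Sylow.smul_eq_iff_mem_normalizer] at h1
      have : (⟨h, hh⟩ : ↥Hs) ∈ Bhat Hs 1 := hNB ▸ h1
      rw [mem_Bhat] at this
      simp only [one_mul, inv_one, mul_one] at this
      exact h10 this
    obtain ⟨a, haP, haQ⟩ := ax.exists_smul_eq P hn Q _ hQP hR
    have haU : a ∈ Uhat Hs 1 := hPU ▸ haP
    obtain ⟨t, ht⟩ := mem_Uhat.1 haU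
    simp only [one_mul, inv_one, mul_one] at ht
    refine ⟨t, ht ▸ a.2, ?_⟩
    -- `g = a⁻¹ h` maps `P` to `Q`
    set g : ↥Hs := a⁻¹ * ⟨h, hh⟩ with hg
    have hgP : g • P = Q := by
      rw [hg, mul_smul, ← haQ, inv_smul_smul]
    have hz : g * ⟨u 1, hu⟩ * g⁻¹ ∈ Q := by
      rw [← hgP, mem_sylow_smul_iff]
      have : g⁻¹ * (g * ⟨u 1, hu⟩ * g⁻¹) * g = ⟨u 1, hu⟩ := by group
      rw [this]; exact hP
    have hc := sub_pGroup_comm p (Q : Subgroup ↥Hs) Q.2 _ hz _ hyQ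
    have hc' : ((g : SL(2, F)) * u 1 * (g : SL(2, F))⁻¹) * v b =
        v b * ((g : SL(2, F)) * u 1 * (g : SL(2, F))⁻¹) := by
      have := congrArg (fun y : ↥Hs => (y : SL(2, F))) hc
      simpa using this
    have h01 := ((commute_v_iff hb _).1 hc').1
    rw [conj_u_coe] at h01
    simp at h01
    have hg00 : (g : SL(2, F)).1 0 0 = h.1 0 0 - t * h.1 1 0 := by
      have : (g : SL(2, F)) = (u t)⁻¹ * h := by
        rw [hg, Subgroup.coe_mul, Subgroup.coe_inv, ht]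
      rw [this, m00, i00, i01, u11, u01]
      ring
    rw [hg00] at h01
    linear_combination h01

end nrm


section main

variable [Fintype F] (p : ℕ) [hp : Fact p.Prime] [CharP F p]

theorem mem_preim_map (H : Subgroup (Matrix.ProjectiveSpecialLinearGroup (Fin 2) F))
    (τ : MulAut SL(2, F)) {x : SL(2, F)} (hx : x ∈ preim H) :
    τ x ∈ preim (H.map (desc SL(2, F) τ).toMonoidHom) := by
  change (QuotientGroup.mk' _ (τ x)) ∈ H.map _
  exact ⟨QuotientGroup.mk' _ x, hx, rfl⟩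

theorem map_preim (H : Subgroup (Matrix.ProjectiveSpecialLinearGroup (Fin 2) F)) :
    (preim H).map (mkn (ι := Fin 2) (F := F)) = H :=
  Subgroup.map_comap_eq_self_of_surjective (QuotientGroup.mk'_surjective _) H

/-- **Dickson, odd characteristic, several Sylow `p`-subgroups.** -/
theorem dickson_odd (hp2 : p ≠ 2)
    (H : Subgroup (Matrix.ProjectiveSpecialLinearGroup (Fin 2) F))
    (hn : 1 < Nat.card (Sylow p ↥(preim H))) :
    Nonempty (H ≃* alternatingGroup (Fin 4)) ∨ Nonempty (H ≃* Equiv.Perm (Fin 4)) ∨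
    Nonempty (H ≃* alternatingGroup (Fin 5)) ∨
    ∃ (K : Type) (_ : Field K) (_ : Fintype K) (m : ℕ), Fintype.card K ^ m = Fintype.card F ∧
      (Nonempty (H ≃* Matrix.ProjectiveSpecialLinearGroup (Fin 2) K) ∨
        Nonempty (H ≃* Matrix.ProjGenLinGroup (Fin 2) K)) := by
  have ax : Ax p (ZZ (preim H)) := ax_of_subgroup p hp2
  obtain ⟨P⟩ : Nonempty (Sylow p ↥(preim H)) := inferInstance
  have hPne := sylow_ne_bot_of_card P hn
  obtain ⟨⟨x, hx⟩, hxne⟩ := (Subgroup.ne_bot_iff_exists_ne_one).1 hPne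
  have hx1 : x ≠ 1 := fun h => hxne (Subtype.ext h)
  obtain ⟨Q, hQ⟩ : ∃ Q : Sylow p ↥(preim H), Q ≠ P := by
    by_contra hall
    push Not at hall
    have : Subsingleton (Sylow p ↥(preim H)) := ⟨fun a b => (hall a).trans (hall b).symm⟩
    have := Finite.card_le_one_iff_subsingleton.2 this
    omega
  have hQne := sylow_ne_bot_of_card Q hn
  obtain ⟨⟨y, hy⟩, hyne⟩ := (Subgroup.ne_bot_iff_exists_ne_one).1 hQne
  have hy1 : y ≠ 1 := fun h => hyne (Subtype.ext h)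
  obtain ⟨k, hk⟩ := pow_eq_one_of_mem_sylow P hx
  have hxp : (x : SL(2, F)) ^ p = 1 := sub_pow_p p x k hk
  obtain ⟨k', hk'⟩ := pow_eq_one_of_mem_sylow Q hy
  have hyp : (y : SL(2, F)) ^ p = 1 := sub_pow_p p y k' hk'
  have hnc : x * y ≠ y * x := by
    intro hc
    have h1 : x ∈ Cen y := by rw [mem_Cen]; exact hc.symm
    rw [ax.cen_of_mem_sylow Q hy hy1] at h1
    have hxQ := ax.mem_of_mem_sup Q.2 h1 k hk
    exact hQ (ax.sylow_eq_of_mem P Q hx hxQ hx1).symm
  have hnc' : (x : SL(2, F)) * y ≠ y * x := by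
    intro h
    apply hnc
    apply Subtype.ext
    simpa only [Subgroup.coe_mul] using h
  obtain ⟨s, a, b, ha, hb, hxs, hys⟩ :=
    exists_conj_u_v p (x : SL(2, F)) y hxp (coe_ne_one hx1) hyp hnc'
  set τ : MulAut SL(2, F) :=
    Cfsg.Agent.Helper2.PN.conjSL (diagGL a⁻¹ (inv_ne_zero ha)) * MulAut.conj s with hτ
  have hτx : τ (x : SL(2, F)) = u 1 := by
    rw [hτ, MulAut.mul_apply, MulAut.conj_apply, hxs, conj_diag_u, inv_mul_cancel₀ ha]
  have hτy : τ (y : SL(2, F)) = v (a * b) := by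
    rw [hτ, MulAut.mul_apply, MulAut.conj_apply, hys, conj_diag_v, inv_inv]
  set H' := H.map (desc SL(2, F) τ).toMonoidHom with hH'
  have eH : H ≃* H' := H.equivMapOfInjective _ (MulEquiv.injective _)
  have hu : u 1 ∈ preim H' := hτx ▸ mem_preim_map H τ x.2
  have hv : v (a * b) ∈ preim H' := hτy ▸ mem_preim_map H τ y.2
  have hneg : negOneSL ∈ preim H' := center_le_preim H' negOne_mem_center
  have hab : a * b ≠ 0 := mul_ne_zero ha hb
  obtain ⟨P', hP'⟩ := exists_sylow_mem p (⟨u 1, hu⟩ : ↥(preim H')) (by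
    apply Subtype.ext
    simpa using u_pow_p p (1 : F))
  obtain ⟨Q', hQ'⟩ := exists_sylow_mem p (⟨v (a * b), hv⟩ : ↥(preim H')) (by
    apply Subtype.ext
    simpa using v_pow_p p (a * b))
  have hncuv : (⟨u 1, hu⟩ : ↥(preim H')) * ⟨v (a * b), hv⟩ ≠ ⟨v (a * b), hv⟩ * ⟨u 1, hu⟩ := by
    intro hc
    have h1 : u (1 : F) * v (a * b) = v (a * b) * u 1 := by
      have := congrArg (fun y : ↥(preim H') => (y : SL(2, F))) hc
      simpa using this
    have h2 := ((commute_u_iff (one_ne_zero : (1 : F) ≠ 0) (v (a * b))).1 h1.symm).1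
    rw [v10] at h2
    exact hab h2
  have hQP' : Q' ≠ P' := by
    rintro rfl
    exact hncuv (sub_pGroup_comm p (Q' : Subgroup ↥(preim H')) Q'.2 _ hP' _ hQ')
  have hn' : 1 < Nat.card (Sylow p ↥(preim H')) := by
    haveI : Nontrivial (Sylow p ↥(preim H')) := ⟨⟨Q', P', hQP'⟩⟩
    exact Finite.one_lt_card
  have ax' : Ax p (ZZ (preim H')) := ax_of_subgroup p hp2
  rcases ax'.main P' hn' with hcase | ⟨hP3, -⟩
  · -- the doubly transitive case
    have N := nrm_of_ax p hp2 (preim H') hneg hu (a * b) hab hv P' hP' hcase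
    obtain ⟨K, iK, iF, m, hm, hK⟩ := N.main p (hp.out.odd_of_ne_two hp2)
    right; right; right
    refine ⟨K, iK, iF, m, hm, ?_⟩
    have hmap : (preim H').map (mkn (ι := Fin 2) (F := F)) = H' := map_preim H'
    rcases hK with ⟨⟨e⟩⟩ | ⟨⟨e⟩⟩
    · left; exact ⟨eH.trans ((MulEquiv.subgroupCongr hmap).symm.trans e)⟩
    · right; exact ⟨eH.trans ((MulEquiv.subgroupCongr hmap).symm.trans e)⟩
  · -- the exceptional case
    obtain rfl : p = 3 := by
      obtain ⟨n, hn''⟩ := IsPGroup.iff_card.1 P'.2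
      rw [hP3] at hn''
      have : p ∣ 3 := by
        rcases Nat.eq_zero_or_pos n with h0 | h0
        · rw [h0, pow_zero] at hn''; omega
        · rw [hn'']; exact dvd_pow_self p h0.ne'
      exact (Nat.prime_dvd_prime_iff_eq hp.out Nat.prime_three).1 this
    have h3 : ∀ Q : Subgroup ↥(preim H'), IsPGroup 3 Q → Nat.card Q ∣ 3 := by
      intro Q0 hQ0
      obtain ⟨P'', hP''⟩ := hQ0.exists_le_sylow
      have h1 : Nat.card (P'' : Subgroup ↥(preim H')) = 3 := by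
        rw [Sylow.card_eq_multiplicity, ← Sylow.card_eq_multiplicity P', hP3]
      rw [← h1]
      exact Subgroup.card_dvd_of_le hP''
    have hx3 : (⟨u 1, hu⟩ : ↥(preim H')) ^ 3 = 1 := by
      apply Subtype.ext
      simpa using u_pow_p 3 (1 : F)
    have hy3 : (⟨v (a * b), hv⟩ : ↥(preim H')) ^ 3 = 1 := by
      apply Subtype.ext
      simpa using v_pow_p 3 (a * b)
    rcases caseB H' h3 _ _ hx3 hy3 hncuv with ⟨⟨e⟩⟩ | ⟨⟨e⟩⟩ | ⟨⟨e⟩⟩
    · left; exact ⟨eH.trans e⟩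
    · right; left; exact ⟨eH.trans e⟩
    · right; right; left; exact ⟨eH.trans e⟩

end main

end Cfsg.Agent.Helper11.Dickson
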