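import Mathlib
import Cfsg.Agent.Lib.Helper11.KleinPSL2
import Cfsg.Agent.Lib.Helper11.DicksonN1
import Cfsg.Agent.Lib.Helper22.BSWTrans

set_option autoImplicit false
set_option linter.unusedVariables false
set_option linter.unusedSectionVars false
set_option linter.unusedSimpArgs false

/-! Dickson's theorem in characteristic two: basic facts. -/

namespace Cfsg.Agent.Helper11.Dickson

open Matrix Matrix.SpecialLinearGroup
open scoped MatrixGroups
open Cfsg.Agent.Helper2.SL2S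
open Cfsg.Agent.Helper12 Cfsg.Agent.Helper4.DC Cfsg.Agent.Helper4.DSL
open Cfsg.Agent.Helper11.Klein
open Cfsg.Agent.Helper22.BSW (CIT IsInv Big)

variable {F : Type*} [Field F]

section general

variable [Fintype F] {Hs : Subgroup SL(2, F)}

/-- the diagonal character of the Borel subgroup -/
noncomputable def diagHom (Hs : Subgroup SL(2, F)) (s : SL(2, F)) : ↥(Bhat Hs s) →* Fˣ :=
  MonoidHom.mk' (fun x => Units.mk0 ((s * ((x : ↥Hs) : SL(2, F)) * s⁻¹).1 0 0)
    (left_ne_zero_of_mul_eq_one (upper_det _ (mem_Bhat.1 x.2)))) (by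
    intro x y
    apply Units.ext
    simp only [Units.val_mk0, Units.val_mul]
    have e : s * (((x * y : ↥(Bhat Hs s)) : ↥Hs) : SL(2, F)) * s⁻¹ =
        (s * ((x : ↥Hs) : SL(2, F)) * s⁻¹) * (s * ((y : ↥Hs) : SL(2, F)) * s⁻¹) := by
      simp only [Subgroup.coe_mul]; group
    rw [e, m00, mem_Bhat.1 y.2, mul_zero, add_zero])

theorem diagHom_apply (s : SL(2, F)) (x : ↥(Bhat Hs s)) :
    ((diagHom Hs s x : Fˣ) : F) = (s * ((x : ↥Hs) : SL(2, F)) * s⁻¹).1 0 0 := rfl

theorem ker_diagHom (s : SL(2, F)) :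
    (diagHom Hs s).ker = (Uhat Hs s).subgroupOf (Bhat Hs s) := by
  ext x
  rw [MonoidHom.mem_ker, Subgroup.mem_subgroupOf, mem_Uhat]
  constructor
  · intro h
    have h00 : (s * ((x : ↥Hs) : SL(2, F)) * s⁻¹).1 0 0 = 1 := by
      rw [← diagHom_apply, h]; rfl
    have h10 := mem_Bhat.1 x.2
    have hdet := upper_det _ h10
    rw [h00, one_mul] at hdet
    refine ⟨(s * ((x : ↥Hs) : SL(2, F)) * s⁻¹).1 0 1, ?_⟩
    apply sl2_ext
    · rw [h00, u00]
    · rw [u01]
    · rw [h10, u10]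
    · rw [hdet, u11]
  · rintro ⟨t, ht⟩
    apply Units.ext
    rw [diagHom_apply, ht, u00]; rfl

theorem card_Bhat (s : SL(2, F)) :
    ∃ e : ℕ, e ∣ Fintype.card F - 1 ∧
      Nat.card (Bhat Hs s) = Nat.card (Uhat Hs s) * e := by
  refine ⟨Nat.card (diagHom Hs s).range, ?_, ?_⟩
  · have := Subgroup.card_subgroup_dvd_card (diagHom Hs s).range
    rw [Nat.card_units, Nat.card_eq_fintype_card (α := F)] at this
    exact this
  · have h1 := Subgroup.card_eq_card_quotient_mul_card_subgroup (diagHom Hs s).ker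
    rw [Nat.card_congr (QuotientGroup.quotientKerEquivRange (diagHom Hs s)).toEquiv,
      ker_diagHom,
      Nat.card_congr (Subgroup.subgroupOfEquivOfLe (Uhat_le_Bhat (Hs := Hs) s)).toEquiv] at h1
    rw [h1, mul_comm]

end general

section sylow

variable [Fintype F] (p : ℕ) [hp : Fact p.Prime] [CharP F p] {Hs : Subgroup SL(2, F)}

/-- the normaliser of a Sylow subgroup equal to `Uhat` is `Bhat` -/
theorem normalizer_eq_Bhat' (P : Sylow p ↥Hs) (c : ↥Hs) (hc : c ∈ P) (s : SL(2, F))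
    (a : F) (ha : a ≠ 0) (hs : s * (c : SL(2, F)) * s⁻¹ = u a)
    (hPU : (P : Subgroup ↥Hs) = Uhat Hs s) :
    Subgroup.normalizer ((P : Subgroup ↥Hs) : Set ↥Hs) = Bhat Hs s := by
  apply le_antisymm
  · intro n hn
    rw [mem_Bhat]
    have h1 : n * c * n⁻¹ ∈ (P : Subgroup ↥Hs) := (Subgroup.mem_normalizer_iff.1 hn c).1 hc
    rw [hPU, mem_Uhat] at h1
    obtain ⟨t, ht⟩ := h1
    have e : s * ((n * c * n⁻¹ : ↥Hs) : SL(2, F)) * s⁻¹ =
        (s * (n : SL(2, F)) * s⁻¹) * u a * (s * (n : SL(2, F)) * s⁻¹)⁻¹ := by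
      rw [← hs]
      simp only [Subgroup.coe_mul, Subgroup.coe_inv]
      group
    rw [e] at ht
    have h2 := congrArg (fun x : SL(2, F) => (x : Matrix (Fin 2) (Fin 2) F) 1 0) ht
    simp only [conj_u_coe, u_coe] at h2
    simp at h2
    rcases h2 with h3 | h3
    · exact absurd h3 ha
    · exact h3
  · have key : ∀ x : ↥Hs, x ∈ Bhat Hs s → ∀ y ∈ (P : Subgroup ↥Hs),
        x * y * x⁻¹ ∈ (P : Subgroup ↥Hs) := by
      intro x hx y hy
      rw [hPU, mem_Uhat] at hy ⊢
      obtain ⟨t, ht⟩ := hy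
      rw [mem_Bhat] at hx
      refine ⟨t * (s * (x : SL(2, F)) * s⁻¹).1 0 0 * (s * (x : SL(2, F)) * s⁻¹).1 0 0, ?_⟩
      rw [← conj_u_of_lower_zero _ hx, ← ht]
      simp only [Subgroup.coe_mul, Subgroup.coe_inv]
      group
    intro x hx
    rw [Subgroup.mem_normalizer_iff]
    intro y
    constructor
    · exact key x hx y
    · intro hy
      have := key x⁻¹ (Subgroup.inv_mem _ hx) _ hy
      have e : x⁻¹ * (x * y * x⁻¹) * x⁻¹⁻¹ = y := by group
      rwa [e] at this

end sylow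

section two

variable [Fintype F] [h2p : Fact (Nat.Prime 2)] [CharP F 2] {Hs : Subgroup SL(2, F)}

theorem negOne_eq_one_two : (negOneSL : SL(2, F)) = 1 := by
  apply Subtype.ext
  rw [negOneSL_coe, coe_one]
  have h : (-1 : F) = 1 := by
    have : ((2 : ℕ) : F) = 0 := CharP.cast_eq_zero F 2
    push_cast at this
    linear_combination (-1 : F) * this
  ext i j
  fin_cases i <;> fin_cases j <;> simp [h]

/-- matrices commuting with `u a` in characteristic two -/
theorem cent_two {a : F} (ha : a ≠ 0) (k : SL(2, F)) (hc : k * u a = u a * k) :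
    ∃ t : F, k = u t := by
  rcases eq_u_or_neg_of_commute ha k hc with h | ⟨t, ht⟩
  · exact h
  · exact ⟨t, by rw [ht, negOne_eq_one_two, one_mul]⟩

theorem u_mul_self_two (t : F) : u t * u t = 1 := by
  rw [← u_add]
  have : t + t = 0 := by
    have h : ((2 : ℕ) : F) = 0 := CharP.cast_eq_zero F 2
    push_cast at h
    linear_combination t * h
  rw [this, u_zero]

/-- involution centralisers are elementary abelian -/
theorem cit_two : CIT ↥Hs := by
  intro t ht
  have ht1 : (t : SL(2, F)) ≠ 1 := coe_ne_one ht.1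
  have ht2 : (t : SL(2, F)) ^ 2 = 1 := by
    rw [pow_two]
    have := congrArg (fun y : ↥Hs => (y : SL(2, F))) ht.2
    simpa using this
  obtain ⟨s, a, ha, hs⟩ := exists_conj_u 2 (t : SL(2, F)) ht2 ht1
  have key : ∀ c ∈ Subgroup.centralizer ({t} : Set ↥Hs), ∃ r : F, s * (c : SL(2, F)) * s⁻¹ = u r := by
    intro c hc
    rw [Subgroup.mem_centralizer_singleton_iff] at hc
    have hc' : (c : SL(2, F)) * t = t * c := by
      have := congrArg (fun y : ↥Hs => (y : SL(2, F))) hc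
      simpa using this
    apply cent_two ha
    rw [← hs]
    calc s * (c : SL(2, F)) * s⁻¹ * (s * (t : SL(2, F)) * s⁻¹)
        = s * ((c : SL(2, F)) * t) * s⁻¹ := by group
      _ = s * ((t : SL(2, F)) * c) * s⁻¹ := by rw [hc']
      _ = _ := by group
  have hback : ∀ y z : ↥Hs, s * (y : SL(2, F)) * s⁻¹ = s * (z : SL(2, F)) * s⁻¹ → y = z := by
    intro y z h
    apply Subtype.ext
    have : (y : SL(2, F)) = s⁻¹ * (s * (y : SL(2, F)) * s⁻¹) * s := by group
    rw [this, h]; group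
  constructor
  · intro x hx y hy
    obtain ⟨r, hr⟩ := key x hx
    obtain ⟨r', hr'⟩ := key y hy
    apply hback
    have e1 : s * ((x * y : ↥Hs) : SL(2, F)) * s⁻¹ =
        (s * (x : SL(2, F)) * s⁻¹) * (s * (y : SL(2, F)) * s⁻¹) := by
      simp only [Subgroup.coe_mul]; group
    have e2 : s * ((y * x : ↥Hs) : SL(2, F)) * s⁻¹ =
        (s * (y : SL(2, F)) * s⁻¹) * (s * (x : SL(2, F)) * s⁻¹) := by
      simp only [Subgroup.coe_mul]; group
    rw [e1, e2, hr, hr', ← u_add, ← u_add, add_comm]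
  · intro c hc
    obtain ⟨r, hr⟩ := key c hc
    apply hback
    have e1 : s * ((c * c : ↥Hs) : SL(2, F)) * s⁻¹ =
        (s * (c : SL(2, F)) * s⁻¹) * (s * (c : SL(2, F)) * s⁻¹) := by
      simp only [Subgroup.coe_mul]; group
    rw [e1, hr, u_mul_self_two]
    simp

/-- the frame of a Sylow `2`-subgroup -/
theorem sylow_eq_Uhat_two (P : Sylow 2 ↥Hs) (c : ↥Hs) (hc : c ∈ P) (s : SL(2, F)) (a : F)
    (ha : a ≠ 0) (hs : s * (c : SL(2, F)) * s⁻¹ = u a) : (P : Subgroup ↥Hs) = Uhat Hs s := by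
  symm
  apply P.is_maximal' (isPGroup_Uhat 2 s)
  intro x hx
  rw [mem_Uhat]
  have hcomm : x * c = c * x := sub_pGroup_comm 2 P P.2 x hx c hc
  have hcomm' : (x : SL(2, F)) * c = c * x := by
    have := congrArg (fun y : ↥Hs => (y : SL(2, F))) hcomm
    simpa using this
  apply cent_two ha
  rw [← hs]
  calc s * (x : SL(2, F)) * s⁻¹ * (s * (c : SL(2, F)) * s⁻¹)
      = s * ((x : SL(2, F)) * c) * s⁻¹ := by group
    _ = s * ((c : SL(2, F)) * x) * s⁻¹ := by rw [hcomm']
    _ = _ := by group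

/-- the centre is trivial -/
theorem ZZ_eq_bot_two : ZZ Hs = ⊥ := by
  rw [eq_bot_iff]
  intro x hx
  rw [Subgroup.mem_bot]
  have h1 : IsScalar2 ((x : SL(2, F)) : Matrix (Fin 2) (Fin 2) F) := mem_ZZ_iff.1 hx
  apply Subtype.ext
  have h3 : (-1 : F) = 1 := by
    have : ((2 : ℕ) : F) = 0 := CharP.cast_eq_zero F 2
    push_cast at this
    linear_combination (-1 : F) * this
  have h4 : (x : SL(2, F)).1 0 0 = 1 := by
    rcases scalar_SL2_entry _ h1 with h | h
    · exact h
    · rw [h, h3]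
  apply sl2_ext
  · rw [h4]; simp
  · rw [h1.1]; simp
  · rw [h1.2.1]; simp
  · rw [← h1.2.2, h4]; simp

/-- the subgroup is isomorphic to its preimage -/
theorem nonempty_equiv_preim_two (H : Subgroup (Matrix.ProjectiveSpecialLinearGroup (Fin 2) F)) :
    Nonempty (↥(preim H) ≃* ↥H) := by
  obtain ⟨e⟩ := nonempty_quot_equiv H
  exact ⟨((QuotientGroup.quotientMulEquivOfEq (ZZ_eq_bot_two (Hs := preim H))).trans
    (QuotientGroup.quotientBot)).symm.trans e⟩

end two

end Cfsg.Agent.Helper11.Dickson
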