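import Mathlib
import Cfsg.Agent.Lib.Helper11.DicksonIV1
import Cfsg.Agent.S1230

set_option autoImplicit false
set_option linter.unusedVariables false
set_option linter.unusedSectionVars false
set_option linter.unusedSimpArgs false

/-! Dickson's theorem in characteristic two: noncyclic, non-normal Sylow `2`-subgroups. -/

namespace Cfsg.Agent.Helper11.Dickson

open Matrix Matrix.SpecialLinearGroup
open scoped MatrixGroups
open Cfsg.Agent.Helper2.SL2S
open Cfsg.Agent.Helper12 Cfsg.Agent.Helper4.DC Cfsg.Agent.Helper4.DSL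
open Cfsg.Agent.Helper11.Klein
open Cfsg.Agent.Helper22.BSW (CIT IsInv Big)

variable {F : Type*} [Field F] [Fintype F] [h2p : Fact (Nat.Prime 2)] [CharP F 2]
  {Hs : Subgroup SL(2, F)}

/-- `2^k - 1 ∣ 2^n - 1` forces `k ∣ n` -/
theorem dvd_of_pow_sub_one_dvd {k n : ℕ} (h : 2 ^ k - 1 ∣ 2 ^ n - 1) : k ∣ n := by
  have h1 := Nat.pow_sub_one_gcd_pow_sub_one 2 k n
  rw [Nat.gcd_eq_left h] at h1
  have h2 : 2 ^ k = 2 ^ Nat.gcd k n := by
    have a1 : 1 ≤ 2 ^ k := Nat.one_le_two_pow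
    have a2 : 1 ≤ 2 ^ Nat.gcd k n := Nat.one_le_two_pow
    omega
  have h3 : k = Nat.gcd k n := Nat.pow_right_injective (le_refl 2) h2
  rw [h3]
  exact Nat.gcd_dvd_right k n

theorem two_noncyclic (T : Sylow 2 ↥Hs) (hnc : ¬ IsCyclic (T : Subgroup ↥Hs))
    (hnn : ¬ (T : Subgroup ↥Hs).Normal) :
    ∃ (K : Type) (_ : Field K) (_ : Fintype K) (m : ℕ), Fintype.card K ^ m = Fintype.card F ∧
      Nonempty (↥Hs ≃* Matrix.ProjectiveSpecialLinearGroup (Fin 2) K) := by
  classical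
  have hC : CIT ↥Hs := cit_two
  have hC' : ∀ t : ↥Hs, orderOf t = 2 →
      IsMulCommutative (Subgroup.centralizer ({t} : Set ↥Hs)) ∧
        ∀ c ∈ Subgroup.centralizer ({t} : Set ↥Hs), c ^ 2 = 1 := by
    intro t ht
    obtain ⟨h1, h2⟩ := hC t (Cfsg.Agent.Helper22.BSW.isInv_iff_orderOf.2 ht)
    refine ⟨⟨⟨fun a b => Subtype.ext (h1 a a.2 b b.2)⟩⟩, fun c hc => ?_⟩
    rw [pow_two]; exact h2 c hc
  obtain ⟨K, iK, iF, hK, ⟨e⟩⟩ := Cfsg.Agent.S1230.result T hnc hnn hC'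
  -- the Sylow 2-subgroups have at least three elements
  have hT3 : 3 ≤ Nat.card T := by
    by_contra hlt
    push Not at hlt
    have hpos : 0 < Nat.card T := Nat.card_pos
    apply hnc
    interval_cases h : Nat.card T
    · haveI : Subsingleton T := (Nat.card_eq_one_iff_unique.mp h).1
      exact isCyclic_of_subsingleton
    · exact isCyclic_of_prime_card h
  have hB : Big ↥Hs := by
    intro P
    have hcard : Nat.card P = Nat.card T := by
      rw [Sylow.card_eq_multiplicity, Sylow.card_eq_multiplicity]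
    have h3 : 2 < Nat.card P := by omega
    haveI : Finite P := inferInstance
    letI : Fintype P := Fintype.ofFinite _
    rw [Nat.card_eq_fintype_card, Fintype.two_lt_card_iff] at h3
    obtain ⟨a, b, c, hab, hac, hbc⟩ := h3
    have key : ∀ x y : P, x ≠ y → x ≠ 1 → y ≠ 1 →
        ∃ t t' : ↥Hs, t ∈ P ∧ t' ∈ P ∧ IsInv t ∧ IsInv t' ∧ t ≠ t' := by
      intro x y hxy hx hy
      refine ⟨x, y, x.2, y.2,
        Cfsg.Agent.Helper22.BSW.isInv_of_mem hC P x.2 (fun h => hx (Subtype.ext h)),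
        Cfsg.Agent.Helper22.BSW.isInv_of_mem hC P y.2 (fun h => hy (Subtype.ext h)),
        fun h => hxy (Subtype.ext h)⟩
    by_cases ha : a = 1
    · exact key b c hbc (fun h => hab (ha.trans h.symm)) (fun h => hac (ha.trans h.symm))
    · by_cases hb : b = 1
      · exact key a c hac ha (fun h => hbc (hb.trans h.symm))
      · exact key a b hab ha hb
  obtain ⟨Q, hQ⟩ : ∃ Q : Sylow 2 ↥Hs, T ≠ Q := by
    by_contra hcon
    push Not at hcon
    haveI : Subsingleton (Sylow 2 ↥Hs) := ⟨fun A B => (hcon A).symm.trans (hcon B)⟩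
    exact hnn (Sylow.normal_of_subsingleton T)
  have hn2 : Nat.card (Sylow 2 ↥Hs) = Nat.card T + 1 :=
    Cfsg.Agent.Helper22.BSW.card_sylow hC hB T Q hQ
  -- the order of `T`
  obtain ⟨k, hk⟩ := IsPGroup.iff_card.1 T.2
  have hk1 : 1 ≤ k := by
    rcases Nat.eq_zero_or_pos k with h0 | h0
    · rw [h0, pow_zero] at hk; omega
    · exact h0
  -- the order of the group
  have hG : Nat.card ↥Hs = Nat.card T * (Nat.card T ^ 2 - 1) := by
    have h1 := Cfsg.Agent.Helper2.card_PSL_mul (F := K) 2 (by norm_num)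
    rw [Fin.prod_univ_two, hK, ← Nat.card_congr e.toEquiv] at h1
    simp only [Fin.val_zero, pow_zero, Fin.val_one, pow_one] at h1
    have hgcd : Nat.gcd 2 (Nat.card T - 1) = 1 := by
      rw [hk]
      obtain ⟨j, rfl⟩ : ∃ j, k = j + 1 := ⟨k - 1, by omega⟩
      have : 2 ^ (j + 1) - 1 = 2 * (2 ^ j - 1) + 1 := by
        have : 1 ≤ 2 ^ j := Nat.one_le_two_pow
        rw [pow_succ]; omega
      rw [this]
      simp
    rw [hgcd, one_mul] at h1
    have hr : 3 ≤ Nat.card T := hT3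
    obtain ⟨r, hr'⟩ : ∃ r, Nat.card T = r + 1 := ⟨Nat.card T - 1, by omega⟩
    rw [hr'] at h1 ⊢
    rw [Nat.add_sub_cancel] at h1
    have e1 : (r + 1) ^ 2 - 1 = r * (r + 2) := by
      have : (r + 1) ^ 2 = r * (r + 2) + 1 := by ring
      omega
    have e2 : (r + 1) ^ 2 - (r + 1) = r * (r + 1) := by
      have : (r + 1) ^ 2 = r * (r + 1) + (r + 1) := by ring
      omega
    rw [e1, e2] at h1
    rw [e1]
    have hr0 : 0 < r := by omega
    apply Nat.eq_of_mul_eq_mul_left hr0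
    rw [h1]; ring
  -- the frame
  have hTne : (T : Subgroup ↥Hs) ≠ ⊥ := by
    intro h
    rw [h, Subgroup.card_bot] at hT3
    omega
  obtain ⟨⟨c, hc⟩, hcne⟩ := (Subgroup.ne_bot_iff_exists_ne_one).1 hTne
  have hc1 : c ≠ 1 := fun h => hcne (Subtype.ext h)
  have hc2 : (c : SL(2, F)) ^ 2 = 1 := by
    rw [pow_two]
    have := congrArg (fun y : ↥Hs => (y : SL(2, F)))
      (Cfsg.Agent.Helper22.BSW.sylow_sq hC T hc)
    simpa using this
  obtain ⟨s, a, ha, hs⟩ := exists_conj_u 2 (c : SL(2, F)) hc2 (coe_ne_one hc1)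
  have hPU := sylow_eq_Uhat_two T c hc s a ha hs
  have hNB := normalizer_eq_Bhat' 2 T c hc s a ha hs hPU
  obtain ⟨e', he', hBc⟩ := card_Bhat (Hs := Hs) s
  rw [← hPU, ← hNB] at hBc
  have hidx := (Subgroup.normalizer ((T : Subgroup ↥Hs) : Set ↥Hs)).card_mul_index
  have hidx2 : (Subgroup.normalizer ((T : Subgroup ↥Hs) : Set ↥Hs)).index =
      Nat.card (Sylow 2 ↥Hs) := (Sylow.card_eq_index_normalizer T).symm
  rw [hidx2, hn2, hBc, hG] at hidx
  -- arithmetic
  have hr : 3 ≤ Nat.card T := hT3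
  have he'' : e' = Nat.card T - 1 := by
    obtain ⟨r, hr'⟩ : ∃ r, Nat.card T = r + 1 := ⟨Nat.card T - 1, by omega⟩
    rw [hr'] at hidx ⊢
    have e1 : (r + 1) ^ 2 - 1 = r * (r + 2) := by
      have : (r + 1) ^ 2 = r * (r + 2) + 1 := by ring
      omega
    rw [e1] at hidx
    rw [Nat.add_sub_cancel]
    have hpos : 0 < (r + 1) * (r + 1 + 1) := by positivity
    apply Nat.eq_of_mul_eq_mul_left hpos
    have h5 : (r + 1) * (r + 1 + 1) * e' = (r + 1) * e' * (r + 1 + 1) := by ring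
    have h6 : (r + 1) * (r + 1 + 1) * r = (r + 1) * (r * (r + 2)) := by ring
    rw [h5, h6, hidx]
  rw [he'', hk] at he'
  obtain ⟨n, -, hn⟩ := FiniteField.card F 2
  rw [hn] at he'
  obtain ⟨m, hm⟩ := dvd_of_pow_sub_one_dvd he'
  refine ⟨K, iK, iF, m, ?_, ⟨e⟩⟩
  rw [hK, hk, hn, ← pow_mul, ← hm]

end Cfsg.Agent.Helper11.Dickson
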