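import Mathlib
import Cfsg.Agent.Lib.Helper11.DicksonIV1
import Cfsg.Agent.Lib.Lead.DihedralRecog

set_option autoImplicit false
set_option linter.unusedVariables false
set_option linter.unusedSectionVars false
set_option linter.unusedSimpArgs false

/-! Dickson's theorem in characteristic two: cyclic, non-normal Sylow `2`-subgroups. -/

namespace Cfsg.Agent.Helper11.Dickson

open Matrix Matrix.SpecialLinearGroup
open scoped MatrixGroups
open Cfsg.Agent.Helper2.SL2S
open Cfsg.Agent.Helper12 Cfsg.Agent.Helper4.DC Cfsg.Agent.Helper4.DSL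
open Cfsg.Agent.Helper11.Klein
open Cfsg.Agent.Helper22.BSW (CIT IsInv Big)

/-- an involution acting without fixed points on a normal subgroup of odd order inverts it -/
theorem inverts_of_fixed_point_free {G : Type*} [Group G] [Finite G] (K : Subgroup G) [K.Normal]
    (t : G) (ht : t * t = 1) (hfix : ∀ x ∈ K, t * x = x * t → x = 1) :
    ∀ z ∈ K, t * z * t⁻¹ = z⁻¹ := by
  have htinv : t⁻¹ = t := inv_eq_of_mul_eq_one_right ht
  let φ : ↥K → ↥K := fun x => ⟨(x : G)⁻¹ * (t * x * t⁻¹),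
    K.mul_mem (K.inv_mem x.2) (Subgroup.Normal.conj_mem inferInstance _ x.2 t)⟩
  have hinj : Function.Injective φ := by
    intro x y hxy
    have h1 : (x : G)⁻¹ * (t * x * t⁻¹) = (y : G)⁻¹ * (t * y * t⁻¹) := congrArg Subtype.val hxy
    have h2 : t * ((y : G) * (x : G)⁻¹) = ((y : G) * (x : G)⁻¹) * t := by
      have e1 : (y : G) * ((x : G)⁻¹ * (t * x * t⁻¹)) * t * (x : G)⁻¹ = (y : G) * (x : G)⁻¹ * t := by
        group
      have e2 : (y : G) * ((y : G)⁻¹ * (t * y * t⁻¹)) * t * (x : G)⁻¹ = t * ((y : G) * (x : G)⁻¹) := by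
        group
      rw [← e1, ← e2, h1]
    have h3 := hfix _ (K.mul_mem y.2 (K.inv_mem x.2)) h2
    apply Subtype.ext
    have : (y : G) = (x : G) := by
      have : (y : G) = ((y : G) * (x : G)⁻¹) * x := by group
      rw [this, h3, one_mul]
    exact this.symm
  have hsurj : Function.Surjective φ := Finite.injective_iff_surjective.1 hinj
  intro z hz
  obtain ⟨x, hx⟩ := hsurj ⟨z, hz⟩
  have hz' : z = (x : G)⁻¹ * (t * x * t⁻¹) := (congrArg Subtype.val hx).symm
  rw [hz', htinv]
  have e1 : t * ((x : G)⁻¹ * (t * x * t)) * t = t * (x : G)⁻¹ * t * x * (t * t) := by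
    group
  rw [e1, ht, mul_one]
  have e2 : ((x : G)⁻¹ * (t * x * t))⁻¹ = t⁻¹ * (x : G)⁻¹ * t⁻¹ * x := by group
  rw [e2, htinv]

variable {F : Type*} [Field F] [Fintype F] [h2p : Fact (Nat.Prime 2)] [CharP F 2]

theorem card_alt_four : Nat.card (alternatingGroup (Fin 4)) = 12 := by
  have h := two_mul_card_alternatingGroup (α := Fin 4)
  rw [Fintype.card_perm, Fintype.card_fin] at h
  rw [Nat.card_eq_fintype_card]
  have : Nat.factorial 4 = 24 := by decide
  omega

theorem card_alt_five : Nat.card (alternatingGroup (Fin 5)) = 60 := by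
  have h := two_mul_card_alternatingGroup (α := Fin 5)
  rw [Fintype.card_perm, Fintype.card_fin] at h
  rw [Nat.card_eq_fintype_card]
  have : Nat.factorial 5 = 120 := by decide
  omega

theorem card_perm_four : Nat.card (Equiv.Perm (Fin 4)) = 24 := by
  rw [Nat.card_eq_fintype_card, Fintype.card_perm, Fintype.card_fin]
  decide

theorem two_cyclic {q : ℕ} (hF : Fintype.card F = q)
    (H : Subgroup (Matrix.ProjectiveSpecialLinearGroup (Fin 2) F))
    (T : Sylow 2 ↥(preim H)) (hcyc : IsCyclic (T : Subgroup ↥(preim H)))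
    (hnn : ¬ (T : Subgroup ↥(preim H)).Normal) :
    ∃ k : ℕ, (k ∣ (q + 1) / Nat.gcd 2 (q - 1) ∨ k ∣ (q - 1) / Nat.gcd 2 (q - 1)) ∧
      Nonempty (H ≃* DihedralGroup k) := by
  classical
  have hC : CIT ↥(preim H) := cit_two
  -- `T` has order two
  have hTne : (T : Subgroup ↥(preim H)) ≠ ⊥ := by
    intro h
    apply hnn
    rw [h]
    infer_instance
  obtain ⟨⟨t, htT⟩, htne⟩ := (Subgroup.ne_bot_iff_exists_ne_one).1 hTne
  have ht1 : t ≠ 1 := fun h => htne (Subtype.ext h)
  have htt : t * t = 1 := Cfsg.Agent.Helper22.BSW.sylow_sq hC T htT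
  have hot : orderOf t = 2 := orderOf_eq_prime (by rw [pow_two]; exact htt) ht1
  have hTcard : Nat.card (T : Subgroup ↥(preim H)) = 2 := by
    obtain ⟨g, hg⟩ := hcyc.exists_generator
    have hg2 : g ^ 2 = 1 := by
      apply Subtype.ext
      rw [pow_two]
      exact Cfsg.Agent.Helper22.BSW.sylow_sq hC T g.2
    have h1 : Nat.card (T : Subgroup ↥(preim H)) = orderOf g := by
      rw [← Nat.card_zpowers, (Subgroup.eq_top_iff' _).2 hg, Subgroup.card_top]
    have h2 : orderOf g ∣ 2 := orderOf_dvd_of_pow_eq_one hg2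
    have h3 : Nat.card (T : Subgroup ↥(preim H)) ≠ 1 := by
      intro h
      exact hTne ((Subgroup.card_eq_one).1 h)
    rw [h1] at h3 ⊢
    rcases (Nat.dvd_prime Nat.prime_two).1 h2 with h | h
    · exact absurd h h3
    · exact h
  have h2dvd : 2 ∣ Nat.card ↥(preim H) := by
    have := Subgroup.card_subgroup_dvd_card (T : Subgroup ↥(preim H))
    rwa [hTcard] at this
  have hmin : (Nat.card ↥(preim H)).minFac = 2 := (Nat.minFac_eq_two_iff _).2 h2dvd
  -- the normal complement
  have hNC := hcyc.normalizer_le_centralizer hmin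
  set K := (MonoidHom.transferSylow T hNC).ker with hKdef
  have hcompl : K.IsComplement' T := IsCyclic.isComplement' hmin hcyc
  have hKodd : ¬ 2 ∣ Nat.card K := MonoidHom.not_dvd_card_ker_transferSylow T hNC
  have hcard : Nat.card K * 2 = Nat.card ↥(preim H) := by
    have := hcompl.card_mul
    rwa [hTcard] at this
  -- the image in `PSL₂`
  let f : ↥(preim H) →* Matrix.ProjectiveSpecialLinearGroup (Fin 2) F :=
    (QuotientGroup.mk' (Subgroup.center (Matrix.SpecialLinearGroup (Fin 2) F))).comp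
      (preim H).subtype
  have hf : Function.Injective f := by
    rw [injective_iff_map_eq_one]
    intro x hx
    have h1 : (x : SL(2, F)) ∈ Subgroup.center SL(2, F) := (QuotientGroup.eq_one_iff _).1 hx
    have h2 : x ∈ ZZ (preim H) := mem_ZZ.2 h1
    rw [ZZ_eq_bot_two, Subgroup.mem_bot] at h2
    exact h2
  have eK : ↥K ≃* ↥(K.map f) := K.equivMapOfInjective f hf
  have hKL : Nat.card ↥(K.map f) = Nat.card K := (Nat.card_congr eK.toEquiv).symm
  have hcop : ¬ 2 ∣ Nat.card ↥(K.map f) := by rw [hKL]; exact hKodd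
  have hKcyc : ∃ k : ℕ, (k ∣ (q + 1) / Nat.gcd 2 (q - 1) ∨ k ∣ (q - 1) / Nat.gcd 2 (q - 1)) ∧
      IsCyclic K ∧ Nat.card K = k := by
    rcases klein_psl2 2 hF (K.map f) hcop with ⟨k, hk, h | ⟨⟨e⟩⟩⟩ | ⟨⟨e⟩⟩ | ⟨⟨e⟩⟩ | ⟨⟨e⟩⟩
    · haveI := h.1
      exact ⟨k, hk, isCyclic_of_surjective eK.symm eK.symm.surjective, by rw [← hKL]; exact h.2⟩
    · exfalso
      apply hcop
      rw [Nat.card_congr e.toEquiv, DihedralGroup.nat_card]
      exact Dvd.intro _ rfl
    · exfalso
      apply hcop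
      rw [Nat.card_congr e.toEquiv, card_alt_four]
      norm_num
    · exfalso
      apply hcop
      rw [Nat.card_congr e.toEquiv, card_perm_four]
      norm_num
    · exfalso
      apply hcop
      rw [Nat.card_congr e.toEquiv, card_alt_five]
      norm_num
  obtain ⟨k, hk, hKc, hKk⟩ := hKcyc
  -- `t` inverts `K`
  have hfix : ∀ x ∈ K, t * x = x * t → x = 1 := by
    intro x hx hcomm
    have h1 : x ∈ Subgroup.centralizer ({t} : Set ↥(preim H)) := by
      rw [Subgroup.mem_centralizer_singleton_iff]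
      exact hcomm.symm
    have h2 := (hC t ⟨ht1, htt⟩).2 x h1
    have h3 : orderOf x ∣ 2 := orderOf_dvd_of_pow_eq_one (by rw [pow_two]; exact h2)
    have h4 : orderOf x ∣ Nat.card K := Subgroup.orderOf_dvd_natCard K hx
    rcases (Nat.dvd_prime Nat.prime_two).1 h3 with h | h
    · exact orderOf_eq_one_iff.1 h
    · exfalso
      rw [h] at h4
      exact hKodd h4
  have hinv := inverts_of_fixed_point_free K t htt hfix
  obtain ⟨a₀, ha₀⟩ := hKc.exists_generator
  have hoa : orderOf (a₀ : ↥(preim H)) = k := by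
    rw [Subgroup.orderOf_coe, ← hKk, ← Nat.card_zpowers, (Subgroup.eq_top_iff' _).2 ha₀,
      Subgroup.card_top]
  have hk0 : k ≠ 0 := by
    rw [← hKk]
    exact Nat.card_pos.ne'
  haveI : NeZero k := ⟨hk0⟩
  have htinv : t⁻¹ = t := inv_eq_of_mul_eq_one_right htt
  have hta : t * (a₀ : ↥(preim H)) * t = (a₀ : ↥(preim H))⁻¹ := by
    have := hinv a₀ a₀.2
    rwa [htinv] at this
  have htn : t ∉ Subgroup.zpowers (a₀ : ↥(preim H)) := by
    intro h
    have h1 : t ∈ K := (Subgroup.zpowers_le.2 a₀.2) h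
    have h4 : orderOf t ∣ Nat.card K := Subgroup.orderOf_dvd_natCard K h1
    rw [hot] at h4
    exact hKodd h4
  have hG : Nat.card ↥(preim H) = 2 * k := by rw [← hcard, hKk, mul_comm]
  obtain ⟨e⟩ := Cfsg.Agent.Lead.nonempty_mulEquiv_dihedral k (a₀ : ↥(preim H)) t hoa htt hta htn hG
  obtain ⟨e'⟩ := nonempty_equiv_preim_two H
  exact ⟨k, hk, ⟨e'.symm.trans e⟩⟩

end Cfsg.Agent.Helper11.Dickson
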