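import Mathlib
import Cfsg.Agent.Lib.Helper11.DicksonIII
import Cfsg.Agent.Lib.Helper11.DicksonIV2
import Cfsg.Agent.Lib.Helper11.DicksonIV3
import Cfsg.Agent.Lib.Helper12.BorelMackey2

set_option autoImplicit false
set_option linter.unusedVariables false
set_option linter.unusedSectionVars false
set_option linter.unusedSimpArgs false

/-! Dickson's theorem with the Borel case in explicit form, and the order of the Borel
subgroup. -/

namespace Cfsg.Agent.Helper11.Dickson

open Matrix Matrix.SpecialLinearGroup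
open scoped MatrixGroups
open Cfsg.Agent.Helper2.SL2S
open Cfsg.Agent.Helper12 Cfsg.Agent.Helper4.DC Cfsg.Agent.Helper4.DSL
open Cfsg.Agent.Helper11.Klein

variable {F : Type*} [Field F] [Fintype F]

/-- **Dickson's theorem**, with the subgroups of Borel type given by a frame. -/
theorem dickson_refined {q : ℕ} (hF : Fintype.card F = q) (p : ℕ) [Fact p.Prime] [CharP F p]
    (H : Subgroup (Matrix.ProjectiveSpecialLinearGroup (Fin 2) F)) :
    (∃ k : ℕ, (k ∣ (q + 1) / Nat.gcd 2 (q - 1) ∨ k ∣ (q - 1) / Nat.gcd 2 (q - 1)) ∧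
      ((IsCyclic H ∧ Nat.card H = k) ∨ Nonempty (H ≃* DihedralGroup k))) ∨
    (p ∣ Nat.card H ∧ ∃ s : SL(2, F), ∀ h ∈ preim H, (s * h * s⁻¹).1 1 0 = 0) ∨
    Nonempty (H ≃* alternatingGroup (Fin 4)) ∨ Nonempty (H ≃* Equiv.Perm (Fin 4)) ∨
    Nonempty (H ≃* alternatingGroup (Fin 5)) ∨
    (∃ (K : Type) (_ : Field K) (_ : Fintype K) (m : ℕ), Fintype.card K ^ m = q ∧
      (Nonempty (H ≃* Matrix.ProjectiveSpecialLinearGroup (Fin 2) K) ∨
        Nonempty (H ≃* Matrix.ProjGenLinGroup (Fin 2) K))) := by
  classical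
  by_cases hcop : p ∣ Nat.card H
  swap
  · rcases klein_psl2 p hF H hcop with h | h | h | h
    · left; exact h
    · right; right; left; exact h
    · right; right; right; left; exact h
    · right; right; right; right; left; exact h
  have hdvd : p ∣ Nat.card ↥(preim H) := by
    rw [card_preim]
    exact Dvd.dvd.mul_right hcop _
  by_cases hn : Nat.card (Sylow p ↥(preim H)) = 1
  · obtain ⟨Q⟩ : Nonempty (Sylow p ↥(preim H)) := inferInstance
    haveI : Subsingleton (Sylow p ↥(preim H)) := (Nat.card_eq_one_iff_unique.1 hn).1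
    have hQn : (Q : Subgroup ↥(preim H)).Normal := Sylow.normal_of_subsingleton Q
    have hQ1 : (Q : Subgroup ↥(preim H)) ≠ ⊥ := Sylow.ne_bot_of_dvd_card Q hdvd
    right; left
    exact ⟨hcop, exists_frame_of_normal p (preim H) Q hQn hQ1⟩
  · have hpos : 0 < Nat.card (Sylow p ↥(preim H)) := Nat.card_pos
    have hn' : 1 < Nat.card (Sylow p ↥(preim H)) := by omega
    by_cases hp2 : p = 2
    · subst hp2
      obtain ⟨T⟩ : Nonempty (Sylow 2 ↥(preim H)) := inferInstance
      have hnn : ¬ (T : Subgroup ↥(preim H)).Normal := by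
        intro h
        haveI : Unique (Sylow 2 ↥(preim H)) := Sylow.unique_of_normal T h
        have hs : Subsingleton (Sylow 2 ↥(preim H)) := inferInstance
        have := Finite.card_le_one_iff_subsingleton.2 hs
        omega
      by_cases hcyc : IsCyclic (T : Subgroup ↥(preim H))
      · obtain ⟨k, hk, e⟩ := two_cyclic hF H T hcyc hnn
        left
        exact ⟨k, hk, Or.inr e⟩
      · obtain ⟨K, iK, iF, m, hm, ⟨e⟩⟩ := two_noncyclic T hcyc hnn
        obtain ⟨e'⟩ := nonempty_equiv_preim_two H
        right; right; right; right; right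
        exact ⟨K, iK, iF, m, by rw [hm, hF], Or.inl ⟨e'.symm.trans e⟩⟩
    · rcases dickson_odd p hp2 H hn' with h | h | h | ⟨K, iK, iF, m, hm, h⟩
      · right; right; left; exact h
      · right; right; right; left; exact h
      · right; right; right; right; left; exact h
      · right; right; right; right; right
        exact ⟨K, iK, iF, m, by rw [hm, hF], h⟩

theorem card_borelSL2 : Nat.card (borelSL2 F) = Fintype.card F * (Fintype.card F - 1) := by
  rw [← Nat.card_congr (borelEquivSL (F := F)), Nat.card_prod, Nat.card_units,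
    Nat.card_eq_fintype_card, mul_comm]

/-- a subgroup which is upper triangular in some frame has order at most `q (q - 1)` -/
theorem card_le_of_frame (Hs : Subgroup SL(2, F)) (s : SL(2, F))
    (hs : ∀ h ∈ Hs, (s * h * s⁻¹).1 1 0 = 0) :
    Nat.card Hs ≤ Fintype.card F * (Fintype.card F - 1) := by
  rw [← card_borelSL2]
  let f : ↥Hs → ↥(borelSL2 F) := fun h =>
    ⟨s * (h : SL(2, F)) * s⁻¹, (mem_borelSL2_iff _).2 (hs h h.2)⟩
  apply Nat.card_le_card_of_injective f
  intro x y hxy
  have h1 : s * (x : SL(2, F)) * s⁻¹ = s * (y : SL(2, F)) * s⁻¹ := congrArg Subtype.val hxy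
  apply Subtype.ext
  have : (x : SL(2, F)) = s⁻¹ * (s * (x : SL(2, F)) * s⁻¹) * s := by group
  rw [this, h1]; group

end Cfsg.Agent.Helper11.Dickson
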