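import Mathlib
import Cfsg.Agent.Lib.Helper11.DicksonRef

set_option autoImplicit false
set_option linter.unusedVariables false
set_option linter.unusedSectionVars false
set_option linter.unusedSimpArgs false

/-! The minimal index of a proper subgroup of `PSL₂(q)`. -/

namespace Cfsg.Agent.Helper11.Dickson

open Matrix Matrix.SpecialLinearGroup
open scoped MatrixGroups
open Cfsg.Agent.Helper2.SL2S
open Cfsg.Agent.Helper12 Cfsg.Agent.Helper4.DC Cfsg.Agent.Helper4.DSL
open Cfsg.Agent.Helper11.Klein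
open Cfsg.Agent.Helper28.SubfieldPSL2 (card_PGL2)

variable {F : Type*} [Field F] [Fintype F]

/-- the order of `PSL₂(F)` -/
theorem card_PSL2_mul :
    Nat.gcd 2 (Fintype.card F - 1) *
        Nat.card (Matrix.ProjectiveSpecialLinearGroup (Fin 2) F) =
      Fintype.card F * (Fintype.card F - 1) * (Fintype.card F + 1) := by
  have h1 := Cfsg.Agent.Helper2.card_PSL_mul (F := F) 2 (by norm_num)
  rw [Fin.prod_univ_two] at h1
  simp only [Fin.val_zero, pow_zero, Fin.val_one, pow_one] at h1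
  have hq : 2 ≤ Fintype.card F := Fintype.one_lt_card
  obtain ⟨r, hr⟩ : ∃ r, Fintype.card F = r + 2 := ⟨Fintype.card F - 2, by omega⟩
  rw [hr] at h1 ⊢
  have e1 : (r + 2) ^ 2 - 1 = (r + 1) * (r + 3) := by
    have : (r + 2) ^ 2 = (r + 1) * (r + 3) + 1 := by ring
    omega
  have e2 : (r + 2) ^ 2 - (r + 2) = (r + 2) * (r + 1) := by
    have : (r + 2) ^ 2 = (r + 2) * (r + 1) + (r + 2) := by ring
    omega
  have e3 : r + 2 - 1 = r + 1 := by omega
  rw [e1, e2, e3] at h1
  rw [e3]
  have hpos : 0 < r + 1 := by omega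
  apply Nat.eq_of_mul_eq_mul_left hpos
  calc (r + 1) * (Nat.gcd 2 (r + 1) *
        Nat.card (Matrix.ProjectiveSpecialLinearGroup (Fin 2) F))
      = Nat.gcd 2 (r + 1) * ((r + 1) *
        Nat.card (Matrix.ProjectiveSpecialLinearGroup (Fin 2) F)) := by ring
    _ = (r + 1) * (r + 3) * ((r + 2) * (r + 1)) := h1
    _ = (r + 1) * ((r + 2) * (r + 1) * (r + 2 + 1)) := by ring

/-- the possible field orders -/
theorem q_cases (p : ℕ) [hp : Fact p.Prime] [CharP F p]
    (hq : Fintype.card F ∉ ({2, 3, 5, 7, 9, 11} : Finset ℕ)) :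
    Fintype.card F = 4 ∨ Fintype.card F = 8 ∨ 13 ≤ Fintype.card F := by
  obtain ⟨n, -, hn⟩ := FiniteField.card F p
  have h2 : 2 ≤ Fintype.card F := Fintype.one_lt_card
  simp only [Finset.mem_insert, Finset.mem_singleton, not_or] at hq
  by_contra hcon
  push Not at hcon
  obtain ⟨h4, h8, h13⟩ := hcon
  have hcases : Fintype.card F = 6 ∨ Fintype.card F = 10 ∨ Fintype.card F = 12 := by omega
  have hpd : p ∣ Fintype.card F := by rw [hn]; exact dvd_pow_self p n.ne_zero
  have heven : 2 ∣ Fintype.card F := by rcases hcases with h | h | h <;> rw [h] <;> norm_num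
  have hp2 : p = 2 := by
    rw [hn] at heven
    exact ((Nat.prime_dvd_prime_iff_eq Nat.prime_two hp.out).1
      (Nat.prime_two.dvd_of_dvd_pow heven)).symm
  rw [hp2] at hn
  have hn4 : (n : ℕ) < 4 := by
    by_contra h
    push Not at h
    have : 2 ^ 4 ≤ 2 ^ (n : ℕ) := Nat.pow_le_pow_right (by norm_num) h
    omega
  have hn' : (n : ℕ) = 0 ∨ (n : ℕ) = 1 ∨ (n : ℕ) = 2 ∨ (n : ℕ) = 3 := by omega
  rcases hn' with h | h | h | h <;> rw [h] at hn <;> omega


theorem gcd_two_cases (n : ℕ) : Nat.gcd 2 n = 1 ∨ Nat.gcd 2 n = 2 := by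
  have h := Nat.gcd_dvd_left 2 n
  rcases (Nat.dvd_prime Nat.prime_two).1 h with h | h
  · exact Or.inl h
  · exact Or.inr h

/-- the order of `PSL₂(K)` is at most `q₀ (q₀² - 1)` -/
theorem card_PSL2_le (K : Type*) [Field K] [Fintype K] :
    Nat.card (Matrix.ProjectiveSpecialLinearGroup (Fin 2) K) ≤
      Fintype.card K * (Fintype.card K - 1) * (Fintype.card K + 1) := by
  rw [← card_PSL2_mul (F := K)]
  rcases gcd_two_cases (Fintype.card K - 1) with h | h <;> rw [h] <;> omega

theorem card_PGL2_eq (K : Type*) [Field K] [Fintype K] :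
    Nat.card (Matrix.ProjGenLinGroup (Fin 2) K) =
      Fintype.card K * (Fintype.card K - 1) * (Fintype.card K + 1) := by
  have h1 := card_PGL2 (K := K)
  have hq : 2 ≤ Fintype.card K := Fintype.one_lt_card
  obtain ⟨r, hr⟩ : ∃ r, Fintype.card K = r + 2 := ⟨Fintype.card K - 2, by omega⟩
  rw [hr] at h1 ⊢
  have e1 : (r + 2) ^ 2 - 1 = (r + 1) * (r + 3) := by
    have : (r + 2) ^ 2 = (r + 1) * (r + 3) + 1 := by ring
    omega
  have e2 : (r + 2) ^ 2 - (r + 2) = (r + 2) * (r + 1) := by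
    have : (r + 2) ^ 2 = (r + 2) * (r + 1) + (r + 2) := by ring
    omega
  have e3 : r + 2 - 1 = r + 1 := by omega
  rw [e1, e2, e3] at h1
  rw [e3]
  have hpos : 0 < r + 1 := by omega
  apply Nat.eq_of_mul_eq_mul_right hpos
  rw [h1]; ring

/-- the order bound for proper subgroups -/
theorem card_bound (p : ℕ) [hp : Fact p.Prime] [CharP F p]
    (hq : Fintype.card F ∉ ({2, 3, 5, 7, 9, 11} : Finset ℕ))
    (H : Subgroup (Matrix.ProjectiveSpecialLinearGroup (Fin 2) F)) (hH : H ≠ ⊤) :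
    Nat.gcd 2 (Fintype.card F - 1) * Nat.card H ≤ Fintype.card F * (Fintype.card F - 1) := by
  have hL := card_PSL2_mul (F := F)
  have hqc := q_cases p hq
  have hd := gcd_two_cases (Fintype.card F - 1)
  have hHpos : 0 < Nat.card H := Nat.card_pos
  have hHle : Nat.card H ≤ Nat.card (Matrix.ProjectiveSpecialLinearGroup (Fin 2) F) :=
    Subgroup.card_le_card_group H
  have hHdvd : Nat.card H ∣ Nat.card (Matrix.ProjectiveSpecialLinearGroup (Fin 2) F) :=
    Subgroup.card_subgroup_dvd_card H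
  have hne : Nat.card H ≠ Nat.card (Matrix.ProjectiveSpecialLinearGroup (Fin 2) F) :=
    fun h => hH (Subgroup.eq_top_of_card_eq H h)
  obtain ⟨q, hF⟩ : ∃ q, Fintype.card F = q := ⟨_, rfl⟩
  rw [hF] at hL hqc hd ⊢
  have hq4 : 4 ≤ q := by omega
  -- the gcd in the small cases
  have hd4 : q = 4 → Nat.gcd 2 (q - 1) = 1 := by rintro rfl; decide
  have hd8 : q = 8 → Nat.gcd 2 (q - 1) = 1 := by rintro rfl; decide
  have hqq : 13 ≤ q → 156 ≤ q * (q - 1) := by
    intro h
    have : 12 ≤ q - 1 := by omega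
    calc 156 = 13 * 12 := by norm_num
      _ ≤ q * (q - 1) := Nat.mul_le_mul h this
  rcases dickson_refined hF p H with ⟨k, hk, hc⟩ | ⟨-, s, hs⟩ | ⟨⟨e⟩⟩ | ⟨⟨e⟩⟩ | ⟨⟨e⟩⟩ |
    ⟨K, iK, iF, m, hm, hK⟩
  · -- cyclic or dihedral
    have hdvd2 : Nat.gcd 2 (q - 1) ∣ q + 1 := by
      rcases hd with h | h
      · rw [h]; exact one_dvd _
      · have h1 : 2 ∣ q - 1 := by rw [← h]; exact Nat.gcd_dvd_right _ _
        rw [h]; omega
    have hpos1 : 0 < (q + 1) / Nat.gcd 2 (q - 1) :=
      Nat.div_pos (Nat.le_of_dvd (by omega) hdvd2) (by rcases hd with h | h <;> omega)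
    have hpos2 : 0 < (q - 1) / Nat.gcd 2 (q - 1) :=
      Nat.div_pos (by rcases hd with h | h <;> omega) (by rcases hd with h | h <;> omega)
    have hkle : Nat.gcd 2 (q - 1) * k ≤ q + 1 := by
      rcases hk with hk | hk
      · have := Nat.le_of_dvd hpos1 hk
        calc Nat.gcd 2 (q - 1) * k ≤ Nat.gcd 2 (q - 1) * ((q + 1) / Nat.gcd 2 (q - 1)) :=
            Nat.mul_le_mul_left _ this
          _ ≤ q + 1 := Nat.mul_div_le _ _
      · have := Nat.le_of_dvd hpos2 hk
        calc Nat.gcd 2 (q - 1) * k ≤ Nat.gcd 2 (q - 1) * ((q - 1) / Nat.gcd 2 (q - 1)) :=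
            Nat.mul_le_mul_left _ this
          _ ≤ q - 1 := Nat.mul_div_le _ _
          _ ≤ q + 1 := by omega
    have hbig : 2 * (q + 1) ≤ q * (q - 1) := by
      obtain ⟨r, rfl⟩ : ∃ r, q = r + 4 := ⟨q - 4, by omega⟩
      have : r + 4 - 1 = r + 3 := by omega
      rw [this]
      nlinarith
    rcases hc with ⟨-, hck⟩ | ⟨⟨e⟩⟩
    · rw [hck]; omega
    · rw [Nat.card_congr e.toEquiv, DihedralGroup.nat_card]
      calc Nat.gcd 2 (q - 1) * (2 * k) = 2 * (Nat.gcd 2 (q - 1) * k) := by ring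
        _ ≤ 2 * (q + 1) := Nat.mul_le_mul_left _ hkle
        _ ≤ q * (q - 1) := hbig
  · -- Borel
    have h1 := card_le_of_frame (preim H) s hs
    rw [card_preim, hF] at h1
    rw [mul_comm]; exact h1
  · -- A4
    rw [Nat.card_congr e.toEquiv, card_alt_four]
    rcases hqc with h | h | h
    · rw [hd4 h, h]
    · rw [hd8 h, h]; norm_num
    · have := hqq h
      rcases hd with h' | h' <;> rw [h'] <;> omega
  · -- S4
    rw [Nat.card_congr e.toEquiv, card_perm_four] at hHdvd ⊢
    rcases hqc with h | h | h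
    · exfalso
      rw [hd4 h, h, one_mul] at hL
      rw [hL] at hHdvd
      omega
    · rw [hd8 h, h]; norm_num
    · have := hqq h
      rcases hd with h' | h' <;> rw [h'] <;> omega
  · -- A5
    rw [Nat.card_congr e.toEquiv, card_alt_five] at hHdvd hne ⊢
    rcases hqc with h | h | h
    · exfalso
      rw [hd4 h, h, one_mul] at hL
      exact hne hL.symm
    · exfalso
      rw [hd8 h, h, one_mul] at hL
      rw [hL] at hHdvd
      omega
    · have := hqq h
      rcases hd with h' | h' <;> rw [h'] <;> omega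
  · -- subfield
    have hq0 : 2 ≤ Fintype.card K := Fintype.one_lt_card
    have hcardH : Nat.card H ≤ Fintype.card K * (Fintype.card K - 1) * (Fintype.card K + 1) := by
      rcases hK with ⟨⟨e⟩⟩ | ⟨⟨e⟩⟩
      · rw [Nat.card_congr e.toEquiv]; exact card_PSL2_le K
      · rw [Nat.card_congr e.toEquiv, card_PGL2_eq K]
    rcases Nat.lt_or_ge m 2 with hm2 | hm2
    · -- m ≤ 1
      exfalso
      have hm1 : m = 1 := by
        rcases Nat.eq_zero_or_pos m with h0 | h0
        · rw [h0, pow_zero] at hm; omega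
        · omega
      rw [hm1, pow_one] at hm
      rcases hK with ⟨⟨e⟩⟩ | ⟨⟨e⟩⟩
      · apply hne
        have h2 := card_PSL2_mul (F := K)
        rw [hm, ← Nat.card_congr e.toEquiv, ← hL] at h2
        exact Nat.eq_of_mul_eq_mul_left (by rcases hd with h' | h' <;> omega) h2
      · have h2 := card_PGL2_eq K
        rw [hm, ← Nat.card_congr e.toEquiv, ← hL] at h2
        rcases hd with h' | h'
        · rw [h', one_mul] at h2
          exact hne h2
        · rw [h'] at h2
          omega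
    · -- m ≥ 2
      have hq2 : Fintype.card K ^ 2 ≤ q := by
        rw [← hm]
        exact Nat.pow_le_pow_right (by omega) hm2
      obtain ⟨r, hr⟩ : ∃ r, Fintype.card K = r + 2 := ⟨Fintype.card K - 2, by omega⟩
      rw [hr] at hcardH hq2
      have e3 : r + 2 - 1 = r + 1 := by omega
      rw [e3] at hcardH
      have h5 : 2 * ((r + 2) * (r + 1) * (r + 2 + 1)) ≤ (r + 2) ^ 2 * ((r + 2) ^ 2 - 1) := by
        have : (r + 2) ^ 2 - 1 = (r + 1) * (r + 3) := by
          have : (r + 2) ^ 2 = (r + 1) * (r + 3) + 1 := by ring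
          omega
        rw [this]
        nlinarith
      have h6 : (r + 2) ^ 2 * ((r + 2) ^ 2 - 1) ≤ q * (q - 1) :=
        Nat.mul_le_mul hq2 (Nat.sub_le_sub_right hq2 1)
      calc Nat.gcd 2 (q - 1) * Nat.card H ≤ 2 * ((r + 2) * (r + 1) * (r + 2 + 1)) := by
            apply Nat.mul_le_mul _ hcardH
            rcases hd with h' | h' <;> omega
        _ ≤ q * (q - 1) := h5.trans h6

end Cfsg.Agent.Helper11.Dickson
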