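import Mathlib

/-!
# S2371 (a self-centralizing cyclic subgroup of order `q² + q + 1` in `G₂(q)`): tables, Mathlib only

Roots of `G₂` are indexed `0 … 11` as in `Cfsg.Lie.chevG2`:
`0: -3a-2b, 1: -3a-b, 2: -2a-b, 3: -a-b, 4: -a, 5: -b, 6: b, 7: a, 8: a+b, 9: 2a+b, 10: 3a+b, 11: 3a+2b`
(`a` short = fundamental root `0` = index `7`, `b` long = fundamental root `1` = index `6`).
-/

set_option autoImplicit false

namespace Cfsg.Agent.Helper11.G2T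

/-- coefficient of `a` in the root `v` -/
def rcA (v : ℕ) : ℤ := ([-3, -3, -2, -1, -1, 0, 0, 1, 1, 2, 3, 3] : List ℤ).getD v 0

/-- coefficient of `b` in the root `v` -/
def rcB (v : ℕ) : ℤ := ([-2, -1, -1, -1, 0, -1, 1, 0, 1, 1, 1, 2] : List ℤ).getD v 0

/-- the rotation by `120°`: the action of the word `[0,1,0,1]` -/
def rot2 : List ℕ := [10, 5, 7, 9, 3, 11, 0, 8, 2, 4, 6, 1]

/-- the rotation by `240°`: the action of the word `[1,0,1,0]` -/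
def rot4 : List ℕ := [6, 11, 8, 4, 9, 1, 10, 2, 7, 3, 0, 5]

/-- the twelve elements of the Weyl group, as lists `v ↦ w v` -/
def wActs : List (List ℕ) :=
  [[0, 1, 2, 3, 4, 5, 6, 7, 8, 9, 10, 11],
   [0, 5, 3, 2, 7, 1, 10, 4, 9, 8, 6, 11],
   [1, 0, 2, 4, 3, 6, 5, 8, 7, 9, 11, 10],
   [5, 0, 3, 7, 2, 10, 1, 9, 4, 8, 11, 6],
   [1, 6, 4, 2, 8, 0, 11, 3, 9, 7, 5, 10],
   [5, 10, 7, 3, 9, 0, 11, 2, 8, 4, 1, 6],
   [6, 1, 4, 8, 2, 11, 0, 9, 3, 7, 10, 5],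
   [10, 5, 7, 9, 3, 11, 0, 8, 2, 4, 6, 1],
   [6, 11, 8, 4, 9, 1, 10, 2, 7, 3, 0, 5],
   [10, 11, 9, 7, 8, 5, 6, 3, 4, 2, 0, 1],
   [11, 6, 8, 9, 4, 10, 1, 7, 2, 3, 5, 0],
   [11, 10, 9, 8, 7, 6, 5, 4, 3, 2, 1, 0]]

/-- the character of the root lattice with values `ξ` at `a` and `η` at `b` -/
def chiXY {K : Type*} [Field K] (ξ η : Kˣ) (v : ℕ) : Kˣ := ξ ^ rcA v * η ^ rcB v

/-- a prime divisor `r ≠ 2, 3` of `q² + q + 1` -/
structure GoodPrime (q r : ℕ) : Prop where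
  prime : r.Prime
  dvd : r ∣ q ^ 2 + q + 1
  ne2 : r ≠ 2
  ne3 : r ≠ 3

theorem rot2_mem : rot2 ∈ wActs := by decide

theorem rot4_mem : rot4 ∈ wActs := by decide

end Cfsg.Agent.Helper11.G2T
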