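import Mathlib
import Cfsg.Agent.Lib.Helper20.E8TDefs
import Cfsg.Agent.Lib.Helper18.E8TPD8
import Cfsg.Agent.S1035

/-!
# S2375 piece CHIB8 (helper11): `T(K) ≅ (Kˣ)⁸` through the values at the fundamental roots of `E₈`
(the `E₈` analogue of `Lib/Helper1/F4TCHIB.lean`)
-/

set_option autoImplicit false
set_option linter.unusedSectionVars false
set_option linter.unusedVariables false

namespace Cfsg.Agent.Helper20.E8T

open Cfsg Cfsg.Lie Cfsg.Agent.Lead.Chev Cfsg.Agent.Lead.Tw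

/-- the column of the Cartan numbers of the root `v` -/
def e8tchib_cart (v : ℕ) : Fin 8 → ℤ := fun i => chevE8.cartan i.val v

theorem e8tchib_cart_table : ∀ v : Fin 240, ∀ i : Fin 8,
    chevE8.cartan i.val v.val = ∑ j : Fin 8, rc v.val j * chevE8.cartan i.val (sIdx j) := by
  decide +kernel

theorem e8tchib_cart_eq (v : ℕ) (hv : v < 240) :
    e8tchib_cart v = ∑ j : Fin 8, rc v j • e8tchib_cart (sIdx j) := by
  funext i
  rw [Finset.sum_apply]
  simp only [Pi.smul_apply, smul_eq_mul]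
  exact e8tchib_cart_table ⟨v, hv⟩ i

theorem e8tchib_cart_simple : ∀ j i : Fin 8, e8tchib_cart (sIdx j) i = C8 i j := by
  decide +kernel

section K

variable {K : Type*} [Field K]

/-- the character of `E₈` in terms of `chiV` -/
theorem e8tchib_chi (u : Fin 8 → Kˣ) (c : ℕ → K) (hu : ∀ i : Fin 8, ((u i : Kˣ) : K) = c i.val) (v : ℕ) :
    chi chevE8 c v = ((chiV u (e8tchib_cart v) : Kˣ) : K) := by
  unfold chi chiV e8tchib_cart
  have : chevE8.rank = 8 := rfl
  rw [this]
  have h0 : ((u 0 : Kˣ) : K) = c 0 := hu 0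
  have h1 : ((u 1 : Kˣ) : K) = c 1 := hu 1
  have h2 : ((u 2 : Kˣ) : K) = c 2 := hu 2
  have h3 : ((u 3 : Kˣ) : K) = c 3 := hu 3
  have h4 : ((u 4 : Kˣ) : K) = c 4 := hu 4
  have h5 : ((u 5 : Kˣ) : K) = c 5 := hu 5
  have h6 : ((u 6 : Kˣ) : K) = c 6 := hu 6
  have h7 : ((u 7 : Kˣ) : K) = c 7 := hu 7
  simp [List.range_succ, mul_assoc, Fin.prod_univ_eight, h0, h1, h2, h3, h4, h5, h6, h7]

theorem e8tchib_ev_Tmat (h : GL chevE8.Idx K) (c : ℕ → K)
    (e : (h : Matrix chevE8.Idx chevE8.Idx K) = Tmat chevE8 c) (v : ℕ) (hv : v < 240) :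
    ev h v = chi chevE8 c v := by
  unfold ev
  have hv' : v < chevE8.nroots := hv
  rw [dif_pos hv', e]
  unfold Tmat
  rw [Matrix.diagonal_apply_eq]
  rfl

/-- the values of `ev` as a character of the root lattice -/
theorem e8tchib_exists_units (h : GL chevE8.Idx K) (hh : h ∈ chevE8.diagonalSubgroup K) :
    ∃ u : Fin 8 → Kˣ, ∀ v < 240, ev h v = ((chiV u (e8tchib_cart v) : Kˣ) : K) := by
  obtain ⟨c, hc, e⟩ := exists_Tmat_of_mem chevE8 (e8F K).hall h hh
  refine ⟨fun i => Units.mk0 (c i.val) (hc i.val i.2), fun v hv => ?_⟩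
  rw [e8tchib_ev_Tmat h c e v hv]
  exact e8tchib_chi _ c (fun i => rfl) v

theorem ev_rc (h : GL chevE8.Idx K) (hh : h ∈ chevE8.diagonalSubgroup K) (v : ℕ) (hv : v < 240) :
    ev h v = ∏ i : Fin 8, ev h (sIdx i) ^ rc v i := by
  obtain ⟨u, hu⟩ := e8tchib_exists_units h hh
  rw [hu v hv, e8tchib_cart_eq v hv, chiV_sum, Units.coe_prod]
  refine Finset.prod_congr rfl fun i _ => ?_
  rw [chiV_zsmul, hu (sIdx i) (sIdx_lt i), Units.val_zpow_eq_zpow_val]

theorem eq_one_of_ev (h : GL chevE8.Idx K) (hh : h ∈ chevE8.diagonalSubgroup K)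
    (h1 : ∀ i : Fin 8, ev h (sIdx i) = 1) : h = 1 := by
  obtain ⟨c, hc, e⟩ := exists_Tmat_of_mem chevE8 (e8F K).hall h hh
  apply Units.ext
  rw [e, Units.val_one, ← Matrix.diagonal_one]
  unfold Tmat
  congr 1
  funext idx
  rcases idx with i | v
  · rfl
  · have hv : v.val < 240 := v.2
    have h4 := ev_rc h hh v.val hv
    simp only [h1, one_zpow, Finset.prod_const_one] at h4
    rw [e8tchib_ev_Tmat h c e v.val hv] at h4
    simpa using h4

/-- the rows of the inverse Cartan matrix -/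
def e8tchib_brow (i : Fin 8) : Fin 8 → ℤ := fun k => e8tpd8_inv k i

theorem e8tchib_inv_mul : e8tpd8_inv * C8 = 1 := by
  decide +kernel

theorem exists_ev (x : Fin 8 → K) (hx : ∀ i, x i ≠ 0) :
    ∃ h ∈ chevE8.diagonalSubgroup K, ∀ i : Fin 8, ev h (sIdx i) = x i := by
  have hF := e8F K
  let X : Fin 8 → Kˣ := fun i => Units.mk0 (x i) (hx i)
  let c : Fin chevE8.rank → Kˣ := fun i => chiV X (e8tchib_brow i)
  have hmem : torusHom chevE8 K c ∈ chevE8.diagonalSubgroup K := by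
    rw [← torusHom_range chevE8 hF.xadd hF.hsimple hF.hall (fun i hi => hF.simple_lt i hi)]
    exact ⟨c, rfl⟩
  refine ⟨torusHom chevE8 K c, hmem, fun j => ?_⟩
  rw [e8tchib_ev_Tmat _ _ (torusHom_val chevE8 c) (sIdx j) (sIdx_lt j),
    e8tchib_chi c (extC chevE8 c) (fun i => (extC_lt chevE8 c i.val i.2).symm) (sIdx j)]
  have key : chiV c (e8tchib_cart (sIdx j)) = X j := by
    have e1 : chiV c (e8tchib_cart (sIdx j)) =
        chiV X (∑ i : Fin 8, e8tchib_cart (sIdx j) i • e8tchib_brow i) := by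
      rw [chiV_sum]
      unfold chiV
      refine Finset.prod_congr rfl fun i _ => ?_
      rw [← chiV_zsmul]
      rfl
    have e2 : (∑ i : Fin 8, e8tchib_cart (sIdx j) i • e8tchib_brow i) = Pi.single j 1 := by
      funext k
      rw [Finset.sum_apply]
      simp only [Pi.smul_apply, smul_eq_mul, e8tchib_brow, e8tchib_cart_simple]
      have h2 := congrFun (congrFun e8tchib_inv_mul k) j
      rw [Matrix.mul_apply] at h2
      rw [Matrix.one_apply] at h2
      rw [Pi.single_apply]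
      rw [← h2]
      refine Finset.sum_congr rfl fun i _ => ?_
      ring_nf
    rw [e1, e2, chiV_single, zpow_one]
  rw [key]
  rfl

/-- `|T(K)| = (|K| - 1)⁸` -/
theorem card_torus [Fintype K] : Nat.card (chevE8.diagonalSubgroup K) = (Fintype.card K - 1) ^ 8 := by
  have h := Cfsg.Agent.S1035.result (F := K) (q := Fintype.card K) rfl (chevE8, 1) (by simp)
  have hr : chevE8.rank = 8 := rfl
  simp only [one_mul, hr] at h
  exact h

end K

end Cfsg.Agent.Helper20.E8T
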