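import Mathlib

/-!
# Non-solvable regular linear groups: general group theory and arithmetic (helper11, for S0689)

* `exists_perfCore`: the perfect core of a finite group;
* `commutator_le_centralizer_of_cyclic`: the derived subgroup centralises a cyclic normal subgroup;
* some explicit elements of `SL(2,5)` and its centre;
* `arith_main120`: `(p^k)^d - 1 ∣ 120 k (p^k - 1)` and `120 ∣ (p^k)^d - 1` force `k = 1`, `d = 2`,
  `p ∈ {11, 19, 29, 59, 119}`.
-/

set_option autoImplicit false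

namespace Cfsg.Agent.Helper11.Zas120

open scoped commutatorElement

/-- `SL(2,5)` -/
abbrev S25 := Matrix.SpecialLinearGroup (Fin 2) (ZMod 5)

/-- an element of order four -/
def sx : S25 := ⟨!![0, -1; 1, 0], by decide⟩
/-- a transvection -/
def tx : S25 := ⟨!![1, 1; 0, 1], by decide⟩
/-- an element of order three -/
def ux : S25 := ⟨!![0, -1; 1, -1], by decide⟩

theorem sx_sq_ne : sx * sx ≠ 1 := by decide
theorem sx_four : (sx * sx) * (sx * sx) = 1 := by decide
theorem sx_tx_ne : sx * tx ≠ tx * sx := by decide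
theorem ux_ne : ux ≠ 1 := by decide
theorem ux_cube : ux ^ 3 = 1 := by decide

/-- the centre of `SL(2,5)` -/
theorem cent_S25 : ∀ g : S25, g * sx = sx * g → g * tx = tx * g → g = 1 ∨ g = sx * sx := by
  decide +kernel

theorem sq_central : ∀ g : S25, (sx * sx) * g = g * (sx * sx) := by
  decide +kernel

theorem card_S25 : Nat.card S25 = 120 := by
  rw [Nat.card_eq_fintype_card]
  decide +kernel

/-- the perfect core of a finite group -/
theorem exists_perfCore (G : Type*) [Group G] [Finite G] :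
    ∃ L : Subgroup G, L.Normal ∧ ⁅L, L⁆ = L ∧ (∀ M : Subgroup G, ⁅M, M⁆ = M → M ≤ L) ∧
      (¬ Group.IsSolvable G → L ≠ ⊥) := by
  classical
  have hex : ∃ m, ∃ n, Nat.card (derivedSeries G n) = m := ⟨_, 0, rfl⟩
  obtain ⟨n, hn⟩ := Nat.find_spec hex
  have hmin : ∀ j, Nat.find hex ≤ Nat.card (derivedSeries G j) :=
    fun j => Nat.find_min' hex ⟨j, rfl⟩
  have hle : derivedSeries G (n + 1) ≤ derivedSeries G n := derivedSeries_antitone G (Nat.le_succ n)
  have heq : derivedSeries G (n + 1) = derivedSeries G n := by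
    apply Subgroup.eq_of_le_of_card_ge hle
    rw [hn]
    exact hmin (n + 1)
  refine ⟨derivedSeries G n, inferInstance, ?_, ?_, ?_⟩
  · rw [← derivedSeries_succ]
    exact heq
  · intro M hM
    have : ∀ j, M ≤ derivedSeries G j := by
      intro j
      induction j with
      | zero => exact le_top
      | succ j ih =>
        rw [derivedSeries_succ, ← hM]
        exact Subgroup.commutator_mono ih ih
    exact this n
  · intro hns hbot
    exact hns ⟨⟨n, hbot⟩⟩

/-- the derived subgroup centralises a cyclic normal subgroup -/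
theorem commutator_le_centralizer_of_cyclic {G : Type*} [Group G] (A : Subgroup G) [hAn : A.Normal]
    (hA : IsCyclic A) : commutator G ≤ Subgroup.centralizer (A : Set G) := by
  have hcomm : ∀ φ ψ : MulAut A, φ * ψ = ψ * φ := by
    intro φ ψ
    apply (IsCyclic.mulAutMulEquiv A).injective
    rw [map_mul, map_mul, mul_comm]
  rw [commutator_eq_closure, Subgroup.closure_le]
  rintro c ⟨g, h, rfl⟩
  rw [SetLike.mem_coe, Subgroup.mem_centralizer_iff]
  intro a ha
  have h1 : (MulAut.conjNormal (H := A)) ⁅g, h⁆ = 1 := by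
    rw [map_commutatorElement, commutatorElement_eq_one_iff_mul_comm]
    exact hcomm _ _
  have h2 := congrArg (fun φ : MulAut A => ((φ ⟨a, ha⟩ : A) : G)) h1
  simp only [MulAut.conjNormal_apply, MulAut.one_apply] at h2
  calc a * ⁅g, h⁆ = (⁅g, h⁆ * a * ⁅g, h⁆⁻¹) * ⁅g, h⁆ := by rw [h2]
    _ = ⁅g, h⁆ * a := by group

theorem two_pow_gt (k : ℕ) (hk : 11 ≤ k) : 120 * k < 2 ^ k := by
  induction k, hk using Nat.le_induction with
  | base => norm_num
  | succ k hk ih =>
    rw [pow_succ]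
    have : 120 ≤ 2 ^ k := by
      calc 120 ≤ 2 ^ 11 := by norm_num
        _ ≤ 2 ^ k := Nat.pow_le_pow_right (by norm_num) hk
    omega

theorem arith_finite120 : ∀ p ∈ Finset.range 120, ∀ k ∈ Finset.range 11, ∀ d ∈ Finset.range 12,
    2 ≤ p → 1 ≤ k → 2 ≤ d → ((p ^ k) ^ d - 1 ∣ 120 * k * (p ^ k - 1)) → (120 ∣ (p ^ k) ^ d - 1) →
    k = 1 ∧ d = 2 ∧ (p = 11 ∨ p = 19 ∨ p = 29 ∨ p = 59 ∨ p = 119) := by
  decide +kernel

theorem arith_main120 (p k d : ℕ) (hp2 : 2 ≤ p) (hk : 1 ≤ k) (hd : 2 ≤ d)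
    (hdvd : (p ^ k) ^ d - 1 ∣ 120 * k * (p ^ k - 1)) (h120 : 120 ∣ (p ^ k) ^ d - 1) :
    k = 1 ∧ d = 2 ∧ (p = 11 ∨ p = 19 ∨ p = 29 ∨ p = 59 ∨ p = 119) := by
  have hdvd0 := hdvd
  have h1200 := h120
  obtain ⟨Q, hQ⟩ : ∃ Q, Q = p ^ k := ⟨_, rfl⟩
  rw [← hQ] at hdvd
  have hQ2k : 2 ^ k ≤ Q := by rw [hQ]; exact Nat.pow_le_pow_left hp2 k
  have hQ2 : 2 ≤ Q := by
    calc 2 = 2 ^ 1 := by norm_num
      _ ≤ 2 ^ k := Nat.pow_le_pow_right (by norm_num) hk
      _ ≤ Q := hQ2k
  have hpos : 0 < 120 * k * (Q - 1) := by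
    have : 0 < Q - 1 := by omega
    positivity
  have hle := Nat.le_of_dvd hpos hdvd
  have hQsq : Q ^ 2 ≤ Q ^ d := Nat.pow_le_pow_right (by omega) hd
  have h1 : Q + 1 ≤ 120 * k := by
    by_contra hcon
    push Not at hcon
    have h2 : 120 * k * (Q - 1) < (Q + 1) * (Q - 1) :=
      Nat.mul_lt_mul_of_pos_right hcon (by omega)
    have h3 : (Q + 1) * (Q - 1) = Q ^ 2 - 1 := by
      obtain ⟨q, hq⟩ : ∃ q, Q = q + 1 := ⟨Q - 1, by omega⟩
      rw [hq]
      simp only [Nat.add_sub_cancel]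
      have : (q + 1) ^ 2 = (q + 1 + 1) * q + 1 := by ring
      rw [this, Nat.add_sub_cancel]
    omega
  have hk11 : k < 11 := by
    by_contra hcon
    push Not at hcon
    have := two_pow_gt k hcon
    omega
  have hp120 : p < 120 := by
    by_contra hcon
    push Not at hcon
    have h2 : 120 ^ k ≤ Q := by rw [hQ]; exact Nat.pow_le_pow_left hcon k
    have h3 : 120 * k ≤ 120 ^ k := by
      interval_cases k <;> norm_num
    omega
  have hd12 : d < 12 := by
    by_contra hcon
    push Not at hcon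
    have h2 : Q ^ 12 ≤ Q ^ d := Nat.pow_le_pow_right (by omega) hcon
    have h3 : 2 ^ 11 * Q ≤ Q ^ 12 := by
      calc 2 ^ 11 * Q ≤ Q ^ 11 * Q := Nat.mul_le_mul_right _ (Nat.pow_le_pow_left hQ2 11)
        _ = Q ^ 12 := by ring
    have h4 : 120 * k * (Q - 1) ≤ 1200 * Q := by
      have : 120 * k ≤ 1200 := by omega
      calc 120 * k * (Q - 1) ≤ 1200 * (Q - 1) := Nat.mul_le_mul_right _ this
        _ ≤ 1200 * Q := Nat.mul_le_mul_left _ (by omega)
    norm_num at h3
    omega
  exact arith_finite120 p (Finset.mem_range.2 hp120) k (Finset.mem_range.2 hk11) d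
    (Finset.mem_range.2 hd12) hp2 hk hd hdvd0 h1200

end Cfsg.Agent.Helper11.Zas120
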