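import Mathlib
import Cfsg.Agent.Lib.Helper14.QdSylow

/-!
# Explicit facts about `Qd(p) = F² ⋊ SL₂(F)` (helper11)

Built on helper14's description of the affine group: the Heisenberg Sylow subgroup `stab e₁` in
coordinates, some explicit elements (the central involution of the linear part, a diagonal element,
transvections), and perfectness.
-/

set_option autoImplicit false

namespace Cfsg.Agent.Helper11.QdR

open scoped Matrix commutatorElement
open Cfsg.Agent.S2761 Cfsg.Agent.Helper14.Qd Cfsg.Agent.Helper14.SL2Vec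

variable {F : Type*} [Field F]

/-- first basis vector -/
def e1 : Fin 2 → F := ![1, 0]

/-- second basis vector -/
def e2 : Fin 2 → F := ![0, 1]

theorem dt_e1_e2 : dt (e1 : Fin 2 → F) e2 = 1 := by
  unfold dt e1 e2; simp

theorem e1_ne_zero : (e1 : Fin 2 → F) ≠ 0 := by
  intro h
  have := congrFun h 0
  simp [e1] at this

/-- Heisenberg coordinates on `stab e₁` -/
def hm (c b a : F) : ↥(affSubgroup F) := hmk e1 e2 c b a

theorem hm_mem_stab (c b a : F) : hm c b a ∈ stab (e1 : Fin 2 → F) := hmk_mem_stab c b a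

theorem hm_mul (c b a c' b' a' : F) :
    hm c b a * hm c' b' a' = hm (c + c') (b + b') (a + a' + c * b') :=
  hmk_mul dt_e1_e2 c b a c' b' a'

theorem transv_zero (v : Fin 2 → F) : transv v 0 = 1 := by
  apply Subtype.ext
  ext i j
  fin_cases i <;> fin_cases j <;> simp [transv]

theorem hm_zero : hm (0 : F) 0 0 = 1 := by
  unfold hm hmk
  rw [transv_zero, zero_smul, zero_smul, add_zero]
  exact aff_one

theorem hm_eq_trans (a b : F) : hm 0 b a = Helper14.Qd.trans (a • e1 + b • e2) := by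
  unfold hm hmk Helper14.Qd.trans
  rw [transv_zero]

theorem hm_eq_linHom (c : F) : hm c 0 0 = linHom F (transv e1 c) := by
  unfold hm hmk
  rw [linHom_apply, zero_smul, zero_smul, add_zero]

theorem hm_injective {c b a c' b' a' : F} (h : hm c b a = hm c' b' a') :
    c = c' ∧ b = b' ∧ a = a' := hmk_injective dt_e1_e2 h

theorem exists_hm {x : ↥(affSubgroup F)} (hx : x ∈ stab (e1 : Fin 2 → F)) :
    ∃ c b a : F, x = hm c b a :=
  ⟨_, _, _, eq_hmk_coords dt_e1_e2 hx⟩

theorem hm_mem_transSubgroup_iff (c b a : F) : hm c b a ∈ transSubgroup F ↔ c = 0 :=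
  hmk_mem_transSubgroup_iff dt_e1_e2 c b a

theorem hm_pow (c b a : F) (n : ℕ) :
    hm c b a ^ n = hm (n • c) (n • b) (n • a + (n.choose 2) • (c * b)) := by
  induction n with
  | zero => simp [hm_zero]
  | succ n ih =>
    rw [pow_succ, ih, hm_mul]
    congr 1
    · rw [succ_nsmul]
    · rw [succ_nsmul]
    · have h2 : (n + 1).choose 2 = n + n.choose 2 := by
        rw [Nat.choose_succ_succ' n 1, Nat.choose_one_right]
      rw [h2]
      simp only [nsmul_eq_mul]
      push_cast
      ring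

/-- the Heisenberg group has exponent `p` in odd characteristic `p` -/
theorem hm_pow_char (p : ℕ) [hp : Fact p.Prime] [CharP F p] (hodd : p ≠ 2) (c b a : F) :
    hm c b a ^ p = 1 := by
  have hpp : p.Prime := hp.out
  have h2 : 2 < p := lt_of_le_of_ne hpp.two_le (Ne.symm hodd)
  have hdvd : p ∣ p.choose 2 := hpp.dvd_choose_self (by norm_num) h2
  have h0 : ((p.choose 2 : ℕ) : F) = 0 := (CharP.cast_eq_zero_iff F p _).mpr hdvd
  rw [hm_pow]
  simp only [nsmul_eq_mul, CharP.cast_eq_zero F p, h0, zero_mul, add_zero]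
  exact hm_zero

theorem stab_pow_char (p : ℕ) [hp : Fact p.Prime] [CharP F p] (hodd : p ≠ 2)
    (x : ↥(stab (e1 : Fin 2 → F))) : x ^ p = 1 := by
  obtain ⟨c, b, a, hx⟩ := exists_hm x.2
  apply Subtype.ext
  rw [Subgroup.coe_pow, hx, hm_pow_char p hodd]
  rfl

/-- commutators in the Heisenberg group -/
theorem hm_commutator (c b a c' b' a' : F) :
    ⁅hm c b a, hm c' b' a'⁆ = Helper14.Qd.trans ((c * b' - c' * b) • e1) := by
  have h : hm 0 0 (c * b' - c' * b) * (hm c' b' a' * hm c b a) = hm c b a * hm c' b' a' := by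
    rw [hm_mul, hm_mul, hm_mul]
    congr 1 <;> ring
  have h2 : hm (0 : F) 0 (c * b' - c' * b) = Helper14.Qd.trans ((c * b' - c' * b) • e1) := by
    rw [hm_eq_trans, zero_smul, add_zero]
  rw [← h2, commutatorElement_def, ← h]
  group

theorem stab_commutator {x y : ↥(affSubgroup F)} (hx : x ∈ stab (e1 : Fin 2 → F))
    (hy : y ∈ stab (e1 : Fin 2 → F)) : ∃ e : F, ⁅x, y⁆ = Helper14.Qd.trans (e • e1) := by
  obtain ⟨c, b, a, rfl⟩ := exists_hm hx
  obtain ⟨c', b', a', rfl⟩ := exists_hm hy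
  exact ⟨_, hm_commutator c b a c' b' a'⟩

theorem stab_not_comm :
    ∃ x y : ↥(stab (e1 : Fin 2 → F)), x * y ≠ y * x := by
  refine ⟨⟨hm 1 0 0, hm_mem_stab _ _ _⟩, ⟨hm 0 1 0, hm_mem_stab _ _ _⟩, ?_⟩
  intro h
  have h1 := congrArg Subtype.val h
  simp only [Subgroup.coe_mul] at h1
  rw [hm_mul, hm_mul] at h1
  obtain ⟨-, -, h2⟩ := hm_injective h1
  simp at h2

/-- the order of the Heisenberg group -/
theorem card_stab [Finite F] : Nat.card ↥(stab (e1 : Fin 2 → F)) = Nat.card F ^ 3 := by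
  let f : F × F × F → ↥(stab (e1 : Fin 2 → F)) := fun t => ⟨hm t.1 t.2.1 t.2.2, hm_mem_stab _ _ _⟩
  have hf : Function.Bijective f := by
    constructor
    · rintro ⟨c, b, a⟩ ⟨c', b', a'⟩ h
      have h1 : hm c b a = hm c' b' a' := congrArg Subtype.val h
      obtain ⟨rfl, rfl, rfl⟩ := hm_injective h1
      rfl
    · intro x
      obtain ⟨c, b, a, hx⟩ := exists_hm x.2
      exact ⟨(c, b, a), Subtype.ext hx.symm⟩
  rw [← Nat.card_congr (Equiv.ofBijective f hf), Nat.card_prod, Nat.card_prod]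
  ring

/-! ### special elements of the linear part -/

/-- the central involution of `SL₂` -/
def negI : Matrix.SpecialLinearGroup (Fin 2) F :=
  ⟨!![-1, 0; 0, -1], by rw [Matrix.det_fin_two_of]; ring⟩

theorem negI_coe : ((negI : Matrix.SpecialLinearGroup (Fin 2) F) : Matrix (Fin 2) (Fin 2) F) =
    !![-1, 0; 0, -1] := rfl

theorem negI_mul_self : (negI : Matrix.SpecialLinearGroup (Fin 2) F) * negI = 1 := by
  apply Subtype.ext
  rw [Matrix.SpecialLinearGroup.coe_mul, negI_coe]
  ext i j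
  fin_cases i <;> fin_cases j <;> simp [Matrix.mul_apply, Fin.sum_univ_two]

theorem negI_comm (B : Matrix.SpecialLinearGroup (Fin 2) F) : negI * B = B * negI := by
  apply Subtype.ext
  rw [Matrix.SpecialLinearGroup.coe_mul, Matrix.SpecialLinearGroup.coe_mul, negI_coe]
  ext i j
  fin_cases i <;> fin_cases j <;> simp [Matrix.mul_apply, Fin.sum_univ_two]

theorem negI_mulVec (u : Fin 2 → F) :
    ((negI : Matrix.SpecialLinearGroup (Fin 2) F) : Matrix (Fin 2) (Fin 2) F) *ᵥ u = -u := by
  ext i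
  fin_cases i <;> simp [negI, Matrix.mulVec, dotProduct, Fin.sum_univ_two]

/-- the involution of the affine group acting as `-1` on translations -/
def jbar (F : Type*) [Field F] : ↥(affSubgroup F) := linHom F negI

theorem jbar_mul_self : jbar F * jbar F = 1 := by
  unfold jbar
  rw [← map_mul, negI_mul_self, map_one]

theorem jbar_inv : (jbar F)⁻¹ = jbar F := inv_eq_of_mul_eq_one_right jbar_mul_self

theorem jbar_comm_linHom (B : Matrix.SpecialLinearGroup (Fin 2) F) :
    jbar F * linHom F B = linHom F B * jbar F := by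
  unfold jbar
  rw [← map_mul, ← map_mul, negI_comm]

theorem jbar_conj_trans (u : Fin 2 → F) : jbar F * Helper14.Qd.trans u * jbar F = Helper14.Qd.trans (-u) := by
  have h := conj_trans (negI : Matrix.SpecialLinearGroup (Fin 2) F) u
  rw [negI_mulVec] at h
  have h2 : (linHom F negI)⁻¹ = jbar F := jbar_inv
  rw [h2] at h
  exact h

/-- the diagonal element `diag(2, 1/2)` -/
def dmat (h2 : (2 : F) ≠ 0) : Matrix.SpecialLinearGroup (Fin 2) F :=
  ⟨!![2, 0; 0, 2⁻¹], by rw [Matrix.det_fin_two_of, mul_inv_cancel₀ h2]; ring⟩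

theorem dmat_coe (h2 : (2 : F) ≠ 0) :
    ((dmat h2 : Matrix.SpecialLinearGroup (Fin 2) F) : Matrix (Fin 2) (Fin 2) F) =
      !![2, 0; 0, 2⁻¹] := rfl

theorem transv_e1_coe (c : F) :
    ((transv e1 c : Matrix.SpecialLinearGroup (Fin 2) F) : Matrix (Fin 2) (Fin 2) F) =
      !![1, c; 0, 1] := by
  ext i j
  fin_cases i <;> fin_cases j <;> simp [transv, e1]

theorem dmat_mul_transv (h2 : (2 : F) ≠ 0) (c : F) :
    dmat h2 * transv e1 c = transv e1 (4 * c) * dmat h2 := by
  apply Subtype.ext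
  rw [Matrix.SpecialLinearGroup.coe_mul, Matrix.SpecialLinearGroup.coe_mul, dmat_coe,
    transv_e1_coe, transv_e1_coe]
  ext i j
  fin_cases i <;> fin_cases j <;> simp [Matrix.mul_apply, Fin.sum_univ_two]
  field_simp
  ring

/-- the diagonal element in the affine group -/
def dbar (h2 : (2 : F) ≠ 0) : ↥(affSubgroup F) := linHom F (dmat h2)

theorem dbar_conj (h2 : (2 : F) ≠ 0) (c : F) :
    dbar h2 * hm c 0 0 * (dbar h2)⁻¹ = hm (4 * c) 0 0 := by
  rw [hm_eq_linHom, hm_eq_linHom]
  unfold dbar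
  rw [← map_mul, dmat_mul_transv, map_mul, mul_inv_cancel_right]

theorem jbar_comm_hm (c : F) : jbar F * hm c 0 0 = hm c 0 0 * jbar F := by
  rw [hm_eq_linHom]; exact jbar_comm_linHom _

theorem jbar_comm_dbar (h2 : (2 : F) ≠ 0) : jbar F * dbar h2 = dbar h2 * jbar F :=
  jbar_comm_linHom _

theorem hm0_inv (a b : F) : (hm 0 b a)⁻¹ = hm 0 (-b) (-a) := by
  rw [hm_eq_trans, hm_eq_trans, trans_inv]
  congr 1
  rw [neg_add, neg_smul, neg_smul]

theorem jbar_conj_hm0 (a b : F) : jbar F * hm 0 b a * jbar F = hm 0 (-b) (-a) := by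
  rw [hm_eq_trans, hm_eq_trans, jbar_conj_trans]
  congr 1
  rw [neg_add, neg_smul, neg_smul]

/-! ### perfectness -/

theorem trans_mem_commutator (h2 : (2 : F) ≠ 0) (u : Fin 2 → F) :
    Helper14.Qd.trans u ∈ commutator ↥(affSubgroup F) := by
  have h : ⁅jbar F, Helper14.Qd.trans ((-(2 : F)⁻¹) • u)⁆ = Helper14.Qd.trans u := by
    rw [commutatorElement_def, jbar_inv, jbar_conj_trans, trans_inv, trans_mul]
    congr 1
    ext i
    simp only [Pi.add_apply, Pi.neg_apply, Pi.smul_apply, smul_eq_mul]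
    field_simp
    ring
  rw [← h, commutator_def]
  exact Subgroup.commutator_mem_commutator (Subgroup.mem_top _) (Subgroup.mem_top _)

theorem commutator_aff_eq_top (h2 : (2 : F) ≠ 0) {a : F} (ha : a ≠ 0) (hasq : a ^ 2 ≠ 1) :
    commutator ↥(affSubgroup F) = ⊤ := by
  rw [eq_top_iff, ← linSubgroup_sup_transSubgroup]
  apply sup_le
  · rintro _ ⟨B, rfl⟩
    have hB : B ∈ commutator (Matrix.SpecialLinearGroup (Fin 2) F) := by
      rw [Matrix.SL2.commutator_eq_top ha hasq]; trivial
    rw [commutator_def] at hB ⊢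
    have := Subgroup.mem_map_of_mem (linHom F) hB
    rw [Subgroup.map_commutator] at this
    exact Subgroup.commutator_mono le_top le_top this
  · intro x hx
    obtain ⟨u, rfl⟩ := (mem_transSubgroup_iff_exists x).mp hx
    exact trans_mem_commutator h2 u

end Cfsg.Agent.Helper11.QdR
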