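import Mathlib
import Cfsg.Prelude.Def_OddOrderLocal
import Cfsg.Agent.S0638
import Cfsg.Agent.Lib.Helper22.SmallOmega
import Cfsg.Agent.Lib.Helper22.MetacyclicCrit
import Cfsg.Agent.Lib.Helper22.MaxClass
import Cfsg.Agent.Lib.Helper22.PPrimeCore
import Cfsg.Agent.Lib.Helper22.ClassTwo
import Cfsg.Agent.Lib.Helper21.Metacyclic
import Cfsg.Agent.Lib.Helper19.PGroupBasic

/-!
# Blackburn's theorem on `p`-groups of rank at most two: basic lemmas (helper11)
-/

set_option autoImplicit false

namespace Cfsg.Agent.Helper11.Blk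

open Subgroup Cfsg.Agent.Helper22
open scoped commutatorElement

universe u

section Meta

variable {G : Type*} [Group G]

/-- a quotient of a metacyclic group is metacyclic -/
theorem isMetacyclic_quotient (h : Cfsg.IsMetacyclic G) (K : Subgroup G) [K.Normal] :
    Cfsg.IsMetacyclic (G ⧸ K) := by
  obtain ⟨N, hNn, hNc, hQc⟩ := h
  haveI := hNn
  haveI := hNc
  haveI := hQc
  haveI hMn : (N.map (QuotientGroup.mk' K)).Normal :=
    Subgroup.Normal.map hNn _ (QuotientGroup.mk'_surjective K)
  refine ⟨N.map (QuotientGroup.mk' K), hMn, ?_, ?_⟩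
  · exact isCyclic_of_surjective ((QuotientGroup.mk' K).subgroupMap N)
      ((QuotientGroup.mk' K).subgroupMap_surjective N)
  · let f : G →* (G ⧸ K) ⧸ (N.map (QuotientGroup.mk' K)) :=
      (QuotientGroup.mk' _).comp (QuotientGroup.mk' K)
    have hf : N ≤ f.ker := by
      intro x hx
      rw [MonoidHom.mem_ker]
      show (QuotientGroup.mk' _) ((QuotientGroup.mk' K) x) = 1
      rw [QuotientGroup.mk'_apply, QuotientGroup.eq_one_iff]
      exact Subgroup.mem_map_of_mem _ hx
    have hsurj : Function.Surjective (QuotientGroup.lift N f hf) := by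
      intro q
      obtain ⟨q', rfl⟩ := QuotientGroup.mk'_surjective _ q
      obtain ⟨g, rfl⟩ := QuotientGroup.mk'_surjective K q'
      exact ⟨QuotientGroup.mk g, rfl⟩
    exact isCyclic_of_surjective _ hsurj

/-- a metacyclic group of exponent `p` has order at most `p²` -/
theorem card_le_sq_of_isMetacyclic [Finite G] (p : ℕ) (hp : 0 < p) (h : Cfsg.IsMetacyclic G)
    (hexp : ∀ g : G, g ^ p = 1) : Nat.card G ≤ p ^ 2 := by
  have := Cfsg.Agent.S0638.card_le_of_metacyclic_of_exp p hp h ⊤ (fun t _ => hexp t)
  rwa [Subgroup.card_top] at this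

/-- a quotient of exponent `p` of a metacyclic group has order at most `p²` -/
theorem index_le_sq_of_isMetacyclic [Finite G] (p : ℕ) (hp : 0 < p) (h : Cfsg.IsMetacyclic G)
    (T : Subgroup G) [T.Normal] (hT : ∀ g : G, g ^ p ∈ T) : T.index ≤ p ^ 2 := by
  rw [Subgroup.index_eq_card]
  apply card_le_sq_of_isMetacyclic p hp (isMetacyclic_quotient h T)
  intro q
  obtain ⟨g, rfl⟩ := QuotientGroup.mk'_surjective T q
  rw [← map_pow]
  exact (QuotientGroup.eq_one_iff _).mpr (hT g)

/-- a metacyclic group is `SmallOmega` -/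
theorem smallOmega_of_isMetacyclic [Finite G] (p : ℕ) (hp : 0 < p) (h : Cfsg.IsMetacyclic G) :
    SmallOmega p G :=
  fun K hK => Cfsg.Agent.S0638.card_le_of_metacyclic_of_exp p hp h K hK

end Meta

section Omega

variable {R : Type*} [Group R] [Finite R] {p : ℕ} [hp : Fact p.Prime]

/-- in a `SmallOmega` `p`-group (`p` odd) every element of order dividing `p` lies in any given
normal subgroup of order `p²` and exponent `p` -/
theorem mem_of_pow_eq_one (hodd : p ≠ 2) (hR : IsPGroup p R) (hS : SmallOmega p R)
    (A : Subgroup R) [hAn : A.Normal] (hAexp : ∀ a ∈ A, a ^ p = 1) (hAcard : Nat.card A = p ^ 2)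
    (x : R) (hx : x ^ p = 1) : x ∈ A := by
  have hpp : p.Prime := hp.out
  by_contra hxA
  have hx1 : x ≠ 1 := fun h => hxA (h ▸ one_mem A)
  have hxo : orderOf x = p := orderOf_eq_prime hx hx1
  have hdisj : zpowers x ⊓ A = ⊥ := by
    by_contra hne
    have h1 : Nat.card ↥(zpowers x ⊓ A) ∣ p := by
      have := card_dvd_of_le (inf_le_left : zpowers x ⊓ A ≤ zpowers x)
      rwa [Nat.card_zpowers, hxo] at this
    have h2 : Nat.card ↥(zpowers x ⊓ A) ≠ 1 := fun h => hne ((zpowers x ⊓ A).card_eq_one.mp h)
    have h3 : Nat.card ↥(zpowers x ⊓ A) = p := by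
      rcases (Nat.dvd_prime hpp).mp h1 with h | h
      · exact absurd h h2
      · exact h
    have h4 : zpowers x ⊓ A = zpowers x := by
      apply eq_of_le_of_card_ge inf_le_left
      rw [h3, Nat.card_zpowers, hxo]
    apply hxA
    have : x ∈ zpowers x ⊓ A := by rw [h4]; exact mem_zpowers x
    exact this.2
  set T := zpowers x ⊔ A with hT
  have hTcard : Nat.card T = p ^ 3 := by
    rw [hT, card_sup_eq_mul (zpowers x) A hdisj, Nat.card_zpowers, hxo, hAcard]
    ring
  have hTp : IsPGroup p T := hR.to_subgroup T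
  have hcT : ∀ a b : T, ⁅a, b⁆ ∈ center T := by
    intro a b
    by_cases hTc : IsMulCommutative T
    · rw [commutatorElement_eq_one_iff_commute.mpr (hTc.is_comm.comm a b)]
      exact one_mem _
    · have := comm_mem_center_of_card_cube p hTcard hTc a b
      rw [commutatorElement_def]
      exact this
  have hgen : ∀ t : T, t ∈ closure {y : T | y ^ p = 1} := by
    have hle : T ≤ (closure {y : T | y ^ p = 1}).map T.subtype := by
      rw [hT]
      apply sup_le
      · rw [zpowers_le]
        have hxT : x ∈ T := (le_sup_left : zpowers x ≤ T) (mem_zpowers x)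
        refine ⟨⟨x, hxT⟩, subset_closure ?_, rfl⟩
        show (⟨x, hxT⟩ : T) ^ p = 1
        ext
        simpa using hx
      · intro y hy
        have hyT : y ∈ T := (le_sup_right : A ≤ T) hy
        refine ⟨⟨y, hyT⟩, subset_closure ?_, rfl⟩
        show (⟨y, hyT⟩ : T) ^ p = 1
        ext
        simpa using hAexp y hy
    intro t
    obtain ⟨s, hs, hst⟩ := hle t.2
    have : s = t := Subtype.ext hst
    rw [← this]; exact hs
  have hexpT : ∀ t ∈ T, t ^ p = 1 := by
    intro t ht
    have := pow_prime_eq_one_of_mem_closure hodd hcT ⟨t, ht⟩ (hgen ⟨t, ht⟩)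
    have h2 := congrArg Subtype.val this
    simpa using h2
  have hle := hS T hexpT
  rw [hTcard] at hle
  have : p ^ 2 < p ^ 3 := Nat.pow_lt_pow_right hpp.one_lt (by norm_num)
  omega

/-- the centralizer of a normal subgroup of order `p²` of a `p`-group has index `1` or `p` -/
theorem index_centralizer_of_card_sq (hR : IsPGroup p R) (N : Subgroup R) [hNn : N.Normal]
    (hN : Nat.card N = p ^ 2) :
    centralizer (N : Set R) = ⊤ ∨ (centralizer (N : Set R)).index = p := by
  have hpp : p.Prime := hp.out
  by_cases hNc : N ≤ center R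
  · left
    rw [centralizer_eq_top_iff_subset]
    exact hNc
  right
  have hNne : N ≠ ⊥ := by
    rintro rfl
    rw [Subgroup.card_bot] at hN
    have : 1 < p ^ 2 := Nat.one_lt_pow (by norm_num) hpp.one_lt
    omega
  have h1 := Cfsg.Agent.Helper19.normal_inf_center_ne_bot hR N hNne
  obtain ⟨z, hz1⟩ := (Subgroup.ne_bot_iff_exists_ne_one (H := N ⊓ center R)).mp h1
  have hzN : (z : R) ∈ N := z.2.1
  have hzc : (z : R) ∈ center R := z.2.2
  have hz1' : (z : R) ≠ 1 := fun h => hz1 (Subtype.ext h)
  obtain ⟨u, huN, huc⟩ : ∃ u ∈ N, u ∉ center R := by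
    by_contra hcon
    apply hNc
    intro u hu
    by_contra huc
    exact hcon ⟨u, hu, huc⟩
  have hu1 : u ≠ 1 := fun h => huc (h ▸ one_mem _)
  -- `N` is generated by `z` and `u`
  have hgen : closure {(z : R), u} = N := by
    apply eq_of_le_of_card_ge
    · rw [closure_le]
      intro y hy
      rcases hy with rfl | hy
      · exact hzN
      · rw [Set.mem_singleton_iff] at hy; subst hy; exact huN
    · have hlt : zpowers (z : R) < closure {(z : R), u} := by
        refine lt_of_le_of_ne ?_ ?_
        · rw [zpowers_le]; exact subset_closure (Set.mem_insert _ _)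
        · intro h
          apply huc
          have : u ∈ zpowers (z : R) := by
            rw [h]; exact subset_closure (Set.mem_insert_of_mem _ rfl)
          exact (zpowers_le.mpr hzc) this
      have h2 := Cfsg.Agent.Helper22.mul_card_le_card_of_lt hR hlt
      have h3 : p ≤ Nat.card (zpowers (z : R)) := by
        rw [Nat.card_zpowers]
        obtain ⟨k, hk⟩ := (IsPGroup.iff_orderOf.mp hR) (z : R)
        rw [hk]
        have hk0 : k ≠ 0 := by
          rintro rfl
          rw [pow_zero, orderOf_eq_one_iff] at hk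
          exact hz1' hk
        calc p = p ^ 1 := (pow_one p).symm
          _ ≤ p ^ k := Nat.pow_le_pow_right hpp.pos (Nat.one_le_iff_ne_zero.mpr hk0)
      rw [hN]
      calc p ^ 2 = p * p := pow_two p
        _ ≤ p * Nat.card (zpowers (z : R)) := Nat.mul_le_mul_left _ h3
        _ ≤ _ := h2
  have hcent : centralizer (N : Set R) = centralizer {u} := by
    apply le_antisymm
    · exact centralizer_le (Set.singleton_subset_iff.mpr huN)
    · intro g hg
      rw [← hgen, Subgroup.centralizer_closure, Subgroup.mem_centralizer_iff]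
      intro y hy
      rcases hy with rfl | hy
      · exact (Subgroup.mem_center_iff.mp hzc g).symm
      · rw [Set.mem_singleton_iff] at hy; subst hy
        exact Subgroup.mem_centralizer_iff.mp hg y rfl
  rw [hcent, Cfsg.Agent.Helper21.index_centralizer_eq_card_commSet]
  -- the commutator set lies in `N` minus one point
  have hsub : Cfsg.Agent.Helper21.commSet u ⊆ (N : Set R) \ {u⁻¹} := by
    rintro _ ⟨y, rfl⟩
    refine ⟨?_, ?_⟩
    · show ⁅y, u⁆ ∈ N
      rw [commutatorElement_def]
      exact N.mul_mem (hNn.conj_mem u huN y) (N.inv_mem huN)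
    · intro h
      change ⁅y, u⁆ = u⁻¹ at h
      rw [commutatorElement_def] at h
      have h2 : y * u * y⁻¹ = 1 := by
        have := congrArg (· * u) h
        simpa using this
      apply hu1
      have : u = y⁻¹ * (y * u * y⁻¹) * y := by group
      rw [this, h2]; group
  have hcardle : Nat.card (Cfsg.Agent.Helper21.commSet u) < p ^ 2 := by
    have hfin : ((N : Set R) \ {u⁻¹}).Finite := Set.toFinite _
    have h2 : Nat.card (Cfsg.Agent.Helper21.commSet u) ≤ Nat.card ((N : Set R) \ {u⁻¹} : Set R) :=
      Nat.card_mono hfin hsub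
    have h3 : Nat.card ((N : Set R) \ {u⁻¹} : Set R) < Nat.card (N : Set R) := by
      rw [Nat.card_coe_set_eq, Nat.card_coe_set_eq]
      apply Set.ncard_lt_ncard _ (Set.toFinite _)
      refine ⟨Set.diff_subset, ?_⟩
      intro h
      have : u⁻¹ ∈ (N : Set R) \ {u⁻¹} := h (N.inv_mem huN)
      exact this.2 rfl
    have h4 : Nat.card (N : Set R) = p ^ 2 := hN
    omega
  -- the index is a power of `p`
  have hidx : (centralizer ({u} : Set R)).index ∣ Nat.card R := Subgroup.index_dvd_card _
  obtain ⟨n, hn⟩ := hR.exists_card_eq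
  rw [hn] at hidx
  obtain ⟨j, -, hj⟩ := (Nat.dvd_prime_pow hpp).mp hidx
  rw [← Cfsg.Agent.Helper21.index_centralizer_eq_card_commSet] at hcardle ⊢
  rw [hj] at hcardle ⊢
  have hj2 : j < 2 := (Nat.pow_lt_pow_iff_right hpp.one_lt).mp hcardle
  have hj0 : j ≠ 0 := by
    rintro rfl
    rw [pow_zero, Subgroup.index_eq_one] at hj
    apply huc
    rw [Subgroup.mem_center_iff]
    intro g
    have : g ∈ centralizer ({u} : Set R) := by rw [hj]; exact mem_top g
    exact (Subgroup.mem_centralizer_iff.mp this u rfl).symm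
  have : j = 1 := by omega
  rw [this, pow_one]

end Omega

end Cfsg.Agent.Helper11.Blk
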