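import Mathlib
import Cfsg.Agent.Lib.Helper11.BlkBasic
import Cfsg.Agent.Lib.Helper21.PGroupFrattini

/-!
# Huppert's criterion for all odd `p` (helper11)

`SmallFrat p R`: every quotient of exponent `p` of `R` has order at most `p²`
(i.e. `|R : ℧₁(R)| ≤ p²`).  For odd `p` such a `p`-group is metacyclic.
-/

set_option autoImplicit false

namespace Cfsg.Agent.Helper11.Blk

open Subgroup Cfsg.Agent.Helper22
open scoped commutatorElement

universe u

/-- every normal subgroup containing all `p`-th powers has index at most `p²` -/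
def SmallFrat (p : ℕ) (R : Type*) [Group R] : Prop :=
  ∀ K : Subgroup R, K.Normal → (∀ x : R, x ^ p ∈ K) → K.index ≤ p ^ 2

theorem SmallFrat.quotient {R : Type*} [Group R] {p : ℕ} (h : SmallFrat p R) (T : Subgroup R)
    [T.Normal] : SmallFrat p (R ⧸ T) := by
  intro K hK hKp
  have h1 := h (K.comap (QuotientGroup.mk' T)) (hK.comap _) (fun x => by
    rw [Subgroup.mem_comap, map_pow]; exact hKp _)
  rwa [Subgroup.index_comap_of_surjective _ (QuotientGroup.mk'_surjective T)] at h1

section ClassTwo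

variable {R : Type*} [Group R] {p : ℕ} [hp : Fact p.Prime]

theorem commutator_mem' (a b : R) : ⁅a, b⁆ ∈ commutator R :=
  Subgroup.commutator_mem_commutator (Subgroup.mem_top a) (Subgroup.mem_top b)

/-- class two with derived subgroup of exponent `p` odd: the `p`-th power map is multiplicative -/
theorem mul_pow_prime_of_class_two (hodd : p ≠ 2) (hDcen : commutator R ≤ center R)
    (hD : ∀ d ∈ commutator R, d ^ p = 1) (x y : R) : (x * y) ^ p = x ^ p * y ^ p := by
  have hpp : p.Prime := hp.out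
  have hc1 : ⁅y, x⁆ ∈ center R := hDcen (commutator_mem' y x)
  have hc' : ∀ g : R, g * ⁅y, x⁆ = ⁅y, x⁆ * g := fun g => mem_center_iff.mp hc1 g
  have h := mul_pow_eq_of_central x y ⁅y, x⁆ hc' (mul_eq_commutator_mul x y) p
  have hdvd : p ∣ p.choose 2 := by
    apply hpp.dvd_choose_self (by norm_num)
    have := hpp.two_le
    omega
  obtain ⟨m, hm⟩ := hdvd
  rw [h, hm, pow_mul, hD _ (commutator_mem' y x), one_pow, one_mul]

/-- the `p`-th power endomorphism -/
noncomputable def powHom (hodd : p ≠ 2) (hDcen : commutator R ≤ center R)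
    (hD : ∀ d ∈ commutator R, d ^ p = 1) : R →* R :=
  MonoidHom.mk' (fun x => x ^ p) (mul_pow_prime_of_class_two hodd hDcen hD)

theorem powHom_apply (hodd : p ≠ 2) (hDcen : commutator R ≤ center R)
    (hD : ∀ d ∈ commutator R, d ^ p = 1) (x : R) : powHom hodd hDcen hD x = x ^ p := rfl

variable [Finite R]

/-- bridging: in class two with derived subgroup of exponent `p`, `SmallOmega` gives `SmallFrat` -/
theorem smallFrat_of_smallOmega (hodd : p ≠ 2) (hS : SmallOmega p R)
    (hDcen : commutator R ≤ center R) (hD : ∀ d ∈ commutator R, d ^ p = 1) : SmallFrat p R := by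
  have hpp : p.Prime := hp.out
  intro K hKn hKp
  set f := powHom hodd hDcen hD with hf
  have hker : Nat.card f.ker ≤ p ^ 2 := hS f.ker (fun x hx => hx)
  have h2 : Nat.card f.ker * f.ker.index = Nat.card R := Subgroup.card_mul_index _
  rw [Subgroup.index_ker] at h2
  have hle : f.range ≤ K := by
    rintro _ ⟨x, rfl⟩
    exact hKp x
  have h3 : Nat.card f.range ≤ Nat.card K := Subgroup.card_le_of_le hle
  have h4 : Nat.card K * K.index = Nat.card R := Subgroup.card_mul_index _
  have hKpos : 0 < Nat.card K := Nat.card_pos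
  have h5 : Nat.card K * K.index ≤ Nat.card K * p ^ 2 := by
    rw [h4, ← h2, mul_comm]
    exact Nat.mul_le_mul h3 hker
  exact Nat.le_of_mul_le_mul_left h5 hKpos

/-- base case of Huppert's criterion: class at most two with derived subgroup of exponent `p` -/
theorem isMetacyclic_of_class_two (hodd : p ≠ 2) (hR : IsPGroup p R) (hSF : SmallFrat p R)
    (hDcen : commutator R ≤ center R) (hD : ∀ d ∈ commutator R, d ^ p = 1) :
    Cfsg.IsMetacyclic R := by
  have hpp : p.Prime := hp.out
  by_cases hnc : IsCyclic R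
  · refine ⟨⊥, inferInstance, inferInstance, ?_⟩
    exact isCyclic_of_surjective (QuotientGroup.mk' (⊥ : Subgroup R))
      (QuotientGroup.mk'_surjective _)
  haveI : Nontrivial R := by
    by_contra h
    rw [not_nontrivial_iff_subsingleton] at h
    exact hnc inferInstance
  have hmul := mul_pow_prime_of_class_two hodd hDcen hD
  set f := powHom hodd hDcen hD with hf
  have hfn : f.range.Normal := by
    constructor
    rintro _ ⟨x, rfl⟩ g
    refine ⟨g * x * g⁻¹, ?_⟩
    rw [powHom_apply, powHom_apply, conj_pow]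
  have hfidx : f.range.index ≤ p ^ 2 := hSF f.range hfn (fun x => ⟨x, rfl⟩)
  have hΦidx : (frattini R).index ≤ p ^ 2 :=
    hSF (frattini R) inferInstance (Cfsg.Agent.Helper21.pow_mem_frattini_of_isPGroup hR)
  have hidx1 : Nat.card R ≤ p ^ 2 * Nat.card (frattini R) := by
    rw [← Subgroup.card_mul_index (frattini R), mul_comm]
    exact Nat.mul_le_mul_right _ hΦidx
  have hidx2 := sq_mul_card_frattini_le hR hnc
  obtain ⟨x₀, hx₀⟩ := exists_not_mem_frattini (R := R)
  obtain ⟨y₀, hy₀⟩ := exists_two_gen hR hidx1 x₀ hx₀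
  set z : R := ⁅x₀, y₀⁆ with hz
  have hDz : commutator R ≤ zpowers z := commutator_le_zpowers_of_two_gen x₀ y₀ hy₀ hDcen
  have hfle : f.range ≤ frattini R := by
    rintro _ ⟨x, rfl⟩
    exact Cfsg.Agent.Helper21.pow_mem_frattini_of_isPGroup hR x
  have hfeq : f.range = frattini R := by
    apply Subgroup.eq_of_le_of_card_ge hfle
    have h2 : Nat.card f.range * f.range.index = Nat.card R := Subgroup.card_mul_index _
    have h3 : p ^ 2 * Nat.card (frattini R) ≤ p ^ 2 * Nat.card f.range := by
      calc p ^ 2 * Nat.card (frattini R) ≤ Nat.card R := hidx2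
        _ = Nat.card f.range * f.range.index := h2.symm
        _ ≤ Nat.card f.range * p ^ 2 := Nat.mul_le_mul_left _ hfidx
        _ = p ^ 2 * Nat.card f.range := mul_comm _ _
    exact Nat.le_of_mul_le_mul_left h3 (pow_pos hpp.pos 2)
  have hrange : ∀ w ∈ frattini R, ∃ h : R, h ^ p = w := by
    intro w hw
    rw [← hfeq] at hw
    obtain ⟨h, rfl⟩ := hw
    exact ⟨h, rfl⟩
  obtain ⟨g, hg, hzg⟩ : ∃ g : R, g ∉ frattini R ∧ z ∈ zpowers g := by
    by_cases hz1 : z = 1
    · exact ⟨x₀, hx₀, by rw [hz1]; exact one_mem _⟩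
    · have hzΦ : z ∈ frattini R := by
        have := Cfsg.Agent.Helper21.commutator_mem_frattini_of_isPGroup hR x₀ y₀
        rwa [← commutatorElement_def] at this
      exact exists_not_mem_frattini_zpowers hR hrange _ z hzΦ hz1 rfl
  have hDg : commutator R ≤ zpowers g := hDz.trans (by rw [zpowers_le]; exact hzg)
  haveI hgn : (zpowers g).Normal := by
    constructor
    intro n hn r
    have h1 : r * n * r⁻¹ = ⁅r, n⁆ * n := by rw [commutatorElement_def]; group
    rw [h1]
    exact mul_mem (hDg (commutator_mem' r n)) hn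
  exact ⟨zpowers g, hgn, inferInstance, isCyclic_quotient_zpowers hR hidx1 g hg⟩

end ClassTwo

section Lift

variable {R : Type*} [Group R] [Finite R] {p : ℕ} [hp : Fact p.Prime]

/-- General lifting: if `R / Z` is metacyclic for a normal subgroup `Z` of order `p` inside `R'`,
then `R` is metacyclic, provided the class-two case with derived subgroup of exponent `p` is known
for `R`. -/
theorem isMetacyclic_lift (hR : IsPGroup p R) (Z : Subgroup R) [hZn : Z.Normal]
    (hZ : Nat.card Z = p) (hZD : Z ≤ commutator R) (hmeta : Cfsg.IsMetacyclic (R ⧸ Z))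
    (hbase : commutator R ≤ center R → (∀ d ∈ commutator R, d ^ p = 1) → Cfsg.IsMetacyclic R) :
    Cfsg.IsMetacyclic R := by
  have hpp : p.Prime := hp.out
  have hZcen : Z ≤ center R := Cfsg.Agent.Helper19.normal_card_prime_le_center hR Z hZ
  have hZpow : ∀ z ∈ Z, z ^ p = 1 := by
    intro z hz
    have h1 : (⟨z, hz⟩ : Z) ^ Nat.card Z = 1 := pow_card_eq_one'
    rw [hZ] at h1
    have h2 := congrArg Subtype.val h1
    simpa using h2
  have hZcomm : ∀ z ∈ Z, ∀ g : R, g * z = z * g := fun z hz g =>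
    Subgroup.mem_center_iff.mp (hZcen hz) g
  obtain ⟨Nb, hNbn, hNbc, hQc⟩ := hmeta
  haveI := hNbn
  obtain ⟨D⟩ := Cfsg.Agent.Helper21.exists_mcGen Nb hNbc hQc
  obtain ⟨s, hs⟩ := QuotientGroup.mk'_surjective Z D.a
  obtain ⟨t, ht⟩ := QuotientGroup.mk'_surjective Z D.b
  have hgen : ∀ r : R, ∃ j i : ℕ, ∃ z ∈ Z, r = t ^ j * s ^ i * z := by
    intro r
    obtain ⟨j, i, hji⟩ := D.gen ((QuotientGroup.mk' Z) r)
    have h1 : (QuotientGroup.mk' Z) (t ^ j * s ^ i) = (QuotientGroup.mk' Z) r := by
      rw [hji, map_mul, map_pow, map_pow, hs, ht]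
    have h3 : (t ^ j * s ^ i)⁻¹ * r ∈ Z := QuotientGroup.eq.mp h1
    exact ⟨j, i, _, h3, by group⟩
  -- the preimage of `⟨a⟩`
  set S' : Subgroup R := (zpowers D.a).comap (QuotientGroup.mk' Z) with hS'
  haveI hS'n : S'.Normal := D.normal.comap _
  have hsS' : s ∈ S' := by
    rw [hS', Subgroup.mem_comap, hs]; exact mem_zpowers _
  have hZS' : Z ≤ S' := by
    intro z hz
    rw [hS', Subgroup.mem_comap]
    have : (QuotientGroup.mk' Z) z = 1 := (QuotientGroup.eq_one_iff z).mpr hz
    rw [this]
    exact one_mem _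
  have key : ∀ u ∈ S', ∃ k : ℤ, ∃ z ∈ Z, u = s ^ k * z := by
    intro u hu
    rw [hS', Subgroup.mem_comap] at hu
    obtain ⟨k, hk⟩ := mem_zpowers_iff.mp hu
    rw [← hs, ← map_zpow] at hk
    have h3 : (s ^ k)⁻¹ * u ∈ Z := QuotientGroup.eq.mp hk
    exact ⟨k, _, h3, by group⟩
  have hS'comm : ∀ u ∈ S', ∀ v ∈ S', u * v = v * u := by
    intro u hu v hv
    obtain ⟨k, z, hz, rfl⟩ := key u hu
    obtain ⟨l, w, hw, rfl⟩ := key v hv
    have hzc : ∀ g : R, Commute g z := fun g => hZcomm z hz g
    have hwc : ∀ g : R, Commute g w := fun g => hZcomm w hw g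
    have h1 : Commute (s ^ k) (s ^ l) := (Commute.refl s).zpow_zpow k l
    exact ((h1.mul_right (hwc _)).mul_left ((hzc _).symm.mul_right (hzc w).symm)).eq
  by_cases hZs : Z ≤ zpowers s
  · -- `⟨s⟩` is normal with cyclic quotient
    have hS'eq : S' = zpowers s := by
      apply le_antisymm
      · intro u hu
        obtain ⟨k, z, hz, rfl⟩ := key u hu
        exact mul_mem (zpow_mem (mem_zpowers s) k) (hZs hz)
      · rw [zpowers_le]; exact hsS'
    haveI hn : (zpowers s).Normal := hS'eq ▸ hS'n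
    refine ⟨zpowers s, hn, inferInstance, ?_⟩
    refine ⟨⟨(QuotientGroup.mk' (zpowers s)) t, fun q => ?_⟩⟩
    obtain ⟨r, rfl⟩ := QuotientGroup.mk'_surjective _ q
    obtain ⟨j, i, z, hz, rfl⟩ := hgen r
    refine mem_zpowers_iff.mpr ⟨(j : ℤ), ?_⟩
    rw [zpow_natCast, ← map_pow]
    apply QuotientGroup.eq.mpr
    have h1 : (t ^ j)⁻¹ * (t ^ j * s ^ i * z) = s ^ i * z := by group
    rw [h1]
    exact mul_mem (pow_mem (mem_zpowers s) i) (hZs hz)
  · -- `Z ∩ ⟨s⟩ = 1`
    have hdisj : ∀ z ∈ Z, z ∈ zpowers s → z = 1 := by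
      intro z hz hzs
      by_contra hz1
      apply hZs
      have hzo : orderOf z = p := orderOf_eq_prime (hZpow z hz) hz1
      have hZeq : zpowers z = Z := by
        apply Subgroup.eq_of_le_of_card_ge (zpowers_le.mpr hz)
        rw [Nat.card_zpowers, hzo, hZ]
      rw [← hZeq, zpowers_le]
      exact hzs
    set c : R := s⁻¹ * (t⁻¹ * s * t) with hc
    have htS' : ∀ u ∈ S', t⁻¹ * u * t ∈ S' := by
      intro u hu
      have := hS'n.conj_mem u hu t⁻¹
      simpa using this
    have htS'' : ∀ u ∈ S', t * u * t⁻¹ ∈ S' := fun u hu => hS'n.conj_mem u hu t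
    have hcS' : c ∈ S' := S'.mul_mem (S'.inv_mem hsS') (htS' s hsS')
    have hsc : Commute s c := hS'comm s hsS' c hcS'
    have hts : t⁻¹ * s * t = s * c := by rw [hc]; group
    -- (i)
    have hi : ∀ u ∈ S', u⁻¹ * (t⁻¹ * u * t) ∈ zpowers c := by
      intro u hu
      obtain ⟨k, z, hz, rfl⟩ := key u hu
      have hzc : ∀ g : R, Commute g z := fun g => hZcomm z hz g
      have h1 : t⁻¹ * (s ^ k * z) * t = (t⁻¹ * s * t) ^ k * z := by
        have h2 : (t⁻¹ * s * t) ^ k = t⁻¹ * s ^ k * t := by
          have := conj_zpow (i := k) (a := t⁻¹) (b := s)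
          simpa using this
        rw [h2]
        have h3 : z * t = t * z := ((hzc t).eq).symm
        calc t⁻¹ * (s ^ k * z) * t = t⁻¹ * s ^ k * (z * t) := by group
          _ = t⁻¹ * s ^ k * (t * z) := by rw [h3]
          _ = t⁻¹ * s ^ k * t * z := by group
      rw [h1, hts, hsc.mul_zpow]
      have h4 : (s ^ k * z)⁻¹ * (s ^ k * c ^ k * z) = c ^ k := by
        have h5 : z * (s ^ k * c ^ k) = (s ^ k * c ^ k) * z := ((hzc _).eq).symm
        calc (s ^ k * z)⁻¹ * (s ^ k * c ^ k * z) = z⁻¹ * (s ^ k)⁻¹ * ((s ^ k * c ^ k) * z) := by group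
          _ = z⁻¹ * (s ^ k)⁻¹ * (z * (s ^ k * c ^ k)) := by rw [h5]
          _ = z⁻¹ * ((s ^ k)⁻¹ * z) * (s ^ k * c ^ k) := by group
          _ = z⁻¹ * (z * (s ^ k)⁻¹) * (s ^ k * c ^ k) := by rw [((hzc ((s ^ k)⁻¹)).eq)]
          _ = c ^ k := by group
      rw [h4]
      exact zpow_mem (mem_zpowers c) k
    -- (i')
    have hi' : ∀ u ∈ S', u⁻¹ * (t * u * t⁻¹) ∈ zpowers c := by
      intro u hu
      have h1 := hi (t * u * t⁻¹) (htS'' u hu)
      have h2 : (t * u * t⁻¹)⁻¹ * (t⁻¹ * (t * u * t⁻¹) * t) = (u⁻¹ * (t * u * t⁻¹))⁻¹ := by group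
      rw [h2] at h1
      exact (Subgroup.inv_mem_iff _).mp h1
    have hDS' : zpowers c ≤ S' := zpowers_le.mpr hcS'
    -- (ii) normality of `⟨c⟩`
    have htD : ∀ d ∈ zpowers c, t * d * t⁻¹ ∈ zpowers c := by
      intro d hd
      have h1 := hi' d (hDS' hd)
      have h2 : t * d * t⁻¹ = d * (d⁻¹ * (t * d * t⁻¹)) := by group
      rw [h2]
      exact mul_mem hd h1
    have htjD : ∀ (j : ℕ), ∀ d ∈ zpowers c, t ^ j * d * (t ^ j)⁻¹ ∈ zpowers c := by
      intro j
      induction j with
      | zero => intro d hd; simpa using hd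
      | succ j ih =>
        intro d hd
        have h1 : t ^ (j + 1) * d * (t ^ (j + 1))⁻¹ = t * (t ^ j * d * (t ^ j)⁻¹) * t⁻¹ := by
          rw [pow_succ']; group
        rw [h1]
        exact htD _ (ih d hd)
    haveI hDn : (zpowers c).Normal := by
      constructor
      intro d hd r
      obtain ⟨j, i, z, hz, rfl⟩ := hgen r
      have huS' : s ^ i * z ∈ S' := S'.mul_mem (S'.pow_mem hsS' i) (hZS' hz)
      have h1 : (s ^ i * z) * d * (s ^ i * z)⁻¹ = d := by
        rw [hS'comm _ huS' d (hDS' hd)]; group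
      have h2 : t ^ j * s ^ i * z * d * (t ^ j * s ^ i * z)⁻¹ =
          t ^ j * ((s ^ i * z) * d * (s ^ i * z)⁻¹) * (t ^ j)⁻¹ := by group
      rw [h2, h1]
      exact htjD j d hd
    -- (iii) the quotient by `⟨c⟩` is commutative
    have hcomm : commutator R ≤ zpowers c := by
      set π := QuotientGroup.mk' (zpowers c) with hπ
      have hTU : ∀ u ∈ S', Commute (π t) (π u) := by
        intro u hu
        have h1 : π (u⁻¹ * (t⁻¹ * u * t)) = 1 := (QuotientGroup.eq_one_iff _).mpr (hi u hu)
        rw [map_mul, map_mul, map_mul, map_inv, map_inv] at h1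
        have h2 : π t⁻¹ * π u * π t = π u := by
          have := congrArg (π u * ·) h1
          simpa [mul_assoc] using this
        have h2' : (π t)⁻¹ * π u * π t = π u := by rwa [map_inv] at h2
        show π t * π u = π u * π t
        calc π t * π u = π t * ((π t)⁻¹ * π u * π t) := by rw [h2']
          _ = π u * π t := by group
      have hUV : ∀ u ∈ S', ∀ v ∈ S', Commute (π u) (π v) := by
        intro u hu v hv
        show π u * π v = π v * π u
        rw [← map_mul, ← map_mul, hS'comm u hu v hv]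
      have hall : ∀ a b : R, π a * π b = π b * π a := by
        intro a b
        obtain ⟨j, i, z, hz, rfl⟩ := hgen a
        obtain ⟨l, m, w, hw, rfl⟩ := hgen b
        have hu : s ^ i * z ∈ S' := S'.mul_mem (S'.pow_mem hsS' i) (hZS' hz)
        have hv : s ^ m * w ∈ S' := S'.mul_mem (S'.pow_mem hsS' m) (hZS' hw)
        have e1 : π (t ^ j * s ^ i * z) = π t ^ j * π (s ^ i * z) := by
          rw [mul_assoc, map_mul, map_pow]
        have e2 : π (t ^ l * s ^ m * w) = π t ^ l * π (s ^ m * w) := by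
          rw [mul_assoc, map_mul, map_pow]
        rw [e1, e2]
        have c1 : Commute (π t ^ j) (π t ^ l) := (Commute.refl (π t)).pow_pow j l
        have c2 : Commute (π t ^ j) (π (s ^ m * w)) := (hTU _ hv).pow_left j
        have c3 : Commute (π (s ^ i * z)) (π t ^ l) := ((hTU _ hu).pow_left l).symm
        have c4 : Commute (π (s ^ i * z)) (π (s ^ m * w)) := hUV _ hu _ hv
        exact ((c1.mul_right c2).mul_left (c3.mul_right c4)).eq
      rw [_root_.commutator_def, Subgroup.commutator_le]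
      intro a _ b _
      rw [← QuotientGroup.eq_one_iff, ← QuotientGroup.mk'_apply, map_commutatorElement,
        commutatorElement_eq_one_iff_mul_comm]
      exact hall a b
    -- (iv) `⟨c⟩ ≤ Z`
    obtain ⟨m, z₁, hz₁, hcm⟩ := key c hcS'
    have hcp : c ^ p ∈ zpowers s := by
      have hzc : Commute (s ^ m) z₁ := hZcomm z₁ hz₁ _
      rw [hcm, hzc.mul_pow, hZpow z₁ hz₁, mul_one]
      exact pow_mem (zpow_mem (mem_zpowers s) m) p
    have hZne : ∃ z₀ ∈ Z, z₀ ≠ 1 := by
      by_contra hcon
      have : Z = ⊥ := by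
        rw [Subgroup.eq_bot_iff_forall]
        intro z hz
        by_contra hz1
        exact hcon ⟨z, hz, hz1⟩
      rw [this, Subgroup.card_bot] at hZ
      exact hpp.one_lt.ne hZ
    obtain ⟨z₀, hz₀, hz₀1⟩ := hZne
    have hz₀c : z₀ ∈ zpowers c := hcomm (hZD hz₀)
    rw [← mem_powers_iff_mem_zpowers, Submonoid.mem_powers_iff] at hz₀c
    obtain ⟨k, hk⟩ := hz₀c
    have hpk : ¬ p ∣ k := by
      rintro ⟨k', rfl⟩
      apply hz₀1
      apply hdisj z₀ hz₀
      rw [← hk, pow_mul]
      exact pow_mem hcp k'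
    have hcop : (orderOf c).Coprime k := by
      obtain ⟨e, he⟩ := (IsPGroup.iff_orderOf.mp hR) c
      rw [he]
      exact Nat.Coprime.pow_left e ((Nat.Prime.coprime_iff_not_dvd hpp).mpr hpk)
    have hcZ : c ∈ Z := by
      have h1 : zpowers (c ^ k) = zpowers c := by
        apply Subgroup.eq_of_le_of_card_ge (zpowers_le.mpr (pow_mem (mem_zpowers c) k))
        rw [Nat.card_zpowers, Nat.card_zpowers, hcop.orderOf_pow]
      have h2 : c ∈ zpowers (c ^ k) := by rw [h1]; exact mem_zpowers c
      rw [hk] at h2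
      exact (zpowers_le.mpr hz₀) h2
    have hDZ : commutator R ≤ Z := hcomm.trans (zpowers_le.mpr hcZ)
    exact hbase (hDZ.trans hZcen) (fun d hd => hZpow d (hDZ hd))

end Lift

section Huppert

variable {p : ℕ} [hp : Fact p.Prime]

theorem isMetacyclic_of_smallFrat_aux (hodd : p ≠ 2) : ∀ (n : ℕ) (R : Type u) [Group R] [Finite R],
    Nat.card R = n → IsPGroup p R → SmallFrat p R → Cfsg.IsMetacyclic R := by
  intro n
  induction n using Nat.strong_induction_on with
  | _ n ih =>
    intro R _ _ hn hR hSF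
    have hpp : p.Prime := hp.out
    by_cases hD : commutator R = ⊥
    · apply isMetacyclic_of_class_two hodd hR hSF
      · rw [hD]; exact bot_le
      · intro d hd
        rw [hD, Subgroup.mem_bot] at hd
        rw [hd, one_pow]
    · haveI : (commutator R).Normal := inferInstance
      obtain ⟨Z, hZn, -, hZT, hZc⟩ :=
        exists_normal_step hR (commutator R) ⊥ bot_le (Ne.symm hD)
      haveI := hZn
      rw [Subgroup.card_bot, mul_one] at hZc
      have hlt : Nat.card (R ⧸ Z) < n := by
        have h1 : Nat.card (R ⧸ Z) * Nat.card Z = Nat.card R :=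
          (Subgroup.card_eq_card_quotient_mul_card_subgroup Z).symm
        rw [hZc, hn] at h1
        have hpos : 0 < Nat.card (R ⧸ Z) := Nat.card_pos
        have h2 : 1 < p := hpp.one_lt
        nlinarith
      have hmeta := ih _ hlt (R ⧸ Z) rfl (hR.to_quotient Z) (hSF.quotient Z)
      exact isMetacyclic_lift hR Z hZc hZT hmeta
        (fun h1 h2 => isMetacyclic_of_class_two hodd hR hSF h1 h2)

/-- **Huppert's criterion**: for odd `p`, a `p`-group all of whose quotients of exponent `p` have
order at most `p²` is metacyclic. -/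
theorem isMetacyclic_of_smallFrat (hodd : p ≠ 2) {R : Type u} [Group R] [Finite R]
    (hR : IsPGroup p R) (hSF : SmallFrat p R) : Cfsg.IsMetacyclic R :=
  isMetacyclic_of_smallFrat_aux hodd _ R rfl hR hSF

end Huppert

end Cfsg.Agent.Helper11.Blk
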