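import Mathlib
import Cfsg.Agent.Lib.Helper10.Alperin

/-!
# H-subgroups of a Sylow subgroup: basic lemmas (helper11)

`IsH E`: `g E g⁻¹ ∩ N_G(E) ≤ E` for all `g`.  An `H`-subgroup of a `p`-group `P` is normal in `P`
and strongly closed in `P`.  `exists_between`: intermediate subgroups of prescribed order in a
`p`-group.  `inv_mul_conj_mem_of_relIndex_prime`: an element of order prime to `p - 1` normalizing
`E` and a normal subgroup `E₁` of index `p` acts trivially on `E / E₁`.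
-/

set_option autoImplicit false

namespace Cfsg.Agent.Helper11.HSub

variable {G : Type*} [Group G]

/-- the `H`-subgroup property -/
def IsH (E : Subgroup G) : Prop :=
  ∀ g : G, E.map (MulAut.conj g).toMonoidHom ⊓ Subgroup.normalizer (E : Set G) ≤ E

theorem conj_mem_map (E : Subgroup G) (g : G) {e : G} (he : e ∈ E) :
    g * e * g⁻¹ ∈ E.map (MulAut.conj g).toMonoidHom :=
  ⟨e, he, by simp [MulAut.conj_apply]⟩

/-- an `H`-subgroup of a `p`-group `P` is normal in `P` -/
theorem le_normalizer_of_isH [Finite G] {p : ℕ} [Fact p.Prime] {P E : Subgroup G}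
    (hP : IsPGroup p P) (hEP : E ≤ P) (hE : IsH E) : P ≤ Subgroup.normalizer (E : Set G) := by
  by_contra hcon
  set N1 := P ⊓ Subgroup.normalizer (E : Set G) with hN1
  have hlt : N1 < P := by
    refine lt_of_le_of_ne inf_le_left (fun h => hcon ?_)
    rw [← h]; exact inf_le_right
  have : Group.IsNilpotent P := hP.isNilpotent
  have h2 := Cfsg.Agent.Helper10.lt_inf_normalizer_of_lt P N1 hlt
  obtain ⟨g, hg, hgn⟩ := SetLike.exists_of_lt h2
  have hEN1 : E ≤ N1 := le_inf hEP Subgroup.le_normalizer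
  have key : ∀ g ∈ P ⊓ Subgroup.normalizer (N1 : Set G), ∀ e ∈ E, g * e * g⁻¹ ∈ E := by
    intro g hg e he
    apply hE g
    refine ⟨conj_mem_map E g he, ?_⟩
    have : g * e * g⁻¹ ∈ N1 := (Subgroup.mem_normalizer_iff.mp hg.2 e).mp (hEN1 he)
    exact this.2
  apply hgn
  refine ⟨hg.1, ?_⟩
  apply Cfsg.Agent.Helper10.mem_normalizer_of_conj_mem
  · exact key g hg
  · intro b hb
    have := key g⁻¹ (Subgroup.inv_mem _ hg) b hb
    simpa using this

/-- an `H`-subgroup normalized by `P` is strongly closed in `P` -/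
theorem conj_mem_of_isH {P E : Subgroup G} (hPN : P ≤ Subgroup.normalizer (E : Set G))
    (hE : IsH E) {g e : G} (he : e ∈ E) (h : g * e * g⁻¹ ∈ P) : g * e * g⁻¹ ∈ E :=
  hE g ⟨conj_mem_map E g he, hPN h⟩

/-- intermediate subgroups of prescribed order in a `p`-group -/
theorem exists_between [Finite G] {p : ℕ} [hp : Fact p.Prime] {S H : Subgroup G}
    (hS : IsPGroup p S) (hHS : H ≤ S) {n : ℕ} (h1 : Nat.card H ≤ p ^ n)
    (h2 : p ^ n ≤ Nat.card S) :
    ∃ H' : Subgroup G, H ≤ H' ∧ H' ≤ S ∧ Nat.card H' = p ^ n := by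
  obtain ⟨k, hk⟩ := IsPGroup.iff_card.mp (hS.to_le hHS)
  obtain ⟨s, hs⟩ := IsPGroup.iff_card.mp hS
  have hkn : k ≤ n := (Nat.pow_le_pow_iff_right hp.out.one_lt).mp (hk ▸ h1)
  have hns : n ≤ s := (Nat.pow_le_pow_iff_right hp.out.one_lt).mp (hs ▸ h2)
  have hdvd : p ^ n ∣ Nat.card S := by rw [hs]; exact pow_dvd_pow _ hns
  have hH' : Nat.card (H.subgroupOf S) = p ^ k := by
    rw [← hk]; exact Nat.card_congr (Subgroup.subgroupOfEquivOfLe hHS).toEquiv
  obtain ⟨K, hK, hHK⟩ := Sylow.exists_subgroup_card_pow_prime_le p hdvd (H.subgroupOf S) hH' hkn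
  refine ⟨K.map S.subtype, ?_, Subgroup.map_subtype_le K, ?_⟩
  · intro x hx
    exact ⟨⟨x, hHS hx⟩, hHK (Subgroup.mem_subgroupOf.mpr hx), rfl⟩
  · rw [Subgroup.card_map_of_injective S.subtype_injective]
    exact hK

/-- An element `y` of order prime to `p - 1` normalizing `E` and its normal subgroup `E₁` of
index `p` acts trivially on `E / E₁`. -/
theorem inv_mul_conj_mem_of_relIndex_prime [Finite G] {p : ℕ} [hp : Fact p.Prime]
    (E E1 : Subgroup G) (hn : ∀ a ∈ E, ∀ b ∈ E1, a * b * a⁻¹ ∈ E1)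
    (hidx : E1.relIndex E = p) (y : G) (hyE : y ∈ Subgroup.normalizer (E : Set G))
    (hyE1 : y ∈ Subgroup.normalizer (E1 : Set G)) (hcop : (orderOf y).Coprime (p - 1))
    {x : G} (hx : x ∈ E) : x⁻¹ * (y * x * y⁻¹) ∈ E1 := by
  have hN : (E1.subgroupOf E).Normal := by
    constructor
    intro b hb a
    rw [Subgroup.mem_subgroupOf] at hb ⊢
    simpa using hn a a.2 b hb
  have hQcard : Nat.card (↥E ⧸ E1.subgroupOf E) = p := by
    rw [← Subgroup.index_eq_card]; exact hidx
  have : IsCyclic (↥E ⧸ E1.subgroupOf E) := isCyclic_of_prime_card hQcard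
  set φ : MulAut ↥E := E.normalizerMonoidHom ⟨y, hyE⟩ with hφdef
  have hφ : ∀ a : ↥E, ((φ a : ↥E) : G) = y * a * y⁻¹ := fun a => rfl
  have hmap : (E1.subgroupOf E).map ((φ : ↥E ≃* ↥E) : ↥E →* ↥E) = E1.subgroupOf E := by
    apply Subgroup.eq_of_le_of_card_ge
    · rintro _ ⟨b, hb, rfl⟩
      rw [SetLike.mem_coe, Subgroup.mem_subgroupOf] at hb
      rw [Subgroup.mem_subgroupOf]
      exact (Subgroup.mem_normalizer_iff.mp hyE1 _).mp hb
    · rw [Subgroup.card_map_of_injective (show Function.Injective ((φ : ↥E ≃* ↥E) : ↥E →* ↥E) from φ.injective)]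
  set ψ : MulAut (↥E ⧸ E1.subgroupOf E) := QuotientGroup.congr _ _ (φ : ↥E ≃* ↥E) hmap with hψdef
  have hψ : ∀ k : ℕ, ∀ a : ↥E, (ψ ^ k) (QuotientGroup.mk a) = QuotientGroup.mk ((φ ^ k) a) := by
    intro k
    induction k with
    | zero => intro a; simp
    | succ k ih =>
      intro a
      rw [pow_succ', MulAut.mul_apply, ih, pow_succ', MulAut.mul_apply, hψdef,
        QuotientGroup.congr_mk]
  have hφpow : φ ^ orderOf y = 1 := by
    rw [hφdef, ← map_pow]
    have : (⟨y, hyE⟩ : Subgroup.normalizer (E : Set G)) ^ orderOf y = 1 := by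
      apply Subtype.ext
      simp [pow_orderOf_eq_one]
    rw [this, map_one]
  have hψpow : ψ ^ orderOf y = 1 := by
    ext q
    induction q using QuotientGroup.induction_on with
    | H a => rw [hψ, hφpow]; simp
  have h1 : orderOf ψ ∣ orderOf y := orderOf_dvd_of_pow_eq_one hψpow
  have h2 : orderOf ψ ∣ p - 1 := by
    have hc : Nat.card (MulAut (↥E ⧸ E1.subgroupOf E)) = p - 1 := by
      rw [IsCyclic.card_mulAut, hQcard, Nat.totient_prime hp.out]
    rw [← hc]
    exact orderOf_dvd_natCard ψ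
  have h3 : orderOf ψ = 1 := Nat.eq_one_of_dvd_coprimes hcop h1 h2
  rw [orderOf_eq_one_iff] at h3
  have h4 : ψ (QuotientGroup.mk ⟨x, hx⟩) = QuotientGroup.mk ⟨x, hx⟩ := by rw [h3]; rfl
  rw [hψdef, QuotientGroup.congr_mk] at h4
  have h5 := QuotientGroup.eq.mp h4.symm
  rw [Subgroup.mem_subgroupOf] at h5
  simpa [hφ] using h5

end Cfsg.Agent.Helper11.HSub
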