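import Mathlib
import Cfsg.Agent.Lib.Helper11.BlkHuppert
import Cfsg.Agent.Lib.Helper14.MaxClassZ2
import Cfsg.Agent.Lib.Helper16.OddUnique

/-!
# Utilities for the `SmallOmega` dichotomy (helper11)
-/

set_option autoImplicit false

namespace Cfsg.Agent.Helper11.Blk

open Subgroup Cfsg.Agent.Helper22
open scoped commutatorElement

universe u

section Util

variable {G : Type*} [Group G] [Finite G] {p : ℕ} [hp : Fact p.Prime]

/-- `p`-th powers lie in a normal subgroup of index `p` -/
theorem pow_mem_of_index_eq_prime (A : Subgroup G) [A.Normal] (hA : A.index = p) (r : G) :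
    r ^ p ∈ A := by
  rw [← QuotientGroup.eq_one_iff, QuotientGroup.mk_pow]
  have h1 : Nat.card (G ⧸ A) = p := by rw [← Subgroup.index_eq_card]; exact hA
  have h2 : ((r : G ⧸ A)) ^ Nat.card (G ⧸ A) = 1 := pow_card_eq_one'
  rwa [h1] at h2

/-- a group with a cyclic subgroup `⟨g⟩` of index `p` is metacyclic -/
theorem isMetacyclic_of_index_zpowers (hG : IsPGroup p G) (g : G) (h : (zpowers g).index = p) :
    Cfsg.IsMetacyclic G := by
  haveI hn : (zpowers g).Normal := Cfsg.Agent.Helper19.normal_of_index_eq_prime hG _ h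
  refine ⟨zpowers g, hn, inferInstance, ?_⟩
  apply isCyclic_of_prime_card (p := p)
  rw [← Subgroup.index_eq_card]; exact h

/-- class at most two from a large central subgroup -/
theorem commutator_le_center_of_central (hG : IsPGroup p G) (M : Subgroup G) (hM : M ≤ center G)
    (h : Nat.card G ≤ p ^ 2 * Nat.card M) : commutator G ≤ center G := by
  have hq : Nat.card (G ⧸ center G) ≤ p ^ 2 := by
    have h1 : Nat.card (G ⧸ center G) * Nat.card (center G) = Nat.card G :=
      (Subgroup.card_eq_card_quotient_mul_card_subgroup (center G)).symm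
    have h2 : Nat.card M ≤ Nat.card (center G) := Subgroup.card_le_of_le hM
    have hMpos : 0 < Nat.card M := Nat.card_pos
    have h3 : Nat.card (G ⧸ center G) * Nat.card M ≤ p ^ 2 * Nat.card M := by
      calc Nat.card (G ⧸ center G) * Nat.card M
          ≤ Nat.card (G ⧸ center G) * Nat.card (center G) := Nat.mul_le_mul_left _ h2
        _ = Nat.card G := h1
        _ ≤ p ^ 2 * Nat.card M := h
    exact Nat.le_of_mul_le_mul_right h3 hMpos
  rw [_root_.commutator_def, Subgroup.commutator_le]
  intro a _ b _
  have hab := mul_comm_of_card_le_sq (hG.to_quotient (center G)) hq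
    (QuotientGroup.mk' (center G) a) (QuotientGroup.mk' (center G) b)
  have h3 : (QuotientGroup.mk' (center G)) ⁅a, b⁆ = 1 := by
    rw [map_commutatorElement, commutatorElement_eq_one_iff_mul_comm]
    exact hab
  exact (QuotientGroup.eq_one_iff _).mp h3

/-- if all `p`-th powers lie in a central subgroup of order at most `p` and the class is at most
two, a `SmallOmega` group has order at most `p³` -/
theorem card_le_cube_of_pow_mem (hodd : p ≠ 2) (hS : SmallOmega p G) (Z : Subgroup G)
    (hZc : Z ≤ center G) (hZ : Nat.card Z ≤ p) (hpow : ∀ k : G, k ^ p ∈ Z)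
    (hcl : commutator G ≤ center G) : Nat.card G ≤ p ^ 3 := by
  have hD : ∀ d ∈ commutator G, d ^ p = 1 := by
    intro d hd
    have hd' := hd
    rw [commutator_eq_closure] at hd'
    induction hd' using Subgroup.closure_induction with
    | mem x hx =>
      obtain ⟨a, b, rfl⟩ := hx
      have hc : ⁅a, b⁆ ∈ center G := hcl (commutator_mem' a b)
      rw [← commutator_pow_left_of_central b a hc p, commutatorElement_eq_one_iff_commute]
      exact (mem_center_iff.mp (hZc (hpow a)) b).symm
    | one => exact one_pow p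
    | mul x y hx hy hxp hyp =>
      have hxc : x ∈ center G := hcl (by rw [commutator_eq_closure]; exact hx)
      have hxy : Commute x y := (mem_center_iff.mp hxc y).symm
      rw [hxy.mul_pow, hxp (by rw [commutator_eq_closure]; exact hx),
        hyp (by rw [commutator_eq_closure]; exact hy), one_mul]
    | inv x hx hxp => rw [inv_pow, hxp (by rw [commutator_eq_closure]; exact hx), inv_one]
  set f := powHom hodd hcl hD with hf
  have hker : Nat.card f.ker ≤ p ^ 2 := hS f.ker (fun x hx => hx)
  have hrange : Nat.card f.range ≤ p := by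
    refine le_trans (Subgroup.card_le_of_le ?_) hZ
    rintro _ ⟨x, rfl⟩
    exact hpow x
  have h2 : Nat.card f.ker * f.ker.index = Nat.card G := Subgroup.card_mul_index _
  rw [Subgroup.index_ker] at h2
  calc Nat.card G = Nat.card f.ker * Nat.card f.range := h2.symm
    _ ≤ p ^ 2 * p := Nat.mul_le_mul hker hrange
    _ = p ^ 3 := by ring

end Util

section Util2

variable {G : Type*} [Group G] [Finite G] {p : ℕ} [hp : Fact p.Prime]

/-- key exclusion lemma: in a `SmallOmega` group there is no subgroup `K` of order `p⁴`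
centralizing a normal elementary subgroup `N` of order `p²` with all `p`-th powers in a central
subgroup `Z` of order `p`. -/
theorem not_card_eq_four (hodd : p ≠ 2) (hG : IsPGroup p G) (hS : SmallOmega p G)
    (N : Subgroup G) [N.Normal] (hNexp : ∀ a ∈ N, a ^ p = 1) (hNcard : Nat.card N = p ^ 2)
    (Z : Subgroup G) (hZc : Z ≤ center G) (hZ : Nat.card Z = p)
    (K : Subgroup G) (hKpow : ∀ k ∈ K, k ^ p ∈ Z) (hKN : K ≤ centralizer (N : Set G))
    (hK4 : Nat.card K = p ^ 4) : False := by
  have hpp : p.Prime := hp.out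
  have hZpow : ∀ z ∈ Z, z ^ p = 1 := by
    intro z hz
    have h1 : (⟨z, hz⟩ : Z) ^ Nat.card Z = 1 := pow_card_eq_one'
    rw [hZ] at h1
    have h2 := congrArg Subtype.val h1
    simpa using h2
  have hKp : IsPGroup p K := hG.to_subgroup K
  by_cases hKc : IsCyclic K
  · obtain ⟨g, hg⟩ := hKc.exists_generator
    have h1 : orderOf g = Nat.card K := orderOf_eq_card_of_forall_mem_zpowers hg
    have h2 : (g : G) ^ (p ^ 2) = 1 := by
      rw [pow_two, pow_mul]
      exact hZpow _ (hKpow _ g.2)
    have h3 : orderOf (g : G) ∣ p ^ 2 := orderOf_dvd_of_pow_eq_one h2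
    rw [Subgroup.orderOf_coe, h1, hK4] at h3
    have h4 : p ^ 4 ≤ p ^ 2 := Nat.le_of_dvd (pow_pos hpp.pos 2) h3
    have h5 : p ^ 2 < p ^ 4 := Nat.pow_lt_pow_right hpp.one_lt (by norm_num)
    omega
  · have htop : ¬ IsCyclic (⊤ : Subgroup K) := by
      intro h
      apply hKc
      haveI := h
      exact isCyclic_of_surjective (Subgroup.topEquiv : (⊤ : Subgroup K) ≃* K)
        Subgroup.topEquiv.surjective
    obtain ⟨A', -, -, ⟨-, hA'exp⟩, hA'card⟩ :=
      exists_normal_elementary_sq hodd hKp (⊤ : Subgroup K) htop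
    have hAN : A'.map K.subtype ≤ N := by
      rintro _ ⟨a, ha, rfl⟩
      apply mem_of_pow_eq_one hodd hG hS N hNexp hNcard
      have := hA'exp a ha
      have h2 := congrArg Subtype.val this
      simpa using h2
    have hAeq : A'.map K.subtype = N := by
      apply Subgroup.eq_of_le_of_card_ge hAN
      rw [Subgroup.card_map_of_injective K.subtype_injective, hA'card, hNcard]
    have hNK : N ≤ K := by
      rw [← hAeq]
      rintro _ ⟨a, -, rfl⟩
      exact a.2
    -- `N` is central in `K`
    have hNkc : N.subgroupOf K ≤ center K := by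
      intro n hn
      rw [Subgroup.mem_center_iff]
      intro k
      apply Subtype.ext
      have h1 := Subgroup.mem_centralizer_iff.mp (hKN k.2) (n : G) (Subgroup.mem_subgroupOf.mp hn)
      simpa using h1.symm
    have hNkcard : Nat.card (N.subgroupOf K) = p ^ 2 := by
      rw [Nat.card_congr (Subgroup.subgroupOfEquivOfLe hNK).toEquiv, hNcard]
    have hcl : commutator K ≤ center K := by
      apply commutator_le_center_of_central hKp (N.subgroupOf K) hNkc
      rw [hNkcard, hK4]
      exact le_of_eq (by ring)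
    have hZkc : Z.subgroupOf K ≤ center K := by
      intro z hz
      rw [Subgroup.mem_center_iff]
      intro k
      apply Subtype.ext
      have h1 := Subgroup.mem_center_iff.mp (hZc (Subgroup.mem_subgroupOf.mp hz)) (k : G)
      simpa using h1
    have hZkcard : Nat.card (Z.subgroupOf K) ≤ p := by
      rw [← hZ]
      let φ : Z.subgroupOf K → Z := fun z => ⟨(z : K), Subgroup.mem_subgroupOf.mp z.2⟩
      apply Nat.card_le_card_of_injective φ
      intro a b hab
      have h1 : ((a : K) : G) = ((b : K) : G) := congrArg (fun z : Z => (z : G)) hab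
      exact Subtype.ext (Subtype.ext h1)
    have hle := card_le_cube_of_pow_mem hodd (hS.subgroup K) (Z.subgroupOf K) hZkc hZkcard
      (fun k => by
        rw [Subgroup.mem_subgroupOf, Subgroup.coe_pow]
        exact hKpow _ k.2) hcl
    rw [hK4] at hle
    have h5 : p ^ 3 < p ^ 4 := Nat.pow_lt_pow_right hpp.one_lt (by norm_num)
    omega

/-- if `G / Z` is not `SmallOmega` (`|Z| = p`), there is a subgroup of order `p⁴` all of whose
`p`-th powers lie in `Z` -/
theorem exists_of_not_smallOmega_quotient (hG : IsPGroup p G) (Z : Subgroup G) [Z.Normal]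
    (hZ : Nat.card Z = p) (h : ¬ SmallOmega p (G ⧸ Z)) :
    ∃ K : Subgroup G, Nat.card K = p ^ 4 ∧ ∀ k ∈ K, k ^ p ∈ Z := by
  have hpp : p.Prime := hp.out
  unfold SmallOmega at h
  push Not at h
  obtain ⟨Kb, hKbexp, hKbcard⟩ := h
  have hKbp : IsPGroup p Kb := (hG.to_quotient Z).to_subgroup Kb
  obtain ⟨e, he⟩ := hKbp.exists_card_eq
  have he3 : 3 ≤ e := by
    by_contra hcon
    have : e ≤ 2 := by omega
    have h2 : p ^ e ≤ p ^ 2 := Nat.pow_le_pow_right hpp.pos this
    omega
  have hdvd : p ^ 3 ∣ Nat.card Kb := by rw [he]; exact pow_dvd_pow p he3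
  obtain ⟨K₁, hK₁⟩ := Sylow.exists_subgroup_card_pow_prime p hdvd
  set K₂ : Subgroup (G ⧸ Z) := K₁.map Kb.subtype with hK₂
  have hK₂card : Nat.card K₂ = p ^ 3 := by
    rw [hK₂, Subgroup.card_map_of_injective Kb.subtype_injective, hK₁]
  have hK₂exp : ∀ q ∈ K₂, q ^ p = 1 := by
    rintro _ ⟨k, -, rfl⟩
    exact hKbexp _ k.2
  refine ⟨K₂.comap (QuotientGroup.mk' Z), ?_, ?_⟩
  · rw [card_comap_mk', hK₂card, hZ]; ring
  · intro k hk
    rw [Subgroup.mem_comap] at hk
    have := hK₂exp _ hk
    rw [← map_pow] at this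
    exact (QuotientGroup.eq_one_iff _).mp this

/-- a normal subgroup of order `p²` lies in the second centre when the centre has order `p` -/
theorem le_upperCentralSeries_two (hG : IsPGroup p G) (hZ : Nat.card (center G) = p)
    (H : Subgroup G) [hHn : H.Normal] (hH : Nat.card H = p ^ 2) :
    H ≤ Subgroup.upperCentralSeries G 2 := by
  have hpp : p.Prime := hp.out
  have hHne : H ≠ ⊥ := by
    rintro rfl
    rw [Subgroup.card_bot] at hH
    have : 1 < p ^ 2 := Nat.one_lt_pow (by norm_num) hpp.one_lt
    omega
  have h1 := Cfsg.Agent.Helper19.normal_inf_center_ne_bot hG H hHne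
  have hcH : center G ≤ H := by
    have h2 : Nat.card ↥(H ⊓ center G) ∣ p := by
      rw [← hZ]; exact Subgroup.card_dvd_of_le inf_le_right
    have h3 : Nat.card ↥(H ⊓ center G) ≠ 1 := fun h => h1 ((H ⊓ center G).card_eq_one.mp h)
    have h4 : Nat.card ↥(H ⊓ center G) = p := by
      rcases (Nat.dvd_prime hpp).mp h2 with h | h
      · exact absurd h h3
      · exact h
    have h5 : H ⊓ center G = center G := by
      apply Subgroup.eq_of_le_of_card_ge inf_le_right
      rw [h4, hZ]
    rw [← h5]; exact inf_le_left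
  set Hb : Subgroup (G ⧸ center G) := H.map (QuotientGroup.mk' (center G)) with hHb
  haveI hHbn : Hb.Normal := hHn.map _ (QuotientGroup.mk'_surjective _)
  have hHbcard : Nat.card Hb = p := by
    have h2 := card_comap_mk' (center G) Hb
    have h3 : Hb.comap (QuotientGroup.mk' (center G)) = H := by
      rw [hHb]
      apply Subgroup.comap_map_eq_self
      rw [QuotientGroup.ker_mk']
      exact hcH
    rw [h3, hH, hZ, pow_two] at h2
    exact (Nat.eq_of_mul_eq_mul_right hpp.pos h2).symm
  have hHbc : Hb ≤ center (G ⧸ center G) :=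
    Cfsg.Agent.Helper19.normal_card_prime_le_center (hG.to_quotient _) Hb hHbcard
  intro h hh
  rw [show (2 : ℕ) = 1 + 1 from rfl, Subgroup.mem_upperCentralSeries_succ_iff]
  intro y
  rw [Subgroup.upperCentralSeries_one, ← QuotientGroup.eq_one_iff, ← QuotientGroup.mk'_apply,
    map_commutatorElement, commutatorElement_eq_one_iff_commute]
  have h2 : (QuotientGroup.mk' (center G)) h ∈ center (G ⧸ center G) :=
    hHbc (Subgroup.mem_map_of_mem _ hh)
  exact (Subgroup.mem_center_iff.mp h2 _).symm

/-- `SmallOmega` groups of order at most `p³` are metacyclic -/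
theorem isMetacyclic_of_small (n : ℕ) (hcard : Nat.card G = p ^ n) (hn : n ≤ 3)
    (hS : SmallOmega p G) : Cfsg.IsMetacyclic G := by
  have hpp : p.Prime := hp.out
  have hG : IsPGroup p G := IsPGroup.of_card hcard
  by_cases hnc : IsCyclic G
  · refine ⟨⊥, inferInstance, inferInstance, ?_⟩
    exact isCyclic_of_surjective (QuotientGroup.mk' (⊥ : Subgroup G))
      (QuotientGroup.mk'_surjective _)
  suffices h : ∃ g : G, (zpowers g).index = p by
    obtain ⟨g, hg⟩ := h
    exact isMetacyclic_of_index_zpowers hG g hg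
  by_cases hexp : ∀ g : G, g ^ p = 1
  · have h1 : Nat.card G ≤ p ^ 2 := by
      have := hS ⊤ (fun x _ => hexp x)
      rwa [Subgroup.card_top] at this
    rw [hcard] at h1
    have hn2 : n ≤ 2 := (Nat.pow_le_pow_iff_right hpp.one_lt).mp h1
    have hn2' : n = 2 := by
      by_contra hne
      apply hnc
      rcases (by omega : n = 0 ∨ n = 1) with h0 | h0
      · rw [h0, pow_zero] at hcard
        haveI : Subsingleton G := (Nat.card_eq_one_iff_unique.mp hcard).1
        exact isCyclic_of_subsingleton
      · rw [h0, pow_one] at hcard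
        exact isCyclic_of_prime_card hcard
    haveI : Nontrivial G := by
      rw [← Finite.one_lt_card_iff_nontrivial, hcard]
      exact Nat.one_lt_pow (by omega) hpp.one_lt
    obtain ⟨g, hg⟩ := exists_ne (1 : G)
    refine ⟨g, ?_⟩
    have hgo : orderOf g = p := orderOf_eq_prime (hexp g) hg
    have h2 := (zpowers g).card_mul_index
    rw [Nat.card_zpowers, hgo, hcard, hn2', pow_two] at h2
    exact Nat.eq_of_mul_eq_mul_left hpp.pos h2
  · push Not at hexp
    obtain ⟨g, hg⟩ := hexp
    refine ⟨g, ?_⟩
    obtain ⟨e, he⟩ := (IsPGroup.iff_orderOf.mp hG) g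
    have he2 : 2 ≤ e := by
      by_contra hcon
      apply hg
      have h1 : orderOf g ∣ p := by
        rw [he]
        calc p ^ e ∣ p ^ 1 := pow_dvd_pow p (by omega)
          _ = p := pow_one p
      exact orderOf_dvd_iff_pow_eq_one.mp h1
    have h2 := (zpowers g).card_mul_index
    rw [Nat.card_zpowers, he, hcard] at h2
    have hen : e ≤ n := by
      have : p ^ e ∣ p ^ n := Dvd.intro _ h2
      exact (Nat.pow_dvd_pow_iff_le_right hpp.one_lt).mp this
    have h3 : (zpowers g).index = p ^ (n - e) := by
      have h4 : p ^ e * (zpowers g).index = p ^ e * p ^ (n - e) := by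
        rw [h2, ← pow_add]; congr 1; omega
      exact Nat.eq_of_mul_eq_mul_left (pow_pos hpp.pos e) h4
    have hne : n - e ≠ 0 := by
      intro h0
      rw [h0, pow_zero, Subgroup.index_eq_one] at h3
      apply hnc
      refine ⟨⟨g, fun x => ?_⟩⟩
      have hx : x ∈ zpowers g := by rw [h3]; exact mem_top x
      exact hx
    have : n - e = 1 := by omega
    rw [h3, this, pow_one]

end Util2

end Cfsg.Agent.Helper11.Blk
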