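import Mathlib
import Cfsg.Agent.Lib.Helper11.BlkUtil

/-!
# `SmallOmega` `p`-groups (`p` odd) are metacyclic or of maximal class (helper11)
-/

set_option autoImplicit false

namespace Cfsg.Agent.Helper11.Blk

open Subgroup Cfsg.Agent.Helper22
open scoped commutatorElement

universe u

section Aux

variable {G : Type*} [Group G] [Finite G] {p : ℕ} [hp : Fact p.Prime]

/-- a subgroup of prime order meeting `H` nontrivially lies in `H` -/
theorem le_of_inf_ne_bot_of_card_prime (Z H : Subgroup G) (hZ : Nat.card Z = p)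
    (h : H ⊓ Z ≠ ⊥) : Z ≤ H := by
  have hpp : p.Prime := hp.out
  have h2 : Nat.card ↥(H ⊓ Z) ∣ p := by
    rw [← hZ]; exact Subgroup.card_dvd_of_le inf_le_right
  have h3 : Nat.card ↥(H ⊓ Z) ≠ 1 := fun h' => h ((H ⊓ Z).card_eq_one.mp h')
  have h4 : Nat.card ↥(H ⊓ Z) = p := by
    rcases (Nat.dvd_prime hpp).mp h2 with h' | h'
    · exact absurd h' h3
    · exact h'
  have h5 : H ⊓ Z = Z := by
    apply Subgroup.eq_of_le_of_card_ge inf_le_right
    rw [h4, hZ]
  rw [← h5]; exact inf_le_left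

theorem pow_eq_one_of_card_prime (Z : Subgroup G) (hZ : Nat.card Z = p) : ∀ z ∈ Z, z ^ p = 1 := by
  intro z hz
  have h1 : (⟨z, hz⟩ : Z) ^ Nat.card Z = 1 := pow_card_eq_one'
  rw [hZ] at h1
  have h2 := congrArg Subtype.val h1
  simpa using h2

theorem card_quotient_of_card_prime (n : ℕ) (hcard : Nat.card G = p ^ n) (hn : 1 ≤ n)
    (Z : Subgroup G) [Z.Normal] (hZ : Nat.card Z = p) : Nat.card (G ⧸ Z) = p ^ (n - 1) := by
  have hpp : p.Prime := hp.out
  have h1 : Nat.card (G ⧸ Z) * Nat.card Z = Nat.card G :=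
    (Subgroup.card_eq_card_quotient_mul_card_subgroup Z).symm
  rw [hZ, hcard] at h1
  have h2 : p ^ (n - 1) * p = p ^ n := by
    rw [← pow_succ]; congr 1; omega
  rw [← h2] at h1
  exact Nat.eq_of_mul_eq_mul_right hpp.pos h1

end Aux

section MaxQuot

variable {p : ℕ} [hp : Fact p.Prime]

/-- in a quotient of maximal class by a subgroup `Z` of order `p`, a normal subgroup `Y ≥ Z` of
order `p³` has all its `p`-th powers in `Z` -/
theorem pow_mem_of_maxClass_quotient (hodd : p ≠ 2) (m : ℕ) (hm : 4 ≤ m) (G : Type u) [Group G]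
    [Finite G] (hG : IsPGroup p G) (Z : Subgroup G) [Z.Normal] (hZ : Nat.card Z = p)
    (hQcard : Nat.card (G ⧸ Z) = p ^ m) (hQc : Group.nilpotencyClass (G ⧸ Z) = m - 1)
    (Y : Subgroup G) [hYn : Y.Normal] (hZY : Z ≤ Y) (hY : Nat.card Y = p ^ 3) :
    ∀ y ∈ Y, y ^ p ∈ Z := by
  have hpp : p.Prime := hp.out
  have hQ : IsPGroup p (G ⧸ Z) := hG.to_quotient Z
  obtain ⟨hZQ, hZ2⟩ := Cfsg.Agent.Helper14.MaxClassZ2.card_center_and_Z2 m hm hQcard hQc
  set Yb : Subgroup (G ⧸ Z) := Y.map (QuotientGroup.mk' Z) with hYb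
  haveI hYbn : Yb.Normal := hYn.map _ (QuotientGroup.mk'_surjective _)
  have hYbcard : Nat.card Yb = p ^ 2 := by
    have h2 := card_comap_mk' Z Yb
    have h3 : Yb.comap (QuotientGroup.mk' Z) = Y := by
      rw [hYb]
      apply Subgroup.comap_map_eq_self
      rw [QuotientGroup.ker_mk']
      exact hZY
    rw [h3, hY, hZ] at h2
    have h4 : p ^ 2 * p = Nat.card Yb * p := by rw [← h2]; ring
    exact (Nat.eq_of_mul_eq_mul_right hpp.pos h4).symm
  have hnc : ¬ IsCyclic (⊤ : Subgroup (G ⧸ Z)) := by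
    intro h
    haveI := h
    haveI : IsCyclic (G ⧸ Z) := isCyclic_of_surjective (Subgroup.topEquiv : (⊤ : Subgroup (G ⧸ Z)) ≃* (G ⧸ Z))
      Subgroup.topEquiv.surjective
    have h1 : center (G ⧸ Z) = ⊤ := by
      rw [eq_top_iff]
      intro x _
      rw [Subgroup.mem_center_iff]
      intro g
      exact (IsCyclic.commGroup (α := G ⧸ Z)).mul_comm g x
    rw [h1, Subgroup.card_top, hQcard] at hZQ
    have h2 : p ^ 1 < p ^ m := Nat.pow_lt_pow_right hpp.one_lt (by omega)
    rw [pow_one] at h2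
    omega
  obtain ⟨X, -, hXn, ⟨-, hXexp⟩, hXcard⟩ :=
    exists_normal_elementary_sq hodd hQ (⊤ : Subgroup (G ⧸ Z)) hnc
  haveI := hXn
  have h1 := le_upperCentralSeries_two hQ hZQ Yb hYbcard
  have h2 := le_upperCentralSeries_two hQ hZQ X hXcard
  have h3 : Yb = Subgroup.upperCentralSeries (G ⧸ Z) 2 :=
    Subgroup.eq_of_le_of_card_ge h1 (by rw [hZ2, hYbcard])
  have h4 : X = Subgroup.upperCentralSeries (G ⧸ Z) 2 :=
    Subgroup.eq_of_le_of_card_ge h2 (by rw [hZ2, hXcard])
  intro y hy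
  have h5 : (QuotientGroup.mk' Z) y ∈ X := by
    rw [h4, ← h3]; exact Subgroup.mem_map_of_mem _ hy
  have h6 := hXexp _ h5
  rw [← map_pow] at h6
  exact (QuotientGroup.eq_one_iff _).mp h6

end MaxQuot

section Main

variable {p : ℕ} [hp : Fact p.Prime]

/-- the dichotomy: metacyclic or of maximal class -/
def Dich (m : ℕ) (H : Type u) [Group H] : Prop :=
  Cfsg.IsMetacyclic H ∨ (4 ≤ m ∧ Group.nilpotencyClass H = m - 1)

/-- the induction hypothesis -/
def IHyp (p n : ℕ) : Prop :=
  ∀ m < n, ∀ (H : Type u) [Group H] [Finite H], Nat.card H = p ^ m → SmallOmega p H → Dich m H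

/-- the case of a central elementary abelian subgroup of order `p²` -/
theorem central_case (hodd : p ≠ 2) (n : ℕ) (ih : IHyp.{u} p n) (G : Type u) [Group G] [Finite G]
    (hcard : Nat.card G = p ^ n) (hS : SmallOmega p G) (N : Subgroup G) [hNn : N.Normal]
    (hNexp : ∀ a ∈ N, a ^ p = 1) (hNcard : Nat.card N = p ^ 2) (hNc : N ≤ center G) :
    Cfsg.IsMetacyclic G := by
  have hpp : p.Prime := hp.out
  have hG : IsPGroup p G := IsPGroup.of_card hcard
  have hΩ : ∀ g : G, g ^ p = 1 → g ∈ N := mem_of_pow_eq_one hodd hG hS N hNexp hNcard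
  have hbase : commutator G ≤ center G → (∀ d ∈ commutator G, d ^ p = 1) →
      Cfsg.IsMetacyclic G :=
    fun h1 h2 => isMetacyclic_of_class_two hodd hG (smallFrat_of_smallOmega hodd hS h1 h2) h1 h2
  by_cases hD : commutator G = ⊥
  · apply hbase
    · rw [hD]; exact bot_le
    · intro d hd
      rw [hD, Subgroup.mem_bot] at hd
      rw [hd, one_pow]
  have hn2 : 2 ≤ n := by
    have h1 : p ^ 2 ∣ p ^ n := by rw [← hNcard, ← hcard]; exact Subgroup.card_subgroup_dvd_card N
    exact (Nat.pow_dvd_pow_iff_le_right hpp.one_lt).mp h1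
  have hcentN : centralizer (N : Set G) = ⊤ := centralizer_eq_top_iff_subset.mpr hNc
  have hquot : ∀ (Z : Subgroup G) (hZn : Z.Normal), Z ≤ N → Nat.card Z = p → Z ≤ commutator G →
      Cfsg.IsMetacyclic G ∨ (4 ≤ n - 1 ∧ Group.nilpotencyClass (G ⧸ Z) = n - 1 - 1) := by
    intro Z hZn hZN hZ hZD
    haveI := hZn
    have hSQ : SmallOmega p (G ⧸ Z) := by
      by_contra hcon
      obtain ⟨K, hK4, hKpow⟩ := exists_of_not_smallOmega_quotient hG Z hZ hcon
      exact not_card_eq_four hodd hG hS N hNexp hNcard Z (hZN.trans hNc) hZ K hKpow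
        (by rw [hcentN]; exact le_top) hK4
    have hQcard : Nat.card (G ⧸ Z) = p ^ (n - 1) :=
      card_quotient_of_card_prime n hcard (by omega) Z hZ
    rcases ih (n - 1) (by omega) (G ⧸ Z) hQcard hSQ with h | h
    · left; exact isMetacyclic_lift hG Z hZ hZD h hbase
    · right; exact h
  obtain ⟨Z₀, hZ₀n, -, hZ₀D, hZ₀c⟩ :=
    exists_normal_step hG (commutator G) ⊥ bot_le (Ne.symm hD)
  rw [Subgroup.card_bot, mul_one] at hZ₀c
  have hZ₀N : Z₀ ≤ N := fun z hz => hΩ z (pow_eq_one_of_card_prime Z₀ hZ₀c z hz)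
  rcases hquot Z₀ hZ₀n hZ₀N hZ₀c hZ₀D with h | ⟨h4, hc₀⟩
  · exact h
  haveI := hZ₀n
  -- `N ≤ G'`
  have hQcard : Nat.card (G ⧸ Z₀) = p ^ (n - 1) :=
    card_quotient_of_card_prime n hcard (by omega) Z₀ hZ₀c
  have hQ : IsPGroup p (G ⧸ Z₀) := hG.to_quotient Z₀
  have hZQ : Nat.card (center (G ⧸ Z₀)) = p :=
    (maxClass_facts p (n - 1) (by omega) (G ⧸ Z₀) hQcard hc₀).2 (by omega)
  have hDQ : commutator (G ⧸ Z₀) ≠ ⊥ := by
    intro h
    haveI : Group.IsNilpotent (G ⧸ Z₀) := hQ.isNilpotent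
    have h1 : IsMulCommutative (G ⧸ Z₀) := by
      refine ⟨⟨fun a b => ?_⟩⟩
      have h2 : ⁅a, b⁆ ∈ commutator (G ⧸ Z₀) := commutator_mem' a b
      rw [h, Subgroup.mem_bot] at h2
      exact (commutatorElement_eq_one_iff_commute.mp h2).eq
    have h3 := Group.IsNilpotent.nilpotencyClass_le_one_iff.mpr h1
    omega
  have hcenD : center (G ⧸ Z₀) ≤ commutator (G ⧸ Z₀) :=
    le_of_inf_ne_bot_of_card_prime _ _ hZQ
      (Cfsg.Agent.Helper19.normal_inf_center_ne_bot hQ (commutator (G ⧸ Z₀)) hDQ)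
  have hND : N ≤ commutator G := by
    intro n₁ hn₁
    have h1 : (QuotientGroup.mk' Z₀) n₁ ∈ center (G ⧸ Z₀) := by
      rw [Subgroup.mem_center_iff]
      intro q
      obtain ⟨g, rfl⟩ := QuotientGroup.mk'_surjective Z₀ q
      rw [← map_mul, ← map_mul, Subgroup.mem_center_iff.mp (hNc hn₁) g]
    have h2 := hcenD h1
    have h3 : commutator (G ⧸ Z₀) = (commutator G).map (QuotientGroup.mk' Z₀) := by
      rw [_root_.commutator_def, _root_.commutator_def, Subgroup.map_commutator,
        Subgroup.map_top_of_surjective _ (QuotientGroup.mk'_surjective Z₀)]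
    rw [h3] at h2
    obtain ⟨d, hd, hdn⟩ := h2
    have h4 : d⁻¹ * n₁ ∈ Z₀ := QuotientGroup.eq.mp hdn
    have h5 : n₁ = d * (d⁻¹ * n₁) := by group
    rw [h5]
    exact mul_mem hd (hZ₀D h4)
  -- two different subgroups of order `p` in `N`
  have hNne : N ≠ ⊥ := by
    rintro rfl
    rw [Subgroup.card_bot] at hNcard
    have : 1 < p ^ 2 := Nat.one_lt_pow (by norm_num) hpp.one_lt
    omega
  obtain ⟨⟨z₁, hz₁N⟩, hz₁⟩ := (Subgroup.ne_bot_iff_exists_ne_one (H := N)).mp hNne
  have hz₁1 : z₁ ≠ 1 := fun h => hz₁ (Subtype.ext h)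
  have hz₁o : orderOf z₁ = p := orderOf_eq_prime (hNexp z₁ hz₁N) hz₁1
  obtain ⟨z₂, hz₂N, hz₂⟩ : ∃ z₂ ∈ N, z₂ ∉ zpowers z₁ := by
    by_contra hcon
    have h1 : N ≤ zpowers z₁ := by
      intro x hx
      by_contra hx'
      exact hcon ⟨x, hx, hx'⟩
    have h2 := Subgroup.card_le_of_le h1
    rw [hNcard, Nat.card_zpowers, hz₁o] at h2
    have h3 : p ^ 1 < p ^ 2 := Nat.pow_lt_pow_right hpp.one_lt (by norm_num)
    rw [pow_one] at h3
    omega
  have hz₂1 : z₂ ≠ 1 := fun h => hz₂ (h ▸ one_mem _)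
  have hz₂o : orderOf z₂ = p := orderOf_eq_prime (hNexp z₂ hz₂N) hz₂1
  have hZ₁n : (zpowers z₁).Normal := normal_zpowers_of_mem_center' z₁ (hNc hz₁N)
  have hZ₂n : (zpowers z₂).Normal := normal_zpowers_of_mem_center' z₂ (hNc hz₂N)
  have hZ₁c : Nat.card (zpowers z₁) = p := by rw [Nat.card_zpowers, hz₁o]
  have hZ₂c : Nat.card (zpowers z₂) = p := by rw [Nat.card_zpowers, hz₂o]
  have hZ₁N : zpowers z₁ ≤ N := zpowers_le.mpr hz₁N
  have hZ₂N : zpowers z₂ ≤ N := zpowers_le.mpr hz₂N
  rcases hquot _ hZ₁n hZ₁N hZ₁c (hZ₁N.trans hND) with h | ⟨-, hc₁⟩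
  · exact h
  rcases hquot _ hZ₂n hZ₂N hZ₂c (hZ₂N.trans hND) with h | ⟨-, hc₂⟩
  · exact h
  exfalso
  have hNtop : N ≠ ⊤ := by
    rintro h
    rw [h, Subgroup.card_top, hcard] at hNcard
    have h3 : p ^ 2 < p ^ n := Nat.pow_lt_pow_right hpp.one_lt (by omega)
    omega
  obtain ⟨Y, hYn, hNY, -, hYc⟩ := exists_normal_step hG ⊤ N le_top hNtop
  rw [hNcard] at hYc
  have hYc' : Nat.card Y = p ^ 3 := by rw [hYc]; ring
  haveI := hYn
  haveI := hZ₁n
  haveI := hZ₂n
  have hp1 := pow_mem_of_maxClass_quotient hodd (n - 1) h4 G hG (zpowers z₁) hZ₁c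
    (card_quotient_of_card_prime n hcard (by omega) _ hZ₁c) hc₁ Y (hZ₁N.trans hNY) hYc'
  have hp2 := pow_mem_of_maxClass_quotient hodd (n - 1) h4 G hG (zpowers z₂) hZ₂c
    (card_quotient_of_card_prime n hcard (by omega) _ hZ₂c) hc₂ Y (hZ₂N.trans hNY) hYc'
  have hinf : ∀ w ∈ zpowers z₁, w ∈ zpowers z₂ → w = 1 := by
    intro w hw1 hw2
    by_contra hw
    apply hz₂
    have hwo : orderOf w = p :=
      orderOf_eq_prime (pow_eq_one_of_card_prime _ hZ₁c w hw1) hw
    have e1 : zpowers w = zpowers z₁ := by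
      apply Subgroup.eq_of_le_of_card_ge (zpowers_le.mpr hw1)
      rw [hZ₁c, Nat.card_zpowers, hwo]
    have e2 : zpowers w = zpowers z₂ := by
      apply Subgroup.eq_of_le_of_card_ge (zpowers_le.mpr hw2)
      rw [hZ₂c, Nat.card_zpowers, hwo]
    rw [← e1, e2]
    exact mem_zpowers z₂
  have hYN : Y ≤ N := fun y hy => hΩ y (hinf _ (hp1 y hy) (hp2 y hy))
  have h5 := Subgroup.card_le_of_le hYN
  rw [hYc', hNcard] at h5
  have h6 : p ^ 2 < p ^ 3 := Nat.pow_lt_pow_right hpp.one_lt (by norm_num)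
  omega

end Main

section Main2

variable {p : ℕ} [hp : Fact p.Prime]

theorem nilpotencyClass_quotient_eq_center {G : Type*} [Group G] (Z : Subgroup G) [hZ : Z.Normal]
    (h : Z = center G) : Group.nilpotencyClass (G ⧸ Z) = Group.nilpotencyClass G - 1 := by
  subst h
  exact Group.nilpotencyClass_quotient_center

/-- the case of a non-central normal elementary abelian subgroup of order `p²` -/
theorem noncentral_case (hodd : p ≠ 2) (n : ℕ) (hn4 : 4 ≤ n) (ih : IHyp.{u} p n) (G : Type u)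
    [Group G] [Finite G] (hcard : Nat.card G = p ^ n) (hS : SmallOmega p G) (N : Subgroup G)
    [hNn : N.Normal] (hNexp : ∀ a ∈ N, a ^ p = 1) (hNcard : Nat.card N = p ^ 2)
    (hA : (centralizer (N : Set G)).index = p) : Dich n G := by
  have hpp : p.Prime := hp.out
  have hG : IsPGroup p G := IsPGroup.of_card hcard
  have hΩ : ∀ g : G, g ^ p = 1 → g ∈ N := mem_of_pow_eq_one hodd hG hS N hNexp hNcard
  set A : Subgroup G := centralizer (N : Set G) with hAdef
  haveI hAn : A.Normal := by rw [hAdef]; infer_instance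
  have hNcomm : ∀ a ∈ N, ∀ b ∈ N, a * b = b * a := by
    intro a ha b hb
    have := (IsPGroup.isMulCommutative_of_card_eq_prime_sq hNcard).is_comm.comm
      (⟨a, ha⟩ : N) ⟨b, hb⟩
    exact congrArg Subtype.val this
  have hNA : N ≤ A := by
    intro a ha
    rw [hAdef, Subgroup.mem_centralizer_iff]
    intro b hb
    exact hNcomm b hb a ha
  have hpowA : ∀ r : G, r ^ p ∈ A := pow_mem_of_index_eq_prime A hA
  have hNne : N ≠ ⊥ := by
    rintro rfl
    rw [Subgroup.card_bot] at hNcard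
    have : 1 < p ^ 2 := Nat.one_lt_pow (by norm_num) hpp.one_lt
    omega
  set Z₀ : Subgroup G := N ⊓ center G with hZ₀def
  have hZ₀ne : Z₀ ≠ ⊥ := Cfsg.Agent.Helper19.normal_inf_center_ne_bot hG N hNne
  have hNnc : ¬ N ≤ center G := by
    intro h
    have h1 : A = ⊤ := centralizer_eq_top_iff_subset.mpr h
    rw [h1, Subgroup.index_top] at hA
    exact hpp.one_lt.ne hA
  have hZ₀c : Z₀ ≤ center G := inf_le_right
  have hZ₀N : Z₀ ≤ N := inf_le_left
  have hZ₀card : Nat.card Z₀ = p := by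
    have h1 : Nat.card Z₀ ∣ p ^ 2 := by rw [← hNcard]; exact Subgroup.card_dvd_of_le hZ₀N
    obtain ⟨j, hj2, hj⟩ := (Nat.dvd_prime_pow hpp).mp h1
    have hj0 : j ≠ 0 := by
      rintro rfl
      rw [pow_zero] at hj
      exact hZ₀ne (Z₀.card_eq_one.mp hj)
    have hj2' : j ≠ 2 := by
      rintro rfl
      apply hNnc
      have h2 : Z₀ = N := Subgroup.eq_of_le_of_card_ge hZ₀N (by rw [hj, hNcard])
      rw [← h2]; exact hZ₀c
    have : j = 1 := by omega
    rw [hj, this, pow_one]
  -- fixed points on `N` of elements outside `A`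
  have hCN : ∀ g : G, g ∉ A → ∀ n₁ ∈ N, n₁ * g = g * n₁ → n₁ ∈ Z₀ := by
    intro g hg n₁ hn₁ hcomm
    refine Subgroup.mem_inf.mpr ⟨hn₁, ?_⟩
    have h1 : A ≤ centralizer ({n₁} : Set G) := by
      intro a ha
      rw [Subgroup.mem_centralizer_iff]
      intro x hx
      rw [Set.mem_singleton_iff] at hx
      subst hx
      exact Subgroup.mem_centralizer_iff.mp ha x hn₁
    have h2 : ¬ centralizer ({n₁} : Set G) ≤ A := by
      intro h
      apply hg
      apply h
      rw [Subgroup.mem_centralizer_iff]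
      intro x hx
      rw [Set.mem_singleton_iff] at hx
      subst hx
      exact hcomm
    have h3 := Cfsg.Agent.Helper19.eq_top_of_index_prime hpp A _ hA h1 h2
    rw [Subgroup.mem_center_iff]
    intro r
    have h4 : r ∈ centralizer ({n₁} : Set G) := by rw [h3]; exact mem_top r
    exact (Subgroup.mem_centralizer_iff.mp h4 n₁ rfl).symm
  -- the centralizer of an element outside `A` is cyclic generated by it
  have hCg : ∀ g : G, g ∉ A → Nat.card (centralizer ({g} : Set G)) = orderOf g := by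
    intro g hg
    set C : Subgroup G := centralizer ({g} : Set G) with hC
    have hCp : IsPGroup p C := hG.to_subgroup C
    have hCmem : ∀ x : C, (x : G) * g = g * (x : G) := fun x =>
      (Subgroup.mem_centralizer_iff.mp x.2 g rfl).symm
    have huniq : Cfsg.Agent.Helper16.UniqueOrderP p C := by
      intro x y hx hy
      have hxp : (x : G) ^ p = 1 := by
        have := pow_orderOf_eq_one x
        rw [hx] at this
        have h2 := congrArg Subtype.val this
        simpa using h2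
      have hyp : (y : G) ^ p = 1 := by
        have := pow_orderOf_eq_one y
        rw [hy] at this
        have h2 := congrArg Subtype.val this
        simpa using h2
      have hxZ : (x : G) ∈ Z₀ := hCN g hg x (hΩ x hxp) (hCmem x)
      have hyZ : (y : G) ∈ Z₀ := hCN g hg y (hΩ y hyp) (hCmem y)
      have h1 : zpowers (x : G) = Z₀ := by
        apply Subgroup.eq_of_le_of_card_ge (zpowers_le.mpr hxZ)
        rw [hZ₀card, Nat.card_zpowers, Subgroup.orderOf_coe, hx]
      have hy' : (y : G) ∈ zpowers (x : G) := by rw [h1]; exact hyZ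
      obtain ⟨k, hk⟩ := mem_zpowers_iff.mp hy'
      refine mem_zpowers_iff.mpr ⟨k, Subtype.ext ?_⟩
      rw [Subgroup.coe_zpow]
      exact hk
    haveI hCc : IsCyclic C :=
      Cfsg.Agent.Helper16.isCyclic_of_uniqueOrderP_odd (hpp.odd_of_ne_two hodd) hCp huniq
    obtain ⟨h, hh⟩ := hCc.exists_generator
    have hgC : g ∈ C := by
      rw [hC, Subgroup.mem_centralizer_iff]
      intro x hx
      rw [Set.mem_singleton_iff] at hx
      rw [hx]
    have h1 := hh ⟨g, hgC⟩
    rw [← mem_powers_iff_mem_zpowers, Submonoid.mem_powers_iff] at h1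
    obtain ⟨j, hj⟩ := h1
    have hpj : ¬ p ∣ j := by
      rintro ⟨j', rfl⟩
      apply hg
      have h2 : g = ((h : G) ^ p) ^ j' := by
        have := congrArg Subtype.val hj
        rw [Subgroup.coe_pow, pow_mul] at this
        exact this.symm
      rw [h2]
      exact pow_mem (hpowA _) _
    have hcop : (orderOf h).Coprime j := by
      obtain ⟨e, he⟩ := (IsPGroup.iff_orderOf.mp hCp) h
      rw [he]
      exact Nat.Coprime.pow_left e ((Nat.Prime.coprime_iff_not_dvd hpp).mpr hpj)
    have h3 : orderOf (⟨g, hgC⟩ : C) = orderOf h := by rw [← hj]; exact hcop.orderOf_pow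
    rw [← orderOf_eq_card_of_forall_mem_zpowers hh, ← h3, Subgroup.orderOf_mk]
  -- an element of order at most `p²` outside `A` forces maximal class
  have hmax : ∀ g : G, g ∉ A → g ^ (p ^ 2) = 1 → Dich n G := by
    intro g hg hg2
    right
    refine ⟨hn4, ?_⟩
    have h1 : Nat.card (centralizer ({g} : Set G)) ≤ p ^ 2 := by
      rw [hCg g hg]
      exact Nat.le_of_dvd (pow_pos hpp.pos 2) (orderOf_dvd_of_pow_eq_one hg2)
    exact (maxClass_of_card_centralizer_le p n (by omega) G hcard g h1).1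
  -- `A` is metacyclic
  have hAcard : Nat.card A = p ^ (n - 1) := by
    have h1 := A.card_mul_index
    rw [hA, hcard] at h1
    have h2 : p ^ (n - 1) * p = p ^ n := by
      rw [← pow_succ]; congr 1; omega
    rw [← h2] at h1
    exact Nat.eq_of_mul_eq_mul_right hpp.pos h1
  have hAmeta : Cfsg.IsMetacyclic A := by
    rcases ih (n - 1) (by omega) A hAcard (hS.subgroup A) with h | ⟨h4, hc⟩
    · exact h
    · exfalso
      have h1 := (maxClass_facts p (n - 1) (by omega) A hAcard hc).2 (by omega)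
      have h2 : N.subgroupOf A ≤ center A := by
        intro x hx
        rw [Subgroup.mem_center_iff]
        intro a
        apply Subtype.ext
        have h3 := Subgroup.mem_centralizer_iff.mp a.2 (x : G) (Subgroup.mem_subgroupOf.mp hx)
        simpa using h3.symm
      have h3 : Nat.card (N.subgroupOf A) = p ^ 2 := by
        rw [Nat.card_congr (Subgroup.subgroupOfEquivOfLe hNA).toEquiv, hNcard]
      have h4' := Subgroup.card_le_of_le h2
      rw [h1, h3] at h4'
      have h5 : p ^ 1 < p ^ 2 := Nat.pow_lt_pow_right hpp.one_lt (by norm_num)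
      rw [pow_one] at h5
      omega
  by_cases hSF : SmallFrat p G
  · left; exact isMetacyclic_of_smallFrat hodd hG hSF
  unfold SmallFrat at hSF
  push Not at hSF
  obtain ⟨K, hKn, hKpow, hKidx⟩ := hSF
  haveI := hKn
  have h1 : (K.subgroupOf A).index ≤ p ^ 2 := by
    apply index_le_sq_of_isMetacyclic p hpp.pos hAmeta (K.subgroupOf A)
    intro a
    rw [Subgroup.mem_subgroupOf, Subgroup.coe_pow]
    exact hKpow a
  have h2 : K.index ≤ p ^ 3 := by
    have h3 : (K ⊓ A).index = (K.subgroupOf A).index * A.index := by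
      rw [← Subgroup.relIndex_mul_index (inf_le_right : K ⊓ A ≤ A), Subgroup.inf_relIndex_right]
      rfl
    have h4 : K.index ∣ (K ⊓ A).index := Subgroup.index_dvd_of_le inf_le_left
    have h5 : (K ⊓ A).index ≠ 0 := Subgroup.index_ne_zero_of_finite
    have h6 : K.index ≤ (K ⊓ A).index := Nat.le_of_dvd (Nat.pos_of_ne_zero h5) h4
    calc K.index ≤ (K ⊓ A).index := h6
      _ = (K.subgroupOf A).index * A.index := h3
      _ ≤ p ^ 2 * p := by rw [hA]; exact Nat.mul_le_mul_right _ h1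
      _ = p ^ 3 := by ring
  have hKidx3 : K.index = p ^ 3 := by
    have h3 : K.index ∣ p ^ n := by rw [← hcard]; exact Subgroup.index_dvd_card K
    obtain ⟨j, -, hj⟩ := (Nat.dvd_prime_pow hpp).mp h3
    rw [hj] at hKidx h2 ⊢
    have h4 : 2 < j := (Nat.pow_lt_pow_iff_right hpp.one_lt).mp hKidx
    have h5 : j ≤ 3 := (Nat.pow_le_pow_iff_right hpp.one_lt).mp h2
    have : j = 3 := by omega
    rw [this]
  have hKne : K ≠ ⊥ := by
    intro h
    rw [h, Subgroup.index_bot, hcard] at hKidx3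
    have := Nat.pow_right_injective hpp.two_le hKidx3
    omega
  have hZ₀K : Z₀ ≤ K := by
    apply le_of_inf_ne_bot_of_card_prime Z₀ K hZ₀card
    have h3 := Cfsg.Agent.Helper19.normal_inf_center_ne_bot hG K hKne
    have hp' : IsPGroup p ↥(K ⊓ center G) := hG.to_subgroup _
    haveI : Nontrivial ↥(K ⊓ center G) := (Subgroup.nontrivial_iff_ne_bot _).mpr h3
    obtain ⟨k, hk0, hk⟩ := hp'.nontrivial_iff_card.mp inferInstance
    obtain ⟨w, hw⟩ : ∃ w : ↥(K ⊓ center G), orderOf w = p := by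
      apply exists_prime_orderOf_dvd_card' p
      rw [hk]
      exact dvd_pow_self p (by omega)
    have hwo : orderOf (w : G) = p := by rw [Subgroup.orderOf_coe]; exact hw
    have hwp : (w : G) ^ p = 1 := by rw [← hwo]; exact pow_orderOf_eq_one _
    have hw1 : (w : G) ≠ 1 := by
      intro h
      rw [h, orderOf_one] at hwo
      exact hpp.one_lt.ne hwo
    intro hbot
    apply hw1
    have : (w : G) ∈ K ⊓ Z₀ :=
      Subgroup.mem_inf.mpr ⟨w.2.1, Subgroup.mem_inf.mpr ⟨hΩ _ hwp, w.2.2⟩⟩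
    rw [hbot, Subgroup.mem_bot] at this
    exact this
  haveI hZ₀n : Z₀.Normal := by rw [hZ₀def]; infer_instance
  have hQcard : Nat.card (G ⧸ Z₀) = p ^ (n - 1) :=
    card_quotient_of_card_prime n hcard (by omega) Z₀ hZ₀card
  have hQ : IsPGroup p (G ⧸ Z₀) := hG.to_quotient Z₀
  have hsurj := QuotientGroup.mk'_surjective Z₀
  by_cases hSQ : SmallOmega p (G ⧸ Z₀)
  · rcases ih (n - 1) (by omega) (G ⧸ Z₀) hQcard hSQ with h | ⟨h4, hc⟩
    · exfalso
      haveI : (K.map (QuotientGroup.mk' Z₀)).Normal := hKn.map _ hsurj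
      have h5 := index_le_sq_of_isMetacyclic p hpp.pos h (K.map (QuotientGroup.mk' Z₀))
        (fun q => by
          obtain ⟨g, rfl⟩ := hsurj q
          rw [← map_pow]
          exact Subgroup.mem_map_of_mem _ (hKpow g))
      rw [Subgroup.index_map_eq K hsurj (by rw [QuotientGroup.ker_mk']; exact hZ₀K),
        hKidx3] at h5
      have h6 : p ^ 2 < p ^ 3 := Nat.pow_lt_pow_right hpp.one_lt (by norm_num)
      omega
    · right
      refine ⟨hn4, ?_⟩
      have hZQ := (maxClass_facts p (n - 1) (by omega) (G ⧸ Z₀) hQcard hc).2 (by omega)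
      set Nb : Subgroup (G ⧸ Z₀) := N.map (QuotientGroup.mk' Z₀) with hNb
      haveI hNbn : Nb.Normal := hNn.map _ hsurj
      have hNbcard : Nat.card Nb = p := by
        have h5 := card_comap_mk' Z₀ Nb
        have h6 : Nb.comap (QuotientGroup.mk' Z₀) = N := by
          rw [hNb]
          apply Subgroup.comap_map_eq_self
          rw [QuotientGroup.ker_mk']
          exact hZ₀N
        rw [h6, hNcard, hZ₀card, pow_two] at h5
        exact (Nat.eq_of_mul_eq_mul_right hpp.pos h5).symm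
      have hNbc : Nb ≤ center (G ⧸ Z₀) :=
        Cfsg.Agent.Helper19.normal_card_prime_le_center hQ Nb hNbcard
      have hNbeq : Nb = center (G ⧸ Z₀) :=
        Subgroup.eq_of_le_of_card_ge hNbc (by rw [hZQ, hNbcard])
      have hcen : Z₀ = center G := by
        apply le_antisymm hZ₀c
        intro g hg
        have h5 : (QuotientGroup.mk' Z₀) g ∈ center (G ⧸ Z₀) := by
          rw [Subgroup.mem_center_iff]
          intro q
          obtain ⟨r, rfl⟩ := hsurj q
          rw [← map_mul, ← map_mul, Subgroup.mem_center_iff.mp hg r]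
        rw [← hNbeq] at h5
        obtain ⟨n₁, hn₁, hn₁g⟩ := h5
        have h6 : n₁⁻¹ * g ∈ Z₀ := QuotientGroup.eq.mp hn₁g
        have h7 : g = n₁ * (n₁⁻¹ * g) := by group
        refine Subgroup.mem_inf.mpr ⟨?_, hg⟩
        rw [h7]
        exact mul_mem hn₁ (hZ₀N h6)
      have h8 := nilpotencyClass_quotient_eq_center Z₀ hcen
      rw [hc] at h8
      omega
  · obtain ⟨K₁, hK₁4, hK₁pow⟩ := exists_of_not_smallOmega_quotient hG Z₀ hZ₀card hSQ
    by_cases hK₁A : K₁ ≤ A
    · exfalso
      exact not_card_eq_four hodd hG hS N hNexp hNcard Z₀ hZ₀c hZ₀card K₁ hK₁pow hK₁A hK₁4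
    · obtain ⟨g, hgK, hgA⟩ := SetLike.not_le_iff_exists.mp hK₁A
      apply hmax g hgA
      rw [pow_two, pow_mul]
      exact pow_eq_one_of_card_prime Z₀ hZ₀card _ (hK₁pow g hgK)

theorem dich_aux (hodd : p ≠ 2) : ∀ (n : ℕ) (G : Type u) [Group G] [Finite G],
    Nat.card G = p ^ n → SmallOmega p G → Dich n G := by
  intro n
  induction n using Nat.strong_induction_on with
  | _ n ih =>
    intro G _ _ hcard hS
    have ih' : IHyp.{u} p n := fun m hm H _ _ hH hSH => ih m hm H hH hSH
    by_cases hn : n ≤ 3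
    · left; exact isMetacyclic_of_small n hcard hn hS
    have hG : IsPGroup p G := IsPGroup.of_card hcard
    by_cases hcyc : IsCyclic G
    · left
      refine ⟨⊥, inferInstance, inferInstance, ?_⟩
      exact isCyclic_of_surjective (QuotientGroup.mk' (⊥ : Subgroup G))
        (QuotientGroup.mk'_surjective _)
    have htop : ¬ IsCyclic (⊤ : Subgroup G) := by
      intro h
      apply hcyc
      haveI := h
      exact isCyclic_of_surjective (Subgroup.topEquiv : (⊤ : Subgroup G) ≃* G)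
        Subgroup.topEquiv.surjective
    obtain ⟨N, -, hNn, ⟨-, hNexp⟩, hNcard⟩ :=
      exists_normal_elementary_sq hodd hG (⊤ : Subgroup G) htop
    haveI := hNn
    rcases index_centralizer_of_card_sq hG N hNcard with h | h
    · left
      exact central_case hodd n ih' G hcard hS N hNexp hNcard (centralizer_eq_top_iff_subset.mp h)
    · exact noncentral_case hodd n (by omega) ih' G hcard hS N hNexp hNcard h

/-- **Dichotomy**: for odd `p`, a `p`-group of order `p^n` in which the subgroups of exponent `p`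
have order at most `p²` is metacyclic or has maximal class (with `n ≥ 4`). -/
theorem metacyclic_or_maxClass (hodd : p ≠ 2) {G : Type u} [Group G] [Finite G] (n : ℕ)
    (hcard : Nat.card G = p ^ n) (hS : SmallOmega p G) :
    Cfsg.IsMetacyclic G ∨ (4 ≤ n ∧ Group.nilpotencyClass G = n - 1) :=
  dich_aux hodd n G hcard hS

end Main2

end Cfsg.Agent.Helper11.Blk
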