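import Mathlib
import Cfsg.Prelude.Def_CaseTheorems
import Cfsg.Agent.Lib.Helper11.BlkSmall

/-!
# Groups of rank at most two containing a subgroup of order `p³` and exponent `p` (helper11)

The configuration: `N` normal elementary abelian of order `p²`, `A = C_G(N)` of index `p`
and metacyclic, `K = N⟨x⟩` of order `p³` and exponent `p`.
-/

set_option autoImplicit false

namespace Cfsg.Agent.Helper11.Blk

open Subgroup Cfsg.Agent.Helper22
open scoped commutatorElement

universe u

section Pre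

variable {G : Type*} [Group G]

/-- a surjective image of a metacyclic group is metacyclic -/
theorem isMetacyclic_of_surjective {H : Type*} [Group H] (f : G →* H)
    (hf : Function.Surjective f) (h : Cfsg.IsMetacyclic G) : Cfsg.IsMetacyclic H := by
  obtain ⟨N, hNn, hNc, hQc⟩ := h
  haveI := hNn
  haveI := hNc
  haveI := hQc
  haveI hMn : (N.map f).Normal := hNn.map f hf
  refine ⟨N.map f, hMn, isCyclic_of_surjective (f.subgroupMap N) (f.subgroupMap_surjective N), ?_⟩
  let φ : G ⧸ N →* H ⧸ N.map f := QuotientGroup.map N (N.map f) f (Subgroup.le_comap_map f N)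
  have hφ : Function.Surjective φ := by
    intro q
    obtain ⟨h', rfl⟩ := QuotientGroup.mk'_surjective _ q
    obtain ⟨g, rfl⟩ := hf h'
    exact ⟨QuotientGroup.mk g, rfl⟩
  exact isCyclic_of_surjective φ hφ

variable [Finite G] {p : ℕ} [hp : Fact p.Prime]

/-- in a `SmallOmega` `p`-group, `p` odd, the elements of order dividing `p` lie in a subgroup of
order at most `p²` -/
theorem exists_omega_subgroup (hodd : p ≠ 2) (hG : IsPGroup p G) (hS : SmallOmega p G) :
    ∃ X : Subgroup G, (∀ q : G, q ^ p = 1 → q ∈ X) ∧ Nat.card X ≤ p ^ 2 := by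
  by_cases hc : IsCyclic G
  · haveI := hc
    refine ⟨closure {q : G | q ^ p = 1}, fun q hq => subset_closure hq, ?_⟩
    apply hS
    intro x hx
    induction hx using Subgroup.closure_induction with
    | mem x hx => exact hx
    | one => exact one_pow p
    | mul x y _ _ hx hy =>
      have : Commute x y := (IsCyclic.commGroup (α := G)).mul_comm x y
      rw [this.mul_pow, hx, hy, one_mul]
    | inv x _ hx => rw [inv_pow, hx, inv_one]
  · have htop : ¬ IsCyclic (⊤ : Subgroup G) := by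
      intro h
      apply hc
      haveI := h
      exact isCyclic_of_surjective (Subgroup.topEquiv : (⊤ : Subgroup G) ≃* G)
        Subgroup.topEquiv.surjective
    obtain ⟨N, -, hNn, ⟨-, hNexp⟩, hNcard⟩ :=
      exists_normal_elementary_sq hodd hG (⊤ : Subgroup G) htop
    haveI := hNn
    exact ⟨N, mem_of_pow_eq_one hodd hG hS N hNexp hNcard, hNcard.le⟩

/-- rank at most two: an element of order dividing `p` centralizing a normal elementary abelian
subgroup of order `p²` lies in it -/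
theorem mem_of_centralizer_of_rank (hrk : Cfsg.PRankLE p 2 G) (N : Subgroup G) [hNn : N.Normal]
    (hNexp : ∀ a ∈ N, a ^ p = 1) (hNcard : Nat.card N = p ^ 2) (a : G)
    (ha : a ∈ centralizer (N : Set G)) (hap : a ^ p = 1) : a ∈ N := by
  have hNcomm : ∀ u ∈ N, ∀ v ∈ N, u * v = v * u := by
    intro u hu v hv
    have := (IsPGroup.isMulCommutative_of_card_eq_prime_sq hNcard).is_comm.comm
      (⟨u, hu⟩ : N) ⟨v, hv⟩
    exact congrArg Subtype.val this
  have hNa : ∀ u ∈ N, u * a = a * u := fun u hu => Subgroup.mem_centralizer_iff.mp ha u hu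
  have hcomm := Cfsg.Agent.Helper19.commute_sup_zpowers N hNcomm a hNa
  set M : Subgroup G := N ⊔ zpowers a with hM
  have hMc : IsMulCommutative M :=
    ⟨⟨fun u v => Subtype.ext (hcomm u u.2 v v.2)⟩⟩
  have hMexp : ∀ m ∈ M, m ^ p = 1 := by
    intro m hm
    obtain ⟨u, hu, v, hv, rfl⟩ := Subgroup.mem_sup_of_normal_left.mp hm
    obtain ⟨k, rfl⟩ := mem_zpowers_iff.mp hv
    have h1 : Commute u (a ^ k) := ((show Commute u a from hNa u hu)).zpow_right k
    rw [h1.mul_pow, hNexp u hu, one_mul, ← zpow_natCast, ← zpow_mul, mul_comm, zpow_mul,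
      zpow_natCast, hap, one_zpow]
  have h1 := hrk M hMc hMexp
  have h2 : N = M := Subgroup.eq_of_le_of_card_ge le_sup_left (by rw [hNcard]; exact h1)
  rw [h2]
  exact (le_sup_right : zpowers a ≤ M) (mem_zpowers a)

end Pre

section Cfg

variable {p : ℕ} [hp : Fact p.Prime]

/-- a group of order `p^m`, `m ≥ 3`, of maximal class has no central subgroup of order `p²` -/
theorem not_maxClass_of_central_sq {A : Type u} [Group A] [Finite A] (m : ℕ) (hm : 3 ≤ m)
    (hcard : Nat.card A = p ^ m) (hc : Group.nilpotencyClass A = m - 1) (M : Subgroup A)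
    (hM : M ≤ center A) (hMcard : Nat.card M = p ^ 2) : False := by
  have hpp : p.Prime := hp.out
  have h1 := (maxClass_facts p m (by omega) A hcard hc).2 hm
  have h4' := Subgroup.card_le_of_le hM
  rw [h1, hMcard] at h4'
  have h5 : p ^ 1 < p ^ 2 := Nat.pow_lt_pow_right hpp.one_lt (by norm_num)
  rw [pow_one] at h5
  omega

/-- the configuration of a subgroup `K = N⟨x⟩` of order `p³` and exponent `p` -/
structure Config (p : ℕ) (G : Type u) [Group G] where
  N : Subgroup G
  K : Subgroup G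
  x : G
  hNn : N.Normal
  hNexp : ∀ a ∈ N, a ^ p = 1
  hNcard : Nat.card N = p ^ 2
  hA : (centralizer (N : Set G)).index = p
  hΩA : ∀ a ∈ centralizer (N : Set G), a ^ p = 1 → a ∈ N
  hKexp : ∀ k ∈ K, k ^ p = 1
  hKcard : Nat.card K = p ^ 3
  hNK : N ≤ K
  hKA : K ⊓ centralizer (N : Set G) ≤ N
  hxK : x ∈ K
  hxA : x ∉ centralizer (N : Set G)
  hmeta : Cfsg.IsMetacyclic ↥(centralizer (N : Set G))

theorem exists_config (hodd : p ≠ 2) {G : Type u} [Group G] [Finite G] (n : ℕ)
    (hcard : Nat.card G = p ^ n) (hrk : Cfsg.PRankLE p 2 G) (K₀ : Subgroup G)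
    (hK₀exp : ∀ k ∈ K₀, k ^ p = 1) (hK₀ : p ^ 2 < Nat.card K₀) : Nonempty (Config p G) := by
  have hpp : p.Prime := hp.out
  have hG : IsPGroup p G := IsPGroup.of_card hcard
  have hcyc : ¬ IsCyclic G := by
    intro h
    haveI := h
    have h1 : IsCyclic K₀ := Subgroup.isCyclic K₀
    have h2 := Cfsg.Agent.S0638.card_le_of_isCyclic_of_exp p hpp.pos h1 (fun x => by
      ext
      have := hK₀exp (x : G) x.2
      simpa using this)
    have h3 : p ^ 1 < p ^ 2 := Nat.pow_lt_pow_right hpp.one_lt (by norm_num)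
    rw [pow_one] at h3
    omega
  have htop : ¬ IsCyclic (⊤ : Subgroup G) := by
    intro h
    apply hcyc
    haveI := h
    exact isCyclic_of_surjective (Subgroup.topEquiv : (⊤ : Subgroup G) ≃* G)
      Subgroup.topEquiv.surjective
  obtain ⟨N, -, hNn, ⟨-, hNexp⟩, hNcard⟩ :=
    exists_normal_elementary_sq hodd hG (⊤ : Subgroup G) htop
  haveI := hNn
  set A : Subgroup G := centralizer (N : Set G) with hAdef
  haveI hAn : A.Normal := by rw [hAdef]; infer_instance
  have hΩA : ∀ a ∈ A, a ^ p = 1 → a ∈ N := fun a ha hap =>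
    mem_of_centralizer_of_rank hrk N hNexp hNcard a ha hap
  have hKA₀ : K₀ ⊓ A ≤ N := fun k hk => hΩA k hk.2 (hK₀exp k hk.1)
  have hAidx : A.index = p := by
    rcases index_centralizer_of_card_sq hG N hNcard with h | h
    · exfalso
      have h1 : K₀ ≤ N := by
        intro k hk
        apply hKA₀
        refine Subgroup.mem_inf.mpr ⟨hk, ?_⟩
        rw [hAdef, h]; exact mem_top k
      have h2 := Subgroup.card_le_of_le h1
      rw [hNcard] at h2
      omega
    · exact h
  have hcardK : Nat.card K₀ = Nat.card ↥(K₀ ⊓ A) * A.relIndex K₀ := by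
    have h1 := Subgroup.relIndex_mul_relIndex (⊥ : Subgroup G) (K₀ ⊓ A) K₀ bot_le inf_le_left
    rw [Subgroup.relIndex_bot_left, Subgroup.relIndex_bot_left, inf_comm,
      Subgroup.inf_relIndex_right] at h1
    rw [inf_comm]
    exact h1.symm
  have hrel : A.relIndex K₀ ∣ p := by
    rw [← hAidx]; exact Subgroup.relIndex_dvd_index_of_normal A K₀
  have hinfle : Nat.card ↥(K₀ ⊓ A) ≤ p ^ 2 := by
    rw [← hNcard]; exact Subgroup.card_le_of_le hKA₀
  obtain ⟨e, he⟩ := (hG.to_subgroup K₀).exists_card_eq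
  have hrelp : A.relIndex K₀ = p := by
    rcases (Nat.dvd_prime hpp).mp hrel with h | h
    · exfalso
      rw [h, mul_one] at hcardK
      omega
    · exact h
  have he3 : e = 3 := by
    have h1 : p ^ e ≤ p ^ 3 := by
      rw [← he, hcardK, hrelp]
      calc Nat.card ↥(K₀ ⊓ A) * p ≤ p ^ 2 * p := Nat.mul_le_mul_right _ hinfle
        _ = p ^ 3 := by ring
    have h2 : p ^ 2 < p ^ e := by rw [← he]; exact hK₀
    have h3 : e ≤ 3 := (Nat.pow_le_pow_iff_right hpp.one_lt).mp h1
    have h4 : 2 < e := (Nat.pow_lt_pow_iff_right hpp.one_lt).mp h2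
    omega
  have hKcard : Nat.card K₀ = p ^ 3 := by rw [he, he3]
  have hinfcard : Nat.card ↥(K₀ ⊓ A) = p ^ 2 := by
    rw [hKcard, hrelp] at hcardK
    have h1 : p ^ 2 * p = Nat.card ↥(K₀ ⊓ A) * p := by rw [← hcardK]; ring
    exact (Nat.eq_of_mul_eq_mul_right hpp.pos h1).symm
  have hinfeq : K₀ ⊓ A = N := Subgroup.eq_of_le_of_card_ge hKA₀ (by rw [hinfcard, hNcard])
  have hNK : N ≤ K₀ := by rw [← hinfeq]; exact inf_le_left
  have hKnA : ¬ K₀ ≤ A := by
    intro h
    have h1 : K₀ ⊓ A = K₀ := inf_eq_left.mpr h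
    rw [h1, hKcard] at hinfcard
    have h3 : p ^ 2 < p ^ 3 := Nat.pow_lt_pow_right hpp.one_lt (by norm_num)
    omega
  obtain ⟨x, hxK, hxA⟩ := SetLike.not_le_iff_exists.mp hKnA
  -- `A` is metacyclic
  have hn1 : 1 ≤ n := by
    rcases Nat.eq_zero_or_pos n with h | h
    · exfalso
      rw [h, pow_zero] at hcard
      have h1 := Subgroup.card_le_of_le (le_top : K₀ ≤ ⊤)
      rw [Subgroup.card_top, hcard, hKcard] at h1
      have h3 : 1 < p ^ 3 := Nat.one_lt_pow (by norm_num) hpp.one_lt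
      omega
    · exact h
  have hAcard : Nat.card A = p ^ (n - 1) := by
    have h1 := A.card_mul_index
    rw [hAidx, hcard] at h1
    have h2 : p ^ (n - 1) * p = p ^ n := by
      rw [← pow_succ]; congr 1; omega
    rw [← h2] at h1
    exact Nat.eq_of_mul_eq_mul_right hpp.pos h1
  have hNA : N ≤ A := by
    rw [← hinfeq]; exact inf_le_right
  have hSA : SmallOmega p A := by
    intro T hT
    have h1 : T.map A.subtype ≤ N := by
      rintro _ ⟨t, ht, rfl⟩
      apply hΩA _ t.2
      have := hT t ht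
      have h2 := congrArg Subtype.val this
      simpa using h2
    have h2 := Subgroup.card_le_of_le h1
    rwa [Subgroup.card_map_of_injective A.subtype_injective, hNcard] at h2
  have hAmeta : Cfsg.IsMetacyclic A := by
    rcases metacyclic_or_maxClass hodd (n - 1) hAcard hSA with h | ⟨h4, hc⟩
    · exact h
    · exfalso
      apply not_maxClass_of_central_sq (n - 1) (by omega) hAcard hc (N.subgroupOf A)
      · intro y hy
        rw [Subgroup.mem_center_iff]
        intro a
        apply Subtype.ext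
        have h3 := Subgroup.mem_centralizer_iff.mp a.2 (y : G) (Subgroup.mem_subgroupOf.mp hy)
        simpa using h3.symm
      · rw [Nat.card_congr (Subgroup.subgroupOfEquivOfLe hNA).toEquiv, hNcard]
  exact ⟨⟨N, K₀, x, hNn, hNexp, hNcard, hAidx, hΩA, hK₀exp, hKcard, hNK, hKA₀, hxK, hxA, hAmeta⟩⟩

end Cfg

namespace Config

variable {p : ℕ} [hp : Fact p.Prime] {G : Type u} [Group G] [Finite G] (D : Config p G)

/-- `A = C_G(N)` -/
abbrev A : Subgroup G := centralizer (D.N : Set G)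

/-- `Z₀ = N ∩ Z(G)` -/
abbrev Z₀ : Subgroup G := D.N ⊓ center G

/-- `C = C_A(x) = C_G(K)` -/
abbrev C : Subgroup G := D.A ⊓ centralizer {D.x}

theorem nNormal : D.N.Normal := D.hNn

theorem aNormal : D.A.Normal := by
  haveI := D.hNn
  infer_instance

theorem z₀Normal : D.Z₀.Normal := by
  haveI := D.hNn
  infer_instance

theorem hxp : D.x ^ p = 1 := D.hKexp _ D.hxK

theorem hNcomm : ∀ a ∈ D.N, ∀ b ∈ D.N, a * b = b * a := by
  intro a ha b hb
  have := (IsPGroup.isMulCommutative_of_card_eq_prime_sq D.hNcard).is_comm.comm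
    (⟨a, ha⟩ : D.N) ⟨b, hb⟩
  exact congrArg Subtype.val this

theorem hNA : D.N ≤ D.A := by
  intro a ha
  rw [Subgroup.mem_centralizer_iff]
  intro b hb
  exact D.hNcomm b hb a ha

theorem hAN {a : G} (ha : a ∈ D.A) {n₁ : G} (hn₁ : n₁ ∈ D.N) : n₁ * a = a * n₁ :=
  Subgroup.mem_centralizer_iff.mp ha n₁ hn₁

theorem hxN : D.x ∉ D.N := fun h => D.hxA (D.hNA h)

theorem hNne : D.N ≠ ⊥ := by
  have hpp : p.Prime := hp.out
  intro h
  have h1 := D.hNcard
  rw [h, Subgroup.card_bot] at h1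
  have : 1 < p ^ 2 := Nat.one_lt_pow (by norm_num) hpp.one_lt
  omega

theorem hNnc : ¬ D.N ≤ center G := by
  have hpp : p.Prime := hp.out
  intro h
  have h1 : D.A = ⊤ := centralizer_eq_top_iff_subset.mpr h
  have h2 : D.A.index = p := D.hA
  rw [h1, Subgroup.index_top] at h2
  exact hpp.one_lt.ne h2

theorem hZ₀N : D.Z₀ ≤ D.N := inf_le_left

theorem hZ₀c : D.Z₀ ≤ center G := inf_le_right

theorem hZ₀card (hG : IsPGroup p G) : Nat.card D.Z₀ = p := by
  have hpp : p.Prime := hp.out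
  haveI := D.hNn
  have hZ₀ne : D.Z₀ ≠ ⊥ := Cfsg.Agent.Helper19.normal_inf_center_ne_bot hG D.N D.hNne
  have h1 : Nat.card D.Z₀ ∣ p ^ 2 := by rw [← D.hNcard]; exact Subgroup.card_dvd_of_le D.hZ₀N
  obtain ⟨j, hj2, hj⟩ := (Nat.dvd_prime_pow hpp).mp h1
  have hj0 : j ≠ 0 := by
    rintro rfl
    rw [pow_zero] at hj
    exact hZ₀ne (D.Z₀.card_eq_one.mp hj)
  have hj2' : j ≠ 2 := by
    rintro rfl
    apply D.hNnc
    have h2 : D.Z₀ = D.N := Subgroup.eq_of_le_of_card_ge D.hZ₀N (by rw [hj, D.hNcard])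
    rw [← h2]; exact D.hZ₀c
  have : j = 1 := by omega
  rw [hj, this, pow_one]

theorem hZ₀pow (hG : IsPGroup p G) : ∀ z ∈ D.Z₀, z ^ p = 1 :=
  pow_eq_one_of_card_prime D.Z₀ (D.hZ₀card hG)

theorem hCN : ∀ g : G, g ∉ D.A → ∀ n₁ ∈ D.N, n₁ * g = g * n₁ → n₁ ∈ D.Z₀ := by
  have hpp : p.Prime := hp.out
  intro g hg n₁ hn₁ hcomm
  refine Subgroup.mem_inf.mpr ⟨hn₁, ?_⟩
  have h1 : D.A ≤ centralizer ({n₁} : Set G) := by
    intro a ha
    rw [Subgroup.mem_centralizer_iff]
    intro x hx
    rw [Set.mem_singleton_iff] at hx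
    subst hx
    exact Subgroup.mem_centralizer_iff.mp ha x hn₁
  have h2 : ¬ centralizer ({n₁} : Set G) ≤ D.A := by
    intro h
    apply hg
    apply h
    rw [Subgroup.mem_centralizer_iff]
    intro x hx
    rw [Set.mem_singleton_iff] at hx
    subst hx
    exact hcomm
  have h3 := Cfsg.Agent.Helper19.eq_top_of_index_prime hpp D.A _ D.hA h1 h2
  rw [Subgroup.mem_center_iff]
  intro r
  have h4 : r ∈ centralizer ({n₁} : Set G) := by rw [h3]; exact mem_top r
  exact (Subgroup.mem_centralizer_iff.mp h4 n₁ rfl).symm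

/-- commutators with elements of `N` lie in `Z₀` -/
theorem hcommZ₀ (hG : IsPGroup p G) : ∀ n₁ ∈ D.N, ∀ g : G, ⁅n₁, g⁆ ∈ D.Z₀ := by
  have hpp : p.Prime := hp.out
  haveI := D.hNn
  haveI := D.z₀Normal
  intro n₁ hn₁ g
  have hsurj := QuotientGroup.mk'_surjective D.Z₀
  set Nb : Subgroup (G ⧸ D.Z₀) := D.N.map (QuotientGroup.mk' D.Z₀) with hNb
  haveI hNbn : Nb.Normal := D.hNn.map _ hsurj
  have hNbcard : Nat.card Nb = p := by
    have h5 := card_comap_mk' D.Z₀ Nb
    have h6 : Nb.comap (QuotientGroup.mk' D.Z₀) = D.N := by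
      rw [hNb]
      apply Subgroup.comap_map_eq_self
      rw [QuotientGroup.ker_mk']
      exact D.hZ₀N
    rw [h6, D.hNcard, D.hZ₀card hG, pow_two] at h5
    exact (Nat.eq_of_mul_eq_mul_right hpp.pos h5).symm
  have hNbc : Nb ≤ center (G ⧸ D.Z₀) :=
    Cfsg.Agent.Helper19.normal_card_prime_le_center (hG.to_quotient _) Nb hNbcard
  rw [← QuotientGroup.eq_one_iff, ← QuotientGroup.mk'_apply, map_commutatorElement,
    commutatorElement_eq_one_iff_commute]
  have h2 : (QuotientGroup.mk' D.Z₀) n₁ ∈ center (G ⧸ D.Z₀) :=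
    hNbc (Subgroup.mem_map_of_mem _ hn₁)
  exact (Subgroup.mem_center_iff.mp h2 _).symm

theorem hKAeq : D.K ⊓ D.A = D.N :=
  le_antisymm D.hKA (le_inf D.hNK D.hNA)

theorem hsup : D.A ⊔ zpowers D.x = ⊤ := by
  have hpp : p.Prime := hp.out
  apply Cfsg.Agent.Helper19.eq_top_of_index_prime hpp D.A _ D.hA le_sup_left
  intro h
  exact D.hxA (h ((le_sup_right : zpowers D.x ≤ _) (mem_zpowers D.x)))

theorem hdecomp : ∀ g : G, ∃ a ∈ D.A, ∃ j : ℤ, g = a * D.x ^ j := by
  haveI := D.aNormal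
  intro g
  have hg : g ∈ D.A ⊔ zpowers D.x := by rw [D.hsup]; exact mem_top g
  obtain ⟨a, ha, z, hz, rfl⟩ := Subgroup.mem_sup_of_normal_left.mp hg
  obtain ⟨j, rfl⟩ := mem_zpowers_iff.mp hz
  exact ⟨a, ha, j, rfl⟩

theorem hKgen (hG : IsPGroup p G) : D.K = D.N ⊔ zpowers D.x := by
  have hpp : p.Prime := hp.out
  symm
  apply Subgroup.eq_of_le_of_card_ge (sup_le D.hNK (zpowers_le.mpr D.hxK))
  have hlt : D.N < D.N ⊔ zpowers D.x := by
    refine lt_of_le_of_ne le_sup_left ?_
    intro h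
    apply D.hxN
    rw [h]
    exact (le_sup_right : zpowers D.x ≤ _) (mem_zpowers D.x)
  have h2 := mul_card_le_card_of_lt hG hlt
  rw [D.hNcard] at h2
  rw [D.hKcard]
  calc p ^ 3 = p * p ^ 2 := by ring
    _ ≤ _ := h2

theorem hZ₀C : D.Z₀ ≤ D.C := by
  intro z hz
  refine Subgroup.mem_inf.mpr ⟨D.hNA (D.hZ₀N hz), ?_⟩
  rw [Subgroup.mem_centralizer_iff]
  intro y hy
  rw [Set.mem_singleton_iff] at hy
  subst hy
  exact Subgroup.mem_center_iff.mp (D.hZ₀c hz) D.x

theorem hCx {c : G} (hc : c ∈ D.C) : D.x * c = c * D.x :=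
  Subgroup.mem_centralizer_iff.mp hc.2 D.x rfl

theorem hCA : D.C ≤ D.A := inf_le_left

/-- elements of order dividing `p` in `C` lie in `Z₀` -/
theorem hCΩ {c : G} (hc : c ∈ D.C) (hcp : c ^ p = 1) : c ∈ D.Z₀ :=
  D.hCN D.x D.hxA c (D.hΩA c (D.hCA hc) hcp) (D.hCx hc).symm

theorem hCcyc (hodd : p ≠ 2) (hG : IsPGroup p G) : IsCyclic D.C := by
  have hpp : p.Prime := hp.out
  have hCp : IsPGroup p D.C := hG.to_subgroup D.C
  apply Cfsg.Agent.Helper16.isCyclic_of_uniqueOrderP_odd (hpp.odd_of_ne_two hodd) hCp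
  intro x y hx hy
  have hxp : (x : G) ^ p = 1 := by
    have := pow_orderOf_eq_one x
    rw [hx] at this
    have h2 := congrArg Subtype.val this
    simpa using h2
  have hyp : (y : G) ^ p = 1 := by
    have := pow_orderOf_eq_one y
    rw [hy] at this
    have h2 := congrArg Subtype.val this
    simpa using h2
  have hxZ : (x : G) ∈ D.Z₀ := D.hCΩ x.2 hxp
  have hyZ : (y : G) ∈ D.Z₀ := D.hCΩ y.2 hyp
  have h1 : zpowers (x : G) = D.Z₀ := by
    apply Subgroup.eq_of_le_of_card_ge (zpowers_le.mpr hxZ)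
    rw [D.hZ₀card hG, Nat.card_zpowers, Subgroup.orderOf_coe, hx]
  have hy' : (y : G) ∈ zpowers (x : G) := by rw [h1]; exact hyZ
  obtain ⟨k, hk⟩ := mem_zpowers_iff.mp hy'
  refine mem_zpowers_iff.mpr ⟨k, Subtype.ext ?_⟩
  rw [Subgroup.coe_zpow]
  exact hk

theorem hcentK (hG : IsPGroup p G) : centralizer (D.K : Set G) = D.C := by
  apply le_antisymm
  · intro g hg
    refine Subgroup.mem_inf.mpr ⟨?_, ?_⟩
    · exact Subgroup.centralizer_le D.hNK hg
    · rw [Subgroup.mem_centralizer_iff]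
      intro y hy
      rw [Set.mem_singleton_iff] at hy
      subst hy
      exact Subgroup.mem_centralizer_iff.mp hg D.x D.hxK
  · intro g hg
    have h1 : D.K ≤ centralizer ({g} : Set G) := by
      rw [D.hKgen hG]
      apply sup_le
      · intro n₁ hn₁
        rw [Subgroup.mem_centralizer_iff]
        intro y hy
        rw [Set.mem_singleton_iff] at hy
        subst hy
        exact (D.hAN hg.1 hn₁).symm
      · rw [zpowers_le, Subgroup.mem_centralizer_iff]
        intro y hy
        rw [Set.mem_singleton_iff] at hy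
        subst hy
        exact (D.hCx hg).symm
    rw [Subgroup.mem_centralizer_iff]
    intro k hk
    exact (Subgroup.mem_centralizer_iff.mp (h1 hk) g rfl).symm

end Config

end Cfsg.Agent.Helper11.Blk
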