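import Mathlib
import Cfsg.Agent.Lib.Helper11.BlkConfig
import Cfsg.Agent.Lib.Helper1.ClassThree

/-!
# The subgroup of order `p³` and exponent `p` is normal, or `p = 3` and maximal class (helper11)
-/

set_option autoImplicit false

namespace Cfsg.Agent.Helper11.Blk

open Subgroup Cfsg.Agent.Helper22
open scoped commutatorElement

universe u

theorem mem_normalizer_of_conj_mem {G : Type*} [Group G] [Finite G] (K : Subgroup G) (a : G)
    (h : ∀ k ∈ K, a⁻¹ * k * a ∈ K) : a ∈ normalizer (K : Set G) := by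
  rw [Subgroup.mem_normalizer_iff'']
  intro k
  refine ⟨h k, fun hk => ?_⟩
  let φ : K → K := fun k => ⟨a⁻¹ * k * a, h k k.2⟩
  have hinj : Function.Injective φ := by
    intro k₁ k₂ h12
    have h1 : a⁻¹ * (k₁ : G) * a = a⁻¹ * (k₂ : G) * a := congrArg Subtype.val h12
    exact Subtype.ext (mul_left_cancel (mul_right_cancel h1))
  have hsurj := Finite.surjective_of_injective hinj
  obtain ⟨k', hk'⟩ := hsurj ⟨a⁻¹ * k * a, hk⟩
  have h1 : a⁻¹ * (k' : G) * a = a⁻¹ * k * a := congrArg Subtype.val hk'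
  have h2 : (k' : G) = k := mul_left_cancel (mul_right_cancel h1)
  rw [← h2]
  exact k'.2

namespace Config

variable {p : ℕ} [hp : Fact p.Prime] {G : Type u} [Group G] [Finite G] (D : Config p G)

/-- elements of `A` whose `p`-th power lies in `Z₀` lie in `N⟨c₁⟩` for any `c₁ ∈ C` with
`1 ≠ c₁^p ∈ Z₀` -/
theorem mem_sup_of_pow_mem (hodd : p ≠ 2) (hG : IsPGroup p G) (w c₁ : G) (hw : w ∈ D.A)
    (hc₁ : c₁ ∈ D.C) (hwp : w ^ p ∈ D.Z₀) (hc₁p : c₁ ^ p ∈ D.Z₀) (hc₁1 : c₁ ^ p ≠ 1) :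
    w ∈ D.N ⊔ zpowers c₁ := by
  have hpp : p.Prime := hp.out
  haveI := D.hNn
  haveI := D.z₀Normal
  set π := QuotientGroup.mk' D.Z₀ with hπ
  set Ab : Subgroup (G ⧸ D.Z₀) := D.A.map π with hAb
  have hQmeta : Cfsg.IsMetacyclic Ab :=
    isMetacyclic_of_surjective (π.subgroupMap D.A) (π.subgroupMap_surjective D.A) D.hmeta
  have hQS : SmallOmega p Ab := smallOmega_of_isMetacyclic p hpp.pos hQmeta
  have hQp : IsPGroup p Ab := (hG.to_quotient D.Z₀).to_subgroup Ab
  obtain ⟨X, hX, hXcard⟩ := exists_omega_subgroup hodd hQp hQS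
  set X' : Subgroup G := (X.map Ab.subtype).comap π with hX'
  have hX'card : Nat.card X' ≤ p ^ 3 := by
    rw [hX', card_comap_mk', Subgroup.card_map_of_injective Ab.subtype_injective, D.hZ₀card hG]
    calc Nat.card X * p ≤ p ^ 2 * p := Nat.mul_le_mul_right _ hXcard
      _ = p ^ 3 := by ring
  have hmem : ∀ g ∈ D.A, g ^ p ∈ D.Z₀ → g ∈ X' := by
    intro g hg hgp
    rw [hX', Subgroup.mem_comap]
    have hq : π g ∈ Ab := Subgroup.mem_map_of_mem _ hg
    refine ⟨⟨π g, hq⟩, hX _ ?_, rfl⟩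
    apply Subtype.ext
    rw [Subgroup.coe_pow, Subgroup.coe_one]
    show π g ^ p = 1
    rw [← map_pow]
    exact (QuotientGroup.eq_one_iff _).mpr hgp
  have hNX' : D.N ≤ X' := fun n₁ hn₁ =>
    hmem n₁ (D.hNA hn₁) (by rw [D.hNexp n₁ hn₁]; exact one_mem _)
  have hc₁X' : c₁ ∈ X' := hmem c₁ (D.hCA hc₁) hc₁p
  have hwX' : w ∈ X' := hmem w hw hwp
  have hTle : D.N ⊔ zpowers c₁ ≤ X' := sup_le hNX' (zpowers_le.mpr hc₁X')
  have hlt : D.N < D.N ⊔ zpowers c₁ := by
    refine lt_of_le_of_ne le_sup_left ?_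
    intro h
    apply hc₁1
    apply D.hNexp
    rw [h]
    exact (le_sup_right : zpowers c₁ ≤ _) (mem_zpowers c₁)
  have h2 := mul_card_le_card_of_lt hG hlt
  rw [D.hNcard] at h2
  have hTeq : D.N ⊔ zpowers c₁ = X' := by
    apply Subgroup.eq_of_le_of_card_ge hTle
    calc Nat.card X' ≤ p ^ 3 := hX'card
      _ = p * p ^ 2 := by ring
      _ ≤ _ := h2
  rw [hTeq]
  exact hwX'

/-- **Normality**: the subgroup `K` is normal, or `p = 3` and `G` has maximal class. -/
theorem normal_or_maxClass (hodd : p ≠ 2) (n : ℕ) (hcard : Nat.card G = p ^ n) :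
    D.K.Normal ∨ (p = 3 ∧ Group.nilpotencyClass G = n - 1) := by
  have hpp : p.Prime := hp.out
  have hG : IsPGroup p G := IsPGroup.of_card hcard
  haveI := D.hNn
  haveI hAn := D.aNormal
  by_cases hKn : D.K.Normal
  · left; exact hKn
  right
  set L : Subgroup G := normalizer (D.K : Set G) with hL
  have hLtop : L ≠ ⊤ := fun h => hKn (normalizer_eq_top_iff.mp h)
  haveI : Group.IsNilpotent G := hG.isNilpotent
  have hLlt : L < normalizer (L : Set G) :=
    Group.normalizerCondition_of_isNilpotent L (lt_top_iff_ne_top.mpr hLtop)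
  obtain ⟨b, hbN, hbL⟩ := SetLike.exists_of_lt hLlt
  have hKL : D.K ≤ L := Subgroup.le_normalizer
  obtain ⟨a, ha, j, rfl⟩ := D.hdecomp b
  have hxjL : D.x ^ j ∈ L := hKL (zpow_mem D.hxK j)
  have haNL : a ∈ normalizer (L : Set G) := by
    have h1 : a = (a * D.x ^ j) * (D.x ^ j)⁻¹ := by group
    rw [h1]
    exact mul_mem hbN (inv_mem (Subgroup.le_normalizer hxjL))
  have haL : a ∉ L := fun h => hbL (mul_mem h hxjL)
  have hx'L : a⁻¹ * D.x * a ∈ L :=
    ((Subgroup.mem_normalizer_iff''.mp haNL) D.x).mp (hKL D.hxK)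
  set w : G := D.x⁻¹ * (a⁻¹ * D.x * a) with hw
  have hwL : w ∈ L := mul_mem (inv_mem (hKL D.hxK)) hx'L
  have hwA : w ∈ D.A := by
    have h1 : w = (D.x⁻¹ * a⁻¹ * D.x⁻¹⁻¹) * a := by rw [hw]; group
    rw [h1]
    exact mul_mem (hAn.conj_mem a⁻¹ (inv_mem ha) D.x⁻¹) ha
  have hxw : D.x * w = a⁻¹ * D.x * a := by rw [hw]; group
  have hwN : w ∉ D.N := by
    intro hwN
    apply haL
    rw [hL]
    apply mem_normalizer_of_conj_mem
    have hx'K : a⁻¹ * D.x * a ∈ D.K := by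
      rw [← hxw]
      exact mul_mem D.hxK (D.hNK hwN)
    have hle : D.K ≤ D.K.comap (MulAut.conj a⁻¹).toMonoidHom := by
      conv_lhs => rw [D.hKgen hG]
      apply sup_le
      · intro n₁ hn₁
        rw [Subgroup.mem_comap]
        apply D.hNK
        have := D.hNn.conj_mem n₁ hn₁ a⁻¹
        simpa using this
      · rw [zpowers_le, Subgroup.mem_comap]
        have h1 : (MulAut.conj a⁻¹).toMonoidHom D.x = a⁻¹ * D.x * a := by
          simp [MulAut.conj_apply]
        rw [h1]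
        exact hx'K
    intro k hk
    have := hle hk
    rw [Subgroup.mem_comap] at this
    have h1 : (MulAut.conj a⁻¹).toMonoidHom k = a⁻¹ * k * a := by
      simp [MulAut.conj_apply]
    rwa [h1] at this
  set c : G := ⁅w, D.x⁆ with hc
  have hcN : c ∈ D.N := by
    rw [← D.hKAeq]
    refine Subgroup.mem_inf.mpr ⟨?_, ?_⟩
    · have h1 : w * D.x * w⁻¹ ∈ D.K := ((Subgroup.mem_normalizer_iff.mp hwL) D.x).mp D.hxK
      rw [hc, commutatorElement_def]
      exact mul_mem h1 (inv_mem D.hxK)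
    · rw [hc, commutatorElement_def]
      have h1 : w * D.x * w⁻¹ * D.x⁻¹ = w * (D.x * w⁻¹ * D.x⁻¹) := by group
      rw [h1]
      exact mul_mem hwA (hAn.conj_mem w⁻¹ (inv_mem hwA) D.x)
  set d : G := ⁅c, D.x⁆ with hd
  have hdZ : d ∈ D.Z₀ := D.hcommZ₀ hG c hcN D.x
  have hdc : ∀ g : G, Commute d g := fun g => (Subgroup.mem_center_iff.mp (D.hZ₀c hdZ) g).symm
  have hdp : d ^ p = 1 := D.hZ₀pow hG d hdZ
  have hcp : c ^ p = 1 := D.hNexp c hcN
  have hform := Cfsg.Agent.Helper1.ClassThree.mul_pow_eq D.x w c d 1 hdc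
    (fun g => Commute.one_left g)
    (Cfsg.Agent.Helper1.ClassThree.rel_yx D.x w)
    (Cfsg.Agent.Helper1.ClassThree.rel_c c D.x d hdc rfl)
    (by rw [mul_one]; exact D.hAN hwA hcN) p
  have hxwp : (D.x * w) ^ p = 1 := by
    have h1 : a⁻¹ * D.x * a = a⁻¹ * D.x * a⁻¹⁻¹ := by rw [inv_inv]
    rw [hxw, h1, conj_pow, D.hxp]
    group
  obtain ⟨m, hm⟩ := Cfsg.Agent.Helper1.ClassThree.prime_dvd_choose_two hpp hodd
  rw [hxwp, D.hxp, one_mul, one_pow, mul_one, hm, pow_mul, hcp, one_pow, mul_one] at hform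
  by_cases hp3 : 3 < p
  · exfalso
    obtain ⟨m', hm'⟩ := Cfsg.Agent.Helper1.ClassThree.prime_dvd_bExp hpp hp3
    rw [hm', pow_mul, hdp, one_pow, mul_one] at hform
    exact hwN (D.hΩA w hwA hform.symm)
  have hp3' : p = 3 := by
    have := hpp.two_le
    omega
  refine ⟨hp3', ?_⟩
  have hb4 : Cfsg.Agent.Helper1.ClassThree.bExp p = p + 1 := by rw [hp3']; rfl
  rw [hb4, pow_succ, hdp, one_mul] at hform
  -- now `1 = w ^ p * d`
  have hd1 : d ≠ 1 := by
    intro h
    rw [h, mul_one] at hform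
    exact hwN (D.hΩA w hwA hform.symm)
  have hwpZ : w ^ p ∈ D.Z₀ := by
    have h1 : w ^ p = d⁻¹ := eq_inv_of_mul_eq_one_left hform.symm
    rw [h1]
    exact inv_mem hdZ
  -- `C = Z₀`
  have hCcard : Nat.card D.C = p := by
    by_contra hne
    haveI hCc := D.hCcyc hodd hG
    obtain ⟨h, hh⟩ := hCc.exists_generator
    have hdC : d ∈ D.C := D.hZ₀C hdZ
    have h1 := hh ⟨d, hdC⟩
    rw [← mem_powers_iff_mem_zpowers, Submonoid.mem_powers_iff] at h1
    obtain ⟨k, hk⟩ := h1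
    have hho : orderOf h = Nat.card D.C := orderOf_eq_card_of_forall_mem_zpowers hh
    obtain ⟨e, he⟩ := (hG.to_subgroup D.C).exists_card_eq
    have he2 : 2 ≤ e := by
      by_contra hcon
      apply hne
      have h2 : Nat.card D.Z₀ ≤ Nat.card D.C := Subgroup.card_le_of_le D.hZ₀C
      rw [D.hZ₀card hG] at h2
      rcases (by omega : e = 0 ∨ e = 1) with h0 | h0
      · rw [h0, pow_zero] at he
        have := hpp.one_lt
        omega
      · rw [he, h0, pow_one]
    -- `p ∣ k`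
    have hkp : (h ^ k) ^ p = 1 := by
      rw [hk]
      apply Subtype.ext
      rw [Subgroup.coe_pow]
      exact hdp
    have h3 : orderOf h ∣ k * p := by
      rw [← pow_mul] at hkp
      exact orderOf_dvd_of_pow_eq_one hkp
    rw [hho, he] at h3
    have h4 : p ∣ k := by
      have h5 : p ^ 2 ∣ k * p := dvd_trans (pow_dvd_pow p he2) h3
      rw [pow_two] at h5
      exact Nat.dvd_of_mul_dvd_mul_right hpp.pos h5
    obtain ⟨k', rfl⟩ := h4
    set c₁ : G := ((h ^ k' : D.C) : G) with hc₁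
    have hc₁C : c₁ ∈ D.C := (h ^ k').2
    have hc₁p : c₁ ^ p = d := by
      have h5 := congrArg Subtype.val hk
      rw [mul_comm, pow_mul] at h5
      rw [hc₁, ← Subgroup.coe_pow]
      exact h5
    have hmem := D.mem_sup_of_pow_mem hodd hG w c₁ hwA hc₁C hwpZ (by rw [hc₁p]; exact hdZ)
      (by rw [hc₁p]; exact hd1)
    obtain ⟨n', hn', z, hz, hnz⟩ := Subgroup.mem_sup_of_normal_left.mp hmem
    obtain ⟨i, rfl⟩ := mem_zpowers_iff.mp hz
    -- `c = ⁅n', x⁆ ∈ Z₀`
    have hcomm1 : Commute (c₁ ^ i) D.x :=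
      (show Commute c₁ D.x from (D.hCx hc₁C).symm).zpow_left i
    have hcZ : c ∈ D.Z₀ := by
      have h6 : c = ⁅n', D.x⁆ := by
        rw [hc, ← hnz, commutatorElement_def, commutatorElement_def]
        have h7 : n' * c₁ ^ i * D.x * (n' * c₁ ^ i)⁻¹ * D.x⁻¹
            = n' * (c₁ ^ i * D.x) * (c₁ ^ i)⁻¹ * n'⁻¹ * D.x⁻¹ := by group
        rw [h7, hcomm1.eq]
        group
      rw [h6]
      exact D.hcommZ₀ hG n' hn' D.x
    apply hd1
    rw [hd, commutatorElement_eq_one_iff_commute]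
    exact (Subgroup.mem_center_iff.mp (D.hZ₀c hcZ) D.x).symm
  -- maximal class
  have hCeq : D.C = D.Z₀ := by
    symm
    apply Subgroup.eq_of_le_of_card_ge D.hZ₀C
    rw [hCcard, D.hZ₀card hG]
  have hKna : ¬ IsMulCommutative D.K := by
    intro h
    apply D.hxA
    rw [Subgroup.mem_centralizer_iff]
    intro n₁ hn₁
    have := h.is_comm.comm (⟨n₁, D.hNK hn₁⟩ : D.K) ⟨D.x, D.hxK⟩
    exact congrArg Subtype.val this
  have hCK : centralizer (D.K : Set G) ≤ D.K := by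
    rw [D.hcentK hG, hCeq]
    exact D.hZ₀N.trans D.hNK
  exact (maxClass_of_self_centralizing_cube p n G hcard D.K D.hKcard hKna hCK).1

end Config

end Cfsg.Agent.Helper11.Blk
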