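import Mathlib
import Cfsg.Agent.Lib.Helper11.BlkNormal

/-!
# The case of a normal subgroup of order `p³` and exponent `p` (helper11)

The two families of Blackburn's theorem.
-/

set_option autoImplicit false

namespace Cfsg.Agent.Helper11.Blk

open Subgroup Cfsg.Agent.Helper22
open scoped commutatorElement

universe u

theorem inv_mul_mul_pow {G : Type*} [Group G] (x b : G) (k : ℕ) :
    (x⁻¹ * b * x) ^ k = x⁻¹ * b ^ k * x := by
  induction k with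
  | zero => simp
  | succ k ih => rw [pow_succ, ih, pow_succ]; group

theorem inv_mul_mul_zpow {G : Type*} [Group G] (x b : G) (k : ℤ) :
    (x⁻¹ * b * x) ^ k = x⁻¹ * b ^ k * x := by
  have h := (MulAut.conj x⁻¹).toMonoidHom.map_zpow b k
  simp only [MulEquiv.toMonoidHom_eq_coe, MonoidHom.coe_coe, MulAut.conj_apply, inv_inv] at h
  exact h.symm

theorem pow_conj_rel {G : Type*} [Group G] (x y z t : G) (ht : ∀ g : G, Commute t g)
    (h1 : x⁻¹ * z * x = z * y) (h2 : x⁻¹ * y * x = y * t) (k : ℕ) :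
    (x ^ k)⁻¹ * y * x ^ k = y * t ^ k ∧
      ∃ u ∈ zpowers t, (x ^ k)⁻¹ * z * x ^ k = z * (y ^ k * u) := by
  induction k with
  | zero => exact ⟨by simp, 1, one_mem _, by simp⟩
  | succ k ih =>
    obtain ⟨ih1, u, hu, ih2⟩ := ih
    have hconj : ∀ g : G,
        (x ^ (k + 1))⁻¹ * g * x ^ (k + 1) = x⁻¹ * ((x ^ k)⁻¹ * g * x ^ k) * x := by
      intro g
      rw [pow_succ]
      group
    have htk : ∀ m : ℕ, x⁻¹ * t ^ m * x = t ^ m := by
      intro m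
      have := ((ht x).pow_left m).eq
      rw [mul_assoc, this, ← mul_assoc, inv_mul_cancel, one_mul]
    have huc : x⁻¹ * u * x = u := by
      obtain ⟨i, rfl⟩ := mem_zpowers_iff.mp hu
      have := ((ht x).zpow_left i).eq
      rw [mul_assoc, this, ← mul_assoc, inv_mul_cancel, one_mul]
    constructor
    · rw [hconj, ih1]
      have : x⁻¹ * (y * t ^ k) * x = (x⁻¹ * y * x) * (x⁻¹ * t ^ k * x) := by group
      rw [this, h2, htk, mul_assoc, ← pow_succ']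
    · refine ⟨t ^ k * u, mul_mem (pow_mem (mem_zpowers t) k) hu, ?_⟩
      rw [hconj, ih2]
      have : x⁻¹ * (z * (y ^ k * u)) * x
          = (x⁻¹ * z * x) * (x⁻¹ * y ^ k * x) * (x⁻¹ * u * x) := by group
      rw [this, h1, ← inv_mul_mul_pow, h2, huc, ((ht y).symm.mul_pow k), pow_succ']
      simp only [mul_assoc]

theorem pow_eq_of_zmod_eq {G : Type*} [Group G] {p : ℕ} {g : G} (hg : g ^ p = 1) (a b : ℕ)
    (h : (a : ZMod p) = (b : ZMod p)) : g ^ a = g ^ b := by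
  rw [pow_eq_pow_mod a hg, pow_eq_pow_mod b hg, (ZMod.natCast_eq_natCast_iff' a b p).mp h]

namespace Config

variable {p : ℕ} [hp : Fact p.Prime] {G : Type u} [Group G] [Finite G] (D : Config p G)

/-- `δ(a) = a⁻¹ x⁻¹ a x` -/
def dl (a : G) : G := a⁻¹ * D.x⁻¹ * a * D.x

theorem dl_conj (a : G) : D.x⁻¹ * a * D.x = a * D.dl a := by unfold dl; group

theorem dl_mem (hK : D.K.Normal) {a : G} (ha : a ∈ D.A) : D.dl a ∈ D.N := by
  haveI := D.aNormal
  rw [← D.hKAeq]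
  refine Subgroup.mem_inf.mpr ⟨?_, ?_⟩
  · have h1 : a⁻¹ * D.x⁻¹ * a ∈ D.K := by
      have := hK.conj_mem D.x⁻¹ (inv_mem D.hxK) a⁻¹
      simpa using this
    exact mul_mem h1 D.hxK
  · have h1 : D.dl a = a⁻¹ * (D.x⁻¹ * a * D.x⁻¹⁻¹) := by unfold dl; group
    rw [h1]
    exact mul_mem (inv_mem ha) (D.aNormal.conj_mem a ha D.x⁻¹)

theorem dl_mul (hK : D.K.Normal) {a b : G} (ha : a ∈ D.A) (hb : b ∈ D.A) :
    D.dl (a * b) = D.dl a * D.dl b := by
  have h1 : D.dl (a * b) = b⁻¹ * D.dl a * b * D.dl b := by unfold dl; group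
  rw [h1]
  have h2 : D.dl a * b = b * D.dl a := D.hAN hb (D.dl_mem hK ha)
  rw [mul_assoc b⁻¹, h2, ← mul_assoc b⁻¹, inv_mul_cancel, one_mul]

/-- `δ` as a homomorphism on `A` -/
def dlHom (hK : D.K.Normal) : D.A →* G where
  toFun a := D.dl a
  map_one' := by simp [dl]
  map_mul' a b := D.dl_mul hK a.2 b.2

theorem dlHom_apply (hK : D.K.Normal) (a : D.A) : D.dlHom hK a = D.dl a := rfl

theorem dl_zpow (hK : D.K.Normal) {a : G} (ha : a ∈ D.A) (j : ℤ) :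
    D.dl (a ^ j) = D.dl a ^ j := by
  have := map_zpow (D.dlHom hK) ⟨a, ha⟩ j
  rw [dlHom_apply, dlHom_apply] at this
  simpa using this

theorem dl_pow (hK : D.K.Normal) {a : G} (ha : a ∈ D.A) (j : ℕ) :
    D.dl (a ^ j) = D.dl a ^ j := by
  have := map_pow (D.dlHom hK) ⟨a, ha⟩ j
  rw [dlHom_apply, dlHom_apply] at this
  simpa using this

theorem dl_inv (hK : D.K.Normal) {a : G} (ha : a ∈ D.A) :
    D.dl a⁻¹ = (D.dl a)⁻¹ := by
  have := map_inv (D.dlHom hK) ⟨a, ha⟩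
  rw [dlHom_apply, dlHom_apply] at this
  simpa using this

theorem dl_eq_one_iff {a : G} : D.dl a = 1 ↔ D.x * a = a * D.x := by
  unfold dl
  constructor
  · intro h
    calc D.x * a = D.x * a * (a⁻¹ * D.x⁻¹ * a * D.x) := by rw [h, mul_one]
      _ = a * D.x := by group
  · intro h
    calc a⁻¹ * D.x⁻¹ * a * D.x = a⁻¹ * D.x⁻¹ * (a * D.x) := by group
      _ = a⁻¹ * D.x⁻¹ * (D.x * a) := by rw [h]
      _ = 1 := by group

theorem dl_eq_one_of_mem_C {a : G} (ha : a ∈ D.C) : D.dl a = 1 :=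
  D.dl_eq_one_iff.mpr (D.hCx ha)

theorem mem_C_of_dl_eq_one {a : G} (ha : a ∈ D.A) (h : D.dl a = 1) : a ∈ D.C := by
  refine Subgroup.mem_inf.mpr ⟨ha, ?_⟩
  rw [Subgroup.mem_centralizer_iff]
  intro y hy
  rw [Set.mem_singleton_iff] at hy
  subst hy
  exact D.dl_eq_one_iff.mp h

theorem dlHom_range_le (hK : D.K.Normal) : (D.dlHom hK).range ≤ D.N := by
  rintro _ ⟨a, rfl⟩
  exact D.dl_mem hK a.2

theorem dlHom_ker (hK : D.K.Normal) : (D.dlHom hK).ker = D.C.subgroupOf D.A := by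
  ext a
  rw [MonoidHom.mem_ker, Subgroup.mem_subgroupOf, dlHom_apply]
  constructor
  · intro h
    exact D.mem_C_of_dl_eq_one a.2 h
  · intro h
    exact D.dl_eq_one_of_mem_C h

theorem card_C_mul_range (hK : D.K.Normal) :
    Nat.card D.C * Nat.card (D.dlHom hK).range = Nat.card D.A := by
  have h1 := (D.dlHom hK).ker.card_mul_index
  rw [Subgroup.index_ker, D.dlHom_ker hK,
    Nat.card_congr (Subgroup.subgroupOfEquivOfLe D.hCA).toEquiv] at h1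
  exact h1

theorem card_A (n : ℕ) (hcard : Nat.card G = p ^ n) : Nat.card D.A * p = p ^ n := by
  have h : D.A.index = p := D.hA
  have := D.A.card_mul_index
  rw [h, hcard] at this
  exact this

theorem exists_N_not_Z₀ : ∃ y ∈ D.N, y ∉ D.Z₀ := by
  by_contra hcon
  push_neg at hcon
  apply D.hNnc
  intro y hy
  exact D.hZ₀c (hcon y hy)

theorem dl_mem_Z₀ (hG : IsPGroup p G) {y : G} (hy : y ∈ D.N) : D.dl y ∈ D.Z₀ := by
  have h1 : D.dl y = ⁅y⁻¹, D.x⁻¹⁆ := by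
    unfold dl
    rw [commutatorElement_def]
    group
  rw [h1]
  exact D.hcommZ₀ hG y⁻¹ (inv_mem hy) D.x⁻¹

theorem dl_ne_one {y : G} (hy : y ∈ D.N) (hyZ : y ∉ D.Z₀) : D.dl y ≠ 1 := by
  intro h
  apply hyZ
  exact D.hCN D.x D.hxA y hy (D.dl_eq_one_iff.mp h).symm

theorem dl_eq_one_of_mem_Z₀ {y : G} (hy : y ∈ D.Z₀) : D.dl y = 1 :=
  D.dl_eq_one_of_mem_C (D.hZ₀C hy)

/-- a nontrivial element of `Z₀` generates it -/
theorem zpowers_eq_Z₀ (hG : IsPGroup p G) {t : G} (ht : t ∈ D.Z₀) (ht1 : t ≠ 1) :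
    zpowers t = D.Z₀ := by
  have hpp : p.Prime := hp.out
  apply Subgroup.eq_of_le_of_card_ge (zpowers_le.mpr ht)
  rw [D.hZ₀card hG, Nat.card_zpowers, orderOf_eq_prime (D.hZ₀pow hG t ht) ht1]

/-- `N = Z₀⟨y⟩` for `y ∈ N ∖ Z₀` -/
theorem Z₀_sup_zpowers (hG : IsPGroup p G) {y : G} (hy : y ∈ D.N) (hyZ : y ∉ D.Z₀) :
    D.Z₀ ⊔ zpowers y = D.N := by
  apply Subgroup.eq_of_le_of_card_ge (sup_le D.hZ₀N (zpowers_le.mpr hy))
  have hlt : D.Z₀ < D.Z₀ ⊔ zpowers y := by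
    refine lt_of_le_of_ne le_sup_left ?_
    intro h
    apply hyZ
    rw [h]
    exact (le_sup_right : zpowers y ≤ _) (mem_zpowers y)
  have h2 := mul_card_le_card_of_lt hG hlt
  rw [D.hZ₀card hG] at h2
  rw [D.hNcard, pow_two]
  exact h2

theorem closure_eq_top (hG : IsPGroup p G) (x' y z z₀ : G) (hx : D.x ∈ zpowers x')
    (hy : y ∈ D.N) (hyZ : y ∉ D.Z₀) (hz₀ : z₀ ∈ zpowers z) (hz₀Z : z₀ ∈ D.Z₀) (hz₀1 : z₀ ≠ 1)
    (hA : D.A ≤ D.N ⊔ zpowers z) : closure ({x', y, z} : Set G) = ⊤ := by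
  set H := closure ({x', y, z} : Set G) with hH
  have hx'H : x' ∈ H := subset_closure (by simp)
  have hyH : y ∈ H := subset_closure (by simp)
  have hzH : z ∈ H := subset_closure (by simp)
  have hxH : D.x ∈ H := (zpowers_le.mpr hx'H) hx
  have hz₀H : z₀ ∈ H := (zpowers_le.mpr hzH) hz₀
  have hZ₀H : D.Z₀ ≤ H := by
    rw [← D.zpowers_eq_Z₀ hG hz₀Z hz₀1]
    exact zpowers_le.mpr hz₀H
  have hNH : D.N ≤ H := by
    rw [← D.Z₀_sup_zpowers hG hy hyZ]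
    exact sup_le hZ₀H (zpowers_le.mpr hyH)
  have hAH : D.A ≤ H := hA.trans (sup_le hNH (zpowers_le.mpr hzH))
  rw [eq_top_iff, ← D.hsup]
  exact sup_le hAH (zpowers_le.mpr hxH)


/-- the two cases for the order of `C` -/
theorem card_C_cases (hK : D.K.Normal) (n : ℕ) (hcard : Nat.card G = p ^ n) :
    (3 ≤ n ∧ Nat.card D.C = p ^ (n - 2) ∧ Nat.card (D.dlHom hK).range = p) ∨
    (4 ≤ n ∧ Nat.card D.C = p ^ (n - 3) ∧ (D.dlHom hK).range = D.N) := by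
  have hpp : p.Prime := hp.out
  have hG : IsPGroup p G := IsPGroup.of_card hcard
  have h3 : 3 ≤ n := by
    have h1 : Nat.card D.K ≤ Nat.card G := Subgroup.card_le_card_group D.K
    rw [D.hKcard, hcard] at h1
    exact (Nat.pow_le_pow_iff_right hpp.one_lt).mp h1
  have hA := D.card_A n hcard
  have hCr := D.card_C_mul_range hK
  have hdvd : Nat.card (D.dlHom hK).range ∣ p ^ 2 := by
    rw [← D.hNcard]
    exact Subgroup.card_dvd_of_le (D.dlHom_range_le hK)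
  obtain ⟨m, hm, hm'⟩ := (Nat.dvd_prime_pow hpp).mp hdvd
  have hne : (D.dlHom hK).range ≠ ⊥ := by
    obtain ⟨y, hy, hyZ⟩ := D.exists_N_not_Z₀
    intro h
    apply D.dl_ne_one hy hyZ
    have h1 : D.dl y ∈ (D.dlHom hK).range := ⟨⟨y, D.hNA hy⟩, rfl⟩
    rw [h] at h1
    exact Subgroup.mem_bot.mp h1
  have hm0 : m ≠ 0 := by
    rintro rfl
    rw [pow_zero] at hm'
    exact hne ((D.dlHom hK).range.card_eq_one.mp hm')
  rcases (by omega : m = 1 ∨ m = 2) with rfl | rfl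
  · left
    rw [pow_one] at hm'
    refine ⟨h3, ?_, hm'⟩
    rw [hm'] at hCr
    rw [← hCr] at hA
    have h4 : p ^ n = p ^ (n - 2) * p * p := by
      rw [mul_assoc, ← pow_two, ← pow_add]
      congr 1
      omega
    rw [h4] at hA
    exact Nat.eq_of_mul_eq_mul_right hpp.pos (Nat.eq_of_mul_eq_mul_right hpp.pos hA)
  · right
    rw [hm'] at hCr
    rw [← hCr] at hA
    have hCp : p ≤ Nat.card D.C := by
      have h2 : Nat.card D.Z₀ ≤ Nat.card D.C := Subgroup.card_le_of_le D.hZ₀C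
      rw [D.hZ₀card hG] at h2
      exact h2
    have h4 : 4 ≤ n := by
      have h5 : p ^ 4 ≤ p ^ n := by
        rw [← hA]
        calc p ^ 4 = p * p ^ 2 * p := by ring
          _ ≤ Nat.card D.C * p ^ 2 * p :=
            Nat.mul_le_mul_right _ (Nat.mul_le_mul_right _ hCp)
      exact (Nat.pow_le_pow_iff_right hpp.one_lt).mp h5
    refine ⟨h4, ?_, ?_⟩
    · have h6 : p ^ n = p ^ (n - 3) * p ^ 2 * p := by
        rw [mul_assoc, ← pow_succ, ← pow_add]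
        congr 1
        omega
      rw [h6] at hA
      exact Nat.eq_of_mul_eq_mul_right (pow_pos hpp.pos 2)
        (Nat.eq_of_mul_eq_mul_right hpp.pos hA)
    · apply Subgroup.eq_of_le_of_card_ge (D.dlHom_range_le hK)
      rw [hm', D.hNcard]

/-- **Family (b)** -/
theorem family_b (hodd : p ≠ 2) (hK : D.K.Normal) (n : ℕ) (hcard : Nat.card G = p ^ n)
    (hn : 3 ≤ n) (hC : Nat.card D.C = p ^ (n - 2)) (hr : Nat.card (D.dlHom hK).range = p) :
    ∃ x y z : G, closure ({x, y, z} : Set G) = ⊤ ∧ x ^ p = 1 ∧ y ^ p = 1 ∧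
      z ^ p ^ (n - 2) = 1 ∧ x * z = z * x ∧ y * z = z * y ∧
      x⁻¹ * y * x = y * z ^ p ^ (n - 3) := by
  have hpp : p.Prime := hp.out
  have hG : IsPGroup p G := IsPGroup.of_card hcard
  haveI hCc := D.hCcyc hodd hG
  obtain ⟨h, hh⟩ := hCc.exists_generator
  have hho : orderOf h = Nat.card D.C := orderOf_eq_card_of_forall_mem_zpowers hh
  set z : G := (h : G) with hz
  have hzC : z ∈ D.C := h.2
  have hzo : orderOf z = p ^ (n - 2) := by rw [hz, Subgroup.orderOf_coe, hho, hC]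
  have hzpow : z ^ p ^ (n - 2) = 1 := by rw [← hzo]; exact pow_orderOf_eq_one z
  set z₀ : G := z ^ p ^ (n - 3) with hz₀
  have hz₀C : z₀ ∈ D.C := pow_mem hzC _
  have hz₀p : z₀ ^ p = 1 := by
    rw [hz₀, ← pow_mul, ← pow_succ]
    have : n - 3 + 1 = n - 2 := by omega
    rw [this]
    exact hzpow
  have hz₀Z : z₀ ∈ D.Z₀ := D.hCΩ hz₀C hz₀p
  have hz₀1 : z₀ ≠ 1 := by
    apply pow_ne_one_of_lt_orderOf (pow_pos hpp.pos _).ne'
    rw [hzo]
    exact Nat.pow_lt_pow_right hpp.one_lt (by omega)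
  obtain ⟨y₀, hy₀, hy₀Z⟩ := D.exists_N_not_Z₀
  set t : G := D.dl y₀ with ht
  have htZ : t ∈ D.Z₀ := D.dl_mem_Z₀ hG hy₀
  have ht1 : t ≠ 1 := D.dl_ne_one hy₀ hy₀Z
  have hzt : zpowers t = D.Z₀ := D.zpowers_eq_Z₀ hG htZ ht1
  have hz₀t : z₀ ∈ zpowers t := by rw [hzt]; exact hz₀Z
  obtain ⟨j, hj⟩ := mem_zpowers_iff.mp hz₀t
  set y : G := y₀ ^ j with hy
  have hyN : y ∈ D.N := zpow_mem hy₀ j
  have hdy : D.dl y = z₀ := by rw [hy, D.dl_zpow hK (D.hNA hy₀), hj]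
  have hyZ : y ∉ D.Z₀ := by
    intro h'
    apply hz₀1
    rw [← hdy]
    exact D.dl_eq_one_of_mem_Z₀ h'
  -- the range is generated by `t`
  have hrange : (D.dlHom hK).range = zpowers t := by
    symm
    apply Subgroup.eq_of_le_of_card_ge
    · rw [zpowers_le]
      exact ⟨⟨y₀, D.hNA hy₀⟩, rfl⟩
    · rw [hr, hzt, D.hZ₀card hG]
  have hAle : D.A ≤ D.N ⊔ zpowers z := by
    intro a ha
    have h1 : D.dl a ∈ zpowers t := by
      rw [← hrange]
      exact ⟨⟨a, ha⟩, rfl⟩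
    obtain ⟨i, hi⟩ := mem_zpowers_iff.mp h1
    have hn₁ : y₀ ^ i ∈ D.N := zpow_mem hy₀ i
    have hc : a * (y₀ ^ i)⁻¹ ∈ D.C := by
      apply D.mem_C_of_dl_eq_one (mul_mem ha (inv_mem (D.hNA hn₁)))
      rw [D.dl_mul hK ha (inv_mem (D.hNA hn₁)), D.dl_inv hK (D.hNA hn₁),
        D.dl_zpow hK (D.hNA hy₀), hi, mul_inv_cancel]
    have hcz : a * (y₀ ^ i)⁻¹ ∈ zpowers z := by
      have := hh ⟨_, hc⟩
      obtain ⟨k, hk⟩ := mem_zpowers_iff.mp this
      refine mem_zpowers_iff.mpr ⟨k, ?_⟩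
      have h5 := congrArg Subtype.val hk
      rw [Subgroup.coe_zpow] at h5
      exact h5
    have h6 : a = (a * (y₀ ^ i)⁻¹) * y₀ ^ i := by group
    rw [h6]
    exact mul_mem ((le_sup_right : zpowers z ≤ D.N ⊔ zpowers z) hcz)
      ((le_sup_left : D.N ≤ D.N ⊔ zpowers z) hn₁)
  refine ⟨D.x, y, z, ?_, D.hxp, D.hNexp y hyN, hzpow, D.hCx hzC, D.hAN (D.hCA hzC) hyN, ?_⟩
  · exact D.closure_eq_top hG D.x y z z₀ (mem_zpowers D.x) hyN hyZ
      (mem_zpowers_iff.mpr ⟨(p ^ (n - 3) : ℕ), by rw [zpow_natCast]⟩) hz₀Z hz₀1 hAle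
  · rw [D.dl_conj, hdy]


theorem conj_mem_C (hK : D.K.Normal) {a c : G} (ha : a ∈ D.A) (hc : c ∈ D.C) :
    a * c * a⁻¹ ∈ D.C := by
  have hcA : c ∈ D.A := D.hCA hc
  apply D.mem_C_of_dl_eq_one (mul_mem (mul_mem ha hcA) (inv_mem ha))
  rw [D.dl_mul hK (mul_mem ha hcA) (inv_mem ha), D.dl_mul hK ha hcA, D.dl_inv hK ha,
    D.dl_eq_one_of_mem_C hc, mul_one, mul_inv_cancel]

theorem pow_mem_C (hK : D.K.Normal) {a : G} (ha : a ∈ D.A) : a ^ p ∈ D.C := by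
  apply D.mem_C_of_dl_eq_one (pow_mem ha p)
  rw [D.dl_pow hK ha]
  exact D.hNexp _ (D.dl_mem hK ha)

/-- in the second case there is `z ∈ A` whose `p`-th power generates `C` -/
theorem exists_z (hodd : p ≠ 2) (hK : D.K.Normal) (n : ℕ) (hcard : Nat.card G = p ^ n)
    (hn : 4 ≤ n) (hC : Nat.card D.C = p ^ (n - 3)) :
    ∃ z ∈ D.A, z ^ p ∈ D.C ∧ orderOf (z ^ p) = p ^ (n - 3) ∧
      (∀ c ∈ D.C, c ∈ zpowers (z ^ p)) ∧ D.dl z ∉ D.Z₀ := by
  have hpp : p.Prime := hp.out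
  have hG : IsPGroup p G := IsPGroup.of_card hcard
  haveI hCc := D.hCcyc hodd hG
  obtain ⟨h, hh⟩ := hCc.exists_generator
  have hho : orderOf h = Nat.card D.C := orderOf_eq_card_of_forall_mem_zpowers hh
  set g : G := (h : G) with hg
  have hgC : g ∈ D.C := h.2
  have hgo : orderOf g = p ^ (n - 3) := by rw [hg, Subgroup.orderOf_coe, hho, hC]
  have hgen : ∀ c ∈ D.C, c ∈ zpowers g := by
    intro c hc
    obtain ⟨k, hk⟩ := mem_zpowers_iff.mp (hh ⟨c, hc⟩)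
    refine mem_zpowers_iff.mpr ⟨k, ?_⟩
    have h5 := congrArg Subtype.val hk
    rw [Subgroup.coe_zpow] at h5
    exact h5
  set Cp : Subgroup G := zpowers (g ^ p) with hCp
  have hF1 : ∀ c ∈ D.C, c ^ p ∈ Cp := by
    intro c hc
    obtain ⟨k, rfl⟩ := mem_zpowers_iff.mp (hgen c hc)
    refine mem_zpowers_iff.mpr ⟨k, ?_⟩
    rw [← zpow_natCast, ← zpow_natCast, ← zpow_mul, ← zpow_mul, mul_comm]
  have hCpC : Cp ≤ D.C := zpowers_le.mpr (pow_mem hgC p)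
  have hCpA : Cp ≤ D.A := hCpC.trans D.hCA
  have hCpcard : Nat.card Cp * p = p ^ (n - 3) := by
    have h1 : p ∣ orderOf g := by
      rw [hgo]
      exact dvd_pow_self p (by omega)
    rw [hCp, Nat.card_zpowers, orderOf_pow_of_dvd hpp.ne_zero h1, hgo]
    exact Nat.div_mul_cancel (by rw [← hgo]; exact h1)
  have hTn : (Cp.subgroupOf D.A).Normal := by
    constructor
    intro c hc a
    rw [Subgroup.mem_subgroupOf] at hc ⊢
    obtain ⟨i, hi⟩ := mem_zpowers_iff.mp hc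
    have h1 : (a : G) * g * (a : G)⁻¹ ∈ D.C := D.conj_mem_C hK a.2 hgC
    obtain ⟨j, hj⟩ := mem_zpowers_iff.mp (hgen _ h1)
    have h2 : ((a * c * a⁻¹ : D.A) : G) = (a : G) * (c : G) * (a : G)⁻¹ := by
      simp
    rw [h2, ← hi, ← conj_zpow, ← conj_pow, ← hj]
    apply zpow_mem
    refine mem_zpowers_iff.mpr ⟨j, ?_⟩
    rw [← zpow_natCast, ← zpow_natCast, ← zpow_mul, ← zpow_mul, mul_comm]
  have hF4 : ∃ a ∈ D.A, a ^ p ∉ Cp := by
    by_contra hcon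
    push_neg at hcon
    haveI := hTn
    have hidx := index_le_sq_of_isMetacyclic p hpp.pos D.hmeta (Cp.subgroupOf D.A) (by
      intro a
      rw [Subgroup.mem_subgroupOf, Subgroup.coe_pow]
      exact hcon a a.2)
    have h1 := (Cp.subgroupOf D.A).card_mul_index
    rw [Nat.card_congr (Subgroup.subgroupOfEquivOfLe hCpA).toEquiv] at h1
    have hA := D.card_A n hcard
    have h2 : p ^ n = p ^ (n - 3) * p ^ 3 := by
      rw [← pow_add]
      congr 1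
      omega
    rw [← h1, h2, ← hCpcard] at hA
    have h3 : Nat.card Cp * (Cp.subgroupOf D.A).index * p = Nat.card Cp * p * p ^ 3 := hA
    have hCppos : 0 < Nat.card Cp := Nat.card_pos
    have h4 : (Cp.subgroupOf D.A).index * p = p * p ^ 3 := by
      apply Nat.eq_of_mul_eq_mul_left hCppos
      rw [← mul_assoc, h3, mul_assoc]
    have h5 : (Cp.subgroupOf D.A).index = p ^ 3 := by
      apply Nat.eq_of_mul_eq_mul_right hpp.pos
      rw [h4, mul_comm]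
    rw [h5] at hidx
    have h6 : p ^ 2 < p ^ 3 := Nat.pow_lt_pow_right hpp.one_lt (by norm_num)
    omega
  obtain ⟨z, hzA, hzCp⟩ := hF4
  have hzpC : z ^ p ∈ D.C := D.pow_mem_C hK hzA
  have hz1 := hgen _ hzpC
  rw [← mem_powers_iff_mem_zpowers, Submonoid.mem_powers_iff] at hz1
  obtain ⟨i, hi⟩ := hz1
  have hpi : ¬ p ∣ i := by
    rintro ⟨i', rfl⟩
    apply hzCp
    rw [← hi, pow_mul]
    exact pow_mem (mem_zpowers _) i'
  have hzo : orderOf (z ^ p) = p ^ (n - 3) := by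
    rw [← hi, Nat.Coprime.orderOf_pow, hgo]
    rw [hgo]
    exact Nat.Coprime.pow_left _ ((Nat.Prime.coprime_iff_not_dvd hpp).mpr hpi)
  have hzgen : ∀ c ∈ D.C, c ∈ zpowers (z ^ p) := by
    have h1 : zpowers (z ^ p) = D.C := by
      apply Subgroup.eq_of_le_of_card_ge (zpowers_le.mpr hzpC)
      rw [Nat.card_zpowers, hzo, hC]
    intro c hc
    rw [h1]
    exact hc
  refine ⟨z, hzA, hzpC, hzo, hzgen, ?_⟩
  intro hdz
  obtain ⟨y₀, hy₀, hy₀Z⟩ := D.exists_N_not_Z₀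
  have htZ : D.dl y₀ ∈ D.Z₀ := D.dl_mem_Z₀ hG hy₀
  have ht1 : D.dl y₀ ≠ 1 := D.dl_ne_one hy₀ hy₀Z
  have hzt : zpowers (D.dl y₀) = D.Z₀ := D.zpowers_eq_Z₀ hG htZ ht1
  rw [← hzt] at hdz
  obtain ⟨j, hj⟩ := mem_zpowers_iff.mp hdz
  have hn₁ : y₀ ^ j ∈ D.N := zpow_mem hy₀ j
  have hc : z * (y₀ ^ j)⁻¹ ∈ D.C := by
    apply D.mem_C_of_dl_eq_one (mul_mem hzA (inv_mem (D.hNA hn₁)))
    rw [D.dl_mul hK hzA (inv_mem (D.hNA hn₁)), D.dl_inv hK (D.hNA hn₁),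
      D.dl_zpow hK (D.hNA hy₀), hj, mul_inv_cancel]
  apply hzCp
  have h6 : z = (z * (y₀ ^ j)⁻¹) * y₀ ^ j := by group
  have hcomm : Commute (z * (y₀ ^ j)⁻¹) (y₀ ^ j) := (D.hAN (D.hCA hc) hn₁).symm
  rw [h6, hcomm.mul_pow, D.hNexp _ hn₁, mul_one]
  exact hF1 _ hc


/-- **Family (c)** -/
theorem family_c (hodd : p ≠ 2) (hK : D.K.Normal) (n : ℕ) (hcard : Nat.card G = p ^ n)
    (hn : 4 ≤ n) (hC : Nat.card D.C = p ^ (n - 3)) (hr : (D.dlHom hK).range = D.N) :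
    ∃ (s : ℕ) (x y z : G), (s = 1 ∨ ¬ IsSquare (s : ZMod p)) ∧
      closure ({x, y, z} : Set G) = ⊤ ∧ x ^ p = 1 ∧ y ^ p = 1 ∧ z ^ p ^ (n - 2) = 1 ∧
      y * z = z * y ∧ x⁻¹ * y * x = y * z ^ (s * p ^ (n - 3)) ∧ x⁻¹ * z * x = y * z := by
  have hpp : p.Prime := hp.out
  haveI : NeZero p := ⟨hpp.ne_zero⟩
  have hG : IsPGroup p G := IsPGroup.of_card hcard
  haveI := D.z₀Normal
  obtain ⟨z, hzA, hzpC, hzo, hzgen, hdz⟩ := D.exists_z hodd hK n hcard hn hC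
  set y : G := D.dl z with hy
  have hyN : y ∈ D.N := D.dl_mem hK hzA
  set t : G := D.dl y with ht
  have htZ : t ∈ D.Z₀ := D.dl_mem_Z₀ hG hyN
  have ht1 : t ≠ 1 := D.dl_ne_one hyN hdz
  have htc : ∀ g : G, Commute t g := fun g => (Subgroup.mem_center_iff.mp (D.hZ₀c htZ) g).symm
  have hzt : zpowers t = D.Z₀ := D.zpowers_eq_Z₀ hG htZ ht1
  have he1 : p ^ (n - 2) = p * p ^ (n - 3) := by
    rw [← pow_succ']
    congr 1
    omega
  have he2 : p ^ (n - 3) = p * p ^ (n - 4) := by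
    rw [← pow_succ']
    congr 1
    omega
  have hzpow : z ^ p ^ (n - 2) = 1 := by
    rw [he1, pow_mul, ← hzo]
    exact pow_orderOf_eq_one _
  set z₀ : G := z ^ p ^ (n - 3) with hz₀
  have hz₀' : z₀ = (z ^ p) ^ p ^ (n - 4) := by rw [hz₀, he2, pow_mul]
  have hz₀C : z₀ ∈ D.C := by rw [hz₀']; exact pow_mem hzpC _
  have hz₀p : z₀ ^ p = 1 := by
    rw [hz₀, ← pow_mul, mul_comm, ← he1]
    exact hzpow
  have hz₀Z : z₀ ∈ D.Z₀ := D.hCΩ hz₀C hz₀p
  have hz₀1 : z₀ ≠ 1 := by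
    rw [hz₀']
    apply pow_ne_one_of_lt_orderOf (pow_pos hpp.pos _).ne'
    rw [hzo]
    exact Nat.pow_lt_pow_right hpp.one_lt (by omega)
  have hz₀z : z₀ ∈ zpowers z := mem_zpowers_iff.mpr ⟨(p ^ (n - 3) : ℕ), by rw [zpow_natCast]⟩
  -- `A = N⟨z⟩`
  have hAle : D.A ≤ D.N ⊔ zpowers z := by
    intro a ha
    have h1 : D.dl a ∈ D.Z₀ ⊔ zpowers y := by
      rw [D.Z₀_sup_zpowers hG hyN hdz]
      exact D.dl_mem hK ha
    obtain ⟨u, hu, w, hw, huw⟩ := Subgroup.mem_sup_of_normal_left.mp h1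
    rw [← hzt] at hu
    obtain ⟨k, rfl⟩ := mem_zpowers_iff.mp hu
    obtain ⟨i, rfl⟩ := mem_zpowers_iff.mp hw
    have hykA : y ^ k ∈ D.A := D.hNA (zpow_mem hyN k)
    have hziA : z ^ i ∈ D.A := zpow_mem hzA i
    have hbA : y ^ k * z ^ i ∈ D.A := mul_mem hykA hziA
    have hdb : D.dl (y ^ k * z ^ i) = D.dl a := by
      rw [D.dl_mul hK hykA hziA, D.dl_zpow hK (D.hNA hyN), D.dl_zpow hK hzA]
      exact huw
    have hc : a * (y ^ k * z ^ i)⁻¹ ∈ D.C := by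
      apply D.mem_C_of_dl_eq_one (mul_mem ha (inv_mem hbA))
      rw [D.dl_mul hK ha (inv_mem hbA), D.dl_inv hK hbA, hdb, mul_inv_cancel]
    have hcz : a * (y ^ k * z ^ i)⁻¹ ∈ zpowers z :=
      (zpowers_le.mpr (pow_mem (mem_zpowers z) p)) (hzgen _ hc)
    have h6 : a = (a * (y ^ k * z ^ i)⁻¹) * (y ^ k * z ^ i) := by group
    rw [h6]
    refine mul_mem ((le_sup_right : zpowers z ≤ D.N ⊔ zpowers z) hcz) (mul_mem ?_ ?_)
    · exact (le_sup_left : D.N ≤ D.N ⊔ zpowers z) (zpow_mem hyN k)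
    · exact (le_sup_right : zpowers z ≤ D.N ⊔ zpowers z) (zpow_mem (mem_zpowers z) i)
  -- `t = z₀ ^ τ`
  have hzz₀ : zpowers z₀ = D.Z₀ := D.zpowers_eq_Z₀ hG hz₀Z hz₀1
  have ht' : t ∈ zpowers z₀ := by rw [hzz₀]; exact htZ
  rw [← mem_powers_iff_mem_zpowers, Submonoid.mem_powers_iff] at ht'
  obtain ⟨τ, hτ⟩ := ht'
  have hb1 : D.x⁻¹ * z * D.x = z * y := D.dl_conj z
  have hb2 : D.x⁻¹ * y * D.x = y * t := D.dl_conj y
  have hyz : y * z = z * y := D.hAN hzA hyN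
  by_cases hsq : IsSquare (τ : ZMod p)
  · obtain ⟨r, hr'⟩ := hsq
    have hτ0 : (τ : ZMod p) ≠ 0 := by
      intro h0
      apply ht1
      rw [← hτ]
      have : ((τ : ℕ) : ZMod p) = ((0 : ℕ) : ZMod p) := by rw [h0, Nat.cast_zero]
      rw [pow_eq_of_zmod_eq hz₀p τ 0 this, pow_zero]
    have hr0 : r ≠ 0 := by
      rintro rfl
      rw [mul_zero] at hr'
      exact hτ0 hr'
    set k : ℕ := (r⁻¹).val with hk
    set m : ℕ := r.val with hm
    have hkc : (k : ZMod p) = r⁻¹ := ZMod.natCast_zmod_val _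
    have hmc : (m : ZMod p) = r := ZMod.natCast_zmod_val _
    have hkm : ((k * m : ℕ) : ZMod p) = ((1 : ℕ) : ZMod p) := by
      rw [Nat.cast_mul, hkc, hmc, Nat.cast_one, inv_mul_cancel₀ hr0]
    have hτk : ((τ * (k * k) : ℕ) : ZMod p) = ((1 : ℕ) : ZMod p) := by
      rw [Nat.cast_mul, Nat.cast_mul, hkc, hr', Nat.cast_one]
      field_simp
    obtain ⟨hc1, u, hu, hc2⟩ := pow_conj_rel D.x y z t htc hb1 hb2 k
    have huZ : u ∈ D.Z₀ := by rw [← hzt]; exact hu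
    have huc : ∀ g : G, Commute u g := fun g => (Subgroup.mem_center_iff.mp (D.hZ₀c huZ) g).symm
    set x' : G := D.x ^ k with hx'
    set y' : G := y ^ k * u with hy'
    have hy'N : y' ∈ D.N := mul_mem (pow_mem hyN k) (D.hZ₀N huZ)
    have hy'Z : y' ∉ D.Z₀ := by
      intro h
      apply hdz
      have h1 : y ^ k ∈ D.Z₀ := by
        have : y ^ k = y' * u⁻¹ := by rw [hy']; group
        rw [this]
        exact mul_mem h (inv_mem huZ)
      have h2 : y = (y ^ k) ^ m := by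
        rw [← pow_mul, pow_eq_of_zmod_eq (D.hNexp y hyN) (k * m) 1 hkm, pow_one]
      rw [h2]
      exact pow_mem h1 m
    have hxx' : D.x ∈ zpowers x' := by
      have h2 : D.x = x' ^ m := by
        rw [hx', ← pow_mul, pow_eq_of_zmod_eq D.hxp (k * m) 1 hkm, pow_one]
      rw [h2]
      exact pow_mem (mem_zpowers x') m
    refine ⟨1, x', y', z, Or.inl rfl, ?_, ?_, D.hNexp y' hy'N, hzpow, D.hAN hzA hy'N, ?_, ?_⟩
    · exact D.closure_eq_top hG x' y' z z₀ hxx' hy'N hy'Z hz₀z hz₀Z hz₀1 hAle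
    · rw [hx', ← pow_mul, mul_comm, pow_mul, D.hxp, one_pow]
    · have h1 : x'⁻¹ * y' * x' = (x'⁻¹ * y ^ k * x') * (x'⁻¹ * u * x') := by
        rw [hy']; group
      have h2 : x'⁻¹ * u * x' = u := by
        rw [mul_assoc, (huc x').eq, ← mul_assoc, inv_mul_cancel, one_mul]
      have h3 : (t ^ k) ^ k = z₀ := by
        rw [← pow_mul, ← hτ, ← pow_mul, pow_eq_of_zmod_eq hz₀p (τ * (k * k)) 1 hτk, pow_one]
      rw [h1, h2, ← inv_mul_mul_pow, hc1, ((htc y).symm.pow_right k).mul_pow, h3, one_mul, ← hz₀,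
        hy', mul_assoc, mul_assoc, (huc z₀).eq.symm]
    · rw [hc2]
      exact (D.hAN hzA hy'N).symm
  · refine ⟨τ, D.x, y, z, Or.inr hsq, ?_, D.hxp, D.hNexp y hyN, hzpow, hyz, ?_, ?_⟩
    · exact D.closure_eq_top hG D.x y z z₀ (mem_zpowers D.x) hyN hdz hz₀z hz₀Z hz₀1 hAle
    · rw [hb2, pow_mul', ← hz₀, hτ]
    · rw [hb1, hyz]

end Config

end Cfsg.Agent.Helper11.Blk
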