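import Mathlib
import Cfsg.Agent.S3888

/-!
# `p`-chief factors of groups of `p`-rank at most two (helper11)

A `p`-group lemma (via Blackburn's classification `S3888`): a normal subgroup `T` of an odd `p`-group `P` of
rank at most two, containing all `p`-th powers and commutators, and such that `Z(P) ≤ T` or `Z(P) T = P`,
has index at most `p²`.
-/

set_option autoImplicit false

namespace Cfsg.Agent.Helper11.ChiefRank

open Subgroup
open scoped commutatorElement IsMulCommutative

variable {p : ℕ} [hp : Fact p.Prime]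

/-- a commutative group of exponent `p` generated by two elements has order at most `p²` -/
theorem card_le_sq_of_pair {X : Type*} [Group X] (hexp : ∀ g : X, g ^ p = 1)
    (hcomm : ∀ g h : X, g * h = h * g) (a b : X) (hab : closure {a, b} = ⊤) :
    Nat.card X ≤ p ^ 2 := by
  have hpp : p.Prime := hp.out
  haveI : NeZero p := ⟨hpp.ne_zero⟩
  letI : CommGroup X := { (inferInstance : Group X) with mul_comm := hcomm }
  have hsurj : Function.Surjective
      (fun ij : Fin p × Fin p => a ^ (ij.1 : ℕ) * b ^ (ij.2 : ℕ)) := by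
    intro g
    have hg : g ∈ closure {a, b} := by rw [hab]; trivial
    obtain ⟨m, n, hmn⟩ := Subgroup.mem_closure_pair.mp hg
    have hred : ∀ (c : X) (k : ℤ), c ^ k = c ^ ((k % (p : ℤ)).toNat) := by
      intro c k
      rw [zpow_eq_zpow_emod' k (hexp c)]
      have h0 : 0 ≤ k % (p : ℤ) := Int.emod_nonneg _ (by exact_mod_cast hpp.ne_zero)
      conv_lhs => rw [← Int.toNat_of_nonneg h0]
      rw [zpow_natCast]
    have hlt : ∀ k : ℤ, (k % (p : ℤ)).toNat < p := by
      intro k
      have h0 : 0 ≤ k % (p : ℤ) := Int.emod_nonneg _ (by exact_mod_cast hpp.ne_zero)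
      have h1 : k % (p : ℤ) < p := Int.emod_lt_of_pos _ (by exact_mod_cast hpp.pos)
      omega
    refine ⟨(⟨(m % (p : ℤ)).toNat, hlt m⟩, ⟨(n % (p : ℤ)).toNat, hlt n⟩), ?_⟩
    show a ^ ((m % (p : ℤ)).toNat) * b ^ ((n % (p : ℤ)).toNat) = g
    rw [← hred a m, ← hred b n, hmn]
  have h1 := Nat.card_le_card_of_surjective _ hsurj
  rw [Nat.card_prod, Nat.card_fin] at h1
  rw [sq]
  exact h1

/-- a normal subgroup containing `p`-th powers, commutators and one of three generators has
index at most `p²` -/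
theorem index_le_sq_of_three {P : Type*} [Group P] (T : Subgroup P) [T.Normal]
    (hexp : ∀ g : P, g ^ p ∈ T) (hcomm : ∀ g h : P, ⁅g, h⁆ ∈ T) (u v w : P)
    (huvw : closure {u, v, w} = ⊤) (hw : w ∈ T) : T.index ≤ p ^ 2 := by
  rw [Subgroup.index_eq_card]
  apply card_le_sq_of_pair (p := p) ?_ ?_ (QuotientGroup.mk' T u) (QuotientGroup.mk' T v) ?_
  · intro g
    obtain ⟨g, rfl⟩ := QuotientGroup.mk'_surjective T g
    rw [← map_pow]
    exact (QuotientGroup.eq_one_iff _).mpr (hexp g)
  · intro g h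
    obtain ⟨g, rfl⟩ := QuotientGroup.mk'_surjective T g
    obtain ⟨h, rfl⟩ := QuotientGroup.mk'_surjective T h
    have h1 : QuotientGroup.mk' T ⁅g, h⁆ = 1 := (QuotientGroup.eq_one_iff _).mpr (hcomm g h)
    rw [map_commutatorElement, commutatorElement_eq_one_iff_commute] at h1
    exact h1.eq
  · rw [eq_top_iff]
    intro g _
    obtain ⟨g, rfl⟩ := QuotientGroup.mk'_surjective T g
    have h1 : closure {u, v, w} ≤
        (closure {QuotientGroup.mk' T u, QuotientGroup.mk' T v}).comap (QuotientGroup.mk' T) := by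
      rw [closure_le]
      intro s hs
      simp only [Set.mem_insert_iff, Set.mem_singleton_iff] at hs
      rcases hs with rfl | rfl | rfl
      · exact subset_closure (by simp)
      · exact subset_closure (by simp)
      · show QuotientGroup.mk' T s ∈
          closure {QuotientGroup.mk' T u, QuotientGroup.mk' T v}
        rw [show QuotientGroup.mk' T s = 1 from (QuotientGroup.eq_one_iff s).mpr hw]
        exact one_mem _
    exact h1 (by rw [huvw]; trivial)

/-- the central case: if `Z(P) T = P` then `|P : T|` is at most the order of `Ω₁(Z(P))` -/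
theorem index_le_sq_of_center_sup {P : Type*} [Group P] [Finite P]
    (hr : Cfsg.PRankLE p 2 P) (T : Subgroup P) [T.Normal] (hexp : ∀ g : P, g ^ p ∈ T)
    (hZ : center P ⊔ T = ⊤) : T.index ≤ p ^ 2 := by
  have hpp : p.Prime := hp.out
  have h1 : T.index = (T.subgroupOf (center P)).index := by
    rw [← Subgroup.relIndex_top_right, ← hZ, Subgroup.relIndex_sup_right]
    rfl
  set φ : ↥(center P) →* ↥(center P) := powMonoidHom (α := ↥(center P)) p with hφ
  have h2 : φ.range ≤ T.subgroupOf (center P) := by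
    rintro _ ⟨z, rfl⟩
    rw [Subgroup.mem_subgroupOf, hφ, powMonoidHom_apply, Subgroup.coe_pow]
    exact hexp _
  have h3 : (T.subgroupOf (center P)).index ∣ φ.range.index := Subgroup.index_dvd_of_le h2
  have h4 : φ.range.index = Nat.card φ.ker := by
    have e1 := φ.ker.card_mul_index
    have e2 := φ.range.card_mul_index
    rw [Subgroup.index_ker] at e1
    have hpos : 0 < Nat.card φ.range := Nat.card_pos
    have : Nat.card φ.range * φ.range.index = Nat.card φ.range * Nat.card φ.ker := by
      rw [e2, ← e1, mul_comm]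
    exact Nat.eq_of_mul_eq_mul_left hpos this
  -- the kernel, mapped to `P`, is commutative of exponent `p`
  have h5 : Nat.card φ.ker ≤ p ^ 2 := by
    have hinj : Function.Injective (center P).subtype := Subgroup.subtype_injective _
    rw [← Subgroup.card_map_of_injective hinj]
    apply hr
    · refine ⟨⟨?_⟩⟩
      rintro ⟨a, ha⟩ ⟨b, hb⟩
      apply Subtype.ext
      show a * b = b * a
      obtain ⟨a', _, rfl⟩ := ha
      exact ((Subgroup.mem_center_iff.mp a'.2) b).symm
    · rintro _ ⟨a, ha, rfl⟩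
      have : a ^ p = 1 := by
        have := MonoidHom.mem_ker.mp ha
        rwa [hφ, powMonoidHom_apply] at this
      show ((a : P)) ^ p = 1
      rw [← Subgroup.coe_pow, this, Subgroup.coe_one]
  rw [h1]
  have hpos : 0 < φ.range.index := by
    rw [h4]; exact Nat.card_pos
  exact (Nat.le_of_dvd hpos h3).trans (h4 ▸ h5)

/-- the `p`-group lemma -/
theorem index_le_sq {P : Type*} [Group P] [Finite P] (hodd : p ≠ 2) (hP : IsPGroup p P)
    (hr : Cfsg.PRankLE p 2 P) (T : Subgroup P) [T.Normal] (hexp : ∀ g : P, g ^ p ∈ T)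
    (hcomm : ∀ g h : P, ⁅g, h⁆ ∈ T) (hZ : center P ≤ T ∨ center P ⊔ T = ⊤) :
    T.index ≤ p ^ 2 := by
  have hpp : p.Prime := hp.out
  rcases hZ with hZ | hZ
  · obtain ⟨n, hn⟩ := IsPGroup.iff_card.mp hP
    rcases Cfsg.Agent.S3888.result hodd n hn hr with h | ⟨h3, x, y, z, hgen, hx, hy, hz, hxz, hyz, hrel⟩ |
      ⟨h4, s, x, y, z, hs, hgen, hx, hy, hz, hyz, hrel1, hrel2⟩ | ⟨h3, h2, hmax⟩
    · exact Cfsg.Agent.Helper11.Blk.index_le_sq_of_isMetacyclic p hpp.pos h T hexp
    · have hzc : z ∈ center P := by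
        rw [Subgroup.mem_center_iff]
        have h1 : closure {x, y, z} ≤ centralizer {z} := by
          rw [closure_le]
          intro s hs
          simp only [Set.mem_insert_iff, Set.mem_singleton_iff] at hs
          rw [SetLike.mem_coe, Subgroup.mem_centralizer_iff]
          intro t ht
          rw [Set.mem_singleton_iff] at ht
          subst ht
          rcases hs with rfl | rfl | rfl
          · exact hxz.symm
          · exact hyz.symm
          · rfl
        intro g
        have hg : g ∈ centralizer {z} := h1 (by rw [hgen]; trivial)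
        rw [Subgroup.mem_centralizer_iff] at hg
        exact (hg z rfl).symm
      exact index_le_sq_of_three T hexp hcomm x y z hgen (hZ hzc)
    · have hy' : y ∈ T := by
        have : y = ⁅x⁻¹, z⁆ := by
          rw [commutatorElement_def, inv_inv, hrel2]; group
        rw [this]; exact hcomm _ _
      have hgen' : closure {x, z, y} = ⊤ := by
        rw [← hgen]; congr 1; ext t
        simp only [Set.mem_insert_iff, Set.mem_singleton_iff]; tauto
      exact index_le_sq_of_three T hexp hcomm x z y hgen' hy'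
    · have hclass := Cfsg.Agent.Helper14.MaxClassZ2.nilpotencyClass_eq (p := p) n h2 hn hmax
      have hidx := (Cfsg.Agent.Helper22.maxClass_facts p n h2 P hn hclass).1
      have hle : commutator P ≤ T := by
        rw [commutator_def, Subgroup.commutator_le]
        intro a _ b _
        exact hcomm a b
      have hdvd := Subgroup.index_dvd_of_le hle
      rw [hidx] at hdvd
      exact Nat.le_of_dvd (pow_pos hpp.pos 2) hdvd
  · exact index_le_sq_of_center_sup hr T hexp hZ

section main

variable {G : Type*} [Group G]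

/-- `PRankLE` passes to subgroups -/
theorem pRankLE_subgroup {k : ℕ} (hr : Cfsg.PRankLE p k G) (Q : Subgroup G) :
    Cfsg.PRankLE p k ↥Q := by
  intro A hA hexp
  haveI := hA
  rw [← Subgroup.card_map_of_injective (Subgroup.subtype_injective Q)]
  apply hr
  · exact Subgroup.map_isMulCommutative A Q.subtype
  · rintro _ ⟨a, ha, rfl⟩
    have := hexp a ha
    show ((a : G)) ^ p = 1
    rw [← Subgroup.coe_pow, this, Subgroup.coe_one]

/-- a nontrivial finite `p`-group has a normal subgroup of index `p` -/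
theorem exists_normal_index_prime {Y : Type*} [Group Y] [Finite Y] (hY : IsPGroup p Y)
    (hnt : Nontrivial Y) : ∃ M : Subgroup Y, M.Normal ∧ M.index = p := by
  obtain ⟨k, hk⟩ := hY.exists_card_eq
  have hk0 : k ≠ 0 := by
    rintro rfl
    rw [pow_zero] at hk
    have := Finite.one_lt_card_iff_nontrivial.mpr hnt
    omega
  obtain ⟨j, rfl⟩ := Nat.exists_eq_succ_of_ne_zero hk0
  have hdvd : p ^ j ∣ Nat.card Y := by rw [hk, pow_succ]; exact Dvd.intro _ rfl
  obtain ⟨M, hM⟩ := Sylow.exists_subgroup_card_pow_prime p hdvd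
  have hidx : M.index = p := by
    have h1 := M.card_mul_index
    rw [hM, hk, pow_succ] at h1
    exact Nat.eq_of_mul_eq_mul_left (pow_pos hp.out.pos j) h1
  refine ⟨M, ?_, hidx⟩
  apply Subgroup.normal_of_index_eq_minFac_card
  rw [hidx, hk, Nat.Prime.pow_minFac hp.out (Nat.succ_ne_zero j)]

/-- a subgroup whose elements conjugate `L` into itself normalizes `L` -/
theorem le_normalizer_of_conj_mem (A L : Subgroup G)
    (h : ∀ g ∈ A, ∀ x ∈ L, g * x * g⁻¹ ∈ L) : A ≤ normalizer (L : Set G) := by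
  intro g hg
  rw [Subgroup.mem_normalizer_iff]
  intro x
  constructor
  · exact h g hg x
  · intro hx
    have h1 := h g⁻¹ (inv_mem hg) _ hx
    rw [inv_inv] at h1
    have h2 : g⁻¹ * (g * x * g⁻¹) * g = x := by group
    rwa [h2] at h1

variable [Finite G]

/-- in a chief factor `H/K` which is a `p`-group, `p`-th powers and commutators of `H` lie in `K` -/
theorem pow_comm_mem (H K : Subgroup G) [H.Normal] [K.Normal] (hKH : K < H)
    (hpow : ∃ n : ℕ, K.relIndex H = p ^ n)
    (hchief : ∀ L : Subgroup G, L.Normal → K ≤ L → L ≤ H → L = K ∨ L = H) :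
    (∀ g ∈ H, g ^ p ∈ K) ∧ (∀ g ∈ H, ∀ h ∈ H, ⁅g, h⁆ ∈ K) := by
  have hpp : p.Prime := hp.out
  obtain ⟨n, hn⟩ := hpow
  set S : Set G := {x | ∃ g ∈ H, x = g ^ p} ∪ {x | ∃ g ∈ H, ∃ h ∈ H, x = ⁅g, h⁆} with hS
  have hSH : S ⊆ H := by
    rintro x (⟨g, hg, rfl⟩ | ⟨g, hg, h, hh, rfl⟩)
    · exact pow_mem hg p
    · exact Subgroup.commutator_mem_commutator hg hh |> fun h' =>
        (Subgroup.commutator_le_left H H) h'
  have hSconj : ∀ c : G, ∀ s ∈ S, c * s * c⁻¹ ∈ S := by
    rintro c x (⟨g, hg, rfl⟩ | ⟨g, hg, h, hh, rfl⟩)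
    · left
      exact ⟨c * g * c⁻¹, ‹H.Normal›.conj_mem g hg c, conj_pow.symm⟩
    · right
      refine ⟨c * g * c⁻¹, ‹H.Normal›.conj_mem g hg c, c * h * c⁻¹, ‹H.Normal›.conj_mem h hh c, ?_⟩
      simp only [commutatorElement_def]; group
  have hCn : (closure S).Normal := by
    constructor
    intro x hx c
    induction hx using Subgroup.closure_induction with
    | mem x hx => exact subset_closure (hSconj c x hx)
    | one => simp
    | mul x y _ _ hx hy =>
      rw [show c * (x * y) * c⁻¹ = (c * x * c⁻¹) * (c * y * c⁻¹) by group]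
      exact mul_mem hx hy
    | inv x _ hx =>
      rw [show c * x⁻¹ * c⁻¹ = (c * x * c⁻¹)⁻¹ by group]
      exact inv_mem hx
  set L : Subgroup G := K ⊔ closure S with hL
  have hLn : L.Normal := Subgroup.sup_normal K (closure S)
  have hKL : K ≤ L := le_sup_left
  have hLH : L ≤ H := sup_le hKH.le ((closure_le H).mpr hSH)
  rcases hchief L hLn hKL hLH with hLK | hLH'
  · have hSK : S ⊆ K := fun s hs => hLK ▸ (le_sup_right : closure S ≤ L) (subset_closure hs)
    exact ⟨fun g hg => hSK (Or.inl ⟨g, hg, rfl⟩),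
      fun g hg h hh => hSK (Or.inr ⟨g, hg, h, hh, rfl⟩)⟩
  · exfalso
    set N : Subgroup ↥H := K.subgroupOf H with hN
    have hYcard : Nat.card (↥H ⧸ N) = p ^ n := by
      rw [← Subgroup.index_eq_card]; exact hn
    have hYp : IsPGroup p (↥H ⧸ N) := IsPGroup.of_card hYcard
    have hn0 : n ≠ 0 := by
      rintro rfl
      rw [pow_zero, Subgroup.relIndex_eq_one] at hn
      exact (lt_irrefl K) (lt_of_lt_of_le hKH hn)
    have hnt : Nontrivial (↥H ⧸ N) := by
      rw [← Finite.one_lt_card_iff_nontrivial, hYcard]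
      exact Nat.one_lt_pow hn0 hpp.one_lt
    obtain ⟨M₀, hM₀n, hM₀i⟩ := exists_normal_index_prime hYp hnt
    have hall : ∀ y : ↥H, QuotientGroup.mk' N y ∈ M₀ := by
      intro y
      have hy : (y : G) ∈ L := by rw [hLH']; exact y.2
      -- `L ≤` the pullback of `M₀`
      set M : Subgroup G := (M₀.comap (QuotientGroup.mk' N)).map H.subtype with hM
      have hKM : K ≤ M := by
        intro k hk
        refine ⟨⟨k, hKH.le hk⟩, ?_, rfl⟩
        show QuotientGroup.mk' N ⟨k, hKH.le hk⟩ ∈ M₀
        have : QuotientGroup.mk' N ⟨k, hKH.le hk⟩ = 1 := by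
          rw [QuotientGroup.mk'_apply, QuotientGroup.eq_one_iff, hN, Subgroup.mem_subgroupOf]
          exact hk
        rw [this]; exact one_mem _
      have hSM : S ⊆ M := by
        rintro x (⟨g, hg, rfl⟩ | ⟨g, hg, h, hh, rfl⟩)
        · refine ⟨⟨g, hg⟩ ^ p, ?_, by simp⟩
          show QuotientGroup.mk' N (⟨g, hg⟩ ^ p) ∈ M₀
          rw [map_pow]
          exact Cfsg.Agent.Helper11.Blk.pow_mem_of_index_eq_prime M₀ hM₀i _
        · refine ⟨⁅(⟨g, hg⟩ : ↥H), (⟨h, hh⟩ : ↥H)⁆, ?_, by simp [commutatorElement_def]⟩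
          show QuotientGroup.mk' N ⁅(⟨g, hg⟩ : ↥H), ⟨h, hh⟩⁆ ∈ M₀
          rw [map_commutatorElement, ← QuotientGroup.eq_one_iff]
          have hcard : Nat.card ((↥H ⧸ N) ⧸ M₀) = p := by rw [← Subgroup.index_eq_card, hM₀i]
          haveI : IsCyclic ((↥H ⧸ N) ⧸ M₀) := isCyclic_of_prime_card hcard
          show QuotientGroup.mk' M₀ ⁅_, _⁆ = 1
          rw [map_commutatorElement, commutatorElement_eq_one_iff_commute]
          exact (IsCyclic.isMulCommutative (α := (↥H ⧸ N) ⧸ M₀)).is_comm.comm _ _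
      have hLM : L ≤ M := sup_le hKM ((closure_le M).mpr hSM)
      obtain ⟨y', hy', hyy'⟩ := hLM hy
      have : y' = y := Subtype.ext hyy'
      rw [← this]; exact hy'
    have hM₀top : M₀ = ⊤ := by
      rw [eq_top_iff]
      intro y _
      obtain ⟨y, rfl⟩ := QuotientGroup.mk'_surjective N y
      exact hall y
    rw [hM₀top, Subgroup.index_top] at hM₀i
    exact hpp.one_lt.ne hM₀i

/-- the main theorem: a `p`-chief factor of a group of `p`-rank at most two (`p` odd) has order
`p` or `p²` -/
theorem chief_relIndex (hodd : p ≠ 2) (hr : Cfsg.PRankLE p 2 G) (H K : Subgroup G) [H.Normal]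
    [K.Normal] (hKH : K < H) (hpow : ∃ n : ℕ, K.relIndex H = p ^ n)
    (hchief : ∀ L : Subgroup G, L.Normal → K ≤ L → L ≤ H → L = K ∨ L = H) :
    K.relIndex H = p ∨ K.relIndex H = p ^ 2 := by
  have hpp : p.Prime := hp.out
  obtain ⟨hE1, hE2⟩ := pow_comm_mem H K hKH hpow hchief
  obtain ⟨n, hn⟩ := hpow
  obtain ⟨Q₀⟩ : Nonempty (Sylow p ↥H) := inferInstance
  set Q : Subgroup G := (Q₀ : Subgroup ↥H).map H.subtype with hQ
  have hQH : Q ≤ H := Subgroup.map_subtype_le _
  have hQp : IsPGroup p ↥Q := Q₀.isPGroup'.map H.subtype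
  have hfrat : normalizer (Q : Set G) ⊔ H = ⊤ := Sylow.normalizer_sup_eq_top Q₀
  have hQK : Q ⊔ K = H := by
    apply le_antisymm (sup_le hQH hKH.le)
    rw [← Subgroup.relIndex_eq_one]
    have h1 : (Q ⊔ K).relIndex H ∣ K.relIndex H :=
      Subgroup.relIndex_dvd_of_le_left H le_sup_right
    have h2 : (Q ⊔ K).relIndex H ∣ Q.relIndex H :=
      Subgroup.relIndex_dvd_of_le_left H le_sup_left
    have h3 : Q.relIndex H = (Q₀ : Subgroup ↥H).index := by
      unfold Subgroup.relIndex Subgroup.subgroupOf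
      rw [hQ, Subgroup.comap_map_eq_self_of_injective (Subgroup.subtype_injective H)]
    rw [hn] at h1
    rw [h3] at h2
    obtain ⟨j, _, hj⟩ := (Nat.dvd_prime_pow hpp).mp h1
    rcases Nat.eq_zero_or_pos j with rfl | hj0
    · rw [hj, pow_zero]
    · exfalso
      apply Sylow.not_dvd_index Q₀
      refine dvd_trans ?_ h2
      rw [hj]
      exact dvd_pow_self p hj0.ne'
  have hrel : K.relIndex H = (K.subgroupOf Q).index := by
    calc K.relIndex H = K.relIndex (Q ⊔ K) := by rw [hQK]
      _ = K.relIndex Q := Subgroup.relIndex_sup_right Q K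
  have hT1 : ∀ g : ↥Q, g ^ p ∈ K.subgroupOf Q := by
    intro g
    rw [Subgroup.mem_subgroupOf, Subgroup.coe_pow]
    exact hE1 _ (hQH g.2)
  have hT2 : ∀ g h : ↥Q, ⁅g, h⁆ ∈ K.subgroupOf Q := by
    intro g h
    rw [Subgroup.mem_subgroupOf]
    have : ((⁅g, h⁆ : ↥Q) : G) = ⁅(g : G), (h : G)⁆ := map_commutatorElement Q.subtype g h
    rw [this]
    exact hE2 _ (hQH g.2) _ (hQH h.2)
  have hT3 : center ↥Q ≤ K.subgroupOf Q ∨ center ↥Q ⊔ K.subgroupOf Q = ⊤ := by
    set Z : Subgroup G := Q ⊓ centralizer (Q : Set G) with hZ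
    have hZQ : Z ≤ Q := inf_le_left
    have hZconj : ∀ g ∈ normalizer (Q : Set G), ∀ z ∈ Z, g * z * g⁻¹ ∈ Z := by
      intro g hg z hz
      have hz1 : z ∈ Q := hz.1
      have hz2 := Subgroup.mem_centralizer_iff.mp hz.2
      refine Subgroup.mem_inf.mpr ⟨(Subgroup.mem_normalizer_iff.mp hg z).mp hz1, ?_⟩
      rw [Subgroup.mem_centralizer_iff]
      intro q hq
      have hq' : g⁻¹ * q * g ∈ Q := by
        have := (Subgroup.mem_normalizer_iff.mp (inv_mem hg) q).mp hq
        rwa [inv_inv] at this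
      have hc := hz2 _ hq'
      calc q * (g * z * g⁻¹) = g * ((g⁻¹ * q * g) * z) * g⁻¹ := by group
        _ = g * (z * (g⁻¹ * q * g)) * g⁻¹ := by rw [hc]
        _ = g * z * g⁻¹ * q := by group
    set L : Subgroup G := Z ⊔ K with hL
    have hLmem : ∀ x, x ∈ L ↔ ∃ z ∈ Z, ∃ k ∈ K, z * k = x := fun x =>
      Subgroup.mem_sup_of_normal_right
    have hLn : L.Normal := by
      have h1 : normalizer (Q : Set G) ≤ normalizer (L : Set G) := by
        apply le_normalizer_of_conj_mem
        intro g hg x hx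
        obtain ⟨z, hz, k, hk, rfl⟩ := (hLmem x).mp hx
        rw [show g * (z * k) * g⁻¹ = (g * z * g⁻¹) * (g * k * g⁻¹) by group]
        exact mul_mem (Subgroup.mem_sup_left (hZconj g hg z hz))
          (Subgroup.mem_sup_right (‹K.Normal›.conj_mem k hk g))
      have h2 : H ≤ normalizer (L : Set G) := by
        apply le_normalizer_of_conj_mem
        intro g hg x hx
        obtain ⟨z, hz, k, hk, rfl⟩ := (hLmem x).mp hx
        rw [show g * (z * k) * g⁻¹ = ⁅g, z⁆ * z * (g * k * g⁻¹) by
          simp only [commutatorElement_def]; group]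
        exact mul_mem (mul_mem (Subgroup.mem_sup_right (hE2 g hg z (hQH (hZQ hz))))
          (Subgroup.mem_sup_left hz)) (Subgroup.mem_sup_right (‹K.Normal›.conj_mem k hk g))
      have h3 : normalizer (L : Set G) = ⊤ := by
        rw [eq_top_iff, ← hfrat]
        exact sup_le h1 h2
      exact Subgroup.normalizer_eq_top_iff.mp h3
    rcases hchief L hLn le_sup_right (sup_le (hZQ.trans hQH) hKH.le) with hLK | hLH
    · left
      intro z hz
      rw [Subgroup.mem_subgroupOf]
      have hzZ : (z : G) ∈ Z := by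
        refine Subgroup.mem_inf.mpr ⟨z.2, ?_⟩
        rw [Subgroup.mem_centralizer_iff]
        intro q hq
        have := Subgroup.mem_center_iff.mp hz ⟨q, hq⟩
        exact congrArg Subtype.val this
      exact hLK ▸ (le_sup_left : Z ≤ L) hzZ
    · right
      rw [eq_top_iff]
      intro q _
      have hq : (q : G) ∈ L := by rw [hLH]; exact hQH q.2
      obtain ⟨z, hz, k, hk, hzk⟩ := (hLmem _).mp hq
      have hkQ : k ∈ Q := by
        have : k = z⁻¹ * q := by rw [← hzk]; group
        rw [this]; exact mul_mem (inv_mem (hZQ hz)) q.2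
      have hqe : q = (⟨z, hZQ hz⟩ : ↥Q) * ⟨k, hkQ⟩ := Subtype.ext hzk.symm
      rw [hqe]
      refine mul_mem (Subgroup.mem_sup_left ?_) (Subgroup.mem_sup_right ?_)
      · rw [Subgroup.mem_center_iff]
        intro q'
        apply Subtype.ext
        show (q' : G) * z = z * q'
        exact (Subgroup.mem_centralizer_iff.mp hz.2) _ q'.2
      · rw [Subgroup.mem_subgroupOf]; exact hk
  have hidx : (K.subgroupOf Q).index ≤ p ^ 2 :=
    index_le_sq hodd hQp (pRankLE_subgroup hr Q) (K.subgroupOf Q) hT1 hT2 hT3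
  have hn0 : n ≠ 0 := by
    rintro rfl
    rw [pow_zero, Subgroup.relIndex_eq_one] at hn
    exact (lt_irrefl K) (lt_of_lt_of_le hKH hn)
  rw [← hrel, hn] at hidx
  have hn2 : n ≤ 2 := (Nat.pow_le_pow_iff_right hpp.one_lt).mp hidx
  rw [hn]
  have : n = 1 ∨ n = 2 := by omega
  rcases this with rfl | rfl
  · left; rw [pow_one]
  · right; rfl

end main

end Cfsg.Agent.Helper11.ChiefRank
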