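import Mathlib
import Cfsg.Agent.S3888
import Cfsg.Agent.Lib.Helper11.ChiefRank

/-!
# A `p`-group lemma for `Qd(p)` in groups of `p`-rank two (helper11)

Let `R` be a `p`-group (`p > 3`) of rank at most two with a surjection `ρ` onto a nonabelian group of
order `p³` and exponent `p`.  By Blackburn's classification (`S3888`), either `ρ` is injective, or its
kernel is cyclic and some commutator `⁅x⁻¹, z⁆` has order `p` and lies outside the kernel.
-/

set_option autoImplicit false

namespace Cfsg.Agent.Helper11.QdR

open Subgroup
open scoped commutatorElement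

section general

variable {X : Type*} [Group X]

/-- an element commuting with a generating set is central -/
theorem mem_center_of_gens (gens : Set X) (hgens : closure gens = ⊤) (c : X)
    (h : ∀ g ∈ gens, g * c = c * g) : c ∈ center X := by
  rw [Subgroup.mem_center_iff]
  have h1 : closure gens ≤ centralizer {c} := by
    rw [closure_le]
    intro g hg
    rw [SetLike.mem_coe, Subgroup.mem_centralizer_iff]
    intro t ht
    rw [Set.mem_singleton_iff] at ht
    subst ht
    exact (h g hg).symm
  intro g
  have hg : g ∈ centralizer {c} := h1 (by rw [hgens]; trivial)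
  rw [Subgroup.mem_centralizer_iff] at hg
  exact (hg c rfl).symm

/-- a group generated by pairwise commuting elements is commutative -/
theorem comm_of_gens (gens : Set X) (hgens : closure gens = ⊤)
    (h : ∀ g ∈ gens, ∀ g' ∈ gens, g * g' = g' * g) : ∀ s t : X, s * t = t * s := by
  have h1 : ∀ g ∈ gens, g ∈ center X := fun g hg =>
    mem_center_of_gens gens hgens g (fun g' hg' => h g' hg' g hg)
  have h2 : closure gens ≤ center X := (closure_le _).mpr h1
  intro s t
  have hs : s ∈ center X := h2 (by rw [hgens]; trivial)
  exact ((Subgroup.mem_center_iff.mp hs) t).symm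

/-- the closure of a set is normal as soon as a generating set conjugates it into itself both
ways -/
theorem normal_closure_of_gens (S gens : Set X) (hgens : closure gens = ⊤)
    (h : ∀ g ∈ gens, ∀ s ∈ S, g * s * g⁻¹ ∈ closure S ∧ g⁻¹ * s * g ∈ closure S) :
    (closure S).Normal := by
  have key : ∀ g : X, (∀ s ∈ S, g * s * g⁻¹ ∈ closure S) → ∀ t ∈ closure S,
      g * t * g⁻¹ ∈ closure S := by
    intro g hg t ht
    induction ht using Subgroup.closure_induction with
    | mem x hx => exact hg x hx
    | one => simp
    | mul x y _ _ hx hy =>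
      rw [show g * (x * y) * g⁻¹ = (g * x * g⁻¹) * (g * y * g⁻¹) by group]
      exact mul_mem hx hy
    | inv x _ hx =>
      rw [show g * x⁻¹ * g⁻¹ = (g * x * g⁻¹)⁻¹ by group]
      exact inv_mem hx
  have h1 : closure gens ≤ normalizer (closure S : Set X) := by
    rw [closure_le]
    intro g hg
    rw [SetLike.mem_coe, Subgroup.mem_normalizer_iff]
    intro t
    constructor
    · exact key g (fun s hs => (h g hg s hs).1) t
    · intro ht
      have h2 := key g⁻¹ (fun s hs => by rw [inv_inv]; exact (h g hg s hs).2) _ ht
      rw [inv_inv] at h2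
      have h3 : g⁻¹ * (g * t * g⁻¹) * g = t := by group
      rwa [h3] at h2
  have h2 : normalizer (closure S : Set X) = ⊤ := by
    rw [eq_top_iff, ← hgens]; exact h1
  exact Subgroup.normalizer_eq_top_iff.mp h2

variable {p : ℕ} [hp : Fact p.Prime]

/-- a group generated by two commuting elements of order dividing `p` has order at most `p²` -/
theorem card_le_sq_of_commuting_pair (a b : X) (ha : a ^ p = 1) (hb : b ^ p = 1)
    (hab : a * b = b * a) (hgen : closure {a, b} = ⊤) : Nat.card X ≤ p ^ 2 := by
  have hcomm : ∀ s t : X, s * t = t * s := by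
    apply comm_of_gens {a, b} hgen
    intro g hg g' hg'
    simp only [Set.mem_insert_iff, Set.mem_singleton_iff] at hg hg'
    rcases hg with rfl | rfl <;> rcases hg' with rfl | rfl
    · rfl
    · exact hab
    · exact hab.symm
    · rfl
  have hexp : ∀ g : X, g ^ p = 1 := by
    intro g
    have hg : g ∈ closure {a, b} := by rw [hgen]; trivial
    induction hg using Subgroup.closure_induction with
    | mem x hx =>
      simp only [Set.mem_insert_iff, Set.mem_singleton_iff] at hx
      rcases hx with rfl | rfl
      · exact ha
      · exact hb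
    | one => exact one_pow _
    | mul x y _ _ hx hy =>
      have : Commute x y := hcomm x y
      rw [this.mul_pow, hx, hy, one_mul]
    | inv x _ hx => rw [inv_pow, hx, inv_one]
  exact ChiefRank.card_le_sq_of_pair hexp hcomm a b hgen

end general

section lemmaP

variable {p : ℕ} [hp : Fact p.Prime]

/-- The `p`-group lemma. -/
theorem ker_cyclic_of_rank_two {R : Type*} [Group R] [Finite R] {S : Type*} [Group S] (hp3 : 3 < p)
    (hRp : IsPGroup p R) (hr : Cfsg.PRankLE p 2 R) (ρ : R →* S) (hρ : Function.Surjective ρ)
    (hS3 : Nat.card S = p ^ 3) (hSexp : ∀ s : S, s ^ p = 1) (hSnc : ∃ s t : S, s * t ≠ t * s) :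
    ρ.ker = ⊥ ∨ (IsCyclic ρ.ker ∧ ∃ x z : R, ⁅x⁻¹, z⁆ ^ p = 1 ∧ ⁅x⁻¹, z⁆ ∉ ρ.ker) := by
  have hpp : p.Prime := hp.out
  have hodd : p ≠ 2 := by omega
  obtain ⟨s₁, s₂, hs12⟩ := hSnc
  obtain ⟨n, hn⟩ := IsPGroup.iff_card.mp hRp
  have hidx : ρ.ker.index = p ^ 3 := by
    rw [Subgroup.index_ker, MonoidHom.range_eq_top.mpr hρ, Subgroup.card_top, hS3]
  have hcard : Nat.card ρ.ker * p ^ 3 = p ^ n := by
    rw [← hidx, ← hn]; exact ρ.ker.card_mul_index
  have hpowmem : ∀ g : R, g ^ p ∈ ρ.ker := by
    intro g
    rw [MonoidHom.mem_ker, map_pow]; exact hSexp _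
  -- images of three generators generate `S`
  have himg : ∀ x y z : R, closure {x, y, z} = ⊤ → closure {ρ x, ρ y, ρ z} = ⊤ := by
    intro x y z h
    have h1 := MonoidHom.map_closure ρ {x, y, z}
    rw [h, Subgroup.map_top_of_surjective ρ hρ, Set.image_insert_eq, Set.image_insert_eq,
      Set.image_singleton] at h1
    exact h1.symm
  rcases Cfsg.Agent.S3888.result hodd n hn hr with h | ⟨h3, x, y, z, hgen, hx, hy, hz, hxz, hyz, hrel⟩ |
      ⟨h4, s, x, y, z, hs, hgen, hx, hy, hz, hyz, hrel1, hrel2⟩ | ⟨h3', -, -⟩
  · -- metacyclic
    exfalso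
    have := Cfsg.Agent.Helper11.Blk.index_le_sq_of_isMetacyclic p hpp.pos h ρ.ker hpowmem
    rw [hidx] at this
    have h1 : p ^ 2 < p ^ 3 := Nat.pow_lt_pow_right hpp.one_lt (by norm_num)
    omega
  · -- the family with `z` central
    rcases Nat.eq_or_lt_of_le h3 with h3e | h3l
    · left
      rw [← h3e] at hcard
      have h1 : Nat.card ρ.ker = 1 := by
        have hpos : 0 < p ^ 3 := pow_pos hpp.pos 3
        exact Nat.eq_of_mul_eq_mul_right hpos (by rw [hcard, one_mul])
      exact Subgroup.card_eq_one.mp h1
    · exfalso
      have hw : z ^ p ^ (n - 3) ∈ ρ.ker := by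
        have : z ^ p ^ (n - 3) = (z ^ p) ^ p ^ (n - 4) := by
          rw [← pow_mul, ← pow_succ']
          congr 2
          omega
        rw [this]
        exact pow_mem (hpowmem z) _
      have hw1 : ρ (z ^ p ^ (n - 3)) = 1 := MonoidHom.mem_ker.mp hw
      have hxy : ρ x * ρ y = ρ y * ρ x := by
        have h1 := congrArg ρ hrel
        simp only [map_mul, map_inv, hw1, mul_one] at h1
        calc ρ x * ρ y = ρ x * ((ρ x)⁻¹ * ρ y * ρ x) := by rw [h1]
          _ = ρ y * ρ x := by group
      have hxz' : ρ x * ρ z = ρ z * ρ x := by rw [← map_mul, hxz, map_mul]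
      have hyz' : ρ y * ρ z = ρ z * ρ y := by rw [← map_mul, hyz, map_mul]
      apply hs12
      apply comm_of_gens _ (himg x y z hgen)
      intro g hg g' hg'
      simp only [Set.mem_insert_iff, Set.mem_singleton_iff] at hg hg'
      rcases hg with rfl | rfl | rfl <;> rcases hg' with rfl | rfl | rfl
      · rfl
      · exact hxy
      · exact hxz'
      · exact hxy.symm
      · rfl
      · exact hyz'
      · exact hxz'.symm
      · exact hyz'.symm
      · rfl
  · -- the family of class three
    right
    set c : R := z ^ p with hc
    set W : R := z ^ (s * p ^ (n - 3)) with hW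
    have hWc : W ∈ zpowers c := by
      have : W = c ^ (s * p ^ (n - 4)) := by
        rw [hW, hc, ← pow_mul]
        congr 1
        have : p ^ (n - 3) = p * p ^ (n - 4) := by
          rw [← pow_succ']; congr 1; omega
        rw [this]; ring
      rw [this]
      exact Subgroup.pow_mem _ (Subgroup.mem_zpowers c) _
    have hyzc : Commute y z := hyz
    have hcx : x * c = c * x := by
      have h1 : x⁻¹ * c * x = c := by
        have h0 : (x⁻¹ * z * x) ^ p = x⁻¹ * z ^ p * x := by
          have := conj_pow (a := x⁻¹) (b := z) (i := p)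
          rwa [inv_inv] at this
        rw [hc, ← h0, hrel2, hyzc.mul_pow, hy, one_mul]
      calc x * c = x * (x⁻¹ * c * x) := by rw [h1]
        _ = c * x := by group
    have hcy : y * c = c * y := (hyzc.pow_right p).eq
    have hcz : z * c = c * z := ((Commute.refl z).pow_right p).eq
    have hccen : c ∈ center R := by
      apply mem_center_of_gens {x, y, z} hgen
      intro g hg
      simp only [Set.mem_insert_iff, Set.mem_singleton_iff] at hg
      rcases hg with rfl | rfl | rfl
      · exact hcx
      · exact hcy
      · exact hcz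
    have hZle : zpowers c ≤ center R := by
      rw [Subgroup.zpowers_le]; exact hccen
    have hZn : (zpowers c).Normal := by
      constructor
      intro t ht g
      have := Subgroup.mem_center_iff.mp (hZle ht) g
      rw [show g * t * g⁻¹ = t by rw [this]; group]
      exact ht
    have hWcen : W ∈ center R := hZle hWc
    -- `T = ⟨c, y⟩` is normal
    set T : Subgroup R := closure {c, y} with hT
    have hcT : c ∈ T := subset_closure (by simp)
    have hyT : y ∈ T := subset_closure (by simp)
    have hZT : zpowers c ≤ T := by rw [Subgroup.zpowers_le]; exact hcT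
    have hxyx : x * y * x⁻¹ = y * W⁻¹ := by
      have h1 : y = x * (y * W) * x⁻¹ := by rw [← hrel1]; group
      have h2 : x * (y * W) * x⁻¹ = x * y * x⁻¹ * W := by
        have := Subgroup.mem_center_iff.mp hWcen x⁻¹
        calc x * (y * W) * x⁻¹ = x * y * (W * x⁻¹) := by group
          _ = x * y * (x⁻¹ * W) := by rw [this]
          _ = x * y * x⁻¹ * W := by group
      rw [h2] at h1
      calc x * y * x⁻¹ = x * y * x⁻¹ * W * W⁻¹ := by group
        _ = y * W⁻¹ := by rw [← h1]
    have hTn : T.Normal := by
      apply normal_closure_of_gens {c, y} {x, y, z} hgen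
      intro g hg t ht
      simp only [Set.mem_insert_iff, Set.mem_singleton_iff] at ht
      rcases ht with rfl | rfl
      · -- conjugates of `c`
        have h1 := Subgroup.mem_center_iff.mp hccen g
        have h2 := Subgroup.mem_center_iff.mp hccen g⁻¹
        constructor
        · rw [show g * c * g⁻¹ = c by rw [h1, mul_inv_cancel_right]]; exact hcT
        · rw [show g⁻¹ * c * g = c by rw [h2, inv_mul_cancel_right]]; exact hcT
      · simp only [Set.mem_insert_iff, Set.mem_singleton_iff] at hg
        rcases hg with rfl | rfl | rfl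
        · constructor
          · rw [hxyx]; exact mul_mem hyT (inv_mem (hZT hWc))
          · rw [hrel1]; exact mul_mem hyT (hZT hWc)
        · constructor
          · rw [show g * g * g⁻¹ = g by group]; exact hyT
          · rw [show g⁻¹ * g * g = g by group]; exact hyT
        · constructor
          · rw [show g * t * g⁻¹ = t by rw [← hyz, mul_inv_cancel_right]]; exact hyT
          · rw [show g⁻¹ * t * g = t by rw [mul_assoc, hyz, inv_mul_cancel_left]]; exact hyT
    -- the quotient by `T` has order at most `p²`
    have hTidx : T.index ≤ p ^ 2 := by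
      rw [Subgroup.index_eq_card]
      apply card_le_sq_of_commuting_pair (p := p) (QuotientGroup.mk' T x) (QuotientGroup.mk' T z)
      · rw [← map_pow, hx, map_one]
      · rw [← map_pow]; exact (QuotientGroup.eq_one_iff _).mpr hcT
      · have h1 : QuotientGroup.mk' T y = 1 := (QuotientGroup.eq_one_iff _).mpr hyT
        have h2 := congrArg (QuotientGroup.mk' T) hrel2
        simp only [map_mul, map_inv, h1, one_mul] at h2
        calc QuotientGroup.mk' T x * QuotientGroup.mk' T z
            = QuotientGroup.mk' T x * ((QuotientGroup.mk' T x)⁻¹ * QuotientGroup.mk' T z *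
                QuotientGroup.mk' T x) := by rw [h2]
          _ = QuotientGroup.mk' T z * QuotientGroup.mk' T x := by group
      · rw [eq_top_iff]
        intro g _
        obtain ⟨g, rfl⟩ := QuotientGroup.mk'_surjective T g
        have h1 : closure {x, y, z} ≤
            (closure {QuotientGroup.mk' T x, QuotientGroup.mk' T z}).comap (QuotientGroup.mk' T) := by
          rw [closure_le]
          intro t ht
          simp only [Set.mem_insert_iff, Set.mem_singleton_iff] at ht
          rcases ht with rfl | rfl | rfl
          · exact subset_closure (by simp)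
          · show QuotientGroup.mk' T t ∈
              closure {QuotientGroup.mk' T x, QuotientGroup.mk' T z}
            rw [show QuotientGroup.mk' T t = 1 from (QuotientGroup.eq_one_iff t).mpr hyT]
            exact one_mem _
          · exact subset_closure (by simp)
        exact h1 (by rw [hgen]; trivial)
    -- `|T : ⟨c⟩| ≤ p`
    have hrelT : (zpowers c).relIndex T ≤ p := by
      have h1 : T = zpowers y ⊔ zpowers c := by
        rw [hT, Subgroup.zpowers_eq_closure, Subgroup.zpowers_eq_closure, ← Subgroup.closure_union]
        congr 1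
        ext t
        simp only [Set.mem_insert_iff, Set.mem_singleton_iff, Set.mem_union]
        tauto
      rw [h1, Subgroup.relIndex_sup_right]
      have h2 : (zpowers c).relIndex (zpowers y) ∣ Nat.card (zpowers y) :=
        Subgroup.relIndex_dvd_card _ _
      rw [Nat.card_zpowers] at h2
      have h3 : orderOf y ∣ p := orderOf_dvd_of_pow_eq_one hy
      exact Nat.le_of_dvd hpp.pos (h2.trans h3)
    have hZidx : (zpowers c).index ≤ p ^ 3 := by
      rw [← Subgroup.relIndex_mul_index hZT]
      calc (zpowers c).relIndex T * T.index ≤ p * p ^ 2 := Nat.mul_le_mul hrelT hTidx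
        _ = p ^ 3 := by ring
    have hcker : zpowers c ≤ ρ.ker := by
      rw [Subgroup.zpowers_le]; exact hpowmem z
    have hkerle : Nat.card ρ.ker ≤ Nat.card (zpowers c) := by
      have h1 := (zpowers c).card_mul_index
      have h2 : Nat.card ρ.ker * p ^ 3 ≤ Nat.card (zpowers c) * p ^ 3 := by
        rw [hcard, ← hn, ← h1]
        exact Nat.mul_le_mul_left _ hZidx
      exact Nat.le_of_mul_le_mul_right h2 (pow_pos hpp.pos 3)
    have hkereq : zpowers c = ρ.ker := Subgroup.eq_of_le_of_card_ge hcker hkerle
    refine ⟨?_, x, z, ?_, ?_⟩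
    · rw [← hkereq]; infer_instance
    · have : ⁅x⁻¹, z⁆ = y := by
        rw [commutatorElement_def, inv_inv, hrel2]; group
      rw [this]; exact hy
    · have hyc : ⁅x⁻¹, z⁆ = y := by
        rw [commutatorElement_def, inv_inv, hrel2]; group
      rw [hyc]
      intro hyk
      have hy1 : ρ y = 1 := MonoidHom.mem_ker.mp hyk
      have hxz' : ρ x * ρ z = ρ z * ρ x := by
        have h2 := congrArg ρ hrel2
        simp only [map_mul, map_inv, hy1, one_mul] at h2
        calc ρ x * ρ z = ρ x * ((ρ x)⁻¹ * ρ z * ρ x) := by rw [h2]
          _ = ρ z * ρ x := by group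
      apply hs12
      apply comm_of_gens _ (himg x y z hgen)
      intro g hg g' hg'
      simp only [Set.mem_insert_iff, Set.mem_singleton_iff] at hg hg'
      rcases hg with rfl | rfl | rfl <;> rcases hg' with rfl | rfl | rfl
      · rfl
      · rw [hy1, mul_one, one_mul]
      · exact hxz'
      · rw [hy1, mul_one, one_mul]
      · rfl
      · rw [hy1, mul_one, one_mul]
      · exact hxz'.symm
      · rw [hy1, mul_one, one_mul]
      · rfl
  · omega

end lemmaP

end Cfsg.Agent.Helper11.QdR
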