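import Mathlib
import Cfsg.Agent.Lib.Helper11.QdRankP
import Cfsg.Agent.Lib.Helper11.QdFacts

/-!
# Groups of `p`-rank two with quotient `Qd(p)` by a normal `p`-subgroup (helper11)

If `p > 3`, `G` has `p`-rank at most two and `π : G → Qd(p)` is surjective with kernel a `p`-group,
then the kernel is trivial.
-/

set_option autoImplicit false

namespace Cfsg.Agent.Helper11.QdR

open Subgroup
open scoped commutatorElement
open Cfsg.Agent.S2761 Cfsg.Agent.Helper14.Qd Cfsg.Agent.Helper14.SL2Vec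

variable {p : ℕ} [hp : Fact p.Prime]

/-- three commuting elements of order `p` cannot be independent in a group of rank at most two -/
theorem not_injective_of_rank {G : Type*} [Group G] [Finite G] (hr : Cfsg.PRankLE p 2 G)
    (a b c : G) (hab : a * b = b * a) (hac : a * c = c * a) (hbc : b * c = c * b)
    (ha : a ^ p = 1) (hb : b ^ p = 1) (hc : c ^ p = 1) :
    ¬ Function.Injective
      (fun t : Fin p × Fin p × Fin p => a ^ (t.1 : ℕ) * b ^ (t.2.1 : ℕ) * c ^ (t.2.2 : ℕ)) := by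
  intro hinj
  have hpp : p.Prime := hp.out
  set B : Subgroup G := closure {a, b, c} with hB
  have hBc : IsMulCommutative B := by
    apply Subgroup.isMulCommutative_closure
    intro x hx y hy
    simp only [Set.mem_insert_iff, Set.mem_singleton_iff] at hx hy
    rcases hx with rfl | rfl | rfl <;> rcases hy with rfl | rfl | rfl
    · rfl
    · exact hab
    · exact hac
    · exact hab.symm
    · rfl
    · exact hbc
    · exact hac.symm
    · exact hbc.symm
    · rfl
  have hBexp : ∀ g ∈ B, g ^ p = 1 := by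
    intro g hg
    induction hg using Subgroup.closure_induction with
    | mem x hx =>
      simp only [Set.mem_insert_iff, Set.mem_singleton_iff] at hx
      rcases hx with rfl | rfl | rfl
      · exact ha
      · exact hb
      · exact hc
    | one => exact one_pow _
    | mul x y hx' hy' hx hy =>
      have hxy : Commute x y := by
        have := hBc.is_comm.comm ⟨x, hx'⟩ ⟨y, hy'⟩
        exact congrArg Subtype.val this
      rw [hxy.mul_pow, hx, hy, one_mul]
    | inv x _ hx => rw [inv_pow, hx, inv_one]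
  have hcard := hr B hBc hBexp
  have haB : a ∈ B := subset_closure (by simp)
  have hbB : b ∈ B := subset_closure (by simp)
  have hcB : c ∈ B := subset_closure (by simp)
  let f : Fin p × Fin p × Fin p → B := fun t =>
    ⟨a ^ (t.1 : ℕ) * b ^ (t.2.1 : ℕ) * c ^ (t.2.2 : ℕ),
      mul_mem (mul_mem (pow_mem haB _) (pow_mem hbB _)) (pow_mem hcB _)⟩
  have hf : Function.Injective f := fun t t' h => hinj (congrArg Subtype.val h)
  have h1 := Nat.card_le_card_of_injective f hf
  rw [Nat.card_prod, Nat.card_prod, Nat.card_fin] at h1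
  have h2 : p ^ 2 < p * (p * p) := by
    have : p ^ 2 * 1 < p ^ 2 * p := Nat.mul_lt_mul_of_pos_left hpp.one_lt (pow_pos hpp.pos 2)
    calc p ^ 2 = p ^ 2 * 1 := (mul_one _).symm
      _ < p ^ 2 * p := this
      _ = p * (p * p) := by ring
  omega

/-- a cyclic kernel of a surjection onto a perfect group is central -/
theorem central_of_cyclic_ker {G A : Type*} [Group G] [Group A] (π : G →* A)
    (hπ : Function.Surjective π) (hA : commutator A = ⊤) (hcyc : IsCyclic ↥π.ker) :
    ∀ u ∈ π.ker, ∀ g : G, g * u = u * g := by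
  set θ : G →* MulAut ↥π.ker := MulAut.conjNormal with hθ
  have hcomm : ∀ σ τ : MulAut ↥π.ker, σ * τ = τ * σ := by
    intro σ τ
    apply (IsCyclic.mulAutMulEquiv ↥π.ker).injective
    rw [map_mul, map_mul, mul_comm]
  have h1 : commutator G ≤ θ.ker := by
    rw [commutator_def, Subgroup.commutator_le]
    intro g _ h _
    rw [MonoidHom.mem_ker, map_commutatorElement, commutatorElement_eq_one_iff_commute]
    exact hcomm _ _
  have h2 : π.ker ≤ θ.ker := by
    intro u hu
    rw [MonoidHom.mem_ker]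
    ext v
    rw [hθ, MulAut.conjNormal_apply, MulAut.one_apply]
    let _ : CommGroup ↥π.ker := IsCyclic.commGroup
    have h3 : (⟨u, hu⟩ : ↥π.ker) * v = v * ⟨u, hu⟩ := mul_comm _ _
    have h4 : u * (v : G) = (v : G) * u := congrArg Subtype.val h3
    rw [h4, mul_inv_cancel_right]
  have h3 : θ.ker = ⊤ := by
    rw [eq_top_iff]
    intro g _
    have hg : π g ∈ commutator A := by rw [hA]; trivial
    have hmap : (commutator G).map π = commutator A := by
      rw [commutator_def, commutator_def, Subgroup.map_commutator, ← MonoidHom.range_eq_map,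
        MonoidHom.range_eq_top.mpr hπ]
    rw [← hmap] at hg
    obtain ⟨c, hc, hcg⟩ := hg
    have hk : c⁻¹ * g ∈ π.ker := by
      rw [MonoidHom.mem_ker, map_mul, map_inv, hcg, inv_mul_cancel]
    have hgc : g = c * (c⁻¹ * g) := by group
    rw [hgc]
    exact mul_mem (h1 hc) (h2 hk)
  intro u hu g
  have hg : g ∈ θ.ker := by rw [h3]; trivial
  have h4 := MonoidHom.mem_ker.mp hg
  have h5 : ((θ g ⟨u, hu⟩ : ↥π.ker) : G) = u := by rw [h4]; rfl
  rw [hθ, MulAut.conjNormal_apply] at h5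
  calc g * u = g * u * g⁻¹ * g := by group
    _ = u * g := by rw [h5]

/-- the global construction: an elementary abelian subgroup of order `p³` -/
theorem exists_indep_triple {G : Type*} [Group G] [Finite G] (hp3 : 3 < p)
    (π : G →* ↥(affSubgroup (ZMod p))) (hπ : Function.Surjective π) (hU : IsPGroup p π.ker)
    (hUc : ∀ u ∈ π.ker, ∀ g : G, g * u = u * g) (hne : π.ker ≠ ⊥)
    (y₀ : G) (hy₀ : y₀ ^ p = 1) (e : ZMod p) (he : e ≠ 0) (hπy : π y₀ = hm 0 0 e) :
    ∃ a b c : G, a * b = b * a ∧ a * c = c * a ∧ b * c = c * b ∧ a ^ p = 1 ∧ b ^ p = 1 ∧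
      c ^ p = 1 ∧ Function.Injective
        (fun t : Fin p × Fin p × Fin p => a ^ (t.1 : ℕ) * b ^ (t.2.1 : ℕ) * c ^ (t.2.2 : ℕ)) := by
  have hpp : p.Prime := hp.out
  have hodd : p ≠ 2 := by omega
  have h2 : (2 : ZMod p) ≠ 0 := by
    intro h
    have h' : ((2 : ℕ) : ZMod p) = 0 := by exact_mod_cast h
    have := Nat.le_of_dvd (by norm_num) ((ZMod.natCast_eq_zero_iff 2 p).mp h')
    omega
  have h3 : (3 : ZMod p) ≠ 0 := by
    intro h
    have h' : ((3 : ℕ) : ZMod p) = 0 := by exact_mod_cast h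
    have := Nat.le_of_dvd (by norm_num) ((ZMod.natCast_eq_zero_iff 3 p).mp h')
    omega
  -- elements of the kernel have odd order
  have hsq : ∀ u ∈ π.ker, u * u = 1 → u = 1 := by
    intro u hu huu
    obtain ⟨k, hk⟩ := hU ⟨u, hu⟩
    have hk' : u ^ p ^ k = 1 := by simpa using congrArg Subtype.val hk
    have h1 : orderOf u ∣ p ^ k := orderOf_dvd_of_pow_eq_one hk'
    have h2' : orderOf u ∣ 2 := orderOf_dvd_of_pow_eq_one (by rw [pow_two]; exact huu)
    have hcop : Nat.Coprime (p ^ k) 2 :=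
      Nat.Coprime.pow_left k ((Nat.coprime_primes hpp Nat.prime_two).mpr hodd)
    have h4 : orderOf u ∣ 1 := by
      have := Nat.dvd_gcd h1 h2'
      rwa [hcop.gcd_eq_one] at this
    exact orderOf_eq_one_iff.mp (Nat.dvd_one.mp h4)
  -- the involution
  obtain ⟨j₀, hj₀⟩ := hπ (jbar (ZMod p))
  have hj₀2 : j₀ ^ 2 ∈ π.ker := by
    rw [MonoidHom.mem_ker, map_pow, hj₀, pow_two, jbar_mul_self]
  obtain ⟨k, hk⟩ := hU ⟨j₀ ^ 2, hj₀2⟩
  have hk' : (j₀ ^ 2) ^ p ^ k = 1 := by simpa using congrArg Subtype.val hk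
  set j := j₀ ^ p ^ k with hj
  have hjj : j * j = 1 := by
    rw [hj, ← pow_add, ← two_mul, pow_mul]; exact hk'
  have hπj : π j = jbar (ZMod p) := by
    rw [hj, map_pow, hj₀]
    obtain ⟨m, hm'⟩ : Odd (p ^ k) := (hpp.odd_of_ne_two hodd).pow
    rw [hm', pow_succ, pow_mul, pow_two, jbar_mul_self, one_pow, one_mul]
  have hjinv : j⁻¹ = j := inv_eq_of_mul_eq_one_right hjj
  have hC1 : ∀ g : G, π g * jbar (ZMod p) = jbar (ZMod p) * π g → g * j = j * g := by
    intro g hg
    set u := g * j * g⁻¹ * j with hu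
    have huk : u ∈ π.ker := by
      rw [MonoidHom.mem_ker, hu, map_mul, map_mul, map_mul, map_inv, hπj, hg,
        mul_inv_cancel_right, jbar_mul_self]
    have hgj : g * j * g⁻¹ = u * j := by
      rw [hu, mul_assoc _ j j, hjj, mul_one]
    have huu : u * u = 1 := by
      have h1 : (g * j * g⁻¹) * (g * j * g⁻¹) = 1 := by
        calc (g * j * g⁻¹) * (g * j * g⁻¹) = g * (j * j) * g⁻¹ := by group
          _ = 1 := by rw [hjj]; group
      rw [hgj] at h1
      have h2' : u * j * (u * j) = u * u * (j * j) := by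
        have := hUc u huk j
        calc u * j * (u * j) = u * (j * u) * j := by group
          _ = u * (u * j) * j := by rw [this]
          _ = u * u * (j * j) := by group
      rw [h2', hjj, mul_one] at h1
      exact h1
    have hu1 := hsq u huk huu
    calc g * j = (g * j * g⁻¹) * g := by group
      _ = u * j * g := by rw [hgj]
      _ = j * g := by rw [hu1, one_mul]
  -- lifts of the transvection and of the diagonal element
  obtain ⟨s, hs⟩ := hπ (hm 1 0 0)
  obtain ⟨d, hd⟩ := hπ (dbar h2)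
  have hsp : s ^ p ∈ π.ker := by
    rw [MonoidHom.mem_ker, map_pow, hs, hm_pow_char p hodd]
  set r := d * s * d⁻¹ with hr
  have hπr : π r = hm 4 0 0 := by
    rw [hr, map_mul, map_mul, map_inv, hs, hd, dbar_conj, mul_one]
  have hπs4 : π (s ^ 4) = hm 4 0 0 := by
    rw [map_pow, hs, hm_pow]
    congr 1 <;> simp
  have hrs : r * s = s * r := by
    set u := r * (s ^ 4)⁻¹ with hu
    have huk : u ∈ π.ker := by
      rw [MonoidHom.mem_ker, hu, map_mul, map_inv, hπr, hπs4, mul_inv_cancel]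
    have hru : r = u * s ^ 4 := by rw [hu]; group
    have h1 := hUc u huk s
    rw [hru]
    calc u * s ^ 4 * s = u * (s ^ 4 * s) := by group
      _ = u * (s * s ^ 4) := by rw [← pow_succ, ← pow_succ']
      _ = (u * s) * s ^ 4 := by group
      _ = (s * u) * s ^ 4 := by rw [h1]
      _ = s * (u * s ^ 4) := by group
  set t := s⁻¹ * r with ht
  have htp : t ^ p = 1 := by
    have hc : Commute s⁻¹ r := Commute.inv_left (show Commute s r from hrs.symm)
    rw [ht, hc.mul_pow, inv_pow]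
    have h1 : r ^ p = s ^ p := by
      rw [hr, conj_pow]
      have := hUc (s ^ p) hsp d
      rw [this, mul_inv_cancel_right]
    rw [h1, inv_mul_cancel]
  have hπt : π t = hm 3 0 0 := by
    rw [ht, map_mul, map_inv, hs, hπr]
    have : hm (1 : ZMod p) 0 0 * hm 3 0 0 = hm 4 0 0 := by
      rw [hm_mul]; congr 1 <;> norm_num
    rw [← this, inv_mul_cancel_left]
  have htj : t * j = j * t := hC1 t (by rw [hπt]; exact (jbar_comm_hm 3).symm)
  -- the element inverted by `j`
  set y' := j * y₀⁻¹ * j with hy'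
  have hπy' : π y' = hm 0 0 e := by
    rw [hy', map_mul, map_mul, map_inv, hπj, hπy, hm0_inv, jbar_conj_hm0, neg_neg, neg_neg]
  have hyy' : y₀ * y' = y' * y₀ := by
    set u := y' * y₀⁻¹ with hu
    have huk : u ∈ π.ker := by
      rw [MonoidHom.mem_ker, hu, map_mul, map_inv, hπy', hπy, mul_inv_cancel]
    have hy'u : y' = u * y₀ := by rw [hu]; group
    have h1 := hUc u huk y₀
    rw [hy'u]
    calc y₀ * (u * y₀) = (y₀ * u) * y₀ := by group
      _ = u * y₀ * y₀ := by rw [h1]
  have hy'p : y' ^ p = 1 := by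
    have : y' = j * y₀⁻¹ * j⁻¹ := by rw [hjinv]
    rw [this, conj_pow, inv_pow, hy₀, inv_one, mul_one, mul_inv_cancel]
  set a' := y₀ * y' with ha'
  have ha'p : a' ^ p = 1 := by
    rw [ha', (show Commute y₀ y' from hyy').mul_pow, hy₀, hy'p, one_mul]
  have hπa' : π a' = hm 0 0 (2 * e) := by
    rw [ha', map_mul, hπy, hπy', hm_mul]; congr 1 <;> ring
  have hja' : j * a' * j = a'⁻¹ := by
    rw [ha', hy']
    have : (y₀ * (j * y₀⁻¹ * j))⁻¹ = j⁻¹ * y₀ * j⁻¹ * y₀⁻¹ := by group
    rw [this, hjinv]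
    calc j * (y₀ * (j * y₀⁻¹ * j)) * j = j * y₀ * j * y₀⁻¹ * (j * j) := by group
      _ = j * y₀ * j * y₀⁻¹ := by rw [hjj, mul_one]
  have hta' : t * a' = a' * t := by
    set u := t * a' * t⁻¹ * a'⁻¹ with hu
    have huk : u ∈ π.ker := by
      rw [MonoidHom.mem_ker, hu, map_mul, map_mul, map_mul, map_inv, map_inv, hπt, hπa']
      have : hm (3 : ZMod p) 0 0 * hm 0 0 (2 * e) = hm 0 0 (2 * e) * hm 3 0 0 := by
        rw [hm_mul, hm_mul]; congr 1 <;> ring
      rw [this]; group
    have hta : t * a' * t⁻¹ = u * a' := by rw [hu]; group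
    have h1 : j * (t * a' * t⁻¹) * j = (t * a' * t⁻¹)⁻¹ := by
      have htj' : j * t = t * j := htj.symm
      have htj'' : t⁻¹ * j = j * t⁻¹ := by
        calc t⁻¹ * j = t⁻¹ * (j * t) * t⁻¹ := by group
          _ = t⁻¹ * (t * j) * t⁻¹ := by rw [htj]
          _ = j * t⁻¹ := by group
      calc j * (t * a' * t⁻¹) * j = (j * t) * a' * (t⁻¹ * j) := by group
        _ = (t * j) * a' * (j * t⁻¹) := by rw [htj', htj'']
        _ = t * (j * a' * j) * t⁻¹ := by group
        _ = t * a'⁻¹ * t⁻¹ := by rw [hja']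
        _ = (t * a' * t⁻¹)⁻¹ := by group
    rw [hta] at h1
    have hju := hUc u huk j
    have h2' : j * (u * a') * j = u * a'⁻¹ := by
      calc j * (u * a') * j = (j * u) * a' * j := by group
        _ = (u * j) * a' * j := by rw [hju]
        _ = u * (j * a' * j) := by group
        _ = u * a'⁻¹ := by rw [hja']
    have h3' : (u * a')⁻¹ = u⁻¹ * a'⁻¹ := by
      have := hUc u huk a'
      rw [← this]; group
    rw [h2', h3'] at h1
    have huu : u * u = 1 := by
      have h4 : u = u⁻¹ := mul_right_cancel h1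
      calc u * u = u * u⁻¹ := by rw [← h4]
        _ = 1 := mul_inv_cancel u
    have hu1 := hsq u huk huu
    calc t * a' = (t * a' * t⁻¹) * t := by group
      _ = u * a' * t := by rw [hta]
      _ = a' * t := by rw [hu1, one_mul]
  -- an element of order `p` in the kernel
  obtain ⟨u₀, hu₀⟩ : ∃ u₀ : ↥π.ker, orderOf u₀ = p := by
    apply exists_prime_orderOf_dvd_card' p
    rcases hU.card_eq_or_dvd with h | h
    · exact absurd (Subgroup.card_eq_one.mp h) hne
    · exact h
  have hu₀ord : orderOf (u₀ : G) = p := by rw [Subgroup.orderOf_coe, hu₀]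
  have hu₀p : (u₀ : G) ^ p = 1 := by
    have := pow_orderOf_eq_one (u₀ : G)
    rwa [hu₀ord] at this
  refine ⟨a', t, u₀, hta'.symm, hUc u₀ u₀.2 a', hUc u₀ u₀.2 t, ha'p, htp, hu₀p, ?_⟩
  rintro ⟨i, i', i''⟩ ⟨l, l', l''⟩ h
  simp only at h
  have hπu : π (u₀ : G) = 1 := MonoidHom.mem_ker.mp u₀.2
  have h1 := congrArg π h
  simp only [map_mul, map_pow, hπa', hπt, hπu, one_pow, mul_one] at h1
  rw [hm_pow, hm_pow, hm_pow, hm_pow, hm_mul, hm_mul] at h1
  obtain ⟨hc, -, ha⟩ := hm_injective h1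
  simp only [nsmul_eq_mul, mul_zero, zero_mul, add_zero, zero_add] at hc ha
  have hi' : ((i' : ℕ) : ZMod p) = ((l' : ℕ) : ZMod p) := mul_right_cancel₀ h3 hc
  have hi : ((i : ℕ) : ZMod p) = ((l : ℕ) : ZMod p) :=
    mul_right_cancel₀ (mul_ne_zero h2 he) ha
  have e1' : (i' : ℕ) = (l' : ℕ) := by
    have := (ZMod.natCast_eq_natCast_iff' _ _ p).mp hi'
    rwa [Nat.mod_eq_of_lt i'.2, Nat.mod_eq_of_lt l'.2] at this
  have e0' : (i : ℕ) = (l : ℕ) := by
    have := (ZMod.natCast_eq_natCast_iff' _ _ p).mp hi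
    rwa [Nat.mod_eq_of_lt i.2, Nat.mod_eq_of_lt l.2] at this
  rw [e0', e1'] at h
  have h5 : (u₀ : G) ^ (i'' : ℕ) = (u₀ : G) ^ (l'' : ℕ) := mul_left_cancel h
  have e2' : (i'' : ℕ) = (l'' : ℕ) := by
    apply pow_injOn_Iio_orderOf (x := (u₀ : G))
    · rw [Set.mem_Iio, hu₀ord]; exact i''.2
    · rw [Set.mem_Iio, hu₀ord]; exact l''.2
    · exact h5
  rw [Prod.mk.injEq, Prod.mk.injEq]
  exact ⟨Fin.ext e0', Fin.ext e1', Fin.ext e2'⟩

/-- the main theorem -/
theorem ker_eq_bot {G : Type*} [Group G] [Finite G] (hp3 : 3 < p) (hr : Cfsg.PRankLE p 2 G)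
    (π : G →* ↥(affSubgroup (ZMod p))) (hπ : Function.Surjective π) (hU : IsPGroup p π.ker) :
    π.ker = ⊥ := by
  by_contra hne
  have hpp : p.Prime := hp.out
  have hodd : p ≠ 2 := by omega
  have h2 : (2 : ZMod p) ≠ 0 := by
    intro h
    have h' : ((2 : ℕ) : ZMod p) = 0 := by exact_mod_cast h
    have := Nat.le_of_dvd (by norm_num) ((ZMod.natCast_eq_zero_iff 2 p).mp h')
    omega
  have h3 : (3 : ZMod p) ≠ 0 := by
    intro h
    have h' : ((3 : ℕ) : ZMod p) = 0 := by exact_mod_cast h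
    have := Nat.le_of_dvd (by norm_num) ((ZMod.natCast_eq_zero_iff 3 p).mp h')
    omega
  have h22 : (2 : ZMod p) ^ 2 ≠ 1 := by
    intro h
    apply h3
    have : (3 : ZMod p) = 2 ^ 2 - 1 := by norm_num
    rw [this, h, sub_self]
  set P₁ : Subgroup G := (stab (e1 : Fin 2 → ZMod p)).comap π with hP₁
  set ρ : ↥P₁ →* ↥(stab (e1 : Fin 2 → ZMod p)) := π.subgroupComap _ with hρ
  have hρs : Function.Surjective ρ := MonoidHom.subgroupComap_surjective_of_surjective π _ hπ
  have hRp : IsPGroup p ↥P₁ := IsPGroup.comap_of_ker_isPGroup (isPGroup_stab e1_ne_zero) π hU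
  have hRr : Cfsg.PRankLE p 2 ↥P₁ := ChiefRank.pRankLE_subgroup hr P₁
  have hS3 : Nat.card ↥(stab (e1 : Fin 2 → ZMod p)) = p ^ 3 := by
    rw [card_stab, Nat.card_zmod]
  have hkerρ : ∀ x : ↥P₁, x ∈ ρ.ker ↔ (x : G) ∈ π.ker := by
    intro x
    rw [MonoidHom.mem_ker, MonoidHom.mem_ker]
    constructor
    · intro h; exact congrArg Subtype.val h
    · intro h; exact Subtype.ext h
  have hkerle : π.ker ≤ P₁ := by
    intro u hu
    rw [hP₁, Subgroup.mem_comap, MonoidHom.mem_ker.mp hu]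
    exact one_mem _
  rcases ker_cyclic_of_rank_two hp3 hRp hRr ρ hρs hS3 (stab_pow_char p hodd) stab_not_comm with
    h | ⟨hcyc, x, z, hyp, hynk⟩
  · apply hne
    rw [Subgroup.eq_bot_iff_forall]
    intro u hu
    have : (⟨u, hkerle hu⟩ : ↥P₁) ∈ ρ.ker := (hkerρ _).mpr hu
    rw [h, Subgroup.mem_bot] at this
    exact congrArg Subtype.val this
  · have hcyc' : IsCyclic ↥π.ker := by
      let φ : ↥ρ.ker →* ↥π.ker :=
        ((P₁.subtype).comp ρ.ker.subtype).codRestrict π.ker (fun x => (hkerρ x.1).mp x.2)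
      have hφ : Function.Surjective φ := by
        rintro ⟨u, hu⟩
        exact ⟨⟨⟨u, hkerle hu⟩, (hkerρ _).mpr hu⟩, rfl⟩
      exact isCyclic_of_surjective φ hφ
    have hA : commutator ↥(affSubgroup (ZMod p)) = ⊤ := commutator_aff_eq_top h2 h2 h22
    have hUc := central_of_cyclic_ker π hπ hA hcyc'
    set y₀ : G := ((⁅x⁻¹, z⁆ : ↥P₁) : G) with hy₀
    have hy₀p : y₀ ^ p = 1 := by
      rw [hy₀, ← Subgroup.coe_pow, hyp]; rfl
    have hy₀k : y₀ ∉ π.ker := fun h => hynk ((hkerρ _).mpr h)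
    obtain ⟨e, he⟩ : ∃ e : ZMod p, π y₀ = hm 0 0 e := by
      have h1 : π y₀ = ((ρ ⁅x⁻¹, z⁆ : ↥(stab (e1 : Fin 2 → ZMod p))) : ↥(affSubgroup (ZMod p))) := rfl
      obtain ⟨e, he⟩ := stab_commutator (ρ x⁻¹).2 (ρ z).2
      refine ⟨e, ?_⟩
      rw [h1, map_commutatorElement, hm_eq_trans, zero_smul, add_zero, ← he]
      rfl
    have he0 : e ≠ 0 := by
      rintro rfl
      apply hy₀k
      rw [MonoidHom.mem_ker, he, hm_zero]
    obtain ⟨a, b, c, hab, hac, hbc, ha, hb, hc, hinj⟩ :=
      exists_indep_triple hp3 π hπ hU hUc hne y₀ hy₀p e he0 he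
    exact not_injective_of_rank hr a b c hab hac hbc ha hb hc hinj

end Cfsg.Agent.Helper11.QdR
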