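import Mathlib
import Cfsg.Agent.Lib.Helper11.QdRankG

/-!
# Involving `Qd(p)` versus `p'`-involving `Qd(p)` in groups of `p`-rank two (helper11)

For `p > 3` and `G` of `p`-rank at most two: if some subgroup of `G` maps onto `Qd(p)`, then some
subgroup of `G` maps onto `Qd(p)` with kernel of order prime to `p`.  Induction on the order, the
Frattini argument and `ker_eq_bot`.
-/

set_option autoImplicit false

namespace Cfsg.Agent.Helper11.QdR

open Subgroup
open Cfsg.Agent.S2761

universe u

variable {p : ℕ} [hp : Fact p.Prime]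

/-- the rank condition passes to quotients by normal `p'`-subgroups -/
theorem pRankLE_quotient {G : Type*} [Group G] [Finite G] {k : ℕ} (hr : Cfsg.PRankLE p k G)
    (Q : Subgroup G) [Q.Normal] (hQ : (Nat.card Q).Coprime p) : Cfsg.PRankLE p k (G ⧸ Q) := by
  intro A hAc hAe
  have hpp : p.Prime := hp.out
  have hAp : IsPGroup p ↥A := by
    intro a
    refine ⟨1, ?_⟩
    rw [pow_one]
    apply Subtype.ext
    rw [Subgroup.coe_pow, hAe a a.2]
    rfl
  set L : Subgroup G := A.comap (QuotientGroup.mk' Q) with hL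
  set ψ : ↥L →* ↥A := (QuotientGroup.mk' Q).subgroupComap A with hψ
  have hψs : Function.Surjective ψ :=
    MonoidHom.subgroupComap_surjective_of_surjective _ _ (QuotientGroup.mk'_surjective Q)
  obtain ⟨P⟩ : Nonempty (Sylow p ↥L) := inferInstance
  have htop : (P : Subgroup ↥L).map ψ = ⊤ := by
    rw [← Sylow.coe_mapSurjective hψs P]
    have hT : IsPGroup p ↥(⊤ : Subgroup ↥A) := hAp.to_subgroup ⊤
    exact ((P.mapSurjective hψs).is_maximal' hT le_top).symm
  have hinj : ∀ x : ↥L, x ∈ (P : Subgroup ↥L) → ψ x = 1 → x = 1 := by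
    intro x hxP hx1
    have hxQ : ((x : ↥L) : G) ∈ Q := by
      rw [← QuotientGroup.eq_one_iff]
      exact congrArg Subtype.val hx1
    obtain ⟨a, ha⟩ := P.2 ⟨x, hxP⟩
    have ha' : ((x : ↥L) : G) ^ p ^ a = 1 := by
      have := congrArg (fun y : ↥(P : Subgroup ↥L) => ((y : ↥L) : G)) ha
      simpa using this
    have h1 : orderOf ((x : ↥L) : G) ∣ p ^ a := orderOf_dvd_of_pow_eq_one ha'
    have h2 : orderOf ((x : ↥L) : G) ∣ Nat.card Q := by
      have := orderOf_dvd_natCard (⟨(x : G), hxQ⟩ : ↥Q)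
      rwa [Subgroup.orderOf_mk] at this
    have h3 : orderOf ((x : ↥L) : G) = 1 :=
      Nat.Coprime.eq_one_of_dvd (Nat.Coprime.pow_right a
        (Nat.Coprime.coprime_dvd_left h2 hQ)) h1
    exact Subtype.ext (orderOf_eq_one_iff.mp h3)
  set B : Subgroup G := (P : Subgroup ↥L).map L.subtype with hB
  have hbij : Function.Bijective (fun x : ↥(P : Subgroup ↥L) => ψ x.1) := by
    constructor
    · intro x y hxy
      have hxy' : ψ (x : ↥L) = ψ (y : ↥L) := hxy
      have h1 : ψ ((x : ↥L) * (y : ↥L)⁻¹) = 1 := by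
        rw [map_mul, map_inv, hxy', mul_inv_cancel]
      have h2 := hinj _ (mul_mem x.2 (inv_mem y.2)) h1
      exact Subtype.ext (mul_inv_eq_one.mp h2)
    · intro a
      have ha : a ∈ (P : Subgroup ↥L).map ψ := by rw [htop]; trivial
      obtain ⟨x, hx, rfl⟩ := ha
      exact ⟨⟨x, hx⟩, rfl⟩
  have hBcard : Nat.card B = Nat.card A := by
    rw [hB, Subgroup.card_map_of_injective L.subtype_injective]
    exact Nat.card_congr (Equiv.ofBijective _ hbij)
  rw [← hBcard]
  apply hr B
  · refine ⟨⟨?_⟩⟩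
    rintro ⟨_, x, hx, rfl⟩ ⟨_, y, hy, rfl⟩
    apply Subtype.ext
    show ((x : ↥L) : G) * (y : G) = (y : G) * (x : G)
    have h1 : ψ (x * y) = ψ (y * x) := by
      rw [map_mul, map_mul]
      exact hAc.is_comm.comm _ _
    have h2 : (⟨x * y, mul_mem hx hy⟩ : ↥(P : Subgroup ↥L)) = ⟨y * x, mul_mem hy hx⟩ :=
      hbij.1 h1
    have h3 : x * y = y * x := congrArg Subtype.val h2
    exact congrArg Subtype.val h3
  · rintro _ ⟨x, hx, rfl⟩
    have h1 : ψ (x ^ p) = 1 := by
      rw [map_pow]
      apply Subtype.ext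
      rw [Subgroup.coe_pow, hAe _ (ψ x).2]
      rfl
    have h2 := hinj _ (pow_mem hx p) h1
    show ((x : ↥L) : G) ^ p = 1
    rw [← Subgroup.coe_pow, h2]
    rfl

/-- `G` `p'`-involves `Qd(p)`, in homomorphism form -/
def PInv (p : ℕ) (G : Type u) [Group G] : Prop :=
  ∃ (X : Type u) (_ : Group X) (ι : X →* G) (π : X →* ↥(affSubgroup (ZMod p))),
    Function.Injective ι ∧ Function.Surjective π ∧ (Nat.card π.ker).Coprime p

/-- the induction -/
theorem pinv_of_surjective (hp3 : 3 < p) : ∀ n : ℕ, ∀ (G : Type u) [Group G] [Finite G],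
    Nat.card G ≤ n → Cfsg.PRankLE p 2 G →
    ∀ π : G →* ↥(affSubgroup (ZMod p)), Function.Surjective π → PInv p G := by
  have hpp : p.Prime := hp.out
  intro n
  induction n with
  | zero =>
    intro G _ _ hn
    exfalso
    have := Nat.card_pos (α := G)
    omega
  | succ n ih =>
    intro G _ _ hn hr π hπ
    by_cases hcop : (Nat.card π.ker).Coprime p
    · exact ⟨G, inferInstance, MonoidHom.id G, π, Function.injective_id, hπ, hcop⟩
    by_cases hpg : IsPGroup p ↥π.ker
    · exfalso
      apply hcop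
      rw [ker_eq_bot hp3 hr π hπ hpg, Subgroup.card_bot]
      exact Nat.coprime_one_left p
    obtain ⟨q, hq, hqp, hqd⟩ : ∃ q : ℕ, q.Prime ∧ q ≠ p ∧ q ∣ Nat.card ↥π.ker := by
      by_contra hcon
      push Not at hcon
      apply hpg
      rw [IsPGroup.iff_card]
      refine ⟨_, Nat.eq_prime_pow_of_unique_prime_dvd Nat.card_pos.ne' ?_⟩
      intro d hd hdd
      by_contra hne
      exact hcon d hd hne hdd
    have : Fact q.Prime := ⟨hq⟩
    obtain ⟨S⟩ : Nonempty (Sylow q ↥π.ker) := inferInstance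
    set Q : Subgroup G := (S : Subgroup ↥π.ker).map π.ker.subtype with hQ
    have hfrat : normalizer (Q : Set G) ⊔ π.ker = ⊤ := Sylow.normalizer_sup_eq_top S
    have hQle : Q ≤ π.ker := Subgroup.map_subtype_le _
    have hQne : Q ≠ ⊥ := by
      rw [hQ, Ne, Subgroup.map_eq_bot_iff_of_injective _ π.ker.subtype_injective]
      exact S.ne_bot_of_dvd_card hqd
    have hQq : IsPGroup q ↥Q := S.isPGroup'.map _
    have hQcop : (Nat.card Q).Coprime p := by
      obtain ⟨m, hm⟩ := IsPGroup.iff_card.mp hQq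
      rw [hm]
      exact Nat.Coprime.pow_left m ((Nat.coprime_primes hq hpp).mpr hqp)
    by_cases hN : normalizer (Q : Set G) = ⊤
    · -- `Q` is normal: pass to the quotient
      have hQn : Q.Normal := Subgroup.normalizer_eq_top_iff.mp hN
      set π' : G ⧸ Q →* ↥(affSubgroup (ZMod p)) :=
        QuotientGroup.lift Q π hQle with hπ'
      have hπ's : Function.Surjective π' := by
        intro a
        obtain ⟨g, hg⟩ := hπ a
        exact ⟨QuotientGroup.mk g, by rw [hπ', QuotientGroup.lift_mk]; exact hg⟩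
      have hcard : Nat.card (G ⧸ Q) ≤ n := by
        have h1 := Subgroup.card_eq_card_quotient_mul_card_subgroup Q
        have h2 : 1 < Nat.card Q := (Subgroup.one_lt_card_iff_ne_bot Q).mpr hQne
        have h3 : 0 < Nat.card (G ⧸ Q) := Nat.card_pos
        have h4 : Nat.card (G ⧸ Q) * 2 ≤ Nat.card G := by
          rw [h1]; exact Nat.mul_le_mul_left _ h2
        omega
      obtain ⟨X, hX, ι, πX, hι, hπX, hcopX⟩ :=
        ih (G ⧸ Q) hcard (pRankLE_quotient hr Q hQcop) π' hπ's
      -- pull back along `G → G ⧸ Q`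
      set Y : Subgroup G := (ι.range).comap (QuotientGroup.mk' Q) with hY
      set γ : ↥Y →* ↥ι.range := (QuotientGroup.mk' Q).subgroupComap ι.range with hγ
      have hγs : Function.Surjective γ :=
        MonoidHom.subgroupComap_surjective_of_surjective _ _ (QuotientGroup.mk'_surjective Q)
      set eX : X ≃* ↥ι.range := MonoidHom.ofInjective hι with heX
      set β : ↥Y →* X := eX.symm.toMonoidHom.comp γ with hβ
      have hβs : Function.Surjective β := eX.symm.surjective.comp hγs
      refine ⟨↥Y, inferInstance, Y.subtype, πX.comp β, Y.subtype_injective, hπX.comp hβs, ?_⟩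
      apply Nat.Coprime.symm
      rw [Nat.Prime.coprime_iff_not_dvd hpp]
      intro hdvd
      obtain ⟨g, hg⟩ := exists_prime_orderOf_dvd_card' p hdvd
      have hg1 : πX (β (g : ↥Y)) = 1 := MonoidHom.mem_ker.mp g.2
      have hgo : orderOf ((g : ↥Y)) = p := by rw [Subgroup.orderOf_coe, hg]
      -- `β g` is trivial
      have hβg : β (g : ↥Y) = 1 := by
        have h1 : orderOf (β (g : ↥Y)) ∣ p := by
          have := orderOf_map_dvd β (g : ↥Y)
          rwa [hgo] at this
        have h2 : orderOf (β (g : ↥Y)) ∣ Nat.card ↥πX.ker := by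
          have := orderOf_dvd_natCard (⟨β (g : ↥Y), MonoidHom.mem_ker.mpr hg1⟩ : ↥πX.ker)
          rwa [Subgroup.orderOf_mk] at this
        have h3 : orderOf (β (g : ↥Y)) = 1 :=
          Nat.Coprime.eq_one_of_dvd (Nat.Coprime.coprime_dvd_left h2 hcopX) h1
        exact orderOf_eq_one_iff.mp h3
      have hγg : γ (g : ↥Y) = 1 := by
        have : eX.symm (γ (g : ↥Y)) = 1 := hβg
        exact (EmbeddingLike.map_eq_one_iff (f := eX.symm)).mp this
      have hgQ : (((g : ↥Y)) : G) ∈ Q := by
        rw [← QuotientGroup.eq_one_iff]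
        exact congrArg Subtype.val hγg
      have h4 : orderOf (((g : ↥Y)) : G) ∣ Nat.card Q := by
        have := orderOf_dvd_natCard (⟨(((g : ↥Y)) : G), hgQ⟩ : ↥Q)
        rwa [Subgroup.orderOf_mk] at this
      rw [Subgroup.orderOf_coe, hgo] at h4
      have := Nat.Coprime.eq_one_of_dvd hQcop.symm h4
      exact hpp.one_lt.ne' this
    · -- the normalizer is proper
      set N : Subgroup G := normalizer (Q : Set G) with hNdef
      have hcard : Nat.card ↥N ≤ n := by
        have h1 : Nat.card ↥N ≤ Nat.card G := Subgroup.card_le_card_group N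
        have h2 : Nat.card ↥N ≠ Nat.card G := fun h => hN (Subgroup.eq_top_of_card_eq N h)
        omega
      have hπN : Function.Surjective (π.comp N.subtype) := by
        intro a
        obtain ⟨g, hg⟩ := hπ a
        have hgm : g ∈ N ⊔ π.ker := by rw [hfrat]; trivial
        obtain ⟨m, hm, r, hr', hmr⟩ := Subgroup.mem_sup_of_normal_right.mp hgm
        refine ⟨⟨m, hm⟩, ?_⟩
        show π m = a
        rw [← hg, ← hmr, map_mul, MonoidHom.mem_ker.mp hr', mul_one]
      obtain ⟨X, hX, ι, πX, hι, hπX, hcopX⟩ :=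
        ih ↥N hcard (ChiefRank.pRankLE_subgroup hr N) (π.comp N.subtype) hπN
      exact ⟨X, hX, N.subtype.comp ι, πX, N.subtype_injective.comp hι, hπX, hcopX⟩

end Cfsg.Agent.Helper11.QdR
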