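import Mathlib
import Cfsg.Prelude.Def_OddOrderLocal
import Cfsg.Agent.Lib.Helper10.PiCore
import Cfsg.Agent.Lib.Helper4.NPCBasic

/-!
# Bender–Glauberman 10.8/10.9, part A (helper11): general lemmas

If a finite group `D` has a normal `p`-complement for every prime `p ∉ π` dividing its order, then
`O_π(D)` is a normal Hall `π`-subgroup with nilpotent quotient, and `D` has a nilpotent Hall
`π'`-subgroup.
-/

set_option autoImplicit false

namespace Cfsg.Agent.Helper11.BG108

open Cfsg Subgroup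
open Cfsg.Agent.Helper10 (NPC IsPiNum)

universe u

section general

variable {D : Type u} [Group D] [Finite D]

/-- the index type: primes outside `π` dividing the order of `D` -/
abbrev PrimeIdx (π : Set ℕ) (D : Type u) [Group D] : Type :=
  {p : ℕ // p.Prime ∧ p ∉ π ∧ p ∣ Nat.card D}

instance primeIdx_finite (π : Set ℕ) : Finite (PrimeIdx π D) := by
  have h : {p : ℕ | p.Prime ∧ p ∉ π ∧ p ∣ Nat.card D}.Finite := by
    apply Set.Finite.subset (Set.finite_le_nat (Nat.card D))
    rintro p ⟨-, -, hp⟩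
    exact Nat.le_of_dvd Nat.card_pos hp
  exact h.to_subtype

/-- the chosen normal complements -/
noncomputable def compl (π : Set ℕ)
    (h : ∀ p : ℕ, p.Prime → p ∉ π → p ∣ Nat.card D → NPC p D) (i : PrimeIdx π D) : Subgroup D :=
  Classical.choose (h i.1 i.2.1 i.2.2.1 i.2.2.2)

theorem compl_spec (π : Set ℕ)
    (h : ∀ p : ℕ, p.Prime → p ∉ π → p ∣ Nat.card D → NPC p D) (i : PrimeIdx π D) :
    (compl π h i).Normal ∧ (Nat.card ↥(compl π h i)).Coprime i.1 ∧
      ∃ k : ℕ, (compl π h i).index = i.1 ^ k :=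
  Classical.choose_spec (h i.1 i.2.1 i.2.2.1 i.2.2.2)

instance compl_normal (π : Set ℕ)
    (h : ∀ p : ℕ, p.Prime → p ∉ π → p ∣ Nat.card D → NPC p D) (i : PrimeIdx π D) :
    (compl π h i).Normal := (compl_spec π h i).1

/-- the product of the quotient maps -/
noncomputable def prodHom (π : Set ℕ)
    (h : ∀ p : ℕ, p.Prime → p ∉ π → p ∣ Nat.card D → NPC p D) :
    D →* ∀ i : PrimeIdx π D, D ⧸ compl π h i :=
  MonoidHom.pi (fun i => QuotientGroup.mk' (compl π h i))

theorem ker_prodHom_le (π : Set ℕ)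
    (h : ∀ p : ℕ, p.Prime → p ∉ π → p ∣ Nat.card D → NPC p D) (i : PrimeIdx π D) :
    (prodHom π h).ker ≤ compl π h i := by
  intro x hx
  rw [MonoidHom.mem_ker] at hx
  have h1 : (prodHom π h x) i = 1 := by rw [hx]; rfl
  have h2 : (QuotientGroup.mk' (compl π h i)) x = 1 := h1
  rwa [← MonoidHom.mem_ker, QuotientGroup.ker_mk'] at h2

theorem isNilpotent_quotient_compl (π : Set ℕ)
    (h : ∀ p : ℕ, p.Prime → p ∉ π → p ∣ Nat.card D → NPC p D) (i : PrimeIdx π D) :
    Group.IsNilpotent (D ⧸ compl π h i) := by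
  haveI : Fact i.1.Prime := ⟨i.2.1⟩
  obtain ⟨k, hk⟩ := (compl_spec π h i).2.2
  have hp : IsPGroup i.1 (D ⧸ compl π h i) := by
    apply IsPGroup.of_card (n := k)
    rw [← hk]
    rfl
  exact hp.isNilpotent

theorem isNilpotent_quotient_ker (π : Set ℕ)
    (h : ∀ p : ℕ, p.Prime → p ∉ π → p ∣ Nat.card D → NPC p D) :
    Group.IsNilpotent (D ⧸ (prodHom π h).ker) := by
  haveI : ∀ i, Group.IsNilpotent (D ⧸ compl π h i) := isNilpotent_quotient_compl π h
  haveI : Group.IsNilpotent (∀ i : PrimeIdx π D, D ⧸ compl π h i) := Group.isNilpotent_pi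
  have hinj := QuotientGroup.kerLift_injective (prodHom π h)
  haveI : Group.IsNilpotent ↥(QuotientGroup.kerLift (prodHom π h)).range := inferInstance
  exact Group.nilpotent_of_mulEquiv (MonoidHom.ofInjective hinj).symm

theorem not_dvd_index_ker (π : Set ℕ)
    (h : ∀ p : ℕ, p.Prime → p ∉ π → p ∣ Nat.card D → NPC p D) {p : ℕ} (hp : p.Prime)
    (hpπ : p ∈ π) : ¬ p ∣ (prodHom π h).ker.index := by
  classical
  haveI : Fintype (PrimeIdx π D) := Fintype.ofFinite _
  intro hd
  have h1 : (prodHom π h).ker.index = Nat.card ↥(prodHom π h).range :=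
    Subgroup.index_ker (prodHom π h)
  have h2 : Nat.card ↥(prodHom π h).range ∣ Nat.card (∀ i : PrimeIdx π D, D ⧸ compl π h i) :=
    Subgroup.card_subgroup_dvd_card _
  rw [Nat.card_pi] at h2
  rw [h1] at hd
  have h3 := hd.trans h2
  rw [Prime.dvd_finset_prod_iff (Nat.prime_iff.mp hp)] at h3
  obtain ⟨i, -, hi⟩ := h3
  obtain ⟨k, hk⟩ := (compl_spec π h i).2.2
  have h4 : Nat.card (D ⧸ compl π h i) = i.1 ^ k := by rw [← hk]; rfl
  rw [h4] at hi
  have h5 := (Nat.prime_dvd_prime_iff_eq hp i.2.1).mp (hp.dvd_of_dvd_pow hi)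
  exact i.2.2.1 (h5 ▸ hpπ)

theorem isPiNum_card_ker (π : Set ℕ)
    (h : ∀ p : ℕ, p.Prime → p ∉ π → p ∣ Nat.card D → NPC p D) :
    IsPiNum π (Nat.card ↥(prodHom π h).ker) := by
  intro q hq hqd
  by_contra hqπ
  have hqD : q ∣ Nat.card D := hqd.trans (Subgroup.card_subgroup_dvd_card _)
  let i : PrimeIdx π D := ⟨q, hq, hqπ, hqD⟩
  have h1 : q ∣ Nat.card ↥(compl π h i) := hqd.trans (Subgroup.card_dvd_of_le (ker_prodHom_le π h i))
  have h2 : (Nat.card ↥(compl π h i)).Coprime q := (compl_spec π h i).2.1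
  exact hq.ne_one (Nat.Coprime.eq_one_of_dvd h2.symm h1)

theorem ker_prodHom_le_piCore (π : Set ℕ)
    (h : ∀ p : ℕ, p.Prime → p ∉ π → p ∣ Nat.card D → NPC p D) :
    (prodHom π h).ker ≤ piCore π D :=
  Cfsg.Agent.Helper10.le_piCore π inferInstance (isPiNum_card_ker π h)

/-- **Lemma X (i)**: `O_π(D)` is a Hall subgroup -/
theorem not_dvd_index_piCore (π : Set ℕ)
    (h : ∀ p : ℕ, p.Prime → p ∉ π → p ∣ Nat.card D → NPC p D) {p : ℕ} (hp : p.Prime)
    (hpπ : p ∈ π) : ¬ p ∣ (piCore π D).index := fun hd =>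
  not_dvd_index_ker π h hp hpπ (hd.trans (Subgroup.index_dvd_of_le (ker_prodHom_le_piCore π h)))

/-- **Lemma X (ii)**: `D / O_π(D)` is nilpotent -/
theorem isNilpotent_quotient_piCore (π : Set ℕ)
    (h : ∀ p : ℕ, p.Prime → p ∉ π → p ∣ Nat.card D → NPC p D) :
    Group.IsNilpotent (D ⧸ piCore π D) := by
  haveI := isNilpotent_quotient_ker π h
  let f : D ⧸ (prodHom π h).ker →* D ⧸ piCore π D :=
    QuotientGroup.map _ _ (MonoidHom.id D) (by
      intro x hx
      exact ker_prodHom_le_piCore π h hx)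
  have hf : Function.Surjective f := by
    intro y
    obtain ⟨x, rfl⟩ := QuotientGroup.mk_surjective y
    exact ⟨QuotientGroup.mk x, rfl⟩
  exact Group.nilpotent_of_surjective f hf

theorem coprime_card_index_piCore (π : Set ℕ)
    (h : ∀ p : ℕ, p.Prime → p ∉ π → p ∣ Nat.card D → NPC p D) :
    (Nat.card ↥(piCore π D)).Coprime (piCore π D).index := by
  apply Nat.Coprime.symm
  apply Nat.coprime_of_dvd
  intro q hq hq1 hq2
  exact not_dvd_index_piCore π h hq (Cfsg.Agent.Helper10.card_piCore π q hq hq2) hq1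

/-- a `p`-subgroup lies in every normal subgroup of index prime to `p` -/
theorem le_of_isPGroup_of_not_dvd_index {p : ℕ} [Fact p.Prime] {Q N : Subgroup D} [N.Normal]
    (hQ : IsPGroup p ↥Q) (hN : ¬ p ∣ N.index) : Q ≤ N := by
  rw [← Subgroup.relIndex_eq_one]
  have h1 : N.relIndex Q ∣ N.index := Subgroup.relIndex_dvd_index_of_normal N Q
  have h2 : N.relIndex Q ∣ Nat.card ↥Q := Subgroup.index_dvd_card _
  obtain ⟨k, hk⟩ := hQ.exists_card_eq
  rw [hk] at h2
  obtain ⟨j, -, hj⟩ := (Nat.dvd_prime_pow Fact.out).mp h2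
  by_contra hne
  have hj0 : j ≠ 0 := by
    rintro rfl
    exact hne (by rw [hj, pow_zero])
  exact hN ((hj ▸ dvd_pow_self p hj0 : p ∣ N.relIndex Q).trans h1)

/-- **Nilpotent Hall `π'`-subgroups** from normal `p`-complements (type version) -/
theorem exists_nilpotent_hall (π : Set ℕ)
    (h : ∀ p : ℕ, p.Prime → p ∉ π → p ∣ Nat.card D → NPC p D) :
    ∃ H : Subgroup D, Group.IsNilpotent ↥H ∧ (∀ q : ℕ, q.Prime → q ∣ Nat.card ↥H → q ∉ π) ∧
      ∀ q : ℕ, q.Prime → q ∉ π → ¬ q ∣ H.index := by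
  obtain ⟨H, hH⟩ := Subgroup.exists_right_complement'_of_coprime (coprime_card_index_piCore π h)
  have hcard : Nat.card ↥(piCore π D) * Nat.card ↥H = Nat.card D := hH.card_mul
  have hidx : Nat.card ↥H = (piCore π D).index := by
    have h1 := (piCore π D).card_mul_index
    exact Nat.eq_of_mul_eq_mul_left Nat.card_pos (hcard.trans h1.symm)
  have hidx' : H.index = Nat.card ↥(piCore π D) := by
    have h1 := H.card_mul_index
    have h2 : Nat.card ↥H * H.index = Nat.card ↥H * Nat.card ↥(piCore π D) := by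
      rw [h1, mul_comm, hcard]
    exact Nat.eq_of_mul_eq_mul_left Nat.card_pos h2
  refine ⟨H, ?_, ?_, ?_⟩
  · haveI := isNilpotent_quotient_piCore π h
    let f : ↥H →* D ⧸ piCore π D := (QuotientGroup.mk' (piCore π D)).comp H.subtype
    have hf : Function.Injective f := by
      rw [injective_iff_map_eq_one]
      intro x hx
      have h1 : (x : D) ∈ piCore π D := by
        rw [← QuotientGroup.ker_mk' (piCore π D), MonoidHom.mem_ker]
        exact hx
      have h2 : (x : D) ∈ piCore π D ⊓ H := ⟨h1, x.2⟩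
      rw [hH.disjoint.eq_bot, Subgroup.mem_bot] at h2
      exact Subtype.ext h2
    haveI : Group.IsNilpotent ↥f.range := inferInstance
    exact Group.nilpotent_of_mulEquiv (MonoidHom.ofInjective hf).symm
  · intro q hq hqd hqπ
    rw [hidx] at hqd
    exact not_dvd_index_piCore π h hq hqπ hqd
  · intro q hq hqπ hqd
    rw [hidx'] at hqd
    exact hqπ (Cfsg.Agent.Helper10.card_piCore π q hq hqd)

end general

section sub

variable {G : Type u} [Group G] [Finite G]

/-- **Nilpotent Hall `π'`-subgroups** from normal `p`-complements (subgroup version) -/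
theorem exists_nilpotent_hallOf (K : Subgroup G) (π : Set ℕ)
    (h : ∀ p : ℕ, p.Prime → p ∉ π → p ∣ Nat.card ↥K → NPC p ↥K) :
    ∃ H : Subgroup G, IsPiHallOf {q | q.Prime ∧ q ∉ π} H K ∧ Group.IsNilpotent ↥H := by
  obtain ⟨H₀, hnil, h1, h2⟩ := exists_nilpotent_hall π h
  have hcard : Nat.card ↥(H₀.map K.subtype) = Nat.card ↥H₀ :=
    Subgroup.card_map_of_injective K.subtype_injective
  refine ⟨H₀.map K.subtype, ⟨Subgroup.map_subtype_le _, ?_, ?_⟩, ?_⟩
  · intro q hq hqd
    rw [hcard] at hqd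
    exact ⟨hq, h1 q hq hqd⟩
  · rintro q hq ⟨-, hqπ⟩
    have h3 : (H₀.map K.subtype).relIndex K = H₀.index := by
      unfold Subgroup.relIndex Subgroup.subgroupOf
      rw [Subgroup.comap_map_eq_self_of_injective K.subtype_injective]
    rw [h3]
    exact h2 q hq hqπ
  · haveI := hnil
    exact Group.nilpotent_of_mulEquiv (H₀.equivMapOfInjective K.subtype K.subtype_injective)

end sub

end Cfsg.Agent.Helper11.BG108
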