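import Mathlib
import Cfsg.Agent.Lib.Helper11.BG108A
import Cfsg.Agent.Lib.Helper23.BG10E
import Cfsg.Agent.Lib.Helper23.BG10B
import Cfsg.Agent.Lib.Helper8.NarrowCrit
import Cfsg.Agent.S1450
import Cfsg.Agent.S1455

/-!
# Bender–Glauberman 10.8/10.9, part B (helper11)

With the statements of S1403 (Uniqueness Theorem), S1404 (Lemma 10.1) and S1410 (`p`-length one)
as hypotheses: `M_σ ≤ M'`, Sylow `p`-subgroups of `M` are narrow for `p ∈ α(M)` not ideal, and
for `p ∉ β(M)` the group `M'` has a normal `p`-complement.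
-/

set_option autoImplicit false

namespace Cfsg.Agent.Helper11.BG108

open Cfsg Subgroup
open Cfsg.Agent.Helper14.BGTrans Cfsg.Agent.Helper14.BGUniq
open Cfsg.Agent.Helper15 (IsSylowIn isSylowIn_map_subtype exists_isSylowIn_ge)
open Cfsg.Agent.Helper23.BG10
open Cfsg.Agent.Helper10 (NPC IsPiNum)

universe u

variable {G : Type u} [Group G]

/-- Corollary 10.7(a) (the statement of S1410) for the group `G` -/
def PLenThm (G : Type u) [Group G] : Prop :=
  ∀ (p : ℕ) [Fact p.Prime] (H : Subgroup G), H ≠ ⊤ → PLengthLE p 1 ↥H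

variable [Finite G]

/-- for `q ∈ σ(M)` some Sylow `q`-subgroup of `M` is a Sylow subgroup of `G` inside `M'` -/
theorem exists_sylow_le_commutator (hG : IsMinSimpleOddOrder G) (hF : FusionThm G)
    {M : Subgroup G} (hM : IsCoatom M) {q : ℕ} [Fact q.Prime] (hq : q ∈ sigma M) :
    ∃ P : Sylow q ↥M, (P : Subgroup ↥M) ≤ commutator ↥M ∧
      IsSylowIn q ((P : Subgroup ↥M).map M.subtype) ⊤ := by
  obtain ⟨-, -, P, hN⟩ := id hq
  have hS : IsSylowIn q ((P : Subgroup ↥M).map M.subtype) M := isSylowIn_map_subtype P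
  have hST := isSylowIn_top_of_normalizer_le hS hN
  have hSc := sylow_le_commutator hG hF hM hq hS.le hST
  rw [← Subgroup.map_subtype_commutator] at hSc
  exact ⟨P, (Subgroup.map_le_map_iff_of_injective M.subtype_injective).mp hSc, hST⟩

/-- `O_σ(M) ≤ M'` (inside `M`) -/
theorem piCore_sigma_le_commutator (hG : IsMinSimpleOddOrder G) (hF : FusionThm G)
    {M : Subgroup G} (hM : IsCoatom M) : piCore (sigma M) ↥M ≤ commutator ↥M := by
  rw [← Subgroup.relIndex_eq_one]
  by_contra hne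
  obtain ⟨q, hq, hqd⟩ := Nat.exists_prime_and_dvd hne
  haveI : Fact q.Prime := ⟨hq⟩
  have h1 : q ∣ Nat.card ↥(piCore (sigma M) ↥M) := hqd.trans (Subgroup.index_dvd_card _)
  have hqσ : q ∈ sigma M := Cfsg.Agent.Helper10.card_piCore _ q hq h1
  obtain ⟨P, hP, -⟩ := exists_sylow_le_commutator hG hF hM hqσ
  have h2 : q ∣ (commutator ↥M).index :=
    hqd.trans (Subgroup.relIndex_dvd_index_of_normal _ _)
  exact P.not_dvd_index (h2.trans (Subgroup.index_dvd_of_le hP))

/-- `M_σ ≤ M'` -/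
theorem sigmaCore_le_commutator (hG : IsMinSimpleOddOrder G) (hF : FusionThm G)
    {M : Subgroup G} (hM : IsCoatom M) : sigmaCore M ≤ ⁅M, M⁆ := by
  rw [← Subgroup.map_subtype_commutator]
  exact Subgroup.map_mono (piCore_sigma_le_commutator hG hF hM)

/-- if `p` is not ideal (and `G` has `p`-rank at least 3) some Sylow `p`-subgroup is narrow -/
theorem exists_isNarrow_of_not_ideal (hG : IsMinSimpleOddOrder G) {p : ℕ} [Fact p.Prime]
    (hr : ¬ PRankLE p 2 G) (hni : ¬ IsIdealPrime p G) :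
    ∃ P : Sylow p G, IsNarrow p ↥(P : Subgroup G) := by
  have hpp : p.Prime := Fact.out
  have h1 : ∃ (P : Sylow p G) (A : Subgroup G), A ≤ (P : Subgroup G) ∧ IsElementaryAbelian p A ∧
      Nat.card ↥A = p ^ 2 ∧
      ∀ B : Subgroup G, B ≤ (P : Subgroup G) → IsElementaryAbelian p B → ¬ A < B := by
    by_contra hcon
    apply hni
    refine ⟨hpp, hr, fun P A hAP hAe hAc => ?_⟩
    by_contra hB
    apply hcon
    exact ⟨P, A, hAP, hAe, hAc, fun B hBP hBe hAB => hB ⟨B, hBP, hBe, hAB⟩⟩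
  obtain ⟨P, A, hAP, hAe, hAc, hmaxA⟩ := h1
  have hp2 : p ≠ 2 := by
    apply prime_ne_two_of_dvd hG
    have h2 : p ∣ Nat.card ↥A := by rw [hAc]; exact dvd_pow_self p (by norm_num)
    exact h2.trans (Subgroup.card_subgroup_dvd_card A)
  have hAcent : A ≤ centralizer (A : Set G) := le_centralizer_self_of_isElementaryAbelian hAe
  refine ⟨P, ?_⟩
  apply Cfsg.Agent.Helper8.Narrow.isNarrow_of_selfCentralizing hp2 P.isPGroup'
    (A.subgroupOf (P : Subgroup G))
  · intro a ha b hb
    rw [Subgroup.mem_subgroupOf] at ha hb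
    apply Subtype.ext
    have := hAcent ha
    rw [Subgroup.mem_centralizer_iff] at this
    exact (this _ hb).symm
  · intro a ha
    rw [Subgroup.mem_subgroupOf] at ha
    exact Subtype.ext (by simpa using hAe.2 _ ha)
  · rw [Nat.card_congr (Subgroup.subgroupOfEquivOfLe hAP).toEquiv, hAc]
  · intro x hx hxp
    rw [Subgroup.mem_subgroupOf]
    have hxp' : (x : G) ^ p = 1 := by
      have := congrArg Subtype.val hxp
      simpa using this
    have hxc : Subgroup.zpowers (x : G) ≤ centralizer (A : Set G) := by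
      rw [Subgroup.zpowers_le, Subgroup.mem_centralizer_iff]
      intro a ha
      rw [Subgroup.mem_centralizer_iff] at hx
      have := hx ⟨a, hAP ha⟩ (by rw [SetLike.mem_coe, Subgroup.mem_subgroupOf]; exact ha)
      have := congrArg Subtype.val this
      simpa using this
    have hBe : IsElementaryAbelian p (A ⊔ Subgroup.zpowers (x : G)) :=
      isElementaryAbelian_sup hAe (isElementaryAbelian_zpowers hxp') hxc
    have hBP : A ⊔ Subgroup.zpowers (x : G) ≤ (P : Subgroup G) :=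
      sup_le hAP (by rw [Subgroup.zpowers_le]; exact x.2)
    have h3 := hmaxA _ hBP hBe
    have h4 : A ⊔ Subgroup.zpowers (x : G) ≤ A := by
      by_contra h5
      exact h3 (lt_of_le_not_ge le_sup_left h5)
    exact h4 (Subgroup.mem_sup_right (Subgroup.mem_zpowers _))

/-- Sylow `p`-subgroups of `M` are narrow when `p ∈ α(M)` is not ideal -/
theorem isNarrow_sylow (hG : IsMinSimpleOddOrder G) (hU : UniqThm G) {M : Subgroup G}
    (hM : IsCoatom M) {p : ℕ} [Fact p.Prime] (hp : p ∈ alpha M) (hni : ¬ IsIdealPrime p G)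
    (S : Sylow p ↥M) : IsNarrow p ↥(S : Subgroup ↥M) := by
  have hrG : ¬ PRankLE p 2 G := fun h =>
    hp.2 (pRankLE_of_injective' M.subtype M.subtype_injective h)
  obtain ⟨P₀, hP₀⟩ := exists_isNarrow_of_not_ideal hG hrG hni
  have hS : IsSylowIn p ((S : Subgroup ↥M).map M.subtype) M := isSylowIn_map_subtype S
  have hN := normalizer_le_of_sylow_rank hG hU hM hp.2 hS
  have hST := isSylowIn_top_of_normalizer_le hS hN
  let e1 : ↥(P₀ : Subgroup G) ≃* ↥((S : Subgroup ↥M).map M.subtype) :=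
    Sylow.equiv P₀ hST.sylowOfTop
  let e2 : ↥(S : Subgroup ↥M) ≃* ↥((S : Subgroup ↥M).map M.subtype) :=
    (S : Subgroup ↥M).equivMapOfInjective M.subtype M.subtype_injective
  exact Cfsg.Agent.Helper8.Narrow.isNarrow_of_mulEquiv (e1.trans e2.symm) hP₀

/-- **BG 10.8/10.9 (A)**, inside `M` -/
theorem partA (hG : IsMinSimpleOddOrder G) (hU : UniqThm G) (hL : PLenThm G) {M : Subgroup G}
    (hM : IsCoatom M) {p : ℕ} [Fact p.Prime] (hpM : p ∣ Nat.card ↥M) (hpβ : p ∉ beta M) :
    (∀ q : ℕ, q.Prime → q ∣ (pPrimeCore p ↥M).index → q ≤ p) ∧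
      HasNormalPComplement p ↥(commutator ↥M) := by
  haveI : Group.IsSolvable ↥M := isSolvable_of_ne_top hG hM.1
  have hodd : Odd (Nat.card ↥M) := Odd.of_dvd_nat hG.1 (Subgroup.card_subgroup_dvd_card M)
  by_cases hr : PRankLE p 2 ↥M
  · have := Cfsg.Agent.S1450.result hodd p hpM hr
    exact ⟨this.1, this.2.2.1⟩
  · have hα : p ∈ alpha M := ⟨Fact.out, hr⟩
    have hni : ¬ IsIdealPrime p G := fun h => hpβ ⟨hα, h⟩
    obtain ⟨S⟩ : Nonempty (Sylow p ↥M) := inferInstance
    have := Cfsg.Agent.S1455.result hodd p hpM S (isNarrow_sylow hG hU hM hα hni S)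
      (fun _ => hL p M hM.1)
    exact ⟨this.1, this.2.2.1⟩

end Cfsg.Agent.Helper11.BG108
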