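import Mathlib
import Cfsg.Agent.Lib.Lead.ChevFactsAll

/-!
# Two-generation of the Chevalley groups (S2405): definitions

`Full K s` says that the root subgroup `X_s` lies in the subgroup `K` of the general linear group;
`iter D w i s` is the image of the root `s` under the `i`-th power of the Weyl group element given
by the word `w`; `closChk` checks a certificate for the closure of a set of roots under Chevalley's
commutator formula.
-/

set_option autoImplicit false

namespace Cfsg.Agent.Helper11.CG

open Cfsg Cfsg.Lie Cfsg.Agent.Lead.Chev

variable {F : Type*} [Field F]

/-- the root subgroup `X_s` lies in `K` -/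
def Full (D : ChevalleyDatum) (hX : XAdd D F) (K : Subgroup (GL D.Idx F)) (s : ℕ) : Prop :=
  ∀ t : F, xGL D hX s t ∈ K

/-- the image of the root `s` under the `i`-th power of the Weyl group element of the word `w` -/
def iter (D : ChevalleyDatum) (w : List ℕ) : ℕ → ℕ → ℕ
  | 0, s => s
  | i + 1, s => reflWord D w (iter D w i s)

/-- the first `N` members of the orbit of `r` under the Weyl group element of the word `w` -/
def orbitList (D : ChevalleyDatum) (w : List ℕ) (r N : ℕ) : List ℕ :=
  (List.range N).map fun i => iter D w i r

/-- One step `(s, a, b)` of a closure certificate: `a`, `b` are known roots, `b ≠ ± a`, the root `s`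
occurs exactly once in the commutator formula for `(a, b)`, with a constant from the list `cs` (of
integers that are non-zero in the field) and with `i = 1` or `j = 1`, and every other term of the
formula has a known root or a constant from the list `zs` (of integers that vanish in the field). -/
def stepChk (D : ChevalleyDatum) (zs cs : List ℤ) (known : List ℕ) (st : ℕ × ℕ × ℕ) : Bool :=
  decide (st.2.1 < D.nroots) && decide (st.2.2 < D.nroots) && decide (st.2.2 ≠ st.2.1) &&
  decide (st.2.2 ≠ D.neg st.2.1) && known.contains st.2.1 && known.contains st.2.2 &&
  (match (D.commTerms st.2.1 st.2.2).filter (fun c => c.1 == st.1) with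
   | [c] => cs.contains c.2.1 && (c.2.2.1 == 1 || c.2.2.2 == 1)
   | _ => false) &&
  (D.commTerms st.2.1 st.2.2).all (fun c => c.1 == st.1 || zs.contains c.2.1 || known.contains c.1)

/-- a closure certificate: each step is checked against the roots known so far -/
def closChk (D : ChevalleyDatum) (zs cs : List ℤ) : List ℕ → List (ℕ × ℕ × ℕ) → Bool
  | _, [] => true
  | known, st :: rest => stepChk D zs cs known st && closChk D zs cs (st.1 :: known) rest

/-- the roots known after running a certificate -/
def finalKnown (known : List ℕ) (cert : List (ℕ × ℕ × ℕ)) : List ℕ :=
  cert.foldl (fun k st => st.1 :: k) known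

/-- every root is known after running the certificate -/
def coverChk (D : ChevalleyDatum) (known : List ℕ) (cert : List (ℕ × ℕ × ℕ)) : Bool :=
  (List.range D.nroots).all fun s => (finalKnown known cert).contains s

end Cfsg.Agent.Helper11.CG
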