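import Mathlib
import Cfsg.Agent.Lib.Lead.ChevHConjN
import Cfsg.Agent.Lib.Lead.ChevCells
import Cfsg.Agent.Lib.Lead.ChevFactsAll
import Cfsg.Agent.Lib.Lead.ChevHCard
import Cfsg.Agent.Lib.Lead.ChevOrderAll
import Cfsg.Agent.Lib.Lead.TwBase
import Cfsg.Agent.Lib.Lead.TwD4Torus
import Cfsg.Agent.Lib.Helper6.SL2Hom
import Cfsg.Agent.S1080
import Cfsg.Agent.Lib.Helper11.D4TTab

/-!
# S2376: definitions on top of the Lead Chevalley / twisted chain (type `D₄`)
-/

set_option autoImplicit false

namespace Cfsg.Agent.Helper11.D4T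

open Cfsg Cfsg.Lie Cfsg.Agent.Lead.Chev Cfsg.Agent.Lead.Tw

/-- the facts for `D₄` -/
theorem d4F (L : Type*) [Field L] : ChevFacts chevD4 L := chevFacts_of_mem chevD4 (by simp)

theorem d4S : CorSize chevD4 := corSize_of_mem chevD4 (by simp)

theorem d4C : CorComb chevD4 := corComb_of_mem chevD4 (by simp)

/-- the diagonal entry of `g` at the root vector `e_v` -/
def ev {L : Type*} [Field L] (g : GL chevD4.Idx L) (v : ℕ) : L :=
  if h : v < chevD4.nroots then
    (g : Matrix chevD4.Idx chevD4.Idx L) (Sum.inr ⟨v, h⟩) (Sum.inr ⟨v, h⟩)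
  else 1

/-- the word `w` acts on the 24 roots as the list `A` -/
def ActsAs (w A : List ℕ) : Prop := ∀ v < 24, reflWord chevD4 w v = A.getD v 0

/-- the entrywise map of `GL` induced by a ring homomorphism -/
noncomputable abbrev mapGL {K : Type*} [Field K] {L : Type*} [Field L] (ι : K →+* L) :
    GL chevD4.Idx K →* GL chevD4.Idx L := Matrix.GeneralLinearGroup.map ι

/-- the twisting datum of `³D₄` for the field automorphism `f` -/
noncomputable def TL {L : Type*} [Field L] (f : L ≃+* L) : Twist chevD4 L (d4F L).xadd := Cfsg.Agent.Lead.Tw.D4.tw f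

/-- the twisted group over `L` with respect to `f` -/
noncomputable def G1 {L : Type*} [Field L] (f : L ≃+* L) : Subgroup (GL chevD4.Idx L) :=
  orthGroup (d4F L) (TL f) Cfsg.Agent.Lead.Tw.D4.S

/-- `n_c(a) = x_c(a) x_{-c}(-a⁻¹) x_c(a)` for the central node `c = 14` -/
noncomputable def nA {L : Type*} [Field L] (a : L) : GL chevD4.Idx L := nGLt chevD4 (d4F L).xadd 14 a

end Cfsg.Agent.Helper11.D4T
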