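import Mathlib
import Cfsg.Agent.Lib.Helper2.OrthGen

/-!
# Two-generation of the orthogonal groups `Ω`: definitions of the abstract layer (helper11)

`KS H z hz` is the additive group of vectors `b ⊥ z` with `eichG Q z b ∈ H`;
`Perp`, `wpart`: the orthogonal complement of a Witt frame; `leviEnd`: the Levi endomorphisms.
Statements of the abstract layer: `plans/OGSkel.lean.txt`.
-/

set_option autoImplicit false
set_option linter.unusedSectionVars false
set_option linter.unusedVariables false

namespace Cfsg.Agent.Helper11.OG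

open QuadraticMap Matrix Cfsg.Agent.Helper2.Orth Cfsg.Agent.Helper28.WittQuad

variable {F : Type*} [Field F] {ι : Type} [Fintype ι] [DecidableEq ι]
variable {Q : QuadraticForm F (ι → F)}

/-- linearity of the action -/
theorem smul_smul_vec (g : Cfsg.isometryGroup F (⇑Q)) (c : F) (v : ι → F) :
    g • (c • v) = c • (g • v) := by
  rw [smul_def, smul_def, Matrix.mulVec_smul]

theorem smul_add_vec (g : Cfsg.isometryGroup F (⇑Q)) (u v : ι → F) :
    g • (u + v) = g • u + g • v := smul_add' Q g u v

theorem smul_sub_vec (g : Cfsg.isometryGroup F (⇑Q)) (u v : ι → F) :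
    g • (u - v) = g • u - g • v := by
  rw [smul_def, smul_def, smul_def, Matrix.mulVec_sub]

theorem smul_neg_vec (g : Cfsg.isometryGroup F (⇑Q)) (v : ι → F) :
    g • (-v) = -(g • v) := by
  rw [smul_def, smul_def, Matrix.mulVec_neg]

theorem smul_zero_vec (g : Cfsg.isometryGroup F (⇑Q)) : g • (0 : ι → F) = 0 := by
  rw [smul_def, Matrix.mulVec_zero]

theorem smul_sum_vec {α : Type*} (g : Cfsg.isometryGroup F (⇑Q)) (s : Finset α) (v : α → (ι → F)) :
    g • (∑ i ∈ s, v i) = ∑ i ∈ s, g • v i := by
  classical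
  induction s using Finset.induction_on with
  | empty => simp [smul_zero_vec]
  | insert a s ha ih => rw [Finset.sum_insert ha, Finset.sum_insert ha, smul_add_vec, ih]

/-- the action of an Eichler transformation -/
theorem eichG_apply {z b : ι → F} (hz : Q z = 0) (hzb : polar Q z b = 0) (x : ι → F) :
    eichG Q z b • x = x + (polar Q b x • z - polar Q z x • b - Q b • polar Q z x • z) := by
  rw [eichG_smul hz hzb, eich_apply]

/-- an Eichler transformation fixes the vectors orthogonal to `z` and `b` -/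
theorem eichG_fix {z b x : ι → F} (hz : Q z = 0) (hzb : polar Q z b = 0)
    (hzx : polar Q z x = 0) (hbx : polar Q b x = 0) : eichG Q z b • x = x := by
  rw [eichG_apply hz hzb, hzx, hbx]
  simp

section KS

variable (H : Subgroup (Cfsg.isometryGroup F (⇑Q)))

/-- the vectors `b ⊥ z` with `eichG Q z b ∈ H` -/
def KS (z : ι → F) (hz : Q z = 0) : AddSubgroup (ι → F) where
  carrier := {b | polar Q z b = 0 ∧ eichG Q z b ∈ H}
  zero_mem' := ⟨polar_zero_right _ _, by rw [eichG_zero]; exact H.one_mem⟩
  add_mem' := by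
    rintro b b' ⟨h1, h2⟩ ⟨h1', h2'⟩
    refine ⟨by rw [polar_add_right, h1, h1', add_zero], ?_⟩
    rw [← eichG_mul hz h1 h1']
    exact H.mul_mem h2 h2'
  neg_mem' := by
    rintro b ⟨h1, h2⟩
    refine ⟨by rw [polar_neg_right, h1, neg_zero], ?_⟩
    rw [← eichG_inv hz h1]
    exact H.inv_mem h2

variable {H}

theorem mem_KS {z : ι → F} {hz : Q z = 0} {b : ι → F} :
    b ∈ KS H z hz ↔ polar Q z b = 0 ∧ eichG Q z b ∈ H := Iff.rfl

end KS

section frame
variable {r : ℕ} {e f : Fin r → (ι → F)}

/-- `x` is orthogonal to the frame -/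
def Perp (Q : QuadraticForm F (ι → F)) (e f : Fin r → (ι → F)) (x : ι → F) : Prop :=
  ∀ i, polar Q (e i) x = 0 ∧ polar Q (f i) x = 0

/-- the component of `x` orthogonal to the frame -/
def wpart (Q : QuadraticForm F (ι → F)) (e f : Fin r → (ι → F)) (x : ι → F) : ι → F :=
  x - ∑ i, polar Q (f i) x • e i - ∑ i, polar Q (e i) x • f i

theorem decomp (Q : QuadraticForm F (ι → F)) (e f : Fin r → (ι → F)) (x : ι → F) :
    x = ∑ i, polar Q (f i) x • e i + ∑ i, polar Q (e i) x • f i + wpart Q e f x := by
  unfold wpart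
  abel

/-- the Levi endomorphism: `e_j ↦ ∑ A i j • e i`, `f_j ↦ ∑ A' j i • f i`, identity on the
complement of the frame -/
noncomputable def leviEnd (Q : QuadraticForm F (ι → F)) (e f : Fin r → (ι → F))
    (A A' : Matrix (Fin r) (Fin r) F) : Module.End F (ι → F) :=
  LinearMap.id + ∑ j, ((polarBilin Q (f j)).smulRight (∑ i, A i j • e i - e j)
    + (polarBilin Q (e j)).smulRight (∑ i, A' j i • f i - f j))

theorem leviEnd_apply (A A' : Matrix (Fin r) (Fin r) F) (x : ι → F) :
    leviEnd Q e f A A' x = x + ∑ j, (polar Q (f j) x • (∑ i, A i j • e i - e j)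
      + polar Q (e j) x • (∑ i, A' j i • f i - f j)) := by
  simp [leviEnd]

end frame

/-- the Weyl-type element of a short root: `u, v` a hyperbolic pair, `w ⊥ u, v`, `Q w = 1` -/
noncomputable def nW (Q : QuadraticForm F (ι → F)) (u v w : ι → F) (t : F) :
    ↥(Cfsg.isometryGroup F (⇑Q)) :=
  eichG Q u (t • w) * eichG Q v (t⁻¹ • w) * eichG Q u (t • w)

end Cfsg.Agent.Helper11.OG
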