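import Mathlib
import Cfsg.Prelude.Def_ChevAutomorphisms

set_option autoImplicit false

namespace Cfsg.Agent.Helper11

open Cfsg.Lie

/-- Consistency of one chain entry: the successive roots are obtained by adding `r`. -/
def chainEntryOK (D : ChevalleyDatum) (r : ℕ) (prev : ℕ) : List (ℕ × ℤ) → Bool
  | [] => true
  | (u, _) :: rest =>
    (decide (prev < D.nroots)) && (D.chainRoot r prev 1 == some u) && chainEntryOK D r u rest

/-- Consistency of all the chain entries of the root `r`. -/
def chainRootOK (D : ChevalleyDatum) (r : ℕ) : Bool :=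
  (D.chain.getD r #[]).toList.all fun e => chainEntryOK D r e.1 e.2.toList

/-- Consistency of the whole chain table. -/
def chainAllOK (D : ChevalleyDatum) : Bool :=
  (List.range D.nroots).all fun r => chainRootOK D r

theorem chainEntryOK_spec {F : Type*} [Field F] (D : ChevalleyDatum) (χ : ℕ → Fˣ)
    (hχ : D.IsRootCharacter χ) (r : ℕ) (hr : r < D.nroots) :
    ∀ (l : List (ℕ × ℤ)) (prev : ℕ), chainEntryOK D r prev l = true →
      ∀ (idx : ℕ) (u : ℕ) (m : ℤ), l[idx]? = some (u, m) → χ u = χ r ^ (idx + 1) * χ prev := by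
  intro l
  induction l with
  | nil => intro prev _ idx u m h; simp at h
  | cons a rest ih =>
    intro prev hok idx u m h
    obtain ⟨u₁, m₁⟩ := a
    simp only [chainEntryOK, Bool.and_eq_true, decide_eq_true_eq, beq_iff_eq] at hok
    obtain ⟨⟨hprev, hroot⟩, hrest⟩ := hok
    have h1 : χ u₁ = χ r * χ prev := hχ.2 r prev u₁ hr hprev hroot
    cases idx with
    | zero =>
      simp only [List.getElem?_cons_zero, Option.some.injEq, Prod.mk.injEq] at h
      rw [← h.1, h1]; simp
    | succ j =>
      simp only [List.getElem?_cons_succ] at h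
      rw [ih u₁ hrest j u m h, h1]
      rw [pow_succ (χ r) (j + 1)]
      rw [mul_assoc]

theorem mem_chainCoeff {D : ChevalleyDatum} {r s u : ℕ} {km : ℕ × ℤ} (h : km ∈ D.chainCoeff r s u) :
    ∃ e ∈ (D.chain.getD r #[]).toList, e.1 = s ∧ ∃ j, km.1 = j + 1 ∧ e.2.toList[j]? = some (u, km.2) := by
  unfold ChevalleyDatum.chainCoeff at h
  rw [List.mem_flatMap] at h
  obtain ⟨e, he, hkm⟩ := h
  rw [List.mem_filter] at he
  rw [List.mem_map] at hkm
  obtain ⟨q, hq, rfl⟩ := hkm
  rw [List.mem_filter] at hq
  obtain ⟨⟨q1, q2⟩, qi⟩ := q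
  have hq1 := List.mem_zipIdx_iff_getElem?.mp hq.1
  simp only [decide_eq_true_eq] at hq he
  refine ⟨e, he.1, he.2, qi, rfl, ?_⟩
  simp only at hq1 ⊢
  rw [hq1]
  congr 2
  exact hq.2

theorem chainCoeff_char {F : Type*} [Field F] (D : ChevalleyDatum) (hOK : chainAllOK D = true)
    (χ : ℕ → Fˣ) (hχ : D.IsRootCharacter χ) (r : ℕ) (hr : r < D.nroots) (s u : ℕ)
    (km : ℕ × ℤ) (h : km ∈ D.chainCoeff r s u) : χ u = χ r ^ km.1 * χ s := by
  obtain ⟨e, he, hes, j, hj, hget⟩ := mem_chainCoeff h
  unfold chainAllOK at hOK
  rw [List.all_eq_true] at hOK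
  have h1 := hOK r (List.mem_range.mpr hr)
  unfold chainRootOK at h1
  rw [List.all_eq_true] at h1
  have h2 := h1 e he
  rw [hj, ← hes]
  exact chainEntryOK_spec D χ hχ r hr _ _ h2 j u km.2 hget

theorem charDiag_conj_x {F : Type*} [Field F] (D : ChevalleyDatum) (hOK : chainAllOK D = true)
    (χ : ℕ → Fˣ) (hχ : D.IsRootCharacter χ) (r : ℕ) (hr : r < D.nroots) (t : F) :
    D.charDiag F χ * D.x F r t * D.charDiag F (fun s => (χ s)⁻¹) = D.x F r ((χ r : F) * t) := by
  unfold ChevalleyDatum.x
  rw [dif_pos hr, dif_pos hr]
  unfold ChevalleyDatum.charDiag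
  ext row col
  rw [Matrix.mul_diagonal, Matrix.diagonal_mul]
  unfold ChevalleyDatum.xMat
  simp only [Matrix.of_apply]
  rcases col with i | s
  · rcases row with i' | u
    · simp
    · simp only [Sum.elim_inr, Sum.elim_inl, mul_one]
      split_ifs with h
      · rw [h]; ring
      · simp
  · dsimp only
    by_cases hsr : s = ⟨r, hr⟩
    · rw [if_pos hsr, if_pos hsr]
      rcases row with i' | u
      · simp
      · simp only [Sum.elim_inr]
        split_ifs with h
        · rw [h, hsr]; simp
        · simp
    · rw [if_neg hsr, if_neg hsr]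
      by_cases hneg : s.val = D.negIdx.getD r 0
      · rw [if_pos hneg, if_pos hneg]
        have hinv : χ s.val = (χ r)⁻¹ := by
          rw [hneg]; exact hχ.1 r hr
        rcases row with i' | u
        · simp only [Sum.elim_inl, Sum.elim_inr, one_mul, hinv, inv_inv]
          ring
        · simp only [Sum.elim_inr]
          split_ifs with h1 h2
          · rw [h1]; simp
          · rw [h2, hinv]; simp only [inv_inv]; ring
          · simp
      · rw [if_neg hneg, if_neg hneg]
        rcases row with i' | u
        · simp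
        · simp only [Sum.elim_inr]
          rw [mul_add, add_mul]
          congr 1
          · split_ifs with h
            · rw [h]; simp
            · simp
          · rw [← List.sum_map_mul_left, ← List.sum_map_mul_right]
            congr 1
            apply List.map_congr_left
            intro km hkm
            have hc := chainCoeff_char D hOK χ hχ r hr s.val u.val km hkm
            rw [hc]
            simp only [Units.val_mul, Units.val_pow_eq_pow_val, Units.val_inv_eq_inv_val]
            have hne : (χ s.val : F) ≠ 0 := Units.ne_zero _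
            field_simp
            ring

end Cfsg.Agent.Helper11
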