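import Mathlib

/-!
# S3211: definitions and basic lemmas (design: helper11)

Abstract setting: `L ≤ G`, `n ∈ G` with `n * n = z`, `σ = sg n` (conjugation by `n`),
`L` and `σ(L)` commute and meet in `{1, z}`, `C(z) = Lσ(L) ∪ Lσ(L)n`; `z` is the only involution
of `L`; `a ∈ L` with `a * a = z`, the centralizer of `a` in `L` is commutative and all `b ∈ L`
with `b * b = z` are `L`-conjugate to `a`.  See `plans/S3211_plan.md`.
-/

set_option autoImplicit false

namespace Cfsg.Agent.Helper11.S11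

variable {G : Type*} [Group G]

/-- conjugation by `n` -/
def sg (n x : G) : G := n * x * n⁻¹

theorem sg_mul (n x y : G) : sg n (x * y) = sg n x * sg n y := by
  unfold sg; group

theorem sg_inv (n x : G) : sg n x⁻¹ = (sg n x)⁻¹ := by
  unfold sg; group

theorem sg_one (n : G) : sg n 1 = 1 := by
  unfold sg; group

theorem sg_injective (n : G) : Function.Injective (sg n) := by
  intro x y h
  unfold sg at h
  exact mul_left_cancel (mul_right_cancel h)

/-- the abstract hypotheses -/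
structure Hyp (L : Subgroup G) (n z a : G) : Prop where
  z_mem : z ∈ L
  z_ne : z ≠ 1
  z_sq : z * z = 1
  inv_unique : ∀ x ∈ L, x * x = 1 → x = 1 ∨ x = z
  n_sq : n * n = z
  comm : ∀ x ∈ L, ∀ y ∈ L, x * sg n y = sg n y * x
  inter : ∀ x ∈ L, ∀ y ∈ L, x = sg n y → x = 1 ∨ x = z
  cent : ∀ c : G, c * z = z * c → ∃ p ∈ L, ∃ r ∈ L, c = p * sg n r ∨ c = p * sg n r * n
  a_mem : a ∈ L
  a_sq : a * a = z
  cent_comm : ∀ x ∈ L, ∀ y ∈ L, x * a = a * x → y * a = a * y → x * y = y * x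
  conj : ∀ b ∈ L, b * b = z → ∃ s ∈ L, b = s * a * s⁻¹

namespace Hyp

variable {L : Subgroup G} {n z a : G}

theorem z_inv (h : Hyp L n z a) : z⁻¹ = z := inv_eq_of_mul_eq_one_right h.z_sq

theorem z_central (h : Hyp L n z a) (x : G) (hx : x ∈ L) : x * z = z * x := by
  have hw : x * z * x⁻¹ ∈ L := L.mul_mem (L.mul_mem hx h.z_mem) (L.inv_mem hx)
  have hw2 : (x * z * x⁻¹) * (x * z * x⁻¹) = 1 := by
    have : (x * z * x⁻¹) * (x * z * x⁻¹) = x * (z * z) * x⁻¹ := by group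
    rw [this, h.z_sq]; group
  rcases h.inv_unique _ hw hw2 with h1 | h1
  · exfalso
    apply h.z_ne
    have : z = x⁻¹ * (x * z * x⁻¹) * x := by group
    rw [this, h1]; group
  · have : x * z = (x * z * x⁻¹) * x := by group
    rw [this, h1]

theorem n_z (h : Hyp L n z a) : n * z = z * n := by
  rw [← h.n_sq, mul_assoc]

theorem sg_z (h : Hyp L n z a) : sg n z = z := by
  unfold sg
  rw [h.n_z, mul_assoc, mul_inv_cancel, mul_one]

theorem sg_mem_comm (h : Hyp L n z a) (x y : G) (hx : x ∈ L) (hy : y ∈ L) :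
    Commute x (sg n y) := h.comm x hx y hy

theorem sg_sg (h : Hyp L n z a) (x : G) (hx : x ∈ L) : sg n (sg n x) = x := by
  have h1 : sg n (sg n x) = (n * n) * x * (n * n)⁻¹ := by unfold sg; group
  rw [h1, h.n_sq, h.z_inv, ← h.z_central x hx, mul_assoc, h.z_sq, mul_one]

theorem z_sg (h : Hyp L n z a) (r : G) (hr : r ∈ L) : sg n r * z = z * sg n r := by
  have h1 : sg n r * z = sg n (r * z) := by rw [sg_mul, h.sg_z]
  have h2 : z * sg n r = sg n (z * r) := by rw [sg_mul, h.sg_z]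
  rw [h1, h2, h.z_central r hr]

theorem inter' (h : Hyp L n z a) (x y : G) (hx : x ∈ L) (hy : y ∈ L) (hxy : x = sg n y) :
    (x = 1 ∧ y = 1) ∨ (x = z ∧ y = z) := by
  rcases h.inter x hx y hy hxy with h1 | h1
  · left
    refine ⟨h1, ?_⟩
    apply sg_injective n
    rw [← hxy, h1, sg_one]
  · right
    refine ⟨h1, ?_⟩
    apply sg_injective n
    rw [← hxy, h1, h.sg_z]

/-- if `x * σ(y) ∈ {…}` is trivial: `x = σ(y')` with `x, y' ∈ L` forces both in `{1, z}` -/
theorem split_one (h : Hyp L n z a) (x y : G) (hx : x ∈ L) (hy : y ∈ L)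
    (hxy : x * sg n y = 1) : (x = 1 ∧ y = 1) ∨ (x = z ∧ y = z) := by
  have h1 : x = sg n y⁻¹ := by
    rw [sg_inv]
    exact eq_inv_of_mul_eq_one_left hxy
  rcases h.inter' x y⁻¹ hx (L.inv_mem hy) h1 with ⟨h2, h3⟩ | ⟨h2, h3⟩
  · left
    exact ⟨h2, inv_eq_one.mp h3⟩
  · right
    refine ⟨h2, ?_⟩
    have : y = z⁻¹ := by rw [← h3, inv_inv]
    rw [this, h.z_inv]

theorem inner_mul (h : Hyp L n z a) (p r p' r' : G) (hr : r ∈ L) (hp' : p' ∈ L) :
    (p * sg n r) * (p' * sg n r') = (p * p') * sg n (r * r') := by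
  rw [sg_mul]
  have hc : Commute (sg n r) p' := (h.comm p' hp' r hr).symm
  exact hc.mul_mul_mul_comm p (sg n r')

theorem inner_sq (h : Hyp L n z a) (p r : G) (hp : p ∈ L) (hr : r ∈ L) :
    (p * sg n r) * (p * sg n r) = (p * p) * sg n (r * r) :=
  h.inner_mul p r p r hr hp

theorem inner_inv (h : Hyp L n z a) (p r : G) (hp : p ∈ L) (hr : r ∈ L) :
    (p * sg n r)⁻¹ = p⁻¹ * sg n r⁻¹ := by
  apply inv_eq_of_mul_eq_one_right
  rw [h.inner_mul p r p⁻¹ r⁻¹ hr (L.inv_mem hp), mul_inv_cancel, mul_inv_cancel, sg_one, mul_one]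

/-- `n * (p * σ(r)) = (r * σ(p)) * n` -/
theorem n_mul_inner (h : Hyp L n z a) (p r : G) (hp : p ∈ L) (hr : r ∈ L) :
    n * (p * sg n r) = (r * sg n p) * n := by
  have h1 : n * (p * sg n r) = sg n p * sg n (sg n r) * n := by unfold sg; group
  rw [h1, h.sg_sg r hr, (h.comm r hr p hp)]

theorem outer_sq (h : Hyp L n z a) (p r : G) (hp : p ∈ L) (hr : r ∈ L) :
    (p * sg n r * n) * (p * sg n r * n) = (p * r) * sg n (r * p) * z := by
  have h1 : (p * sg n r * n) * (p * sg n r * n) = (p * sg n r) * (n * (p * sg n r)) * n := by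
    group
  rw [h1, h.n_mul_inner p r hp hr, ← mul_assoc, h.inner_mul p r r p hr hr, mul_assoc, h.n_sq]

/-- conjugation of an inner element by an inner element -/
theorem inner_conj (h : Hyp L n z a) (p r x y : G) (hp : p ∈ L) (hr : r ∈ L) (hx : x ∈ L)
    (hy : y ∈ L) :
    (p * sg n r) * (x * sg n y) * (p * sg n r)⁻¹ = (p * x * p⁻¹) * sg n (r * y * r⁻¹) := by
  rw [h.inner_inv p r hp hr, h.inner_mul p r x y hr hx,
    h.inner_mul (p * x) (r * y) p⁻¹ r⁻¹ (L.mul_mem hr hy) (L.inv_mem hp)]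

/-- conjugation of an inner element by `n` -/
theorem n_conj (h : Hyp L n z a) (x y : G) (hx : x ∈ L) (hy : y ∈ L) :
    n * (x * sg n y) * n⁻¹ = y * sg n x := by
  rw [h.n_mul_inner x y hx hy, mul_assoc, mul_inv_cancel, mul_one]

/-- conjugation of an inner element by an outer element -/
theorem outer_conj (h : Hyp L n z a) (p r x y : G) (hp : p ∈ L) (hr : r ∈ L) (hx : x ∈ L)
    (hy : y ∈ L) :
    (p * sg n r * n) * (x * sg n y) * (p * sg n r * n)⁻¹ =
      (p * y * p⁻¹) * sg n (r * x * r⁻¹) := by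
  have h1 : (p * sg n r * n) * (x * sg n y) * (p * sg n r * n)⁻¹ =
      (p * sg n r) * (n * (x * sg n y) * n⁻¹) * (p * sg n r)⁻¹ := by group
  rw [h1, h.n_conj x y hx hy, h.inner_conj p r y x hp hr hy hx]

/-- uniqueness of the decomposition `x * σ(y)` up to `(z, z)` -/
theorem split (h : Hyp L n z a) (x y x' y' : G) (hx : x ∈ L) (hy : y ∈ L) (hx' : x' ∈ L)
    (hy' : y' ∈ L) (he : x * sg n y = x' * sg n y') :
    (x = x' ∧ y = y') ∨ (x = z * x' ∧ y = z * y') := by
  have h1 : (x'⁻¹ * x) * sg n (y * y'⁻¹) = 1 := by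
    have : (x'⁻¹ * x) * sg n (y * y'⁻¹) = x'⁻¹ * (x * sg n y) * sg n y'⁻¹ := by
      rw [sg_mul]; group
    rw [this, he, sg_inv]; group
  rcases h.split_one _ _ (L.mul_mem (L.inv_mem hx') hx) (L.mul_mem hy (L.inv_mem hy')) h1 with
    ⟨h2, h3⟩ | ⟨h2, h3⟩
  · left
    constructor
    · have : x = x' * (x'⁻¹ * x) := by group
      rw [this, h2, mul_one]
    · have : y = (y * y'⁻¹) * y' := by group
      rw [this, h3, one_mul]
  · right
    constructor
    · have : x = x' * (x'⁻¹ * x) := by group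
      rw [this, h2, h.z_central x' hx']
    · have : y = (y * y'⁻¹) * y' := by group
      rw [this, h3]

theorem a_ne_one (h : Hyp L n z a) : a ≠ 1 := by
  intro ha
  apply h.z_ne
  rw [← h.a_sq, ha, mul_one]

theorem a_ne_z (h : Hyp L n z a) : a ≠ z := by
  intro ha
  apply h.z_ne
  have : z * z = z := by
    conv_rhs => rw [← h.a_sq]
    rw [ha]
  rw [h.z_sq] at this
  exact this.symm

theorem a_inv (h : Hyp L n z a) : a⁻¹ = z * a := by
  apply inv_eq_of_mul_eq_one_right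
  rw [← h.z_central a h.a_mem, ← mul_assoc, h.a_sq, h.z_sq]

theorem sg_a_not_mem (h : Hyp L n z a) : sg n a ∉ L := by
  intro hm
  rcases h.inter' (sg n a) a hm h.a_mem rfl with ⟨-, h2⟩ | ⟨-, h2⟩
  · exact h.a_ne_one h2
  · exact h.a_ne_z h2

/-- `n` is not an inner element -/
theorem n_not_inner (h : Hyp L n z a) (p r : G) (hp : p ∈ L) (hr : r ∈ L) :
    n ≠ p * sg n r := by
  intro hn
  apply h.sg_a_not_mem
  have h1 : sg n a = (p * sg n r) * (a * sg n 1) * (p * sg n r)⁻¹ := by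
    rw [sg_one, mul_one, ← hn]; rfl
  rw [h1, h.inner_conj p r a 1 hp hr h.a_mem L.one_mem]
  have : r * 1 * r⁻¹ = 1 := by group
  rw [this, sg_one, mul_one]
  exact L.mul_mem (L.mul_mem hp h.a_mem) (L.inv_mem hp)

/-- an outer element is not inner -/
theorem outer_ne_inner (h : Hyp L n z a) (p r p' r' : G) (hp : p ∈ L) (hr : r ∈ L)
    (hp' : p' ∈ L) (hr' : r' ∈ L) : p * sg n r * n ≠ p' * sg n r' := by
  intro he
  have h1 : n = (p * sg n r)⁻¹ * (p' * sg n r') := by rw [← he]; group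
  rw [h.inner_inv p r hp hr, h.inner_mul p⁻¹ r⁻¹ p' r' (L.inv_mem hr) hp'] at h1
  exact h.n_not_inner _ _ (L.mul_mem (L.inv_mem hp) hp') (L.mul_mem (L.inv_mem hr) hr') h1

end Hyp

end Cfsg.Agent.Helper11.S11
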