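import Mathlib
import Cfsg.Agent.Lib.Helper11.CGDefs

/-!
# Two-generation of the Chevalley groups (S2405): basic lemmas
-/

set_option autoImplicit false

namespace Cfsg.Agent.Helper11.CG

open Cfsg Cfsg.Lie Cfsg.Agent.Lead.Chev

variable {F : Type*} [Field F]

theorem cgbase_hGLt_val (D : ChevalleyDatum) (hFc : ChevFacts D F) (i : ℕ) (hi : i < D.rank) (c : F)
    (hc : c ≠ 0) :
    ((hGLt D hFc.xadd (D.simple i) c : GL D.Idx F) : Matrix D.Idx D.Idx F) =
      Matrix.diagonal (Sum.elim (fun _ => (1 : F)) (fun s : Fin D.nroots => c ^ (D.cartan i s))) := by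
  rw [hGLt_val]
  exact hFc.hsimple i hi c hc

/-- `h_{p_i}(c) x_s(t) h_{p_i}(c)⁻¹ = x_s(c ^ A_{p_i,s} t)` -/
theorem hGLt_conj (D : ChevalleyDatum) (hFc : ChevFacts D F) (i : ℕ) (hi : i < D.rank) (s : ℕ)
    (hs : s < D.nroots) (c : F) (hc : c ≠ 0) (t : F) :
    hGLt D hFc.xadd (D.simple i) c * xGL D hFc.xadd s t * (hGLt D hFc.xadd (D.simple i) c)⁻¹ =
      xGL D hFc.xadd s (c ^ (D.cartan i s) * t) := by
  have key : hGLt D hFc.xadd (D.simple i) c * xGL D hFc.xadd s t =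
      xGL D hFc.xadd s (c ^ (D.cartan i s) * t) * hGLt D hFc.xadd (D.simple i) c := by
    apply Units.ext
    rw [Units.val_mul, Units.val_mul, cgbase_hGLt_val D hFc i hi c hc, xGL_val, xGL_val]
    exact hFc.hconj i hi s hs c hc t
  rw [key, mul_inv_cancel_right]

/-- `h_{p_i}(c) ^ n = 1` when `c ^ n = 1` -/
theorem hGLt_pow_eq_one (D : ChevalleyDatum) (hFc : ChevFacts D F) (i : ℕ) (hi : i < D.rank) (c : F)
    (hc : c ≠ 0) (n : ℕ) (hn : c ^ n = 1) : hGLt D hFc.xadd (D.simple i) c ^ n = 1 := by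
  apply Units.ext
  rw [Units.val_pow_eq_pow_val, cgbase_hGLt_val D hFc i hi c hc, Matrix.diagonal_pow, Units.val_one,
    ← Matrix.diagonal_one]
  congr 1
  funext idx
  rcases idx with j | v
  · simp
  · simp only [Pi.pow_apply, Sum.elim_inr, Pi.one_apply]
    rw [← zpow_natCast, ← zpow_mul, mul_comm, zpow_mul, zpow_natCast, hn, one_zpow]

theorem xGL_pow (D : ChevalleyDatum) (hX : XAdd D F) (r : ℕ) (t : F) (n : ℕ) :
    xGL D hX r t ^ n = xGL D hX r ((n : F) * t) := by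
  induction n with
  | zero => rw [pow_zero, Nat.cast_zero, zero_mul, xGL_zero]
  | succ n ih =>
    rw [pow_succ, ih, xGL_mul]
    congr 1
    push_cast
    ring

theorem iter_lt (D : ChevalleyDatum) (hFc : ChevFacts D F) (w : List ℕ) (hw : ∀ i ∈ w, i < D.rank)
    (i s : ℕ) (hs : s < D.nroots) : iter D w i s < D.nroots := by
  induction i with
  | zero => exact hs
  | succ i ih =>
    exact reflWord_lt D (etaOf D) (fun i hi => hFc.facts i hi) w hw _ ih

theorem iter_add (D : ChevalleyDatum) (w : List ℕ) (i j s : ℕ) :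
    iter D w (i + j) s = iter D w i (iter D w j s) := by
  induction i with
  | zero => rw [Nat.zero_add]; rfl
  | succ i ih =>
    rw [Nat.succ_add]
    show reflWord D w (iter D w (i + j) s) = reflWord D w (iter D w i (iter D w j s))
    rw [ih]

theorem cgbase_sign (D : ChevalleyDatum) (hFc : ChevFacts D F) (w : List ℕ)
    (hw : ∀ i ∈ w, i < D.rank) (s : ℕ) :
    signWord D (etaOf D) w s = 1 ∨ signWord D (etaOf D) w s = -1 :=
  signWord_sq D (etaOf D) w (fun i hi s => (hFc.nsimple i (hw i hi)).sign s) s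

/-- one step of conjugation by `n_w` -/
theorem cgbase_conj_step (D : ChevalleyDatum) (hFc : ChevFacts D F) (K : Subgroup (GL D.Idx F))
    (w : List ℕ) (hw : ∀ i ∈ w, i < D.rank) (hn : nWordGL D hFc.xadd w ∈ K) (s : ℕ)
    (hs : s < D.nroots) (t : F) (h : xGL D hFc.xadd s t ∈ K) :
    xGL D hFc.xadd (reflWord D w s) (((signWord D (etaOf D) w s : ℤ) : F) * t) ∈ K := by
  rw [← nWordGL_conj D hFc.xadd (etaOf D) hFc.nsimple w hw s hs t]
  exact mul_mem (mul_mem hn h) (inv_mem hn)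

/-- conjugating by `n_w ^ i`: a root element goes to a root element of the root `iter D w i s`,
with a sign -/
theorem one_iter (D : ChevalleyDatum) (hFc : ChevFacts D F) (K : Subgroup (GL D.Idx F)) (w : List ℕ)
    (hw : ∀ i ∈ w, i < D.rank) (hn : nWordGL D hFc.xadd w ∈ K) (i s : ℕ) (hs : s < D.nroots) (t : F)
    (h : xGL D hFc.xadd s t ∈ K) :
    ∃ ε : F, (ε = 1 ∨ ε = -1) ∧ xGL D hFc.xadd (iter D w i s) (ε * t) ∈ K := by
  induction i with
  | zero => exact ⟨1, Or.inl rfl, by rw [one_mul]; exact h⟩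
  | succ i ih =>
    obtain ⟨ε, hε, hmem⟩ := ih
    have h1 := cgbase_conj_step D hFc K w hw hn _ (iter_lt D hFc w hw i s hs) _ hmem
    refine ⟨((signWord D (etaOf D) w (iter D w i s) : ℤ) : F) * ε, ?_, ?_⟩
    · rcases cgbase_sign D hFc w hw (iter D w i s) with h2 | h2 <;> rcases hε with h3 | h3 <;>
        rw [h2, h3] <;> simp
    · rw [mul_assoc]
      exact h1

theorem full_iter (D : ChevalleyDatum) (hFc : ChevFacts D F) (K : Subgroup (GL D.Idx F)) (w : List ℕ)
    (hw : ∀ i ∈ w, i < D.rank) (hn : nWordGL D hFc.xadd w ∈ K) (i s : ℕ) (hs : s < D.nroots)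
    (h : Full D hFc.xadd K s) : Full D hFc.xadd K (iter D w i s) := by
  induction i with
  | zero => exact h
  | succ i ih =>
    intro v
    have h1 := cgbase_conj_step D hFc K w hw hn _ (iter_lt D hFc w hw i s hs)
      (((signWord D (etaOf D) w (iter D w i s) : ℤ) : F) * v) (ih _)
    have e : ((signWord D (etaOf D) w (iter D w i s) : ℤ) : F) *
        (((signWord D (etaOf D) w (iter D w i s) : ℤ) : F) * v) = v := by
      rcases cgbase_sign D hFc w hw (iter D w i s) with h2 | h2 <;> rw [h2] <;> simp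
    rw [e] at h1
    exact h1

theorem cgbase_iter_mul (D : ChevalleyDatum) (w : List ℕ) (r N : ℕ) (hper : iter D w N r = r)
    (c : ℕ) : iter D w (N * c) r = r := by
  induction c with
  | zero => rfl
  | succ c ih => rw [Nat.mul_succ, Nat.add_comm, iter_add, ih, hper]

/-- if the orbit is periodic, fullness at one member gives fullness at all members -/
theorem full_orbit (D : ChevalleyDatum) (hFc : ChevFacts D F) (K : Subgroup (GL D.Idx F)) (w : List ℕ)
    (hw : ∀ i ∈ w, i < D.rank) (hn : nWordGL D hFc.xadd w ∈ K) (r N i0 : ℕ) (hr : r < D.nroots)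
    (hper : iter D w N r = r) (h : Full D hFc.xadd K (iter D w i0 r)) :
    ∀ s ∈ orbitList D w r N, Full D hFc.xadd K s := by
  intro s hs
  unfold orbitList at hs
  rw [List.mem_map] at hs
  obtain ⟨i, hi, rfl⟩ := hs
  rw [List.mem_range] at hi
  have hN : 1 ≤ N := by omega
  have h1 := full_iter D hFc K w hw hn (i + (N - 1) * i0) _ (iter_lt D hFc w hw i0 r hr) h
  rw [← iter_add] at h1
  have e : i + (N - 1) * i0 + i0 = i + N * i0 := by
    have : (N - 1) * i0 + i0 = N * i0 := by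
      conv_rhs => rw [show N = (N - 1) + 1 by omega]
      rw [Nat.add_mul, Nat.one_mul]
    omega
  rw [e, iter_add, cgbase_iter_mul D w r N hper] at h1
  exact h1

theorem cgbase_torus_pow (D : ChevalleyDatum) (hFc : ChevFacts D F) (K : Subgroup (GL D.Idx F)) (j : ℕ)
    (hj : j < D.rank) (k : F) (hk : k ≠ 0) (hh : hGLt D hFc.xadd (D.simple j) k ∈ K) (s : ℕ)
    (hs : s < D.nroots) (t₀ : F) (hx : xGL D hFc.xadd s t₀ ∈ K) (m : ℕ) :
    xGL D hFc.xadd s ((k ^ (D.cartan j s)) ^ m * t₀) ∈ K := by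
  induction m with
  | zero => rw [pow_zero, one_mul]; exact hx
  | succ m ih =>
    have h1 := mul_mem (mul_mem hh ih) (inv_mem hh)
    rw [hGLt_conj D hFc j hj s hs k hk] at h1
    rw [pow_succ, mul_comm ((k ^ (D.cartan j s)) ^ m), mul_assoc]
    exact h1

/-- filling a root subgroup with a torus element: `h_{p_j}(k) ∈ K`, `x_s(t₀) ∈ K` with `t₀ ≠ 0`, and
the powers of `k ^ A_{p_j,s}` exhaust the non-zero elements of the field -/
theorem full_of_torus (D : ChevalleyDatum) (hFc : ChevFacts D F) (K : Subgroup (GL D.Idx F)) (j : ℕ)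
    (hj : j < D.rank) (k : F) (hk : k ≠ 0) (hh : hGLt D hFc.xadd (D.simple j) k ∈ K) (s : ℕ)
    (hs : s < D.nroots) (t₀ : F) (ht₀ : t₀ ≠ 0) (hx : xGL D hFc.xadd s t₀ ∈ K)
    (hgen : ∀ v : F, v ≠ 0 → ∃ m : ℕ, v = (k ^ (D.cartan j s)) ^ m) : Full D hFc.xadd K s := by
  intro v
  by_cases hv : v = 0
  · rw [hv, xGL_zero]
    exact one_mem _
  · obtain ⟨m, hm⟩ := hgen (v / t₀) (div_ne_zero hv ht₀)
    have h1 := cgbase_torus_pow D hFc K j hj k hk hh s hs t₀ hx m
    rw [← hm, div_mul_cancel₀ v ht₀] at h1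
    exact h1

/-- a generator of the multiplicative group of a finite field -/
theorem exists_gen [Finite F] : ∃ k : F, k ≠ 0 ∧ (∀ v : F, v ≠ 0 → ∃ m : ℕ, v = k ^ m) ∧
    k ^ (Nat.card F - 1) = 1 := by
  haveI : Fintype F := Fintype.ofFinite F
  obtain ⟨g, hg⟩ := IsCyclic.exists_generator (α := Fˣ)
  refine ⟨(g : F), g.ne_zero, ?_, ?_⟩
  · intro v hv
    have h1 : Units.mk0 v hv ∈ Subgroup.zpowers g := hg _
    have h2 : Units.mk0 v hv ∈ Submonoid.powers g :=
      (isOfFinOrder_of_finite g).mem_powers_iff_mem_zpowers.2 h1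
    obtain ⟨m, hm⟩ := h2
    refine ⟨m, ?_⟩
    have := congrArg (fun u : Fˣ => (u : F)) hm
    simp only [Units.val_pow_eq_pow_val, Units.val_mk0] at this
    exact this.symm
  · rw [Nat.card_eq_fintype_card]
    exact FiniteField.pow_card_sub_one_eq_one _ g.ne_zero

/-- the powers of `k ^ c` exhaust `F \ {0}` for `c = ± 1`, and for `c = ± 2` in characteristic 2 -/
theorem gen_zpow [Finite F] (k : F) (hk : k ≠ 0) (hgen : ∀ v : F, v ≠ 0 → ∃ m : ℕ, v = k ^ m)
    (c : ℤ) (hc : c = 1 ∨ c = -1 ∨ ((2 : F) = 0 ∧ (c = 2 ∨ c = -2))) :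
    ∀ v : F, v ≠ 0 → ∃ m : ℕ, v = (k ^ c) ^ m := by
  have hinv : ∀ e : ℤ, (∀ v : F, v ≠ 0 → ∃ m : ℕ, v = (k ^ e) ^ m) →
      ∀ v : F, v ≠ 0 → ∃ m : ℕ, v = (k ^ (-e)) ^ m := by
    intro e he v hv
    obtain ⟨m, hm⟩ := he v⁻¹ (inv_ne_zero hv)
    refine ⟨m, ?_⟩
    rw [zpow_neg, inv_pow, ← hm, inv_inv]
  have h1 : ∀ v : F, v ≠ 0 → ∃ m : ℕ, v = (k ^ (1 : ℤ)) ^ m := by
    intro v hv
    obtain ⟨m, hm⟩ := hgen v hv
    exact ⟨m, by rw [zpow_one]; exact hm⟩
  have h2 : (2 : F) = 0 → ∀ v : F, v ≠ 0 → ∃ m : ℕ, v = (k ^ (2 : ℤ)) ^ m := by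
    intro h20 v hv
    have hinj : Function.Injective (fun x : F => x ^ 2) := by
      intro x y hxy
      simp only at hxy
      have h3 : (x - y) ^ 2 = 0 := by
        have : (x - y) ^ 2 = x ^ 2 - y ^ 2 - (2 : F) * (x * y) + (2 : F) * y ^ 2 := by ring
        rw [this, h20, hxy]
        ring
      exact sub_eq_zero.1 (pow_eq_zero_iff (two_ne_zero) |>.1 h3)
    obtain ⟨u, hu⟩ := (Finite.injective_iff_surjective.1 hinj) v
    simp only at hu
    have hu0 : u ≠ 0 := by
      rintro rfl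
      apply hv
      rw [← hu]
      simp
    obtain ⟨m, hm⟩ := hgen u hu0
    refine ⟨m, ?_⟩
    rw [← hu, hm, zpow_ofNat, ← pow_mul, ← pow_mul, mul_comm]
  rcases hc with rfl | rfl | ⟨h20, rfl | rfl⟩
  · exact h1
  · exact hinv 1 h1
  · exact h2 h20
  · exact hinv 2 (h2 h20)

theorem cast_card_sub_one [Finite F] : ((Nat.card F - 1 : ℕ) : F) = -1 := by
  haveI : Fintype F := Fintype.ofFinite F
  have h1 : 1 ≤ Nat.card F := Nat.one_le_iff_ne_zero.2 Nat.card_pos.ne'
  rw [Nat.cast_sub h1, Nat.card_eq_fintype_card, FiniteField.cast_card_eq_zero, Nat.cast_one,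
    zero_sub]

/-- extracting commuting factors: `x ^ n = x⁻¹`, `h ^ n = 1` -/
theorem mem_of_commute_pow {G : Type*} [Group G] (K : Subgroup G) (x h : G) (hc : Commute x h)
    (n : ℕ) (hx : x ^ n = x⁻¹) (hh : h ^ n = 1) (hK : x * h ∈ K) : x ∈ K ∧ h ∈ K := by
  have h1 : (x * h) ^ n ∈ K := pow_mem hK n
  rw [hc.mul_pow, hx, hh, mul_one] at h1
  have h2 : x ∈ K := by
    have := inv_mem h1
    rwa [inv_inv] at this
  refine ⟨h2, ?_⟩
  have h3 := mul_mem h1 hK
  rwa [inv_mul_cancel_left] at h3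

/-- the generators in the subtype -/
theorem closure_subtype_eq_top (D : ChevalleyDatum) (a b : GL D.Idx F) (ha : a ∈ D.group F)
    (hb : b ∈ D.group F) (h : D.group F ≤ Subgroup.closure {a, b}) :
    Subgroup.closure ({⟨a, ha⟩, ⟨b, hb⟩} : Set ↥(D.group F)) = ⊤ := by
  rw [eq_top_iff]
  intro g _
  have hg : (g : GL D.Idx F) ∈ Subgroup.closure {a, b} := h g.2
  have e : (Subgroup.closure ({⟨a, ha⟩, ⟨b, hb⟩} : Set ↥(D.group F))).map (D.group F).subtype =
      Subgroup.closure {a, b} := by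
    rw [MonoidHom.map_closure]
    congr 1
    ext x
    simp only [Set.image_insert_eq, Set.image_singleton, Subgroup.coe_subtype]
  rw [← e] at hg
  obtain ⟨g', hg', hgg'⟩ := hg
  have e2 : g' = g := Subtype.ext hgg'
  rw [← e2]
  exact hg'

end Cfsg.Agent.Helper11.CG
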