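import Mathlib
import Cfsg.Agent.Lib.Helper11.CGBase
import Cfsg.Agent.Lib.Lead.TwBase

/-!
# Two-generation of the twisted groups (S2406, S2407): class elements and basic lemmas

For a twisting datum `T` (`σ (x_r(t)) = x_{ρ r}(c_r t)`) the element
`yC n g = g · σ g · … · σ^{n-1} g`; for `g = x_r(t)` with the roots `r, ρ r, …` pairwise
orthogonal this is the class element of the class of `r`.  Conjugation by a `σ`-fixed element
commutes with `yC n`, which makes all sign conventions irrelevant.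
-/

set_option autoImplicit false

namespace Cfsg.Agent.Helper11.TG

open Cfsg Cfsg.Lie Cfsg.Agent.Lead.Chev Cfsg.Agent.Lead.Tw Cfsg.Agent.Helper11.CG

variable {K : Type*} [Field K] {D : ChevalleyDatum} (hF : ChevFacts D K) (T : Twist D K hF.xadd)

/-- `g · σ g · … · σ^{n-1} g` -/
def yC (n : ℕ) (g : GL D.Idx K) : GL D.Idx K := ((List.range n).map fun i => T.σ^[i] g).prod

theorem yC_two (g : GL D.Idx K) : yC hF T 2 g = g * T.σ g := by
  simp [yC, List.range_succ]

theorem yC_three (g : GL D.Idx K) : yC hF T 3 g = g * T.σ g * T.σ (T.σ g) := by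
  simp [yC, List.range_succ, mul_assoc]

include hF in
theorem iterate_mem_group (g : GL D.Idx K) (hg : g ∈ D.group K) (i : ℕ) : T.σ^[i] g ∈ D.group K := by
  induction i with
  | zero => exact hg
  | succ i ih =>
    rw [Function.iterate_succ_apply']
    exact T.map_mem_group hF _ ih

include hF in
/-- `σ` commutes with conjugation by a `σ`-fixed element -/
theorem map_conj (m g : GL D.Idx K) (hm : m ∈ D.group K) (hg : g ∈ D.group K) (hfix : T.σ m = m) :
    T.σ (m * g * m⁻¹) = m * T.σ g * m⁻¹ := by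
  rw [T.map_mul _ _ (mul_mem hm hg) (inv_mem hm), T.map_mul _ _ hm hg, T.map_inv hF _ hm, hfix]

include hF in
theorem iterate_conj (m g : GL D.Idx K) (hm : m ∈ D.group K) (hg : g ∈ D.group K) (hfix : T.σ m = m)
    (i : ℕ) : T.σ^[i] (m * g * m⁻¹) = m * T.σ^[i] g * m⁻¹ := by
  induction i with
  | zero => rfl
  | succ i ih =>
    rw [Function.iterate_succ_apply', Function.iterate_succ_apply', ih,
      map_conj hF T m _ hm (iterate_mem_group hF T g hg i) hfix]

theorem list_prod_conj {G : Type*} [Group G] (m : G) (l : List G) :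
    m * l.prod * m⁻¹ = (l.map fun x => m * x * m⁻¹).prod := by
  induction l with
  | nil => simp
  | cons a l ih =>
    rw [List.prod_cons, List.map_cons, List.prod_cons, ← ih]
    group

/-- conjugation by a `σ`-fixed element of the Chevalley group commutes with `yC n` -/
theorem yC_conj (n : ℕ) (m g : GL D.Idx K) (hm : m ∈ D.group K) (hg : g ∈ D.group K)
    (hfix : T.σ m = m) : m * yC hF T n g * m⁻¹ = yC hF T n (m * g * m⁻¹) := by
  unfold yC
  rw [list_prod_conj, List.map_map]
  congr 1
  apply List.map_congr_left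
  intro i _
  exact (iterate_conj hF T m g hm hg hfix i).symm

/-- every class element of the class of `r` lies in `H` -/
def FullS (n : ℕ) (H : Subgroup (GL D.Idx K)) (r : ℕ) : Prop :=
  ∀ t : K, yC hF T n (xGL D hF.xadd r t) ∈ H

/-- every `σ`-fixed element of the root subgroup `X_r` lies in `H` -/
def FullL (H : Subgroup (GL D.Idx K)) (r : ℕ) : Prop :=
  ∀ t : K, T.σ (xGL D hF.xadd r t) = xGL D hF.xadd r t → xGL D hF.xadd r t ∈ H

include hF in
theorem tg_sign_mul (w : List ℕ) (hw : ∀ i ∈ w, i < D.rank) (s : ℕ) (v : K) :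
    ((signWord D (etaOf D) w s : ℤ) : K) * (((signWord D (etaOf D) w s : ℤ) : K) * v) = v := by
  rcases cgbase_sign D hF w hw s with h2 | h2 <;> rw [h2] <;> simp

/-- `FullS` moves along a `σ`-fixed `n_w ∈ H` -/
theorem fullS_refl (n : ℕ) (H : Subgroup (GL D.Idx K)) (w : List ℕ) (hw : ∀ i ∈ w, i < D.rank)
    (hn : nWordGL D hF.xadd w ∈ H) (hfix : T.σ (nWordGL D hF.xadd w) = nWordGL D hF.xadd w)
    (r : ℕ) (hr : r < D.nroots) (h : FullS hF T n H r) : FullS hF T n H (reflWord D w r) := by
  intro v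
  have h1 := mul_mem (mul_mem hn (h (((signWord D (etaOf D) w r : ℤ) : K) * v))) (inv_mem hn)
  rw [yC_conj hF T n _ _ (nWordGL_mem_group D hF.xadd w) (xGL_mem_group D hF.xadd _ _) hfix,
    nWordGL_conj D hF.xadd (etaOf D) hF.nsimple w hw r hr, tg_sign_mul hF w hw] at h1
  exact h1

/-- `FullL` moves along a `σ`-fixed `n_w ∈ H` -/
theorem fullL_refl (H : Subgroup (GL D.Idx K)) (w : List ℕ) (hw : ∀ i ∈ w, i < D.rank)
    (hn : nWordGL D hF.xadd w ∈ H) (hfix : T.σ (nWordGL D hF.xadd w) = nWordGL D hF.xadd w)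
    (r : ℕ) (hr : r < D.nroots) (h : FullL hF T H r) : FullL hF T H (reflWord D w r) := by
  intro v hv
  have e := nWordGL_conj D hF.xadd (etaOf D) hF.nsimple w hw r hr
    (((signWord D (etaOf D) w r : ℤ) : K) * v)
  rw [tg_sign_mul hF w hw] at e
  have hg := xGL_mem_group D hF.xadd r (((signWord D (etaOf D) w r : ℤ) : K) * v)
  have hm := nWordGL_mem_group D hF.xadd w
  have hfixg : T.σ (xGL D hF.xadd r (((signWord D (etaOf D) w r : ℤ) : K) * v)) =
      xGL D hF.xadd r (((signWord D (etaOf D) w r : ℤ) : K) * v) := by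
    have h2 := map_conj hF T _ _ hm hg hfix
    rw [e, hv, ← e] at h2
    have h3 : ∀ a b : GL D.Idx K, nWordGL D hF.xadd w * a * (nWordGL D hF.xadd w)⁻¹ =
        nWordGL D hF.xadd w * b * (nWordGL D hF.xadd w)⁻¹ → a = b := by
      intro a b hab
      have := congrArg (fun x => (nWordGL D hF.xadd w)⁻¹ * x * nWordGL D hF.xadd w) hab
      simpa [mul_assoc] using this
    exact (h3 _ _ h2).symm
  have h1 := mul_mem (mul_mem hn (h _ hfixg)) (inv_mem hn)
  rw [e] at h1
  exact h1

theorem fullS_iter (n : ℕ) (H : Subgroup (GL D.Idx K)) (w : List ℕ) (hw : ∀ i ∈ w, i < D.rank)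
    (hn : nWordGL D hF.xadd w ∈ H) (hfix : T.σ (nWordGL D hF.xadd w) = nWordGL D hF.xadd w)
    (i r : ℕ) (hr : r < D.nroots) (h : FullS hF T n H r) : FullS hF T n H (iter D w i r) := by
  induction i with
  | zero => exact h
  | succ i ih => exact fullS_refl hF T n H w hw hn hfix _ (iter_lt D hF w hw i r hr) ih

theorem fullL_iter (H : Subgroup (GL D.Idx K)) (w : List ℕ) (hw : ∀ i ∈ w, i < D.rank)
    (hn : nWordGL D hF.xadd w ∈ H) (hfix : T.σ (nWordGL D hF.xadd w) = nWordGL D hF.xadd w)
    (i r : ℕ) (hr : r < D.nroots) (h : FullL hF T H r) : FullL hF T H (iter D w i r) := by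
  induction i with
  | zero => exact h
  | succ i ih => exact fullL_refl hF T H w hw hn hfix _ (iter_lt D hF w hw i r hr) ih

end Cfsg.Agent.Helper11.TG
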