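import Mathlib

/-!
Combinatorics of three-cycles used for the automorphisms of the alternating groups: two
three-cycles whose product is an involution have a common edge, and a family of three-cycles with
pairwise involutory products has an edge common to all its members.
-/

set_option autoImplicit false

namespace Cfsg.Agent.Helper11.AutAlt

open Equiv Equiv.Perm

variable {α : Type*} [Fintype α] [DecidableEq α]

theorem cube_apply {t : Perm α} (ht : t.IsThreeCycle) (x : α) : t (t (t x)) = x := by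
  have h : t ^ 3 = 1 := by rw [← ht.orderOf]; exact pow_orderOf_eq_one t
  have := congrArg (fun f : Perm α => f x) h
  simpa [pow_succ] using this

theorem apply_apply_ne {t : Perm α} (ht : t.IsThreeCycle) {x : α} (hx : t x ≠ x) :
    t (t x) ≠ x := by
  intro h
  have h3 := cube_apply ht x
  rw [h] at h3
  exact hx h3

omit [Fintype α] [DecidableEq α] in
theorem apply_apply_ne' {t : Perm α} {x : α} (hx : t x ≠ x) : t (t x) ≠ t x := by
  intro h
  exact hx (t.injective h)

/-- a moved point lies in the cycle through any other moved point -/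
theorem mem_cycle {t : Perm α} (ht : t.IsThreeCycle) {x z : α} (hx : t x ≠ x) (hz : t z ≠ z) :
    z = x ∨ z = t x ∨ z = t (t x) := by
  have hs := ht.support_eq_iff_mem_support.2 (Perm.mem_support.2 hx)
  have hz' : z ∈ t.support := Perm.mem_support.2 hz
  rw [hs] at hz'
  simpa using hz'

/-- a three-cycle is determined by one of its edges and the next point -/
theorem eq_of_edge {s t : Perm α} (hs : s.IsThreeCycle) (ht : t.IsThreeCycle) {x : α}
    (hx : t x ≠ x) (h1 : s x = t x) (h2 : s (t x) = t (t x)) : s = t := by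
  have hsx : s x ≠ x := by rw [h1]; exact hx
  have e1 := ht.eq_swap_mul_swap_iff_mem_support.2 (Perm.mem_support.2 hx)
  have e2 := hs.eq_swap_mul_swap_iff_mem_support.2 (Perm.mem_support.2 hsx)
  rw [e1, e2, h1, h2]

/-- two three-cycles whose product is an involution have a common edge -/
theorem exists_common_edge {b c : Perm α} (hb : b.IsThreeCycle) (hc : c.IsThreeCycle)
    (h2 : b * c * (b * c) = 1) (h1 : b * c ≠ 1) : ∃ y, b y = c y ∧ c y ≠ y := by
  have hcyc : ∀ x, b (c (b (c x))) = x := by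
    intro x
    have := congrArg (fun f : Perm α => f x) h2
    simpa using this
  by_cases hex : ∃ x, c x ≠ x ∧ b x = x
  · obtain ⟨x, hcx, hbx⟩ := hex
    refine ⟨c x, ?_, apply_apply_ne' hcx⟩
    have h3 := hcyc x
    have h4 : c (b (c x)) = x := by
      apply b.injective
      rw [h3, hbx]
    have h5 : c (c (c x)) = x := cube_apply hc x
    exact c.injective (h4.trans h5.symm)
  · push Not at hex
    -- the supports coincide
    obtain ⟨x, hcx⟩ : ∃ x, c x ≠ x := by
      by_contra hall
      push Not at hall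
      apply hc.ne_one
      ext x
      simp [hall x]
    have hbx : b x ≠ x := hex x hcx
    have hcx2 : b (c x) ≠ c x := hex (c x) (apply_apply_ne' hcx)
    rcases mem_cycle hb hbx hcx2 with h | h | h
    · exact absurd h hcx
    · exact ⟨x, h.symm, hcx⟩
    · -- `c x = b (b x)`: then `c = b⁻¹`
      exfalso
      have hccx : b (c (c x)) ≠ c (c x) := hex (c (c x)) (apply_apply_ne' (apply_apply_ne' hcx))
      have hccx' : c (c x) = b x := by
        rcases mem_cycle hb hbx hccx with h' | h' | h'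
        · exact absurd h' (apply_apply_ne hc hcx)
        · exact h'
        · exfalso
          rw [← h] at h'
          exact apply_apply_ne' hcx h'
      apply h1
      ext z
      rw [Perm.mul_apply, Perm.one_apply]
      by_cases hcz : c z = z
      · rw [hcz]
        by_contra hbz
        rcases mem_cycle hb hbx hbz with h' | h' | h'
        · rw [h'] at hcz; exact hcx hcz
        · rw [h', ← hccx'] at hcz
          exact apply_apply_ne' (apply_apply_ne' hcx) hcz
        · rw [h', ← h] at hcz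
          exact apply_apply_ne' hcx hcz
      · rcases mem_cycle hc hcx hcz with h' | h' | h'
        · rw [h', h, cube_apply hb]
        · rw [h', hccx', ← h]
        · rw [h', cube_apply hc, hccx']

/-- three three-cycles with pairwise common edges: the third passes through the common edge of
the first two -/
theorem third_edge {B C D : Perm α} (hB : B.IsThreeCycle) (hC : C.IsThreeCycle)
    (hD : D.IsThreeCycle) {p : α} (hp : B p = C p) (hCp : C p ≠ p) (hBC : B ≠ C)
    (hBD : ∃ y, B y = D y ∧ D y ≠ y) (hCD : ∃ z, C z = D z ∧ D z ≠ z) : D p = C p := by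
  have hBp : B p ≠ p := by rw [hp]; exact hCp
  have hrs : B (B p) ≠ C (C p) := by
    intro h
    apply hBC
    apply eq_of_edge hB hC hCp hp
    calc B (C p) = B (B p) := by rw [hp]
      _ = C (C p) := h
  obtain ⟨y, hy, hDy⟩ := hBD
  obtain ⟨z, hz, hDz⟩ := hCD
  have hBy : B y ≠ y := by rw [hy]; exact hDy
  have hCz : C z ≠ z := by rw [hz]; exact hDz
  rcases mem_cycle hB hBp hBy with rfl | rfl | rfl
  · rw [← hy, hp]
  · rcases mem_cycle hC hCp hCz with rfl | rfl | rfl
    · exact hz.symm
    · exfalso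
      apply hrs
      rw [hy, hp, ← hz]
    · exfalso
      rcases mem_cycle hD hDy hDz with h | h | h
      · rw [hp] at h
        exact apply_apply_ne' hCp h
      · rw [← hy] at h
        exact hrs h.symm
      · have h3 : D (C (C p)) = B p := by rw [h, cube_apply hD]
        rw [← hz, cube_apply hC] at h3
        exact hBp h3.symm
  · have hDr : D (B (B p)) = p := by rw [← hy, cube_apply hB]
    rcases mem_cycle hC hCp hCz with rfl | rfl | rfl
    · exact hz.symm
    · exfalso
      rcases mem_cycle hD hDy hDz with h | h | h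
      · rw [← hp] at h
        exact apply_apply_ne' hBp h.symm
      · rw [hDr] at h
        exact hCp h
      · have h3 : D (C p) = B (B p) := by rw [h, cube_apply hD]
        rw [← hz] at h3
        exact hrs h3.symm
    · exfalso
      have hDs : D (C (C p)) = p := by rw [← hz, cube_apply hC]
      exact hrs (D.injective (hDr.trans hDs.symm))

/-- a three-cycle is not an involution -/
theorem not_sq_eq_one {b : Perm α} (hb : b.IsThreeCycle) : b * b * (b * b) ≠ 1 := by
  intro h
  apply hb.ne_one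
  have h3 : b ^ 3 = 1 := by rw [← hb.orderOf]; exact pow_orderOf_eq_one b
  have h3' : b * b * b = 1 := by simpa [pow_succ] using h3
  have h4 : b * (b * b * b) = 1 := by
    rw [← h]; group
  rw [h3', mul_one] at h4
  exact h4

/-- members of a family with involutory products are distinct -/
theorem ne_of_sq {b c : Perm α} (hb : b.IsThreeCycle) (h2 : b * c * (b * c) = 1) : b ≠ c := by
  intro h
  rw [← h] at h2
  exact not_sq_eq_one hb h2

/-- a family of three-cycles with pairwise involutory products has a common edge -/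
theorem exists_common_edge_family {ι : Type*} (b : ι → Perm α) (hb : ∀ i, (b i).IsThreeCycle)
    (h2 : ∀ i j, i ≠ j → b i * b j * (b i * b j) = 1) (h1 : ∀ i j, i ≠ j → b i * b j ≠ 1)
    (i₀ i₁ : ι) (h01 : i₀ ≠ i₁) : ∃ p q, q ≠ p ∧ ∀ i, b i p = q := by
  classical
  have hne : ∀ i j, i ≠ j → b i ≠ b j := fun i j hij => ne_of_sq (hb i) (h2 i j hij)
  obtain ⟨p, hp, hCp⟩ := exists_common_edge (hb i₀) (hb i₁) (h2 _ _ h01) (h1 _ _ h01)
  refine ⟨p, b i₁ p, hCp, fun i => ?_⟩
  by_cases hi0 : i = i₀
  · rw [hi0, hp]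
  by_cases hi1 : i = i₁
  · rw [hi1]
  exact third_edge (hb i₀) (hb i₁) (hb i) hp hCp (hne _ _ h01)
    (exists_common_edge (hb i₀) (hb i) (h2 _ _ (Ne.symm hi0)) (h1 _ _ (Ne.symm hi0)))
    (exists_common_edge (hb i₁) (hb i) (h2 _ _ (Ne.symm hi1)) (h1 _ _ (Ne.symm hi1)))

/-! ### Explicit three-cycles -/

omit [Fintype α] in
/-- the three-cycle `a → b → c → a` -/
def c3 (a b c : α) : Perm α := swap a b * swap b c

theorem c3_isThreeCycle {a b c : α} (ab : a ≠ b) (ac : a ≠ c) (bc : b ≠ c) :
    (c3 a b c).IsThreeCycle := by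
  unfold c3
  rw [swap_comm a b]
  exact isThreeCycle_swap_mul_swap_same ab.symm bc ac

theorem eq_c3 {t : Perm α} (ht : t.IsThreeCycle) {x : α} (hx : t x ≠ x) :
    t = c3 x (t x) (t (t x)) :=
  ht.eq_swap_mul_swap_iff_mem_support.2 (Perm.mem_support.2 hx)

omit [Fintype α] in
theorem conj_c3 (σ : Perm α) (a b c : α) : σ * c3 a b c * σ⁻¹ = c3 (σ a) (σ b) (σ c) := by
  unfold c3
  rw [swap_apply_apply, swap_apply_apply]
  group

omit [Fintype α] in
theorem c3_rot {a b c : α} (ab : a ≠ b) (ac : a ≠ c) (bc : b ≠ c) : c3 a b c = c3 b c a := by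
  ext w
  simp only [c3, Perm.mul_apply, swap_apply_def]
  grind

omit [Fintype α] in
theorem c3_inv {a0 a1 x : α} (h01 : a0 ≠ a1) (hx0 : x ≠ a0) (hx1 : x ≠ a1) :
    c3 a0 x a1 = (c3 a0 a1 x)⁻¹ := by
  rw [eq_inv_iff_mul_eq_one]
  ext w
  simp only [c3, Perm.mul_apply, swap_apply_def, Perm.one_apply]
  grind

omit [Fintype α] in
theorem c3_mul₁ {a0 a1 x y : α} (h01 : a0 ≠ a1) (hx0 : x ≠ a0) (hx1 : x ≠ a1) (hy0 : y ≠ a0)
    (hy1 : y ≠ a1) (hxy : x ≠ y) : c3 a0 x y = c3 a0 a1 y * c3 a0 x a1 := by
  ext w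
  simp only [c3, Perm.mul_apply, swap_apply_def]
  grind

omit [Fintype α] in
theorem c3_mul₂ {a0 x y z : α} (hx0 : x ≠ a0) (hy0 : y ≠ a0) (hxy : x ≠ y) :
    c3 x y z = c3 a0 x y * c3 a0 y z := by
  ext w
  simp only [c3, Perm.mul_apply, swap_apply_def]
  grind

omit [Fintype α] in
/-- the product of two generators is an involution -/
theorem c3_mul_sq {a0 a1 x y : α} (h01 : a0 ≠ a1) (hx0 : x ≠ a0) (hx1 : x ≠ a1) (hy0 : y ≠ a0)
    (hy1 : y ≠ a1) (hxy : x ≠ y) :
    c3 a0 a1 x * c3 a0 a1 y * (c3 a0 a1 x * c3 a0 a1 y) = 1 := by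
  ext w
  simp only [c3, Perm.mul_apply, swap_apply_def, Perm.one_apply]
  grind

omit [Fintype α] in
theorem c3_mul_ne_one {a0 a1 x y : α} (h01 : a0 ≠ a1) (hx0 : x ≠ a0) (hx1 : x ≠ a1) (hy0 : y ≠ a0)
    (hy1 : y ≠ a1) (hxy : x ≠ y) : c3 a0 a1 x * c3 a0 a1 y ≠ 1 := by
  intro h
  have := congrArg (fun f : Perm α => f a0) h
  simp only [c3, Perm.mul_apply, swap_apply_def, Perm.one_apply] at this
  grind

/-- the three-cycles through a fixed edge generate the alternating group -/
theorem closure_c3 {a0 a1 : α} (h01 : a0 ≠ a1) :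
    Subgroup.closure {g : Perm α | ∃ x, x ≠ a0 ∧ x ≠ a1 ∧ g = c3 a0 a1 x} = alternatingGroup α := by
  set L := Subgroup.closure {g : Perm α | ∃ x, x ≠ a0 ∧ x ≠ a1 ∧ g = c3 a0 a1 x} with hL
  apply le_antisymm
  · rw [hL, Subgroup.closure_le]
    rintro g ⟨x, hx0, hx1, rfl⟩
    exact (c3_isThreeCycle h01 hx0.symm hx1.symm).mem_alternatingGroup
  · rw [← closure_three_cycles_eq_alternating, Subgroup.closure_le]
    intro t ht
    have ht : t.IsThreeCycle := ht
    -- generators
    have g1 : ∀ y, y ≠ a0 → y ≠ a1 → c3 a0 a1 y ∈ L :=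
      fun y hy0 hy1 => Subgroup.subset_closure ⟨y, hy0, hy1, rfl⟩
    have g2 : ∀ x, x ≠ a0 → x ≠ a1 → c3 a0 x a1 ∈ L := by
      intro x hx0 hx1
      rw [c3_inv h01 hx0 hx1]
      exact L.inv_mem (g1 x hx0 hx1)
    have g3 : ∀ x y, x ≠ a0 → y ≠ a0 → x ≠ y → c3 a0 x y ∈ L := by
      intro x y hx0 hy0 hxy
      by_cases hx1 : x = a1
      · subst hx1
        exact g1 y hy0 (Ne.symm hxy)
      by_cases hy1 : y = a1
      · subst hy1
        exact g2 x hx0 hx1
      rw [c3_mul₁ h01 hx0 hx1 hy0 hy1 hxy]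
      exact L.mul_mem (g1 y hy0 hy1) (g2 x hx0 hx1)
    obtain ⟨x, hx⟩ : ∃ x, t x ≠ x := by
      by_contra hall
      push Not at hall
      apply ht.ne_one
      ext x
      simp [hall x]
    have hxy : x ≠ t x := Ne.symm hx
    have hyz : t x ≠ t (t x) := Ne.symm (apply_apply_ne' hx)
    have hxz : x ≠ t (t x) := Ne.symm (apply_apply_ne ht hx)
    rw [eq_c3 ht hx]
    by_cases h0 : x = a0
    · subst h0
      exact g3 _ _ (Ne.symm hxy) (Ne.symm hxz) hyz
    by_cases h1 : t x = a0
    · rw [c3_rot hxy hxz hyz]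
      subst h1
      exact g3 _ _ (Ne.symm hyz) h0 (Ne.symm hxz)
    by_cases h2 : t (t x) = a0
    · rw [c3_rot hxy hxz hyz, c3_rot hyz (Ne.symm hxy) (Ne.symm hxz)]
      subst h2
      exact g3 _ _ h0 h1 hxy
    rw [c3_mul₂ (a0 := a0) h0 h1 hxy]
    exact L.mul_mem (g3 _ _ h0 h1 hxy) (g3 _ _ h1 h2 hyz)

end Cfsg.Agent.Helper11.AutAlt
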