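import Mathlib
import Cfsg.Agent.Lib.Helper11.BG108B

/-!
# Bender–Glauberman 10.8/10.9, part C (helper11): the statement of S1414

With the statements of S1403 (Uniqueness Theorem), S1404 (Lemma 10.1) and S1410 (`p`-length one)
as hypotheses.
-/

set_option autoImplicit false

namespace Cfsg.Agent.Helper11.BG108

open Cfsg Subgroup
open Cfsg.Agent.Helper14.BGTrans Cfsg.Agent.Helper14.BGUniq
open Cfsg.Agent.Helper15 (IsSylowIn isSylowIn_map_subtype exists_isSylowIn_ge)
open Cfsg.Agent.Helper23.BG10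
open Cfsg.Agent.Helper10 (NPC IsPiNum)

universe u

variable {G : Type u} [Group G] [Finite G]

theorem npc_commutator (hG : IsMinSimpleOddOrder G) (hU : UniqThm G) (hL : PLenThm G)
    {M : Subgroup G} (hM : IsCoatom M) {p : ℕ} [Fact p.Prime] (hpM : p ∣ Nat.card ↥M)
    (hpβ : p ∉ beta M) : NPC p ↥(commutator ↥M) :=
  Cfsg.Agent.Helper10.npc_of_hasNormalPComplement (partA hG hU hL hM hpM hpβ).2

/-- the isomorphism between the two versions of `M'` -/
noncomputable def commEquiv (M : Subgroup G) : ↥(commutator ↥M) ≃* ↥(⁅M, M⁆ : Subgroup G) :=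
  ((commutator ↥M).equivMapOfInjective M.subtype M.subtype_injective).trans
    (MulEquiv.subgroupCongr (Subgroup.map_subtype_commutator M))

theorem npc_commutator' (hG : IsMinSimpleOddOrder G) (hU : UniqThm G) (hL : PLenThm G)
    {M : Subgroup G} (hM : IsCoatom M) {p : ℕ} [Fact p.Prime] (hpM : p ∣ Nat.card ↥M)
    (hpβ : p ∉ beta M) : NPC p ↥(⁅M, M⁆ : Subgroup G) :=
  Cfsg.Agent.Helper4.NPCB.npc_of_mulEquiv (commEquiv M) (npc_commutator hG hU hL hM hpM hpβ)

theorem npc_sigmaCore (hG : IsMinSimpleOddOrder G) (hU : UniqThm G) (hF : FusionThm G)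
    (hL : PLenThm G) {M : Subgroup G} (hM : IsCoatom M) {p : ℕ} [Fact p.Prime]
    (hpM : p ∣ Nat.card ↥M) (hpβ : p ∉ beta M) : NPC p ↥(sigmaCore M) :=
  Cfsg.Agent.Helper4.NPCB.npc_of_le (sigmaCore_le_commutator hG hF hM)
    (npc_commutator' hG hU hL hM hpM hpβ)

theorem commutator_le_self (M : Subgroup G) : (⁅M, M⁆ : Subgroup G) ≤ M := by
  rw [← Subgroup.map_subtype_commutator]
  exact Subgroup.map_subtype_le _

theorem sigmaCore_le_self (M : Subgroup G) : sigmaCore M ≤ M :=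
  Subgroup.map_subtype_le _

/-- for `p ∈ β(M)` some Sylow `p`-subgroup of `M` lies in `O_β(M)` and is Sylow in `G` -/
theorem exists_sylow_le_piCore_beta (hG : IsMinSimpleOddOrder G) (hU : UniqThm G)
    (hF : FusionThm G) (hL : PLenThm G) {M : Subgroup G} (hM : IsCoatom M) {p : ℕ}
    [Fact p.Prime] (hp : p ∈ beta M) :
    ∃ P : Sylow p ↥M, (P : Subgroup ↥M) ≤ piCore (beta M) ↥M ∧
      IsSylowIn p ((P : Subgroup ↥M).map M.subtype) ⊤ := by
  have hσ : p ∈ sigma M := alpha_subset_sigma hG hU hM hp.1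
  obtain ⟨P, hPc, hST⟩ := exists_sylow_le_commutator hG hF hM hσ
  have hX : ∀ q : ℕ, q.Prime → q ∉ beta M → q ∣ Nat.card ↥(commutator ↥M) →
      NPC q ↥(commutator ↥M) := by
    intro q hq hqβ hqd
    haveI : Fact q.Prime := ⟨hq⟩
    exact npc_commutator hG hU hL hM (hqd.trans (Subgroup.card_subgroup_dvd_card _)) hqβ
  have hnd : ¬ p ∣ (piCore (beta M) ↥(commutator ↥M)).index :=
    not_dvd_index_piCore (beta M) hX Fact.out hp
  have hQ : IsPGroup p ↥((P : Subgroup ↥M).subgroupOf (commutator ↥M)) :=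
    P.isPGroup'.comap_subtype
  have hle : (P : Subgroup ↥M).subgroupOf (commutator ↥M) ≤ piCore (beta M) ↥(commutator ↥M) :=
    le_of_isPGroup_of_not_dvd_index hQ hnd
  have hmap := Cfsg.Agent.Helper10.map_subtype_piCore_le (beta M) (commutator ↥M)
  refine ⟨P, fun x hx => hmap ⟨⟨x, hPc hx⟩, hle ?_, rfl⟩, hST⟩
  rw [Subgroup.mem_subgroupOf]
  exact hx

/-- **BG 10.8/10.9** (the statement of S1414) -/
theorem theorem_10_8 (hG : IsMinSimpleOddOrder G) (hU : UniqThm G) (hF : FusionThm G)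
    (hL : PLenThm G) (M : Subgroup G) (hM : IsCoatom M) :
    IsPiHallOf (beta M) (piCoreOf (beta M) M) M ∧ IsPiHall (beta M) (piCoreOf (beta M) M) ∧
      (∃ H : Subgroup G, IsPiHallOf {q | q.Prime ∧ q ∉ beta M} H ⁅M, M⁆ ∧ Group.IsNilpotent H) ∧
      (∃ H : Subgroup G, IsPiHallOf {q | q.Prime ∧ q ∉ beta M} H (sigmaCore M) ∧
        Group.IsNilpotent H) ∧
      ∀ p : ℕ, p.Prime → p ∣ Nat.card M → p ∉ beta M →
        HasNormalPComplement p ↥⁅M, M⁆ ∧ HasNormalPComplement p ↥(sigmaCore M) ∧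
        ∀ q : ℕ, q.Prime → q ∣ (pPrimeCore p ↥M).index → q ≤ p := by
  have hpi : ∀ p : ℕ, p.Prime → p ∣ Nat.card ↥(piCoreOf (beta M) M) → p ∈ beta M :=
    card_piCoreOf (beta M) M
  refine ⟨⟨piCoreOf_le _ _, hpi, ?_⟩, ⟨hpi, ?_⟩, ?_, ?_, ?_⟩
  · intro p hpp hp
    haveI : Fact p.Prime := ⟨hpp⟩
    have h1 : (piCoreOf (beta M) M).relIndex M = (piCore (beta M) ↥M).index := by
      unfold Subgroup.relIndex
      rw [piCoreOf_subgroupOf]
    rw [h1]
    obtain ⟨P, hP, -⟩ := exists_sylow_le_piCore_beta hG hU hF hL hM hp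
    intro h
    exact P.not_dvd_index (h.trans (Subgroup.index_dvd_of_le hP))
  · intro p hpp hp
    haveI : Fact p.Prime := ⟨hpp⟩
    obtain ⟨P, hP, hST⟩ := exists_sylow_le_piCore_beta hG hU hF hL hM hp
    have hle : (P : Subgroup ↥M).map M.subtype ≤ piCoreOf (beta M) M := Subgroup.map_mono hP
    intro h
    have h2 := hST.sylowOfTop.not_dvd_index
    rw [hST.coe_sylowOfTop] at h2
    exact h2 (h.trans (Subgroup.index_dvd_of_le hle))
  · apply exists_nilpotent_hallOf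
    intro p hp hpβ hpd
    haveI : Fact p.Prime := ⟨hp⟩
    exact npc_commutator' hG hU hL hM
      (hpd.trans (Subgroup.card_dvd_of_le (commutator_le_self M))) hpβ
  · apply exists_nilpotent_hallOf
    intro p hp hpβ hpd
    haveI : Fact p.Prime := ⟨hp⟩
    exact npc_sigmaCore hG hU hF hL hM
      (hpd.trans (Subgroup.card_dvd_of_le (sigmaCore_le_self M))) hpβ
  · intro p hp hpM hpβ
    haveI : Fact p.Prime := ⟨hp⟩
    exact ⟨(npc_commutator' hG hU hL hM hpM hpβ).hasNormalPComplement,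
      (npc_sigmaCore hG hU hF hL hM hpM hpβ).hasNormalPComplement,
      (partA hG hU hL hM hpM hpβ).1⟩

end Cfsg.Agent.Helper11.BG108
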