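import Mathlib

/-!
# Feit–Higman (S1142): common definitions (helper11)

`alt X Y k` is the alternating product `X * Y * X * ⋯` (`k` factors); `HData Ω` is the abstract
"Hecke algebra of a generalized `n`-gon" datum (two symmetric real matrices with quadratic relations,
the braid relation and pairwise orthogonality of the `2n` alternating products); `T1`, `T2` are the
explicit two-dimensional representations, `aseq`/`bseq` the Lucas sequences of `x² - y x + p`,
`chi` the character values and `sigmaSeq` the Schur-element sum.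
-/

set_option autoImplicit false

namespace Cfsg.Agent.Helper11.FH

open Matrix

/-- alternating product `X * Y * X * ⋯` with `k` factors -/
def alt {R : Type*} [Monoid R] (X Y : R) : ℕ → R
  | 0 => 1
  | k + 1 => X * alt Y X k

section altLemmas

variable {R : Type*} [Monoid R] (X Y : R)

@[simp] theorem alt_zero : alt X Y 0 = 1 := rfl

theorem alt_succ (k : ℕ) : alt X Y (k + 1) = X * alt Y X k := rfl

@[simp] theorem alt_one : alt X Y 1 = X := by simp [alt]

theorem alt_two : alt X Y 2 = X * Y := by simp [alt]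

theorem alt_add_two (k : ℕ) : alt X Y (k + 2) = X * Y * alt X Y k := by
  rw [alt_succ, alt_succ, mul_assoc]

theorem alt_two_mul (k : ℕ) : alt X Y (2 * k) = (X * Y) ^ k := by
  induction k with
  | zero => simp
  | succ k ih => rw [Nat.mul_succ, alt_add_two, ih, pow_succ']

theorem alt_two_mul_add_one (k : ℕ) : alt X Y (2 * k + 1) = (X * Y) ^ k * X := by
  induction k with
  | zero => simp
  | succ k ih =>
    rw [show 2 * (k + 1) + 1 = (2 * k + 1) + 2 by ring, alt_add_two, ih, pow_succ']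
    simp only [mul_assoc]

/-- `X * (Y * X)^k = (X * Y)^k * X` -/
theorem mul_pow_swap (k : ℕ) : X * (Y * X) ^ k = (X * Y) ^ k * X := by
  induction k with
  | zero => simp
  | succ k ih => rw [pow_succ, ← mul_assoc, ih, pow_succ, mul_assoc, mul_assoc, mul_assoc]

theorem map_alt {R' : Type*} [Monoid R'] (f : R →* R') (k : ℕ) :
    f (alt X Y k) = alt (f X) (f Y) k := by
  induction k generalizing X Y with
  | zero => simp
  | succ k ih => rw [alt_succ, alt_succ, map_mul, ih]

theorem alt_mem (S : Submonoid R) {X Y : R} (hX : X ∈ S) (hY : Y ∈ S) (k : ℕ) :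
    alt X Y k ∈ S := by
  induction k generalizing X Y with
  | zero => simp
  | succ k ih => rw [alt_succ]; exact S.mul_mem hX (ih hY hX)

end altLemmas

theorem alt_fst {R R' : Type*} [Monoid R] [Monoid R'] (Z Z' : R × R') (k : ℕ) :
    (alt Z Z' k).1 = alt Z.1 Z'.1 k := map_alt Z Z' (MonoidHom.fst R R') k

theorem alt_snd {R R' : Type*} [Monoid R] [Monoid R'] (Z Z' : R × R') (k : ℕ) :
    (alt Z Z' k).2 = alt Z.2 Z'.2 k := map_alt Z Z' (MonoidHom.snd R R') k

/-- The abstract Hecke datum: symmetric real matrices `X`, `Y` with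
`X² = s + (s-1) X`, `Y² = t + (t-1) Y`, the braid relation of length `n`, and pairwise
orthogonality (for `⟪U, V⟫ = tr (U Vᵀ)`) of the alternating products of length `≤ n`. -/
structure HData (Ω : Type*) [Fintype Ω] [DecidableEq Ω] where
  n : ℕ
  s : ℕ
  t : ℕ
  X : Matrix Ω Ω ℝ
  Y : Matrix Ω Ω ℝ
  hn : 2 ≤ n
  hs : 2 ≤ s
  ht : 2 ≤ t
  Xsymm : Xᵀ = X
  Ysymm : Yᵀ = Y
  Xsq : X * X = (s : ℝ) • (1 : Matrix Ω Ω ℝ) + ((s : ℝ) - 1) • X
  Ysq : Y * Y = (t : ℝ) • (1 : Matrix Ω Ω ℝ) + ((t : ℝ) - 1) • Y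
  braid : alt X Y n = alt Y X n
  orthXX : ∀ k l, k ≤ n → l ≤ n → k ≠ l → (alt X Y k * (alt X Y l)ᵀ).trace = 0
  orthYY : ∀ k l, k ≤ n → l ≤ n → k ≠ l → (alt Y X k * (alt Y X l)ᵀ).trace = 0
  orthXY : ∀ k l, k ≤ n → l ≤ n → ¬ (k = 0 ∧ l = 0) → ¬ (k = n ∧ l = n) →
    (alt X Y k * (alt Y X l)ᵀ).trace = 0

/-- exchanging the roles of the two generators -/
def HData.swap {Ω : Type*} [Fintype Ω] [DecidableEq Ω] (D : HData Ω) : HData Ω where
  n := D.n
  s := D.t
  t := D.s
  X := D.Y
  Y := D.X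
  hn := D.hn
  hs := D.ht
  ht := D.hs
  Xsymm := D.Ysymm
  Ysymm := D.Xsymm
  Xsq := D.Ysq
  Ysq := D.Xsq
  braid := D.braid.symm
  orthXX := D.orthYY
  orthYY := D.orthXX
  orthXY := fun k l hk hl h0 hn => by
    have h := D.orthXY l k hl hk (fun h => h0 ⟨h.2, h.1⟩) (fun h => hn ⟨h.2, h.1⟩)
    rw [← Matrix.trace_transpose, Matrix.transpose_mul, Matrix.transpose_transpose] at h
    exact h

/-- `a₀ = 0`, `a₁ = 1`, `a_{k+2} = y a_{k+1} - p a_k` -/
noncomputable def aseq (y p : ℝ) : ℕ → ℝ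
  | 0 => 0
  | 1 => 1
  | k + 2 => y * aseq y p (k + 1) - p * aseq y p k

/-- `b₀ = 2`, `b₁ = y`, `b_{k+2} = y b_{k+1} - p b_k` -/
noncomputable def bseq (y p : ℝ) : ℕ → ℝ
  | 0 => 2
  | 1 => y
  | k + 2 => y * bseq y p (k + 1) - p * bseq y p k

@[simp] theorem aseq_zero (y p : ℝ) : aseq y p 0 = 0 := rfl
@[simp] theorem aseq_one (y p : ℝ) : aseq y p 1 = 1 := rfl
theorem aseq_add_two (y p : ℝ) (k : ℕ) :
    aseq y p (k + 2) = y * aseq y p (k + 1) - p * aseq y p k := rfl
@[simp] theorem bseq_zero (y p : ℝ) : bseq y p 0 = 2 := rfl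
@[simp] theorem bseq_one (y p : ℝ) : bseq y p 1 = y := rfl
theorem bseq_add_two (y p : ℝ) (k : ℕ) :
    bseq y p (k + 2) = y * bseq y p (k + 1) - p * bseq y p k := rfl

/-- the trace of the alternating product of length `k` starting with the generator of parameter `s`,
in a two-dimensional representation with `tr (T₁ T₂) = y` -/
noncomputable def chi (s t y : ℝ) (k : ℕ) : ℝ :=
  if k % 2 = 0 then bseq y (s * t) (k / 2)
  else (s - 1) * aseq y (s * t) (k / 2 + 1) + s * (t - 1) * aseq y (s * t) (k / 2)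

/-- the sum `∑_w q_w⁻¹ χ(T_w)²` over the `2n` basis elements -/
noncomputable def sigmaSeq (n : ℕ) (s t y : ℝ) : ℝ :=
  ∑ k ∈ Finset.range n, chi s t y k ^ 2 / alt s t k +
    ∑ k ∈ Finset.range n, chi t s y (k + 1) ^ 2 / alt t s (k + 1)

/-- the first generator of the two-dimensional representation -/
noncomputable def T1 (s : ℝ) : Matrix (Fin 2) (Fin 2) ℝ := !![s, 0; 0, -1]

/-- the second generator of the two-dimensional representation with `tr (T₁ T₂) = y` -/
noncomputable def T2 (s t y : ℝ) : Matrix (Fin 2) (Fin 2) ℝ :=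
  !![(s + t + y) / (s + 1) - 1,
     Real.sqrt ((s + t + y) / (s + 1) * (t + 1 - (s + t + y) / (s + 1)));
     Real.sqrt ((s + t + y) / (s + 1) * (t + 1 - (s + t + y) / (s + 1))),
     t - (s + t + y) / (s + 1)]

/-- `y_j = 2 √(st) cos (2π j / n)` -/
noncomputable def yj (n : ℕ) (s t : ℝ) (j : ℕ) : ℝ :=
  2 * Real.sqrt (s * t) * Real.cos (2 * Real.pi * j / n)

end Cfsg.Agent.Helper11.FH
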