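import Mathlib
import Cfsg.Agent.Lib.Helper10.PCDefs

/-! # S2276 piece NSCERT (helper11 for helper10) -/

set_option autoImplicit false
set_option linter.unusedSectionVars false
set_option linter.unusedVariables false

namespace Cfsg.Agent.Helper10.PC

open Equiv Equiv.Perm

universe u

section general
variable {Ω : Type u} [Fintype Ω] [DecidableEq Ω]

/-- the subgroup of pairs `(k, σ)` with `k ∘ d = d ∘ σ` -/
def nscertK {α : Type*} (d : α → Ω) : Subgroup (Perm Ω × Perm α) where
  carrier := {x | ∀ j, x.1 (d j) = d (x.2 j)}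
  one_mem' := fun j => rfl
  mul_mem' := by
    intro a b ha hb j
    change ∀ j, a.1 (d j) = d (a.2 j) at ha
    change ∀ j, b.1 (d j) = d (b.2 j) at hb
    show (a.1 * b.1) (d j) = d ((a.2 * b.2) j)
    rw [Perm.mul_apply, Perm.mul_apply, hb j, ha (b.2 j)]
  inv_mem' := by
    intro a ha j
    change ∀ j, a.1 (d j) = d (a.2 j) at ha
    show (a.1⁻¹) (d j) = d ((a.2⁻¹) j)
    rw [Perm.inv_eq_iff_eq, ha]
    simp

omit [Fintype Ω] [DecidableEq Ω] in
theorem nscert_mem {α : Type*} (d : α → Ω) (x : Perm Ω × Perm α) :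
    x ∈ nscertK d ↔ ∀ j, x.1 (d j) = d (x.2 j) := Iff.rfl

theorem not_solvable_of_restrict {α : Type*} (d : α → Ω) (hd : Function.Injective d)
    (H : Subgroup (Perm Ω)) (k₁ k₂ : Perm Ω) (hk₁ : k₁ ∈ H) (hk₂ : k₂ ∈ H) (σ₁ σ₂ : Perm α)
    (h₁ : ∀ j, k₁ (d j) = d (σ₁ j)) (h₂ : ∀ j, k₂ (d j) = d (σ₂ j))
    (hns : ¬ Group.IsSolvable ↥(Subgroup.closure ({σ₁, σ₂} : Set (Perm α)))) :
    ¬ Group.IsSolvable ↥H := by
  intro hsol
  apply hns
  set S : Set (Perm Ω × Perm α) := {(k₁, σ₁), (k₂, σ₂)} with hS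
  set L : Subgroup (Perm Ω × Perm α) := Subgroup.closure S with hL
  have hLK : L ≤ nscertK d := by
    rw [hL, Subgroup.closure_le]
    intro x hx
    rcases hx with rfl | rfl
    · exact h₁
    · exact h₂
  have hfst : ∀ x : L, (x : Perm Ω × Perm α).1 ∈ H := by
    intro x
    have : Subgroup.map (MonoidHom.fst (Perm Ω) (Perm α)) L ≤ H := by
      rw [hL, MonoidHom.map_closure, Subgroup.closure_le]
      rintro _ ⟨y, hy, rfl⟩
      rcases hy with rfl | rfl
      · exact hk₁
      · exact hk₂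
    exact this ⟨x, x.2, rfl⟩
  have hsnd : ∀ x : L, (x : Perm Ω × Perm α).2 ∈ Subgroup.closure ({σ₁, σ₂} : Set (Perm α)) := by
    intro x
    have : Subgroup.map (MonoidHom.snd (Perm Ω) (Perm α)) L ≤
        Subgroup.closure ({σ₁, σ₂} : Set (Perm α)) := by
      rw [hL, MonoidHom.map_closure]
      apply Subgroup.closure_mono
      rintro _ ⟨y, hy, rfl⟩
      rcases hy with rfl | rfl
      · exact Or.inl rfl
      · exact Or.inr rfl
    exact this ⟨x, x.2, rfl⟩
  let f : L →* H := ((MonoidHom.fst (Perm Ω) (Perm α)).comp L.subtype).codRestrict H hfst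
  let g : L →* Subgroup.closure ({σ₁, σ₂} : Set (Perm α)) :=
    ((MonoidHom.snd (Perm Ω) (Perm α)).comp L.subtype).codRestrict _ hsnd
  have hf : Function.Injective f := by
    intro x y hxy
    have h1 : (x : Perm Ω × Perm α).1 = (y : Perm Ω × Perm α).1 := congrArg Subtype.val hxy
    have hx := hLK x.2
    have hy := hLK y.2
    rw [nscert_mem] at hx hy
    apply Subtype.ext
    apply Prod.ext h1
    ext j
    apply hd
    rw [← hx j, ← hy j, h1]
  have hg : Function.Surjective g := by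
    rintro ⟨σ, hσ⟩
    have : Subgroup.closure ({σ₁, σ₂} : Set (Perm α)) ≤
        Subgroup.map (MonoidHom.snd (Perm Ω) (Perm α)) L := by
      rw [hL, MonoidHom.map_closure]
      apply Subgroup.closure_mono
      intro y hy
      rcases hy with rfl | rfl
      · exact ⟨(k₁, y), Or.inl rfl, rfl⟩
      · exact ⟨(k₂, y), Or.inr rfl, rfl⟩
    obtain ⟨x, hx, rfl⟩ := this hσ
    exact ⟨⟨x, hx⟩, rfl⟩
  have : Group.IsSolvable L := Group.isSolvable_of_isSolvable_injective hf
  exact Group.isSolvable_of_surjective hg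

end general

end Cfsg.Agent.Helper10.PC
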