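import Mathlib
import Cfsg.Agent.Lib.Helper10.PCDefs

/-! # S2276 piece INVSET (helper11 for helper10) -/

set_option autoImplicit false
set_option linter.unusedSectionVars false
set_option linter.unusedVariables false

namespace Cfsg.Agent.Helper10.PC

open Equiv Equiv.Perm

universe u

section general
variable {Ω : Type u} [Fintype Ω] [DecidableEq Ω]

/-- the orbit of `x` under `w` as a finset -/
noncomputable def invsetOrb (w : Perm Ω) (x : Ω) : Finset Ω :=
  (Finset.range (Function.minimalPeriod w x)).image (fun k => (w ^ k) x)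

omit [Fintype Ω] in
theorem invset_isPeriodicPt (w : Perm Ω) (t : ℕ) (hwt : w ^ t = 1) (x : Ω) :
    Function.IsPeriodicPt w t x := by
  show w^[t] x = x
  rw [Equiv.Perm.iterate_eq_pow, hwt]; rfl

omit [Fintype Ω] in
theorem invset_period_dvd (w : Perm Ω) (t : ℕ) (hwt : w ^ t = 1) (x : Ω) :
    Function.minimalPeriod w x ∣ t :=
  (invset_isPeriodicPt w t hwt x).minimalPeriod_dvd

omit [Fintype Ω] in
theorem invset_period_pos (w : Perm Ω) (t : ℕ) (ht0 : 0 < t) (hwt : w ^ t = 1) (x : Ω) :
    0 < Function.minimalPeriod w x :=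
  (invset_isPeriodicPt w t hwt x).minimalPeriod_pos ht0

omit [Fintype Ω] in
theorem invset_period_ppow (p : ℕ) (hp : p.Prime) (w : Perm Ω) (hw : IsPElt p w) (x : Ω) :
    ∃ j : ℕ, Function.minimalPeriod w x = p ^ j := by
  obtain ⟨k, hk⟩ := hw
  obtain ⟨j, -, hj⟩ := (Nat.dvd_prime_pow hp).1 (invset_period_dvd w _ hk x)
  exact ⟨j, hj⟩

omit [Fintype Ω] in
theorem invset_pow_period (w : Perm Ω) (x : Ω) : (w ^ Function.minimalPeriod w x) x = x := by
  have := Function.isPeriodicPt_minimalPeriod w x
  rw [Function.IsPeriodicPt, Function.IsFixedPt, Equiv.Perm.iterate_eq_pow] at this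
  exact this

omit [Fintype Ω] in
theorem invset_mem_orb (w : Perm Ω) (x y : Ω) (hpos : 0 < Function.minimalPeriod w x) :
    y ∈ invsetOrb w x ↔ ∃ k : ℕ, (w ^ k) x = y := by
  constructor
  · intro h
    obtain ⟨k, -, hk⟩ := Finset.mem_image.1 h
    exact ⟨k, hk⟩
  · rintro ⟨k, rfl⟩
    refine Finset.mem_image.2 ⟨k % Function.minimalPeriod w x, ?_, ?_⟩
    · exact Finset.mem_range.2 (Nat.mod_lt _ hpos)
    · show (w ^ (k % Function.minimalPeriod w x)) x = (w ^ k) x
      rw [← Equiv.Perm.iterate_eq_pow, ← Equiv.Perm.iterate_eq_pow,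
        Function.iterate_mod_minimalPeriod_eq]

omit [Fintype Ω] in
theorem invset_card_orb (w : Perm Ω) (x : Ω) :
    (invsetOrb w x).card = Function.minimalPeriod w x := by
  rw [invsetOrb, Finset.card_image_of_injOn, Finset.card_range]
  intro j hj k hk hjk
  have hj' : j ∈ Set.Iio (Function.minimalPeriod w x) := Finset.mem_range.1 hj
  have hk' : k ∈ Set.Iio (Function.minimalPeriod w x) := Finset.mem_range.1 hk
  apply Function.iterate_injOn_Iio_minimalPeriod hj' hk'
  show w^[j] x = w^[k] x
  rw [Equiv.Perm.iterate_eq_pow, Equiv.Perm.iterate_eq_pow]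
  exact hjk

omit [Fintype Ω] in
theorem invset_orb_inv (w : Perm Ω) (x : Ω) (hpos : 0 < Function.minimalPeriod w x) :
    ∀ y ∈ invsetOrb w x, w y ∈ invsetOrb w x := by
  intro y hy
  rw [invset_mem_orb w x y hpos] at hy
  obtain ⟨k, rfl⟩ := hy
  rw [invset_mem_orb w x _ hpos]
  exact ⟨k + 1, by rw [pow_succ', Perm.mul_apply]⟩

omit [Fintype Ω] [DecidableEq Ω] in
theorem invset_pow_inv (w : Perm Ω) (D : Finset Ω) (hD : ∀ x ∈ D, w x ∈ D) (k : ℕ) :
    ∀ x ∈ D, (w ^ k) x ∈ D := by
  induction k with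
  | zero => intro x hx; simpa using hx
  | succ k ih =>
    intro x hx
    rw [pow_succ', Perm.mul_apply]
    exact hD _ (ih x hx)

omit [Fintype Ω] in
theorem invset_orb_disj (w : Perm Ω) (D : Finset Ω) (hD : ∀ x ∈ D, w x ∈ D) (x : Ω) (hx : x ∉ D)
    (hpos : 0 < Function.minimalPeriod w x) : Disjoint D (invsetOrb w x) := by
  rw [Finset.disjoint_left]
  intro y hyD hy
  obtain ⟨k, hk, rfl⟩ := Finset.mem_image.1 hy
  have hk' : k < Function.minimalPeriod w x := Finset.mem_range.1 hk
  apply hx
  have h1 := invset_pow_inv w D hD (Function.minimalPeriod w x - k) _ hyD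
  rw [← Perm.mul_apply, ← pow_add, Nat.sub_add_cancel hk'.le, invset_pow_period] at h1
  exact h1

theorem invset_ppow_dvd (p : ℕ) (hp : p.Prime) (a b : ℕ) (ha : ∃ i, a = p ^ i) (hb : ∃ j, b = p ^ j)
    (hab : a ≤ b) : a ∣ b := by
  obtain ⟨i, rfl⟩ := ha
  obtain ⟨j, rfl⟩ := hb
  exact Nat.pow_dvd_pow p ((Nat.pow_le_pow_iff_right hp.one_lt).1 hab)

/-- the greedy step, by strong induction on `t - |D|` -/
theorem invset_greedy (p : ℕ) (hp : p.Prime) (w : Perm Ω) (hw : IsPElt p w)
    (t : ℕ) (ht0 : 0 < t) (hwt : w ^ t = 1) (htn : t ≤ Fintype.card Ω) :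
    ∀ (m : ℕ) (D : Finset Ω), t - D.card = m → D.card ≤ t → (∀ x ∈ D, w x ∈ D) →
      (∀ x, x ∉ D → Function.minimalPeriod w x ∣ D.card) →
      ∃ D' : Finset Ω, D ⊆ D' ∧ D'.card = t ∧ (∀ x ∈ D', w x ∈ D') := by
  intro m
  induction m using Nat.strong_induction_on with
  | _ m ih =>
    intro D hm hle hinv hper
    by_cases hDt : D.card = t
    · exact ⟨D, Finset.Subset.refl _, hDt, hinv⟩
    have hlt : D.card < t := lt_of_le_of_ne hle hDt
    have hne : (Finset.univ \ D).Nonempty := by
      rw [← Finset.card_pos, Finset.card_sdiff_of_subset (Finset.subset_univ _), Finset.card_univ]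
      omega
    obtain ⟨x, hxm, hxmax⟩ := Finset.exists_max_image (Finset.univ \ D)
      (fun y => Function.minimalPeriod w y) hne
    have hxD : x ∉ D := (Finset.mem_sdiff.1 hxm).2
    have hpos := invset_period_pos w t ht0 hwt x
    set L := Function.minimalPeriod w x with hL
    have hdisj := invset_orb_disj w D hinv x hxD hpos
    have hcard : (D ∪ invsetOrb w x).card = D.card + L := by
      rw [Finset.card_union_of_disjoint hdisj, invset_card_orb]
    have hLD : L ∣ D.card := hper x hxD
    have hLt : L ∣ t := invset_period_dvd w t hwt x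
    have hLsub : L ∣ t - D.card := Nat.dvd_sub hLt hLD
    have hLle : L ≤ t - D.card := Nat.le_of_dvd (by omega) hLsub
    obtain ⟨D', hsub, hc, hi⟩ := ih (t - (D ∪ invsetOrb w x).card) (by rw [hcard]; omega)
      (D ∪ invsetOrb w x) rfl (by rw [hcard]; omega)
      (by
        intro y hy
        rcases Finset.mem_union.1 hy with h | h
        · exact Finset.mem_union_left _ (hinv y h)
        · exact Finset.mem_union_right _ (invset_orb_inv w x hpos y h))
      (by
        intro y hy
        have hyD : y ∉ D := fun h => hy (Finset.mem_union_left _ h)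
        rw [hcard]
        have h1 : Function.minimalPeriod w y ≤ L :=
          hxmax y (Finset.mem_sdiff.2 ⟨Finset.mem_univ _, hyD⟩)
        have h2 : Function.minimalPeriod w y ∣ L :=
          invset_ppow_dvd p hp _ _ (invset_period_ppow p hp w hw y) (invset_period_ppow p hp w hw x) h1
        exact Nat.dvd_add (hper y hyD) h2)
    exact ⟨D', (Finset.subset_union_left).trans hsub, hc, hi⟩

theorem exists_invariant_card (p : ℕ) (hp : p.Prime) (w : Perm Ω) (hw : IsPElt p w) (hw1 : w ≠ 1)
    (t : ℕ) (ht0 : 0 < t) (hwt : w ^ t = 1) (htn : t ≤ Fintype.card Ω) :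
    ∃ D : Finset Ω, D.card = t ∧ (∀ x ∈ D, w x ∈ D) ∧ ∃ x ∈ D, w x ≠ x := by
  obtain ⟨x, -, hxmax⟩ := Finset.exists_max_image (Finset.univ : Finset Ω)
    (fun y => Function.minimalPeriod w y)
    (by
      by_contra h
      rw [Finset.not_nonempty_iff_eq_empty, Finset.univ_eq_empty_iff] at h
      apply hw1
      ext y
      exact (h.false y).elim)
  have hpos := invset_period_pos w t ht0 hwt x
  have hwx : w x ≠ x := by
    intro hfix
    apply hw1
    ext y
    have h1 : Function.minimalPeriod w y ≤ Function.minimalPeriod w x := hxmax y (Finset.mem_univ _)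
    have h2 : Function.minimalPeriod w x = 1 := Function.minimalPeriod_eq_one_iff_isFixedPt.2 hfix
    have h3 : Function.minimalPeriod w y = 1 := by
      have := invset_period_pos w t ht0 hwt y
      omega
    exact Function.minimalPeriod_eq_one_iff_isFixedPt.1 h3
  have hmemx : x ∈ invsetOrb w x := (invset_mem_orb w x x hpos).2 ⟨0, by simp⟩
  obtain ⟨D', hsub, hc, hi⟩ := invset_greedy p hp w hw t ht0 hwt htn
    (t - (invsetOrb w x).card) (invsetOrb w x) rfl
    (by rw [invset_card_orb]; exact Nat.le_of_dvd ht0 (invset_period_dvd w t hwt x))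
    (invset_orb_inv w x hpos)
    (by
      intro y _
      rw [invset_card_orb]
      exact invset_ppow_dvd p hp _ _ (invset_period_ppow p hp w hw y)
        (invset_period_ppow p hp w hw x) (hxmax y (Finset.mem_univ _)))
  exact ⟨D', hc, hi, x, hsub hmemx, hwx⟩

end general

end Cfsg.Agent.Helper10.PC
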