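import Mathlib
import Cfsg.Agent.Lib.Helper10.PUDefs

/-!
# S2263 piece PU-DAGX (helper11, for helper10): `X ^ k - C c` is `dagger`-fixed when `c * σ c = 1`
-/

set_option autoImplicit false

namespace Cfsg.Agent.Helper10.PU

open Polynomial Matrix
open Cfsg.Agent.Helper10.EO (star)

section poly
variable {F : Type*} [Field F]

/-- PIECE PU-DAGX. -/
theorem dagger_X_pow_sub_C (σ : F →+* F) (k : ℕ) (hk : 0 < k) (c : F) (hc : c * σ c = 1) :
    dagger σ (X ^ k - C c) = X ^ k - C c := by
  have hs : σ c ≠ 0 := right_ne_zero_of_mul_eq_one hc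
  have hinv : (σ c)⁻¹ = c := (eq_inv_of_mul_eq_one_left hc).symm
  have h0 : (X ^ k - C (σ c) : F[X]).coeff 0 = - σ c := by
    rw [coeff_sub, coeff_X_pow, coeff_C_zero, if_neg (by omega), zero_sub]
  have hrev : (X ^ k - C (σ c) : F[X]).reverse = 1 - C (σ c) * X ^ k := by
    rw [reverse, natDegree_X_pow_sub_C, reflect_sub, reflect_monomial, reflect_C,
      revAt_le le_rfl, Nat.sub_self, pow_zero]
  unfold dagger Cfsg.Agent.Helper10.EO.star
  rw [Polynomial.map_sub, Polynomial.map_pow, map_X, map_C, h0, hrev, inv_neg, hinv, mul_sub,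
    mul_one, ← mul_assoc, ← C_mul, neg_mul, hc, C_neg]
  simp only [map_neg, map_one]
  ring

end poly

end Cfsg.Agent.Helper10.PU
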