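import Mathlib
import Cfsg.Prelude.Def_Classical

set_option autoImplicit false

/-! Counting for the standard Hermitian form over a field with `q^2` elements. -/

namespace Cfsg.Agent.Helper11.Herm

variable {F : Type*} [Field F] [Fintype F] {q : ℕ}

theorem two_le_q (hF : Fintype.card F = q ^ 2) : 2 ≤ q := by
  have h1 : 1 < Fintype.card F := Fintype.one_lt_card
  rw [hF] at h1
  by_contra h
  have : q ≤ 1 := by omega
  have : q ^ 2 ≤ 1 ^ 2 := Nat.pow_le_pow_left this 2
  omega

/-- `x ↦ x ^ q` is a ring homomorphism. -/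
theorem exists_frob (hF : Fintype.card F = q ^ 2) : ∃ φ : F →+* F, ∀ x, φ x = x ^ q := by
  obtain ⟨n, hp, hn⟩ := FiniteField.card F (ringChar F)
  have hdvd : q ∣ (ringChar F) ^ (n : ℕ) := by
    rw [← hn, hF]
    exact Dvd.intro_left q (by ring)
  obtain ⟨j, -, hj⟩ := (Nat.dvd_prime_pow hp).1 hdvd
  haveI : Fact (ringChar F).Prime := ⟨hp⟩
  haveI : CharP F (ringChar F) := ringChar.charP F
  exact ⟨iterateFrobenius F (ringChar F) j, fun x => by rw [iterateFrobenius_def, hj]⟩

theorem pow_q_pow_q (hF : Fintype.card F = q ^ 2) (x : F) : (x ^ q) ^ q = x := by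
  rw [← pow_mul, ← sq, ← hF, FiniteField.pow_card]

theorem add_pow_q (hF : Fintype.card F = q ^ 2) (x y : F) : (x + y) ^ q = x ^ q + y ^ q := by
  obtain ⟨φ, hφ⟩ := exists_frob hF
  rw [← hφ, ← hφ, ← hφ, map_add]

theorem sum_pow_q (hF : Fintype.card F = q ^ 2) {ι : Type*} (s : Finset ι) (f : ι → F) :
    (∑ i ∈ s, f i) ^ q = ∑ i ∈ s, (f i) ^ q := by
  obtain ⟨φ, hφ⟩ := exists_frob hF
  rw [← hφ, map_sum]
  exact Finset.sum_congr rfl (fun i _ => hφ _)

theorem neg_pow_q (hF : Fintype.card F = q ^ 2) (x : F) : (-x) ^ q = -(x ^ q) := by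
  obtain ⟨φ, hφ⟩ := exists_frob hF
  rw [← hφ, ← hφ, map_neg]

theorem sub_pow_q (hF : Fintype.card F = q ^ 2) (x y : F) : (x - y) ^ q = x ^ q - y ^ q := by
  obtain ⟨φ, hφ⟩ := exists_frob hF
  rw [← hφ, ← hφ, ← hφ, map_sub]

/-- the norm `x * x^q` is fixed by `x ↦ x^q` -/
theorem norm_pow_q (hF : Fintype.card F = q ^ 2) (x : F) : (x * x ^ q) ^ q = x * x ^ q := by
  rw [mul_pow, pow_q_pow_q hF, mul_comm]

theorem card_units_eq (hF : Fintype.card F = q ^ 2) : Nat.card Fˣ = q ^ 2 - 1 := by
  rw [Nat.card_units, Nat.card_eq_fintype_card, hF]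

theorem sq_sub_one (q : ℕ) (hq : 1 ≤ q) : q ^ 2 - 1 = (q + 1) * (q - 1) := by
  obtain ⟨m, rfl⟩ := Nat.exists_eq_add_of_le hq
  simp only [Nat.add_sub_cancel_left]
  have : (1 + m) ^ 2 = (1 + m + 1) * m + 1 := by ring
  rw [this, Nat.add_sub_cancel]

/-- the norm-one group has `q + 1` elements -/
theorem card_ker_norm (hF : Fintype.card F = q ^ 2) :
    Nat.card (powMonoidHom (q + 1) : Fˣ →* Fˣ).ker = q + 1 := by
  have hq := two_le_q hF
  rw [IsCyclic.card_powMonoidHom_ker, card_units_eq hF, sq_sub_one q (by omega)]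
  exact Nat.gcd_eq_right (Dvd.intro _ rfl)

theorem card_range_norm (hF : Fintype.card F = q ^ 2) :
    Nat.card (powMonoidHom (q + 1) : Fˣ →* Fˣ).range = q - 1 := by
  have hq := two_le_q hF
  rw [IsCyclic.card_powMonoidHom_range, card_units_eq hF, sq_sub_one q (by omega),
    Nat.gcd_eq_right (Dvd.intro _ rfl), Nat.mul_div_cancel_left _ (by omega)]

theorem card_ker_fixed (hF : Fintype.card F = q ^ 2) :
    Nat.card (powMonoidHom (q - 1) : Fˣ →* Fˣ).ker = q - 1 := by
  have hq := two_le_q hF
  rw [IsCyclic.card_powMonoidHom_ker, card_units_eq hF, sq_sub_one q (by omega)]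
  exact Nat.gcd_eq_right (Dvd.intro_left _ rfl)

theorem range_norm_eq_ker (hF : Fintype.card F = q ^ 2) :
    (powMonoidHom (q + 1) : Fˣ →* Fˣ).range = (powMonoidHom (q - 1) : Fˣ →* Fˣ).ker := by
  have hq := two_le_q hF
  apply Subgroup.eq_of_le_of_card_ge
  · rintro _ ⟨x, rfl⟩
    rw [MonoidHom.mem_ker, powMonoidHom_apply, powMonoidHom_apply, ← pow_mul,
      ← sq_sub_one q (by omega), ← card_units_eq hF]
    exact pow_card_eq_one'
  · rw [card_range_norm hF, card_ker_fixed hF]

/-- surjectivity of the norm onto the nonzero fixed elements -/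
theorem exists_norm_eq (hF : Fintype.card F = q ^ 2) (c : F) (hc0 : c ≠ 0) (hc : c ^ q = c) :
    ∃ l : F, l ≠ 0 ∧ l * l ^ q = c := by
  have hq := two_le_q hF
  have h1 : Units.mk0 c hc0 ∈ (powMonoidHom (q - 1) : Fˣ →* Fˣ).ker := by
    rw [MonoidHom.mem_ker, powMonoidHom_apply]
    apply Units.ext
    rw [Units.val_pow_eq_pow_val, Units.val_mk0, Units.val_one]
    have : c ^ (q - 1) * c = 1 * c := by
      rw [← pow_succ, Nat.sub_add_cancel (by omega), hc, one_mul]
    exact mul_right_cancel₀ hc0 this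
  rw [← range_norm_eq_ker hF] at h1
  obtain ⟨l, hl⟩ := h1
  refine ⟨(l : F), l.ne_zero, ?_⟩
  have := congrArg Units.val hl
  rw [powMonoidHom_apply, Units.val_pow_eq_pow_val, Units.val_mk0] at this
  rw [← this, pow_succ, mul_comm]

theorem card_norm_one (hF : Fintype.card F = q ^ 2) :
    Nat.card {x : F // x * x ^ q = 1} = q + 1 := by
  rw [← card_ker_norm hF]
  apply Nat.card_congr
  refine
    { toFun := fun x => ⟨Units.mk0 x.1 (by
          intro h
          have := x.2
          rw [h, zero_mul] at this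
          exact zero_ne_one this), by
        rw [MonoidHom.mem_ker, powMonoidHom_apply]
        apply Units.ext
        rw [Units.val_pow_eq_pow_val, Units.val_mk0, Units.val_one, pow_succ, mul_comm]
        exact x.2⟩
      invFun := fun u => ⟨(u.1 : F), by
        have := u.2
        rw [MonoidHom.mem_ker, powMonoidHom_apply] at this
        have := congrArg Units.val this
        rw [Units.val_pow_eq_pow_val, Units.val_one, pow_succ, mul_comm] at this
        exact this⟩
      left_inv := fun x => by simp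
      right_inv := fun u => by
        apply Subtype.ext
        apply Units.ext
        simp }

theorem card_fixed_ne_zero (hF : Fintype.card F = q ^ 2) :
    Nat.card {c : F // c ≠ 0 ∧ c ^ q = c} = q - 1 := by
  have hq := two_le_q hF
  rw [← card_ker_fixed hF]
  apply Nat.card_congr
  refine
    { toFun := fun x => ⟨Units.mk0 x.1 x.2.1, by
        rw [MonoidHom.mem_ker, powMonoidHom_apply]
        apply Units.ext
        rw [Units.val_pow_eq_pow_val, Units.val_mk0, Units.val_one]
        have : x.1 ^ (q - 1) * x.1 = 1 * x.1 := by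
          rw [← pow_succ, Nat.sub_add_cancel (by omega), x.2.2, one_mul]
        exact mul_right_cancel₀ x.2.1 this⟩
      invFun := fun u => ⟨(u.1 : F), u.1.ne_zero, by
        have := u.2
        rw [MonoidHom.mem_ker, powMonoidHom_apply] at this
        have := congrArg Units.val this
        rw [Units.val_pow_eq_pow_val, Units.val_one] at this
        have h2 : (u.1 : F) ^ q = (u.1 : F) ^ (q - 1) * (u.1 : F) := by
          rw [← pow_succ, Nat.sub_add_cancel (by omega)]
        rw [h2, this, one_mul]⟩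
      left_inv := fun x => by simp
      right_inv := fun u => by
        apply Subtype.ext
        apply Units.ext
        simp }

/-- number of vectors of Hermitian norm `c` -/
noncomputable def cnt (F : Type*) [Field F] (q n : ℕ) (c : F) : ℕ :=
  Nat.card {v : Fin n → F // Cfsg.hermForm n F q v v = c}

theorem herm_self (n : ℕ) (v : Fin n → F) :
    Cfsg.hermForm n F q v v = ∑ i, v i * (v i) ^ q := rfl

theorem herm_self_pow_q (hF : Fintype.card F = q ^ 2) (n : ℕ) (v : Fin n → F) :
    (Cfsg.hermForm n F q v v) ^ q = Cfsg.hermForm n F q v v := by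
  rw [herm_self, sum_pow_q hF]
  exact Finset.sum_congr rfl (fun i _ => norm_pow_q hF _)

theorem cnt_eq_zero_of_not_fixed (hF : Fintype.card F = q ^ 2) (n : ℕ) (c : F) (hc : c ^ q ≠ c) :
    cnt F q n c = 0 := by
  unfold cnt
  rw [Nat.card_eq_zero]
  left
  constructor
  rintro ⟨v, hv⟩
  apply hc
  rw [← hv, herm_self_pow_q hF]

theorem herm_smul (n : ℕ) (l : F) (v : Fin n → F) :
    Cfsg.hermForm n F q (l • v) (l • v) = (l * l ^ q) * Cfsg.hermForm n F q v v := by
  rw [herm_self, herm_self, Finset.mul_sum]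
  apply Finset.sum_congr rfl
  intro i _
  simp only [Pi.smul_apply, smul_eq_mul, mul_pow]
  ring

theorem cnt_eq_cnt_one (hF : Fintype.card F = q ^ 2) (n : ℕ) (c : F) (hc0 : c ≠ 0)
    (hc : c ^ q = c) : cnt F q n c = cnt F q n 1 := by
  obtain ⟨l, hl0, hl⟩ := exists_norm_eq hF c hc0 hc
  unfold cnt
  symm
  apply Nat.card_congr
  refine
    { toFun := fun v => ⟨l • v.1, by rw [herm_smul, v.2, hl, mul_one]⟩
      invFun := fun v => ⟨l⁻¹ • v.1, by
        rw [herm_smul, v.2, inv_pow, ← mul_inv, hl, inv_mul_cancel₀ hc0]⟩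
      left_inv := fun v => by
        apply Subtype.ext
        simp [smul_smul, inv_mul_cancel₀ hl0]
      right_inv := fun v => by
        apply Subtype.ext
        simp [smul_smul, mul_inv_cancel₀ hl0] }

theorem sum_cnt (hF : Fintype.card F = q ^ 2) (n : ℕ) :
    ∑ c : F, cnt F q n c = (q ^ 2) ^ n := by
  classical
  unfold cnt
  have h1 : Nat.card (Fin n → F) = (q ^ 2) ^ n := by
    rw [Nat.card_eq_fintype_card, Fintype.card_fun, Fintype.card_fin, hF]
  rw [← h1, ← Nat.card_sigma]
  exact Nat.card_congr (Equiv.sigmaFiberEquiv (fun v : Fin n → F => Cfsg.hermForm n F q v v))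

theorem cnt_zero_add (hF : Fintype.card F = q ^ 2) (n : ℕ) :
    cnt F q n 0 + (q - 1) * cnt F q n 1 = (q ^ 2) ^ n := by
  classical
  rw [← sum_cnt hF n]
  have h1 : ∀ c : F, cnt F q n c =
      (if c = 0 then cnt F q n 0 else 0) + (if c ≠ 0 ∧ c ^ q = c then cnt F q n 1 else 0) := by
    intro c
    by_cases hc0 : c = 0
    · subst hc0
      simp
    · by_cases hc : c ^ q = c
      · simp [hc0, hc, cnt_eq_cnt_one hF n c hc0 hc]
      · simp [hc0, hc, cnt_eq_zero_of_not_fixed hF n c hc]
  rw [Finset.sum_congr rfl (fun c _ => h1 c), Finset.sum_add_distrib, Finset.sum_ite_eq' ,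
    if_pos (Finset.mem_univ _), ← Finset.sum_filter, Finset.sum_const, smul_eq_mul]
  congr 2
  rw [← card_fixed_ne_zero hF, Nat.card_eq_fintype_card, Fintype.card_subtype]

theorem cnt_succ (n : ℕ) (c : F) :
    cnt F q (n + 1) c = ∑ x : F, cnt F q n (c - x * x ^ q) := by
  classical
  unfold cnt
  rw [← Nat.card_sigma]
  apply Nat.card_congr
  refine
    { toFun := fun v => ⟨v.1 0, ⟨fun i => v.1 i.succ, by
        have := v.2
        rw [herm_self, Fin.sum_univ_succ] at this
        rw [herm_self]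
        exact eq_sub_of_add_eq' this⟩⟩
      invFun := fun w => ⟨Fin.cons w.1 w.2.1, by
        have := w.2.2
        rw [herm_self] at this
        rw [herm_self, Fin.sum_univ_succ]
        simp only [Fin.cons_zero, Fin.cons_succ]
        rw [this]
        ring⟩
      left_inv := fun v => by
        apply Subtype.ext
        exact Fin.cons_self_tail v.1
      right_inv := fun w => by
        rcases w with ⟨x, w, hw⟩
        rfl }

theorem cnt_succ_one (hF : Fintype.card F = q ^ 2) (n : ℕ) :
    cnt F q (n + 1) 1 = (q + 1) * cnt F q n 0 + (q ^ 2 - (q + 1)) * cnt F q n 1 := by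
  classical
  rw [cnt_succ]
  have h1 : ∀ x : F, cnt F q n (1 - x * x ^ q) =
      (if x * x ^ q = 1 then cnt F q n 0 else 0) + (if ¬ x * x ^ q = 1 then cnt F q n 1 else 0) := by
    intro x
    by_cases hx : x * x ^ q = 1
    · simp [hx]
    · have h2 : (1 : F) - x * x ^ q ≠ 0 := fun h => hx (sub_eq_zero.1 h).symm
      have h3 : ((1 : F) - x * x ^ q) ^ q = 1 - x * x ^ q := by
        rw [sub_pow_q hF, one_pow, norm_pow_q hF]
      simp [hx, cnt_eq_cnt_one hF n _ h2 h3]
  rw [Finset.sum_congr rfl (fun c _ => h1 c), Finset.sum_add_distrib, ← Finset.sum_filter,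
    ← Finset.sum_filter, Finset.sum_const, Finset.sum_const, smul_eq_mul, smul_eq_mul]
  have h4 : (Finset.univ.filter (fun x : F => x * x ^ q = 1)).card = q + 1 := by
    rw [← card_norm_one hF, Nat.card_eq_fintype_card, Fintype.card_subtype]
  have h5 : (Finset.univ.filter (fun x : F => ¬ x * x ^ q = 1)).card = q ^ 2 - (q + 1) := by
    rw [Finset.filter_not, Finset.card_sdiff_of_subset (Finset.filter_subset _ _), h4,
      Finset.card_univ, hF]
  rw [h4, h5]

/-- the recurrence `U_{n+1} + q U_n = (q+1) q^{2n}` -/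
theorem cnt_rec (hF : Fintype.card F = q ^ 2) (n : ℕ) :
    cnt F q (n + 1) 1 + q * cnt F q n 1 = (q + 1) * (q ^ 2) ^ n := by
  have hq := two_le_q hF
  have h1 := cnt_succ_one hF n
  have h2 := cnt_zero_add hF n
  have hq2 : q + 1 ≤ q ^ 2 := by nlinarith
  zify [hq2, (by omega : 1 ≤ q)] at h1 h2 ⊢
  rw [h1]
  linear_combination ((q : ℤ) + 1) * h2

theorem q_mul_cnt (hF : Fintype.card F = q ^ 2) (n : ℕ) :
    ((q : ℤ) * cnt F q n 1 : ℤ) = (q : ℤ) ^ n * ((q : ℤ) ^ n - (-1) ^ n) := by
  induction n with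
  | zero =>
    have : cnt F q 0 1 = 0 := by
      unfold cnt
      rw [Nat.card_eq_zero]
      left
      constructor
      rintro ⟨v, hv⟩
      rw [herm_self] at hv
      simp at hv
    rw [this]
    simp
  | succ n ih =>
    have h1 := cnt_rec hF n
    zify at h1
    have h2 : (cnt F q (n + 1) 1 : ℤ) = ((q : ℤ) + 1) * ((q : ℤ) ^ 2) ^ n - q * cnt F q n 1 := by
      linear_combination h1
    rw [h2, ih]
    ring

theorem cnt_one_eq (hF : Fintype.card F = q ^ 2) (n : ℕ) :
    cnt F q n 1 = (if Even n then q ^ (n - 1) * (q ^ n - 1) else q ^ (n - 1) * (q ^ n + 1)) := by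
  have hq := two_le_q hF
  have h := q_mul_cnt hF n
  have hq0 : (q : ℤ) ≠ 0 := by positivity
  rcases Nat.eq_zero_or_pos n with hn | hn
  · subst hn
    simp at h
    have : cnt F q 0 1 = 0 := by
      rcases h with h | h
      · omega
      · exact h
    simp [this]
  · obtain ⟨m, rfl⟩ : ∃ m, n = m + 1 := ⟨n - 1, by omega⟩
    have h1 : (cnt F q (m + 1) 1 : ℤ) = (q : ℤ) ^ m * ((q : ℤ) ^ (m + 1) - (-1) ^ (m + 1)) := by
      apply mul_left_cancel₀ hq0
      rw [h]
      ring
    have hpos : 1 ≤ q ^ (m + 1) := Nat.one_le_pow _ _ (by omega)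
    by_cases hev : Even (m + 1)
    · rw [if_pos hev]
      rw [hev.neg_one_pow] at h1
      zify [hpos]
      rw [h1]
      simp
    · rw [if_neg hev]
      rw [(Nat.not_even_iff_odd.1 hev).neg_one_pow] at h1
      zify
      rw [h1]
      simp

end Cfsg.Agent.Helper11.Herm
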