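import Mathlib
import Cfsg.Prelude.Def_Classical
import Cfsg.Prelude.Def_LieClassical
import Cfsg.Agent.Lib.Helper11.HermCount

set_option autoImplicit false

/-! The unitary group of the standard Hermitian form, on an arbitrary finite index type. -/

namespace Cfsg.Agent.Helper11.Herm

open Matrix

section general

variable {F : Type*} [Field F] {ι : Type*} [Fintype ι] [DecidableEq ι] (φ : F →+* F)

/-- the form `Σ u_i φ(v_i)` -/
def hdot (u v : ι → F) : F := u ⬝ᵥ (φ ∘ v)

theorem hdot_def (u v : ι → F) : hdot φ u v = ∑ i, u i * φ (v i) := rfl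

theorem hdot_add_left (x y z : ι → F) : hdot φ (x + y) z = hdot φ x z + hdot φ y z := by
  unfold hdot; rw [add_dotProduct]

theorem hdot_sub_left (x y z : ι → F) : hdot φ (x - y) z = hdot φ x z - hdot φ y z := by
  unfold hdot; rw [sub_dotProduct]

theorem hdot_smul_left (a : F) (x z : ι → F) : hdot φ (a • x) z = a * hdot φ x z := by
  unfold hdot; rw [smul_dotProduct, smul_eq_mul]

theorem hdot_add_right (x y z : ι → F) : hdot φ x (y + z) = hdot φ x y + hdot φ x z := by
  simp only [hdot_def, Pi.add_apply, map_add, mul_add, Finset.sum_add_distrib]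

theorem hdot_sub_right (x y z : ι → F) : hdot φ x (y - z) = hdot φ x y - hdot φ x z := by
  simp only [hdot_def, Pi.sub_apply, map_sub, mul_sub, Finset.sum_sub_distrib]

theorem hdot_smul_right (a : F) (x z : ι → F) : hdot φ x (a • z) = φ a * hdot φ x z := by
  simp only [hdot_def, Pi.smul_apply, smul_eq_mul, map_mul, Finset.mul_sum]
  exact Finset.sum_congr rfl (fun i _ => by ring)

theorem hdot_zero_left (z : ι → F) : hdot φ 0 z = 0 := by
  unfold hdot; rw [zero_dotProduct]

theorem hdot_zero_right (z : ι → F) : hdot φ z 0 = 0 := by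
  simp [hdot_def]

theorem hdot_sum_left {κ : Type*} (s : Finset κ) (f : κ → ι → F) (z : ι → F) :
    hdot φ (∑ k ∈ s, f k) z = ∑ k ∈ s, hdot φ (f k) z := by
  unfold hdot; rw [sum_dotProduct]

theorem hdot_single_right (x : ι → F) (i : ι) : hdot φ x (Pi.single i 1) = x i := by
  rw [hdot_def, Finset.sum_eq_single i]
  · simp
  · intro j _ hj
    simp [Pi.single_eq_of_ne hj]
  · intro h; exact absurd (Finset.mem_univ i) h

theorem hdot_single_left (x : ι → F) (i : ι) : hdot φ (Pi.single i 1) x = φ (x i) := by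
  rw [hdot_def, Finset.sum_eq_single i]
  · simp
  · intro j _ hj
    simp [Pi.single_eq_of_ne hj]
  · intro h; exact absurd (Finset.mem_univ i) h

theorem hdot_single_single (i j : ι) :
    hdot φ (Pi.single i (1 : F)) (Pi.single j 1) = if i = j then 1 else 0 := by
  rw [hdot_single_right]
  by_cases h : i = j
  · subst h; simp
  · simp [h, Pi.single_eq_of_ne (Ne.symm h)]

/-- conjugate symmetry -/
theorem hdot_conj (hφφ : ∀ x, φ (φ x) = x) (x y : ι → F) : φ (hdot φ x y) = hdot φ y x := by
  simp only [hdot_def, map_sum, map_mul, hφφ]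
  exact Finset.sum_congr rfl (fun i _ => mul_comm _ _)

theorem hdot_eq_zero_symm (hφφ : ∀ x, φ (φ x) = x) (x y : ι → F) (h : hdot φ x y = 0) :
    hdot φ y x = 0 := by
  rw [← hdot_conj φ hφφ, h, map_zero]

/-- nondegeneracy -/
theorem eq_zero_of_hdot_right (x : ι → F) (h : ∀ y, hdot φ x y = 0) : x = 0 := by
  funext i
  have := h (Pi.single i 1)
  rw [hdot_single_right] at this
  exact this

theorem hdot_mulVec (M : Matrix ι ι F) (u v : ι → F) :
    hdot φ (M *ᵥ u) (M *ᵥ v) = u ⬝ᵥ ((Mᵀ * M.map φ) *ᵥ (φ ∘ v)) := by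
  have h1 : φ ∘ (M *ᵥ v) = M.map φ *ᵥ (φ ∘ v) := by
    funext i
    exact RingHom.map_mulVec φ M v i
  unfold hdot
  rw [h1, ← Matrix.vecMul_transpose, Matrix.dotProduct_mulVec, Matrix.vecMul_vecMul,
    ← Matrix.dotProduct_mulVec]

/-- the unitary condition -/
def IsU (M : Matrix ι ι F) : Prop := Mᵀ * M.map φ = 1

theorem IsU.hdot_mulVec {M : Matrix ι ι F} (hM : IsU φ M) (u v : ι → F) :
    hdot φ (M *ᵥ u) (M *ᵥ v) = hdot φ u v := by
  rw [Herm.hdot_mulVec, hM, Matrix.one_mulVec]
  rfl

theorem isU_of_preserves (M : Matrix ι ι F)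
    (h : ∀ u v, hdot φ (M *ᵥ u) (M *ᵥ v) = hdot φ u v) : IsU φ M := by
  unfold IsU
  ext i j
  have := h (Pi.single i 1) (Pi.single j 1)
  rw [Herm.hdot_mulVec, hdot_single_single] at this
  have h2 : φ ∘ (Pi.single j (1 : F)) = Pi.single j 1 := by
    funext k
    by_cases hk : k = j
    · subst hk; simp
    · simp [Pi.single_eq_of_ne hk]
  rw [h2, Matrix.mulVec_single_one, single_one_dotProduct] at this
  rw [Matrix.one_apply, ← this]
  rfl

theorem isU_iff_preserves (M : Matrix ι ι F) :
    IsU φ M ↔ ∀ u v, hdot φ (M *ᵥ u) (M *ᵥ v) = hdot φ u v :=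
  ⟨fun h => h.hdot_mulVec φ, isU_of_preserves φ M⟩

theorem IsU.mul {M N : Matrix ι ι F} (hM : IsU φ M) (hN : IsU φ N) : IsU φ (M * N) := by
  rw [isU_iff_preserves] at *
  intro u v
  rw [← Matrix.mulVec_mulVec, ← Matrix.mulVec_mulVec, hM, hN]

theorem isU_one : IsU φ (1 : Matrix ι ι F) := by
  rw [isU_iff_preserves]
  intro u v
  rw [Matrix.one_mulVec, Matrix.one_mulVec]

/-- the unitary group -/
def UG (ι : Type*) [Fintype ι] [DecidableEq ι] (φ : F →+* F) : Subgroup (GL ι F) where
  carrier := {g | IsU φ (g : Matrix ι ι F)}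
  mul_mem' {a b} ha hb := by
    change IsU φ ((a * b : GL ι F) : Matrix ι ι F)
    rw [Units.val_mul]
    exact IsU.mul φ ha hb
  one_mem' := by
    change IsU φ ((1 : GL ι F) : Matrix ι ι F)
    rw [Units.val_one]
    exact isU_one φ
  inv_mem' {a} ha := by
    change IsU φ ((a⁻¹ : GL ι F) : Matrix ι ι F)
    change IsU φ (a : Matrix ι ι F) at ha
    rw [isU_iff_preserves] at ha ⊢
    intro u v
    have := ha ((a⁻¹ : GL ι F).val *ᵥ u) ((a⁻¹ : GL ι F).val *ᵥ v)
    rw [Matrix.mulVec_mulVec, Matrix.mulVec_mulVec, ← Units.val_mul, mul_inv_cancel, Units.val_one,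
      Matrix.one_mulVec, Matrix.one_mulVec] at this
    exact this.symm

theorem mem_UG_iff (g : GL ι F) : g ∈ UG ι φ ↔ IsU φ (g : Matrix ι ι F) := Iff.rfl

/-- a unitary matrix is invertible -/
theorem IsU.det_ne_zero {M : Matrix ι ι F} (hM : IsU φ M) : M.det ≠ 0 := by
  intro h
  have := congrArg Matrix.det hM
  rw [Matrix.det_mul, Matrix.det_transpose, h, zero_mul, Matrix.det_one] at this
  exact zero_ne_one this

/-- a unitary matrix as an element of the unitary group -/
noncomputable def IsU.toUG {M : Matrix ι ι F} (hM : IsU φ M) : UG ι φ :=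
  ⟨Matrix.GeneralLinearGroup.mkOfDetNeZero M (hM.det_ne_zero φ), hM⟩

theorem IsU.coe_toUG {M : Matrix ι ι F} (hM : IsU φ M) :
    ((hM.toUG φ : GL ι F) : Matrix ι ι F) = M := rfl

theorem hdot_sum_right {κ : Type*} (s : Finset κ) (f : κ → ι → F) (z : ι → F) :
    hdot φ z (∑ k ∈ s, f k) = ∑ k ∈ s, hdot φ z (f k) := by
  classical
  induction s using Finset.induction_on with
  | empty => simp [hdot_zero_right]
  | insert a s ha ih => rw [Finset.sum_insert ha, Finset.sum_insert ha, hdot_add_right, ih]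

/-- Extension of an orthonormal family by one more vector. -/
theorem exists_orthonormal_extend (hφφ : ∀ x, φ (φ x) = x)
    (hN1 : ∀ c : F, c ≠ 0 → φ c = c → ∃ l : F, l ≠ 0 ∧ l * φ l = c)
    (hN2 : ∃ μ : F, μ + φ μ ≠ 0)
    (S : Finset ι) (c : ι → ι → F)
    (hc : ∀ i ∈ S, ∀ j ∈ S, hdot φ (c i) (c j) = if i = j then 1 else 0)
    (hS : S.card < Fintype.card ι) :
    ∃ w : ι → F, hdot φ w w = 1 ∧ ∀ i ∈ S, hdot φ w (c i) = 0 := by
  classical
  -- the projection
  let P : (ι → F) → (ι → F) := fun x => x - ∑ i ∈ S, hdot φ x (c i) • c i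
  have hP : ∀ x, ∀ j ∈ S, hdot φ (P x) (c j) = 0 := by
    intro x j hj
    simp only [P]
    rw [hdot_sub_left, hdot_sum_left, Finset.sum_eq_single j]
    · rw [hdot_smul_left, hc j hj j hj, if_pos rfl, mul_one, sub_self]
    · intro i hi hij
      rw [hdot_smul_left, hc i hi j hj, if_neg hij, mul_zero]
    · intro h; exact absurd hj h
  -- the orthogonality conditions are closed under linear combinations
  -- Step 1: some projection is nonzero
  have h1 : ∃ x, P x ≠ 0 := by
    by_contra hcon
    push Not at hcon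
    have hspan : Submodule.span F ((S.image c : Finset (ι → F)) : Set (ι → F)) = ⊤ := by
      rw [eq_top_iff]
      intro x _
      have hx : x = ∑ i ∈ S, hdot φ x (c i) • c i := by
        have := hcon x
        simp only [P] at this
        exact sub_eq_zero.1 this
      rw [hx]
      apply Submodule.sum_mem
      intro i hi
      apply Submodule.smul_mem
      apply Submodule.subset_span
      exact Finset.mem_coe.2 (Finset.mem_image_of_mem c hi)
    have h2 : Module.finrank F (Submodule.span F ((S.image c : Finset (ι → F)) : Set (ι → F))) ≤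
        (S.image c).card := finrank_span_finset_le_card (S.image c)
    rw [hspan, finrank_top, Module.finrank_fintype_fun_eq_card] at h2
    have h3 := Finset.card_image_le (s := S) (f := c)
    omega
  obtain ⟨x, hx⟩ := h1
  set w0 := P x with hw0
  -- Step 2
  obtain ⟨i, hi⟩ : ∃ i, w0 i ≠ 0 := by
    by_contra hcon
    push Not at hcon
    exact hx (funext hcon)
  set y := P (Pi.single i 1) with hy
  have hw0y : hdot φ w0 y = w0 i := by
    simp only [hy, P]
    rw [hdot_sub_right, hdot_sum_right, hdot_single_right, Finset.sum_eq_zero, sub_zero]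
    intro k hk
    rw [hdot_smul_right, hP x k hk, mul_zero]
  -- Step 3
  obtain ⟨u, hu0, hu⟩ : ∃ u : ι → F, hdot φ u u ≠ 0 ∧ ∀ j ∈ S, hdot φ u (c j) = 0 := by
    by_cases h1 : hdot φ w0 w0 ≠ 0
    · exact ⟨w0, h1, hP x⟩
    by_cases h2 : hdot φ y y ≠ 0
    · exact ⟨y, h2, hP _⟩
    push Not at h1 h2
    obtain ⟨μ, hμ⟩ := hN2
    have ht0 : hdot φ w0 y ≠ 0 := by rw [hw0y]; exact hi
    obtain ⟨t, ht⟩ : ∃ t, t = hdot φ w0 y := ⟨_, rfl⟩
    rw [← ht] at ht0
    refine ⟨w0 + φ (μ / t) • y, ?_, ?_⟩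
    · rw [hdot_add_left, hdot_add_right, hdot_add_right, hdot_smul_left, hdot_smul_left,
        hdot_smul_right, hdot_smul_right, h1, h2, ← hdot_conj φ hφφ w0 y, ← ht, hφφ]
      have : (0 : F) + μ / t * t + (φ (μ / t) * φ t + φ (μ / t) * (μ / t * 0)) = μ + φ μ := by
        rw [← map_mul, div_mul_cancel₀ _ ht0]
        ring
      rw [this]
      exact hμ
    · intro j hj
      rw [hdot_add_left, hdot_smul_left, hP x j hj, hP _ j hj, mul_zero, add_zero]
  -- Step 4
  have hfix : φ (hdot φ u u) = hdot φ u u := hdot_conj φ hφφ u u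
  obtain ⟨l, hl0, hl⟩ := hN1 _ hu0 hfix
  refine ⟨l⁻¹ • u, ?_, ?_⟩
  · rw [hdot_smul_left, hdot_smul_right, ← hl, map_inv₀]
    have hφl : φ l ≠ 0 := by
      intro h
      apply hl0
      rw [← hφφ l, h, map_zero]
    field_simp
  · intro j hj
    rw [hdot_smul_left, hu j hj, mul_zero]

/-- Every vector of norm one is a column of a unitary matrix. -/
theorem exists_isU_col (hφφ : ∀ x, φ (φ x) = x)
    (hN1 : ∀ c : F, c ≠ 0 → φ c = c → ∃ l : F, l ≠ 0 ∧ l * φ l = c)
    (hN2 : ∃ μ : F, μ + φ μ ≠ 0)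
    (i0 : ι) (v : ι → F) (hv : hdot φ v v = 1) :
    ∃ M : Matrix ι ι F, IsU φ M ∧ M *ᵥ Pi.single i0 1 = v := by
  classical
  have key : ∀ T : Finset ι, i0 ∉ T → ∃ c : ι → ι → F, c i0 = v ∧
      ∀ i ∈ insert i0 T, ∀ j ∈ insert i0 T, hdot φ (c i) (c j) = if i = j then 1 else 0 := by
    intro T
    induction T using Finset.induction_on with
    | empty =>
      intro _
      refine ⟨fun _ => v, rfl, ?_⟩
      intro i hi j hj
      simp only [Finset.insert_empty, Finset.mem_singleton] at hi hj
      rw [hi, hj, if_pos rfl]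
      exact hv
    | insert a T ha ih =>
      intro hi0
      have hai0 : a ≠ i0 := by
        rintro rfl
        exact hi0 (Finset.mem_insert_self _ _)
      have hi0T : i0 ∉ T := fun h => hi0 (Finset.mem_insert_of_mem h)
      obtain ⟨c, hc0, hc⟩ := ih hi0T
      have haS : a ∉ insert i0 T := by
        rw [Finset.mem_insert]
        push Not
        exact ⟨hai0, ha⟩
      have hcard : (insert i0 T).card < Fintype.card ι := by
        rw [← Finset.card_univ]
        apply Finset.card_lt_card
        rw [Finset.ssubset_univ_iff]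
        intro h
        rw [h] at haS
        exact haS (Finset.mem_univ _)
      obtain ⟨w, hww, hw⟩ := exists_orthonormal_extend φ hφφ hN1 hN2 (insert i0 T) c hc hcard
      refine ⟨Function.update c a w, ?_, ?_⟩
      · rw [Function.update_of_ne (Ne.symm hai0), hc0]
      · intro i hi j hj
        have hi' : i = a ∨ i ∈ insert i0 T := by
          simp only [Finset.mem_insert] at hi ⊢
          tauto
        have hj' : j = a ∨ j ∈ insert i0 T := by
          simp only [Finset.mem_insert] at hj ⊢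
          tauto
        rcases hi' with rfl | hi'
        · rcases hj' with rfl | hj'
          · rw [Function.update_self, if_pos rfl, hww]
          · have hji : j ≠ i := fun h => haS (h ▸ hj')
            rw [Function.update_self, Function.update_of_ne hji, if_neg (Ne.symm hji)]
            exact hw j hj'
        · rcases hj' with rfl | hj'
          · have hij : i ≠ j := fun h => haS (h ▸ hi')
            rw [Function.update_self, Function.update_of_ne hij, if_neg hij]
            exact hdot_eq_zero_symm φ hφφ _ _ (hw i hi')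
          · have hia : i ≠ a := fun h => haS (h ▸ hi')
            have hja : j ≠ a := fun h => haS (h ▸ hj')
            rw [Function.update_of_ne hia, Function.update_of_ne hja]
            exact hc i hi' j hj'
  obtain ⟨c, hc0, hc⟩ := key (Finset.univ.erase i0) (Finset.notMem_erase _ _)
  rw [Finset.insert_erase (Finset.mem_univ _)] at hc
  refine ⟨Matrix.of (fun k j => c j k), ?_, ?_⟩
  · unfold IsU
    ext i j
    rw [Matrix.mul_apply, Matrix.one_apply, ← hc i (Finset.mem_univ _) j (Finset.mem_univ _),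
      hdot_def]
    rfl
  · rw [Matrix.mulVec_single_one, ← hc0]
    rfl

end general

section counting

variable {F : Type*} [Field F] (φ : F →+* F)

/-- the unitary group as a subtype of matrices -/
noncomputable def ugEquivSubtype (ι : Type*) [Fintype ι] [DecidableEq ι] :
    UG ι φ ≃ {M : Matrix ι ι F // IsU φ M} where
  toFun g := ⟨((g : GL ι F) : Matrix ι ι F), g.2⟩
  invFun M := M.2.toUG φ
  left_inv g := by
    apply Subtype.ext
    apply Units.ext
    rfl
  right_inv M := rfl

/-- reindexing -/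
theorem card_UG_congr {ι ι' : Type*} [Fintype ι] [DecidableEq ι] [Fintype ι'] [DecidableEq ι']
    (e : ι ≃ ι') : Nat.card (UG ι φ) = Nat.card (UG ι' φ) := by
  rw [Nat.card_congr (ugEquivSubtype φ ι), Nat.card_congr (ugEquivSubtype φ ι')]
  apply Nat.card_congr
  refine
    { toFun := fun M => ⟨Matrix.reindex e e M.1, ?_⟩
      invFun := fun M => ⟨Matrix.reindex e.symm e.symm M.1, ?_⟩
      left_inv := fun M => by
        apply Subtype.ext
        ext i j
        simp
      right_inv := fun M => by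
        apply Subtype.ext
        ext i j
        simp }
  · have := M.2
    unfold IsU at this ⊢
    rw [Matrix.reindex_apply, Matrix.transpose_submatrix, ← Matrix.submatrix_map,
      Matrix.submatrix_mul_equiv, this, Matrix.submatrix_one_equiv]
  · have := M.2
    unfold IsU at this ⊢
    rw [Matrix.reindex_apply, Matrix.transpose_submatrix, ← Matrix.submatrix_map,
      Matrix.submatrix_mul_equiv, this, Matrix.submatrix_one_equiv]

theorem card_norm_one_congr {ι ι' : Type*} [Fintype ι] [Fintype ι'] [DecidableEq ι]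
    [DecidableEq ι'] (e : ι ≃ ι') :
    Nat.card {v : ι → F // hdot φ v v = 1} = Nat.card {v : ι' → F // hdot φ v v = 1} := by
  apply Nat.card_congr
  refine
    { toFun := fun v => ⟨v.1 ∘ e.symm, ?_⟩
      invFun := fun v => ⟨v.1 ∘ e, ?_⟩
      left_inv := fun v => by
        apply Subtype.ext
        funext i
        simp
      right_inv := fun v => by
        apply Subtype.ext
        funext i
        simp }
  · refine Eq.trans ?_ v.2
    rw [hdot_def, hdot_def]
    exact Equiv.sum_comp e.symm (fun i => v.1 i * φ (v.1 i))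
  · refine Eq.trans ?_ v.2
    rw [hdot_def, hdot_def]
    exact Equiv.sum_comp e (fun i => v.1 i * φ (v.1 i))

variable {κ : Type*} [Fintype κ] [DecidableEq κ]

/-- the block embedding -/
theorem isU_fromBlocks (A : Matrix κ κ F) (hA : IsU φ A) :
    IsU φ (Matrix.fromBlocks (1 : Matrix Unit Unit F) 0 0 A) := by
  unfold IsU at hA ⊢
  rw [Matrix.fromBlocks_transpose, Matrix.fromBlocks_map, Matrix.fromBlocks_multiply]
  simp only [Matrix.transpose_one, Matrix.transpose_zero, Matrix.map_zero _ (map_zero φ),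
    Matrix.map_one _ (map_zero φ) (map_one φ), Matrix.mul_one, Matrix.zero_mul, Matrix.mul_zero,
    add_zero, zero_add, hA]
  exact Matrix.fromBlocks_one

/-- a unitary matrix fixing the first basis vector is block diagonal -/
theorem eq_fromBlocks_of_fix (hφinj : Function.Injective φ) (M : Matrix (Unit ⊕ κ) (Unit ⊕ κ) F)
    (hM : IsU φ M) (hfix : M *ᵥ Pi.single (Sum.inl ()) 1 = Pi.single (Sum.inl ()) 1) :
    M = Matrix.fromBlocks 1 0 0 M.toBlocks₂₂ ∧ IsU φ M.toBlocks₂₂ := by
  have h11 : M.toBlocks₁₁ = 1 := by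
    ext i j
    have := congrFun hfix (Sum.inl ())
    rw [Matrix.mulVec_single_one] at this
    simpa [Matrix.toBlocks₁₁] using this
  have h21 : M.toBlocks₂₁ = 0 := by
    ext i j
    have := congrFun hfix (Sum.inr i)
    rw [Matrix.mulVec_single_one] at this
    simpa [Matrix.toBlocks₂₁] using this
  have hM' := hM
  unfold IsU at hM'
  rw [← Matrix.fromBlocks_toBlocks M, h11, h21, Matrix.fromBlocks_transpose,
    Matrix.fromBlocks_map, Matrix.fromBlocks_multiply, ← Matrix.fromBlocks_one,
    Matrix.fromBlocks_inj] at hM'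
  obtain ⟨-, h2, -, h4⟩ := hM'
  simp only [Matrix.transpose_one, Matrix.transpose_zero, Matrix.one_mul, Matrix.zero_mul,
    add_zero] at h2
  have h12 : M.toBlocks₁₂ = 0 := by
    ext i j
    have := congrFun (congrFun h2 i) j
    simp only [Matrix.map_apply, Matrix.zero_apply] at this
    rw [Matrix.zero_apply]
    exact hφinj (by rw [this, map_zero])
  rw [h12] at h4
  simp only [Matrix.transpose_zero, Matrix.zero_mul, zero_add] at h4
  refine ⟨?_, h4⟩
  conv_lhs => rw [← Matrix.fromBlocks_toBlocks M, h11, h21, h12]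

/-- the action of the unitary group on vectors -/
@[reducible] def ugAction (ι : Type*) [Fintype ι] [DecidableEq ι] :
    MulAction (UG ι φ) (ι → F) where
  smul g v := ((g : GL ι F) : Matrix ι ι F) *ᵥ v
  one_smul v := by
    change (((1 : UG ι φ) : GL ι F) : Matrix ι ι F) *ᵥ v = v
    simp
  mul_smul g h v := by
    change (((g * h : UG ι φ) : GL ι F) : Matrix ι ι F) *ᵥ v =
      ((g : GL ι F) : Matrix ι ι F) *ᵥ (((h : GL ι F) : Matrix ι ι F) *ᵥ v)
    rw [Subgroup.coe_mul, Units.val_mul, Matrix.mulVec_mulVec]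

theorem card_UG_sum (hφφ : ∀ x, φ (φ x) = x)
    (hN1 : ∀ c : F, c ≠ 0 → φ c = c → ∃ l : F, l ≠ 0 ∧ l * φ l = c)
    (hN2 : ∃ μ : F, μ + φ μ ≠ 0) :
    Nat.card (UG (Unit ⊕ κ) φ) =
      Nat.card {v : Unit ⊕ κ → F // hdot φ v v = 1} * Nat.card (UG κ φ) := by
  classical
  letI := ugAction φ (Unit ⊕ κ)
  have hsmul : ∀ (g : UG (Unit ⊕ κ) φ) (v : Unit ⊕ κ → F),
      g • v = ((g : GL (Unit ⊕ κ) F) : Matrix (Unit ⊕ κ) (Unit ⊕ κ) F) *ᵥ v := fun _ _ => rfl
  set e0 : Unit ⊕ κ → F := Pi.single (Sum.inl ()) 1 with he0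
  have he0n : hdot φ e0 e0 = 1 := by
    rw [he0, hdot_single_single, if_pos rfl]
  have horbit : MulAction.orbit (UG (Unit ⊕ κ) φ) e0 = {v | hdot φ v v = 1} := by
    ext v
    constructor
    · rintro ⟨g, rfl⟩
      change hdot φ (g • e0) (g • e0) = 1
      rw [hsmul, IsU.hdot_mulVec φ g.2, he0n]
    · intro hv
      obtain ⟨M, hM, hMv⟩ := exists_isU_col φ hφφ hN1 hN2 (Sum.inl ()) v hv
      refine ⟨hM.toUG φ, ?_⟩
      change (hM.toUG φ) • e0 = v
      rw [hsmul, IsU.coe_toUG]
      exact hMv
  have h1 := Subgroup.card_mul_index (MulAction.stabilizer (UG (Unit ⊕ κ) φ) e0)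
  rw [MulAction.index_stabilizer, horbit, ← Nat.card_coe_set_eq] at h1
  change _ * Nat.card {v : Unit ⊕ κ → F // hdot φ v v = 1} = _ at h1
  rw [← h1, mul_comm]
  congr 1
  apply Nat.card_congr
  refine
    { toFun := fun h => (eq_fromBlocks_of_fix φ φ.injective
          (((h.1 : UG (Unit ⊕ κ) φ) : GL (Unit ⊕ κ) F) : Matrix (Unit ⊕ κ) (Unit ⊕ κ) F) h.1.2
          (by
            have := h.2
            rw [MulAction.mem_stabilizer_iff, hsmul] at this
            exact this)).2.toUG φ
      invFun := fun A => ⟨(isU_fromBlocks φ _ A.2).toUG φ, by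
        rw [MulAction.mem_stabilizer_iff, hsmul, IsU.coe_toUG, Matrix.mulVec_single_one]
        funext i
        rcases i with i | i
        · simp [he0, Matrix.col]
        · simp [he0, Matrix.col]⟩
      left_inv := fun h => by
        apply Subtype.ext
        apply Subtype.ext
        apply Units.ext
        have := (eq_fromBlocks_of_fix φ φ.injective
          (((h.1 : UG (Unit ⊕ κ) φ) : GL (Unit ⊕ κ) F) : Matrix (Unit ⊕ κ) (Unit ⊕ κ) F) h.1.2
          (by
            have := h.2
            rw [MulAction.mem_stabilizer_iff, hsmul] at this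
            exact this)).1
        exact this.symm
      right_inv := fun A => by
        apply Subtype.ext
        apply Units.ext
        exact Matrix.toBlocks_fromBlocks₂₂ _ _ _ _ }

end counting

section GU

variable {F : Type*} [Field F] {q : ℕ}

theorem hermForm_eq_hdot (φ : F →+* F) (hφ : ∀ x, φ x = x ^ q) (n : ℕ) (u v : Fin n → F) :
    Cfsg.hermForm n F q u v = hdot φ u v := by
  rw [hdot_def]
  unfold Cfsg.hermForm
  exact Finset.sum_congr rfl (fun i _ => by rw [hφ])

theorem GU_eq_UG (φ : F →+* F) (hφ : ∀ x, φ x = x ^ q) (n : ℕ) :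
    Cfsg.GU n F q = UG (Fin n) φ := by
  ext g
  rw [mem_UG_iff, isU_iff_preserves]
  unfold Cfsg.GU Cfsg.preserving
  simp only [Subgroup.mem_mk, Submonoid.mem_mk, Subsemigroup.mem_mk, Set.mem_ofPred_eq,
    hermForm_eq_hdot φ hφ]
  rfl

section finite

variable {F : Type*} [Field F] [Fintype F] {q : ℕ}

theorem frob_frob (hF : Fintype.card F = q ^ 2) (φ : F →+* F) (hφ : ∀ x, φ x = x ^ q) (x : F) :
    φ (φ x) = x := by
  rw [hφ, hφ, pow_q_pow_q hF]

theorem frob_norm_surj (hF : Fintype.card F = q ^ 2) (φ : F →+* F) (hφ : ∀ x, φ x = x ^ q) :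
    ∀ c : F, c ≠ 0 → φ c = c → ∃ l : F, l ≠ 0 ∧ l * φ l = c := by
  intro c hc0 hc
  rw [hφ] at hc
  obtain ⟨l, hl0, hl⟩ := exists_norm_eq hF c hc0 hc
  exact ⟨l, hl0, by rw [hφ, hl]⟩

theorem frob_trace_ne_zero (hF : Fintype.card F = q ^ 2) (φ : F →+* F) (hφ : ∀ x, φ x = x ^ q) :
    ∃ μ : F, μ + φ μ ≠ 0 := by
  have hq := two_le_q hF
  by_cases h2 : (2 : F) = 0
  · obtain ⟨ζ, hζ⟩ := IsCyclic.exists_generator (α := Fˣ)
    refine ⟨(ζ : F), ?_⟩
    intro h
    have h1 : φ (ζ : F) = (ζ : F) := by
      have : φ (ζ : F) = -(ζ : F) := by linear_combination h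
      rw [this]
      linear_combination (-(ζ : F)) * h2
    rw [hφ] at h1
    have h3 : ζ ^ (q - 1) = 1 := by
      apply Units.ext
      rw [Units.val_pow_eq_pow_val, Units.val_one]
      have : (ζ : F) ^ (q - 1) * (ζ : F) = 1 * (ζ : F) := by
        rw [← pow_succ, Nat.sub_add_cancel (by omega), h1, one_mul]
      exact mul_right_cancel₀ ζ.ne_zero this
    have h4 := orderOf_dvd_of_pow_eq_one h3
    rw [orderOf_eq_card_of_forall_mem_zpowers hζ, card_units_eq hF] at h4
    have h5 := Nat.le_of_dvd (by omega) h4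
    have h6 : q < q ^ 2 := by nlinarith
    omega
  · refine ⟨1, ?_⟩
    rw [map_one]
    intro h
    apply h2
    linear_combination h

theorem card_UG_fin_succ (hF : Fintype.card F = q ^ 2) (φ : F →+* F) (hφ : ∀ x, φ x = x ^ q)
    (n : ℕ) :
    Nat.card (UG (Fin (n + 1)) φ) = cnt F q (n + 1) 1 * Nat.card (UG (Fin n) φ) := by
  have e : Fin (n + 1) ≃ Unit ⊕ Fin n :=
    Fintype.equivOfCardEq (by simp [add_comm])
  rw [card_UG_congr φ e, card_UG_sum φ (frob_frob hF φ hφ) (frob_norm_surj hF φ hφ)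
    (frob_trace_ne_zero hF φ hφ), ← card_norm_one_congr φ e]
  congr 1
  unfold cnt
  apply Nat.card_congr
  exact Equiv.subtypeEquivRight (fun v => by rw [hermForm_eq_hdot φ hφ])

/-- the order formula -/
def guOrder (q n : ℕ) : ℕ :=
  q ^ (n * (n - 1) / 2) *
    ∏ i ∈ Finset.range n, (if Even i then q ^ (i + 1) + 1 else q ^ (i + 1) - 1)

theorem guOrder_succ (q n : ℕ) :
    guOrder q (n + 1) =
      (if Even (n + 1) then q ^ n * (q ^ (n + 1) - 1) else q ^ n * (q ^ (n + 1) + 1)) *
        guOrder q n := by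
  unfold guOrder
  rw [Finset.prod_range_succ]
  have h1 : (n + 1) * (n + 1 - 1) / 2 = n * (n - 1) / 2 + n := by
    rw [Nat.add_sub_cancel]
    rcases Nat.eq_zero_or_pos n with rfl | hn
    · simp
    · obtain ⟨m, rfl⟩ : ∃ m, n = m + 1 := ⟨n - 1, by omega⟩
      rw [Nat.add_sub_cancel]
      have : (m + 1 + 1) * (m + 1) = (m + 1) * m + (m + 1) * 2 := by ring
      rw [this, Nat.add_mul_div_right _ _ (by norm_num)]
  rw [h1, pow_add]
  by_cases hn : Even n
  · have : ¬ Even (n + 1) := by
      rw [Nat.even_add_one]; exact not_not.2 hn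
    rw [if_pos hn, if_neg this]
    ring
  · have : Even (n + 1) := by
      rw [Nat.even_add_one]; exact hn
    rw [if_neg hn, if_pos this]
    ring

theorem card_UG_fin (hF : Fintype.card F = q ^ 2) (φ : F →+* F) (hφ : ∀ x, φ x = x ^ q)
    (n : ℕ) : Nat.card (UG (Fin n) φ) = guOrder q n := by
  induction n with
  | zero =>
    have : Nat.card (UG (Fin 0) φ) = 1 := by
      rw [Nat.card_eq_one_iff_unique]
      refine ⟨⟨?_⟩, ⟨1⟩⟩
      intro a b
      apply Subtype.ext
      apply Units.ext
      ext i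
      exact i.elim0
    rw [this]
    simp [guOrder]
  | succ n ih =>
    rw [card_UG_fin_succ hF φ hφ, ih, guOrder_succ, cnt_one_eq hF, Nat.add_sub_cancel]

theorem card_GU (hF : Fintype.card F = q ^ 2) (n : ℕ) :
    Nat.card (Cfsg.GU n F q) = guOrder q n := by
  obtain ⟨φ, hφ⟩ := exists_frob hF
  rw [GU_eq_UG φ hφ, card_UG_fin hF φ hφ]

end finite

end GU

end Cfsg.Agent.Helper11.Herm
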