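import Mathlib
import Cfsg.Agent.Lib.Helper11.Unitary

set_option autoImplicit false

/-! Orders of `SU_n(q)`, its centre, and `PSU_n(q)`. -/

namespace Cfsg.Agent.Helper11.Herm

open Matrix

variable {F : Type*} [Field F] {q : ℕ}

theorem mem_GU_iff_isU (φ : F →+* F) (hφ : ∀ x, φ x = x ^ q) (n : ℕ) (g : GL (Fin n) F) :
    g ∈ Cfsg.GU n F q ↔ IsU φ (g : Matrix (Fin n) (Fin n) F) := by
  rw [GU_eq_UG φ hφ, mem_UG_iff]

theorem mem_SU_iff_isU (φ : F →+* F) (hφ : ∀ x, φ x = x ^ q) (n : ℕ)
    (g : Matrix.SpecialLinearGroup (Fin n) F) :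
    g ∈ Cfsg.SU n F q ↔ IsU φ (g : Matrix (Fin n) (Fin n) F) := by
  rw [isU_iff_preserves]
  unfold Cfsg.SU Cfsg.preserving
  simp only [Subgroup.mem_mk, Submonoid.mem_mk, Subsemigroup.mem_mk, Set.mem_ofPred_eq,
    hermForm_eq_hdot φ hφ]
  rfl

/-- determinant of a unitary matrix has norm one -/
theorem IsU.det_norm (φ : F →+* F) {ι : Type*} [Fintype ι] [DecidableEq ι] {M : Matrix ι ι F}
    (hM : IsU φ M) : M.det * φ M.det = 1 := by
  have := congrArg Matrix.det hM
  rw [Matrix.det_mul, Matrix.det_transpose, Matrix.det_one] at this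
  rw [RingHom.map_det]
  exact this

theorem isU_diagonal (φ : F →+* F) {ι : Type*} [Fintype ι] [DecidableEq ι] (d : ι → F)
    (hd : ∀ i, d i * φ (d i) = 1) : IsU φ (Matrix.diagonal d) := by
  unfold IsU
  rw [Matrix.diagonal_transpose, Matrix.diagonal_map (map_zero φ), Matrix.diagonal_mul_diagonal,
    ← Matrix.diagonal_one]
  congr 1
  funext i
  exact hd i

/-- the determinant on `GU` -/
noncomputable def detGU (n : ℕ) (F : Type*) [Field F] (q : ℕ) : Cfsg.GU n F q →* Fˣ :=
  Matrix.GeneralLinearGroup.det.comp (Cfsg.GU n F q).subtype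

theorem detGU_apply (n : ℕ) (g : Cfsg.GU n F q) :
    ((detGU n F q g : Fˣ) : F) = ((g : GL (Fin n) F) : Matrix (Fin n) (Fin n) F).det := rfl

variable [Fintype F]

theorem range_detGU (hF : Fintype.card F = q ^ 2) (n : ℕ) (hn : 1 ≤ n) :
    (detGU n F q).range = (powMonoidHom (q + 1) : Fˣ →* Fˣ).ker := by
  obtain ⟨φ, hφ⟩ := exists_frob hF
  ext u
  constructor
  · rintro ⟨g, rfl⟩
    rw [MonoidHom.mem_ker, powMonoidHom_apply]
    apply Units.ext
    rw [Units.val_pow_eq_pow_val, Units.val_one, detGU_apply, pow_succ, mul_comm]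
    have := IsU.det_norm φ ((mem_GU_iff_isU φ hφ n g.1).1 g.2)
    rw [hφ, mul_comm] at this
    rw [mul_comm]
    exact this
  · intro hu
    rw [MonoidHom.mem_ker, powMonoidHom_apply] at hu
    have hu' : (u : F) * φ (u : F) = 1 := by
      have := congrArg Units.val hu
      rw [Units.val_pow_eq_pow_val, Units.val_one, pow_succ, mul_comm] at this
      rw [hφ]
      exact this
    let i0 : Fin n := ⟨0, hn⟩
    let d : Fin n → F := Function.update (fun _ => (1 : F)) i0 (u : F)
    have hd : ∀ i, d i * φ (d i) = 1 := by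
      intro i
      by_cases hi : i = i0
      · subst hi
        simp only [d, Function.update_self]
        exact hu'
      · simp only [d, Function.update_of_ne hi]
        rw [map_one, mul_one]
    have hU := isU_diagonal φ d hd
    have hdet : (Matrix.diagonal d).det = (u : F) := by
      rw [Matrix.det_diagonal]
      simp only [d]
      rw [Finset.prod_update_of_mem (Finset.mem_univ _)]
      simp
    refine ⟨⟨(hU.toUG φ : GL (Fin n) F), ?_⟩, ?_⟩
    · rw [mem_GU_iff_isU φ hφ]
      exact hU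
    · apply Units.ext
      rw [detGU_apply]
      exact hdet

/-- typed constructor for the special linear group -/
def mkSL {ι : Type*} [Fintype ι] [DecidableEq ι] (M : Matrix ι ι F) (h : M.det = 1) :
    Matrix.SpecialLinearGroup ι F := ⟨M, h⟩

theorem coe_mkSL {ι : Type*} [Fintype ι] [DecidableEq ι] (M : Matrix ι ι F) (h : M.det = 1) :
    (mkSL M h : Matrix ι ι F) = M := rfl

/-- the kernel of the determinant on `GU` is `SU` -/
noncomputable def kerDetEquivSU (hF : Fintype.card F = q ^ 2) (n : ℕ) :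
    (detGU n F q).ker ≃ Cfsg.SU n F q where
  toFun k := ⟨mkSL ((k.1 : GL (Fin n) F) : Matrix (Fin n) (Fin n) F) (by
      have := k.2
      rw [MonoidHom.mem_ker] at this
      have := congrArg Units.val this
      rw [detGU_apply, Units.val_one] at this
      exact this), by
    obtain ⟨φ, hφ⟩ := exists_frob hF
    rw [mem_SU_iff_isU φ hφ]
    exact (mem_GU_iff_isU φ hφ n k.1.1).1 k.1.2⟩
  invFun s := ⟨⟨Matrix.SpecialLinearGroup.toGL s.1, by
      obtain ⟨φ, hφ⟩ := exists_frob hF
      rw [mem_GU_iff_isU φ hφ]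
      exact (mem_SU_iff_isU φ hφ n s.1).1 s.2⟩, by
    rw [MonoidHom.mem_ker]
    apply Units.ext
    rw [detGU_apply, Units.val_one]
    exact s.1.2⟩
  left_inv k := by
    apply Subtype.ext
    apply Subtype.ext
    apply Units.ext
    rfl
  right_inv s := by
    apply Subtype.ext
    apply Subtype.ext
    rfl

theorem card_GU_eq_SU (hF : Fintype.card F = q ^ 2) (n : ℕ) (hn : 1 ≤ n) :
    (q + 1) * Nat.card (Cfsg.SU n F q) = Nat.card (Cfsg.GU n F q) := by
  have h1 := Subgroup.card_mul_index (detGU n F q).ker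
  rw [Subgroup.index_ker, range_detGU hF n hn, card_ker_norm hF,
    Nat.card_congr (kerDetEquivSU hF n)] at h1
  rw [← h1, mul_comm]

end Cfsg.Agent.Helper11.Herm
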