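import Mathlib
import Cfsg.Agent.Lib.Helper11.HermCount
import Cfsg.Agent.S2261

set_option autoImplicit false

/-! The anisotropic binary quadratic form `z₁² + a z₁ z₂ + b z₂²` over a finite field as the norm
form of the quadratic extension. -/

namespace Cfsg.Agent.Helper11.Aniso

open Polynomial Matrix

variable {F : Type*} [Field F]

/-- the binary form -/
def Q2 (a b : F) (v : Fin 2 → F) : F := v 0 ^ 2 + a * v 0 * v 1 + b * v 1 ^ 2

/-- anisotropy -/
def IsAniso (a b : F) : Prop :=
  ∀ z₁ z₂ : F, z₁ ^ 2 + a * z₁ * z₂ + b * z₂ ^ 2 = 0 → z₁ = 0 ∧ z₂ = 0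

/-- the polynomial `X² - aX + b` -/
noncomputable def P (a b : F) : F[X] := X ^ 2 - C a * X + C b

theorem P_natDegree (a b : F) : (P a b).natDegree = 2 := by
  unfold P
  compute_degree!

theorem P_monic (a b : F) : (P a b).Monic := by
  unfold P
  monicity!

theorem P_ne_zero (a b : F) : P a b ≠ 0 := (P_monic a b).ne_zero

theorem P_irreducible {a b : F} (h : IsAniso a b) : Irreducible (P a b) := by
  apply Polynomial.irreducible_of_degree_le_three_of_not_isRoot
  · rw [P_natDegree]; decide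
  · intro r hr
    rw [IsRoot, P] at hr
    simp only [eval_add, eval_sub, eval_pow, eval_X, eval_mul, eval_C] at hr
    have := h r (-1) (by linear_combination hr)
    have h2 := this.2
    rw [neg_eq_zero] at h2
    exact one_ne_zero h2

theorem isAniso_ne (a b : F) (h : IsAniso a b) (x y : F) (hxy : ¬ (x = 0 ∧ y = 0)) :
    x ^ 2 + a * x * y + b * y ^ 2 ≠ 0 := fun h0 => hxy (h x y h0)

section mats

variable (a b : F)

/-- the "rotation" matrix of multiplication by `v 0 + v 1 θ` -/
def R (v : Fin 2 → F) : Matrix (Fin 2) (Fin 2) F := !![v 0, -b * v 1; v 1, v 0 + a * v 1]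

theorem R_mulVec (v w : Fin 2 → F) :
    R a b v *ᵥ w = ![v 0 * w 0 - b * v 1 * w 1, v 1 * w 0 + (v 0 + a * v 1) * w 1] := by
  ext i
  fin_cases i <;> simp [R, Matrix.mulVec, dotProduct, Fin.sum_univ_two] <;> ring

theorem Q2_R_mulVec (v w : Fin 2 → F) : Q2 a b (R a b v *ᵥ w) = Q2 a b v * Q2 a b w := by
  rw [R_mulVec]
  simp only [Q2, Matrix.cons_val_zero, Matrix.cons_val_one]
  ring

theorem R_mul (v w : Fin 2 → F) : R a b v * R a b w = R a b (R a b v *ᵥ w) := by
  rw [R_mulVec]
  ext i j
  fin_cases i <;> fin_cases j <;> simp [R, Matrix.mul_apply, Fin.sum_univ_two] <;> ring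

theorem R_e1 : R a b ![1, 0] = 1 := by
  ext i j
  fin_cases i <;> fin_cases j <;> simp [R]

theorem R_mulVec_e1 (v : Fin 2 → F) : R a b v *ᵥ ![1, 0] = v := by
  rw [R_mulVec]
  ext i
  fin_cases i <;> simp

theorem det_R (v : Fin 2 → F) : (R a b v).det = Q2 a b v := by
  rw [Matrix.det_fin_two]
  simp only [R, Q2, Matrix.of_apply, Matrix.cons_val', Matrix.cons_val_zero, Matrix.cons_val_one,
    Matrix.cons_val_fin_one]
  ring

theorem R_injective : Function.Injective (R a b) := by
  intro v w h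
  have h0 := congrFun (congrFun h 0) 0
  have h1 := congrFun (congrFun h 1) 0
  simp [R] at h0 h1
  ext i
  fin_cases i
  · exact h0
  · exact h1

theorem R_comm (v w : Fin 2 → F) : R a b v * R a b w = R a b w * R a b v := by
  ext i j
  fin_cases i <;> fin_cases j <;> simp [R, Matrix.mul_apply, Fin.sum_univ_two] <;> ring

/-- the reflection fixing `e1` -/
def S : Matrix (Fin 2) (Fin 2) F := !![1, a; 0, -1]

theorem S_mul_S : S a * S a = 1 := by
  ext i j
  fin_cases i <;> fin_cases j <;> simp [S, Matrix.mul_apply, Fin.sum_univ_two]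

theorem S_mulVec (w : Fin 2 → F) : S a *ᵥ w = ![w 0 + a * w 1, - w 1] := by
  ext i
  fin_cases i <;> simp [S, Matrix.mulVec, dotProduct, Fin.sum_univ_two]

theorem Q2_S_mulVec (w : Fin 2 → F) : Q2 a b (S a *ᵥ w) = Q2 a b w := by
  rw [S_mulVec]
  simp only [Q2, Matrix.cons_val_zero, Matrix.cons_val_one]
  ring

theorem S_R_S (v : Fin 2 → F) : S a * R a b v * S a = R a b ![v 0 + a * v 1, - v 1] := by
  ext i j
  fin_cases i <;> fin_cases j <;> simp [S, R, Matrix.mul_apply, Fin.sum_univ_two] <;> ring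

theorem R_mul_conj (v : Fin 2 → F) :
    R a b v * R a b ![v 0 + a * v 1, - v 1] = Q2 a b v • (1 : Matrix (Fin 2) (Fin 2) F) := by
  ext i j
  fin_cases i <;> fin_cases j <;> simp [R, Q2, Matrix.mul_apply, Fin.sum_univ_two] <;> ring

end mats

variable (a b : F)

section ext

/-- the generator -/
noncomputable def θ : AdjoinRoot (P a b) := AdjoinRoot.root (P a b)

theorem theta_sq : θ a b ^ 2 = algebraMap F (AdjoinRoot (P a b)) a * θ a b
    - algebraMap F (AdjoinRoot (P a b)) b := by
  have h : (X ^ 2 - C a * X + C b : F[X]).eval₂ (AdjoinRoot.of (P a b))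
      (AdjoinRoot.root (P a b)) = 0 := AdjoinRoot.eval₂_root (P a b)
  simp only [eval₂_add, eval₂_sub, eval₂_pow, eval₂_X, eval₂_mul, eval₂_C] at h
  unfold θ
  rw [AdjoinRoot.algebraMap_eq]
  linear_combination h

/-- `v ↦ v 0 + v 1 θ` -/
noncomputable def Lam (v : Fin 2 → F) : AdjoinRoot (P a b) :=
  algebraMap F (AdjoinRoot (P a b)) (v 0) + algebraMap F (AdjoinRoot (P a b)) (v 1) * θ a b

theorem Lam_mul (v w : Fin 2 → F) : Lam a b (R a b v *ᵥ w) = Lam a b v * Lam a b w := by
  rw [R_mulVec]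
  simp only [Lam, Matrix.cons_val_zero, Matrix.cons_val_one, map_add, map_sub, map_mul]
  linear_combination (-(algebraMap F (AdjoinRoot (P a b)) (v 1)) *
    (algebraMap F (AdjoinRoot (P a b)) (w 1))) * theta_sq a b

theorem Lam_e1 : Lam a b ![1, 0] = 1 := by
  simp [Lam]

theorem Lam_sub (v w : Fin 2 → F) : Lam a b (v - w) = Lam a b v - Lam a b w := by
  simp only [Lam, Pi.sub_apply, map_sub]
  ring

end ext

section fin

variable [Fintype F] [Fact (Irreducible (P a b))]

theorem theta_ne (h : IsAniso a b) (c : F) :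
    algebraMap F (AdjoinRoot (P a b)) c ≠ θ a b := by
  intro hc
  have h1 := theta_sq a b
  rw [← hc, ← map_pow, ← map_mul, ← map_sub] at h1
  have h2 := (algebraMap F (AdjoinRoot (P a b))).injective h1
  have h3 := (h c (-1) (by linear_combination h2)).2
  rw [neg_eq_zero] at h3
  exact one_ne_zero h3

theorem Lam_injective (h : IsAniso a b) : Function.Injective (Lam a b) := by
  intro v w hvw
  have h0 : Lam a b (v - w) = 0 := by rw [Lam_sub, hvw, sub_self]
  obtain ⟨d, hd⟩ : ∃ d, d = v - w := ⟨_, rfl⟩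
  rw [← hd] at h0
  have hd1 : d 1 = 0 := by
    by_contra hne
    apply theta_ne a b h (-(d 0) / d 1)
    unfold Lam at h0
    have hne' : algebraMap F (AdjoinRoot (P a b)) (d 1) ≠ 0 := by
      rwa [Ne, map_eq_zero]
    rw [map_div₀, map_neg, div_eq_iff hne']
    linear_combination -h0
  have hd0 : d 0 = 0 := by
    unfold Lam at h0
    rw [hd1, map_zero, zero_mul, add_zero, map_eq_zero] at h0
    exact h0
  have : d = 0 := by
    ext i
    fin_cases i
    · exact hd0
    · exact hd1
  rw [this] at hd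
  exact (sub_eq_zero.1 hd.symm)

instance : Finite (AdjoinRoot (P a b)) := by
  have : Module.Finite F (AdjoinRoot (P a b)) := (P_monic a b).finite_adjoinRoot
  exact Module.finite_of_finite F

theorem card_E : Nat.card (AdjoinRoot (P a b)) = Fintype.card F ^ 2 := by
  have : Module.Finite F (AdjoinRoot (P a b)) := (P_monic a b).finite_adjoinRoot
  rw [Module.natCard_eq_pow_finrank (K := F), (AdjoinRoot.powerBasis (P_ne_zero a b)).finrank,
    AdjoinRoot.powerBasis_dim, P_natDegree, Nat.card_eq_fintype_card]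

theorem Lam_bijective (h : IsAniso a b) : Function.Bijective (Lam a b) := by
  apply (Lam_injective a b h).bijective_of_nat_card_le
  rw [card_E, Nat.card_eq_fintype_card, Fintype.card_fun, Fintype.card_fin]

theorem theta_pow_card (h : IsAniso a b) :
    θ a b ^ Fintype.card F = algebraMap F (AdjoinRoot (P a b)) a - θ a b := by
  obtain ⟨ψ, hψ⟩ : ∃ ψ : AdjoinRoot (P a b) →ₐ[F] AdjoinRoot (P a b),
      ∀ x, ψ x = x ^ Fintype.card F :=
    ⟨FiniteField.frobeniusAlgHom F (AdjoinRoot (P a b)), fun x => rfl⟩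
  rw [← hψ]
  have h1 : ψ (θ a b) ^ 2 = algebraMap F (AdjoinRoot (P a b)) a * ψ (θ a b)
      - algebraMap F (AdjoinRoot (P a b)) b := by
    have := congrArg ψ (theta_sq a b)
    rwa [map_pow, map_sub, map_mul, AlgHom.commutes, AlgHom.commutes] at this
  have h2 : (ψ (θ a b) - θ a b) * (ψ (θ a b) - (algebraMap F (AdjoinRoot (P a b)) a - θ a b))
      = 0 := by
    linear_combination h1 - theta_sq a b
  rcases mul_eq_zero.1 h2 with h3 | h3
  · exfalso
    have h4 : θ a b ^ Fintype.card F = θ a b := by rw [← hψ]; exact sub_eq_zero.1 h3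
    obtain ⟨c, hc⟩ := Cfsg.Agent.S2261.mem_range_of_pow_card (F := F) (θ a b) h4
    exact theta_ne a b h c hc
  · exact sub_eq_zero.1 h3

theorem Lam_pow (h : IsAniso a b) (v : Fin 2 → F) :
    Lam a b v * Lam a b v ^ Fintype.card F = algebraMap F (AdjoinRoot (P a b)) (Q2 a b v) := by
  obtain ⟨ψ, hψ⟩ : ∃ ψ : AdjoinRoot (P a b) →ₐ[F] AdjoinRoot (P a b),
      ∀ x, ψ x = x ^ Fintype.card F :=
    ⟨FiniteField.frobeniusAlgHom F (AdjoinRoot (P a b)), fun x => rfl⟩
  have h1 : Lam a b v ^ Fintype.card F = algebraMap F (AdjoinRoot (P a b)) (v 0) +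
      algebraMap F (AdjoinRoot (P a b)) (v 1) * (algebraMap F (AdjoinRoot (P a b)) a - θ a b) := by
    rw [← hψ, Lam, map_add, map_mul, AlgHom.commutes, AlgHom.commutes, hψ, theta_pow_card a b h]
  rw [h1]
  simp only [Lam, Q2, map_add, map_mul, map_pow]
  linear_combination (-(algebraMap F (AdjoinRoot (P a b)) (v 1)) ^ 2) * theta_sq a b

theorem card_Q2_one (h : IsAniso a b) :
    Nat.card {v : Fin 2 → F // Q2 a b v = 1} = Fintype.card F + 1 := by
  letI : Fintype (AdjoinRoot (P a b)) := Fintype.ofFinite _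
  have hE : Fintype.card (AdjoinRoot (P a b)) = Fintype.card F ^ 2 := by
    rw [← Nat.card_eq_fintype_card, card_E]
  rw [← Herm.card_norm_one hE]
  apply Nat.card_congr
  refine Equiv.subtypeEquiv (Equiv.ofBijective _ (Lam_bijective a b h)) ?_
  intro v
  rw [Equiv.ofBijective_apply, Lam_pow a b h]
  constructor
  · intro hv
    rw [hv, map_one]
  · intro hv
    rw [← map_one (algebraMap F (AdjoinRoot (P a b)))] at hv
    exact (algebraMap F (AdjoinRoot (P a b))).injective hv

/-- the monoid hom `u ↦ R (Λ⁻¹ u)` -/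
noncomputable def Rm (h : IsAniso a b) : AdjoinRoot (P a b) →* Matrix (Fin 2) (Fin 2) F where
  toFun u := R a b ((Equiv.ofBijective _ (Lam_bijective a b h)).symm u)
  map_one' := by
    rw [← R_e1 a b]
    congr 1
    rw [Equiv.symm_apply_eq, Equiv.ofBijective_apply, Lam_e1]
  map_mul' u u' := by
    rw [R_mul]
    congr 1
    rw [Equiv.symm_apply_eq, Equiv.ofBijective_apply, Lam_mul]
    congr 1
    · exact ((Equiv.ofBijective _ (Lam_bijective a b h)).apply_symm_apply u).symm
    · exact ((Equiv.ofBijective _ (Lam_bijective a b h)).apply_symm_apply u').symm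

theorem Rm_injective (h : IsAniso a b) : Function.Injective (Rm a b h) := by
  intro u u' huu
  exact (Equiv.ofBijective _ (Lam_bijective a b h)).symm.injective (R_injective a b huu)

theorem exists_orderOf_R (h : IsAniso a b) :
    ∃ v : Fin 2 → F, Q2 a b v = 1 ∧ orderOf (R a b v) = Fintype.card F + 1 := by
  have hq1 : 1 < Fintype.card F := Fintype.one_lt_card
  obtain ⟨y, hy⟩ := IsCyclic.exists_generator (α := (AdjoinRoot (P a b))ˣ)
  have hfact : Fintype.card F ^ 2 - 1 = (Fintype.card F + 1) * (Fintype.card F - 1) :=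
    Herm.sq_sub_one _ hq1.le
  have hyo : orderOf y = (Fintype.card F + 1) * (Fintype.card F - 1) := by
    rw [orderOf_eq_card_of_forall_mem_zpowers hy, Nat.card_units, card_E, hfact]
  obtain ⟨x, hx⟩ : ∃ x, x = y ^ (Fintype.card F - 1) := ⟨_, rfl⟩
  have hxo : orderOf x = Fintype.card F + 1 := by
    rw [hx, orderOf_pow, hyo, Nat.gcd_eq_right (Dvd.intro_left _ rfl),
      Nat.mul_div_cancel _ (by omega)]
  obtain ⟨v, hv⟩ := (Lam_bijective a b h).2 (x : AdjoinRoot (P a b))
  refine ⟨v, ?_, ?_⟩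
  · have h1 := Lam_pow a b h v
    rw [hv, ← pow_succ', ← Units.val_pow_eq_pow_val, ← hxo, pow_orderOf_eq_one, Units.val_one,
      ← map_one (algebraMap F (AdjoinRoot (P a b)))] at h1
    exact ((algebraMap F (AdjoinRoot (P a b))).injective h1).symm
  · have h1 : R a b v = Rm a b h (x : AdjoinRoot (P a b)) := by
      show R a b v = R a b _
      congr 1
      rw [Equiv.eq_symm_apply, Equiv.ofBijective_apply, hv]
    rw [h1, orderOf_injective _ (Rm_injective a b h), orderOf_units, hxo]

end fin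

end Cfsg.Agent.Helper11.Aniso
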