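import Mathlib
import Cfsg.Agent.Lib.Helper11.AnisoPlane
import Cfsg.Agent.Lib.Lead.DihedralRecog
import Cfsg.Prelude.Def_Classical

set_option autoImplicit false

namespace Cfsg.Agent.Helper11.Aniso

open Polynomial Matrix

variable {F : Type*} [Field F] (a b : F)

section grp

/-- the conjugate vector -/
def cj (v : Fin 2 → F) : Fin 2 → F := ![v 0 + a * v 1, - v 1]

theorem Q2_cj (v : Fin 2 → F) : Q2 a b (cj a v) = Q2 a b v := by
  simp only [Q2, cj, Matrix.cons_val_zero, Matrix.cons_val_one]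
  ring

/-- rotation as a `GL` element -/
def rotGL (v : Fin 2 → F) (hv : Q2 a b v = 1) : GL (Fin 2) F where
  val := R a b v
  inv := R a b (cj a v)
  val_inv := by
    have := R_mul_conj a b v
    rw [hv, one_smul] at this
    exact this
  inv_val := by
    have := R_mul_conj a b v
    rw [hv, one_smul] at this
    rw [R_comm]
    exact this

/-- reflection as a `GL` element -/
def reflGL : GL (Fin 2) F where
  val := S a
  inv := S a
  val_inv := S_mul_S a
  inv_val := S_mul_S a

theorem mem_iso_iff (g : GL (Fin 2) F) :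
    g ∈ Cfsg.isometryGroup F (Q2 a b) ↔ ∀ u, Q2 a b ((g : Matrix (Fin 2) (Fin 2) F) *ᵥ u) = Q2 a b u := by
  constructor
  · intro h u
    exact h u u
  · intro h u _
    exact h u

theorem rotGL_mem (v : Fin 2 → F) (hv : Q2 a b v = 1) :
    rotGL a b v hv ∈ Cfsg.isometryGroup F (Q2 a b) := by
  rw [mem_iso_iff]
  intro u
  show Q2 a b (R a b v *ᵥ u) = _
  rw [Q2_R_mulVec, hv, one_mul]

theorem reflGL_mem : reflGL a ∈ Cfsg.isometryGroup F (Q2 a b) := by
  rw [mem_iso_iff]
  intro u
  show Q2 a b (S a *ᵥ u) = _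
  rw [Q2_S_mulVec]

theorem stab_e1 (h : IsAniso a b) (M : Matrix (Fin 2) (Fin 2) F)
    (hM : ∀ u, Q2 a b (M *ᵥ u) = Q2 a b u) (he : M *ᵥ ![1, 0] = ![1, 0]) :
    M = 1 ∨ M = S a := by
  have h00 : M 0 0 = 1 := by
    have := congrFun he 0
    simpa [Matrix.mulVec, dotProduct, Fin.sum_univ_two] using this
  have h10 : M 1 0 = 0 := by
    have := congrFun he 1
    simpa [Matrix.mulVec, dotProduct, Fin.sum_univ_two] using this
  obtain ⟨u, hu⟩ : ∃ u, u = M 0 1 := ⟨_, rfl⟩
  obtain ⟨w, hw⟩ : ∃ w, w = M 1 1 := ⟨_, rfl⟩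
  have hMv : ∀ x y : F, M *ᵥ ![x, y] = ![x + u * y, w * y] := by
    intro x y
    ext i
    fin_cases i <;> simp [Matrix.mulVec, dotProduct, Fin.sum_univ_two, h00, h10, ← hu, ← hw]
  have E2 := hM ![0, 1]
  have E3 := hM ![1, 1]
  rw [hMv] at E2 E3
  simp only [Q2, Matrix.cons_val_zero, Matrix.cons_val_one] at E2 E3
  have E1 : 2 * u + a * w = a := by linear_combination E3 - E2
  have hAB : Q2 a b ![u, w - 1] * Q2 a b ![u - a, w + 1] = 0 := by
    simp only [Q2, Matrix.cons_val_zero, Matrix.cons_val_one]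
    linear_combination (u ^ 2 + a * u * (w - 1) + b * (w - 1) ^ 2 +
      (2 * b - a * u - a ^ 2 * w + 2 * b * w) + a ^ 2 - 4 * b) * E2 +
      (- a * (2 * b - a * u - 2 * b * w) + a * b + 2 * b * u - a * b * w - a ^ 2 * u) * E1
  rcases mul_eq_zero.1 hAB with h1 | h1
  · left
    have h2 := h _ _ h1
    simp only [Matrix.cons_val_zero, Matrix.cons_val_one] at h2
    ext i j
    fin_cases i <;> fin_cases j
    · simpa using h00
    · simpa [← hu] using h2.1
    · simpa using h10
    · simp [← hw]; linear_combination h2.2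
  · right
    have h2 := h _ _ h1
    simp only [Matrix.cons_val_zero, Matrix.cons_val_one] at h2
    ext i j
    fin_cases i <;> fin_cases j
    · simpa [S] using h00
    · simp [S, ← hu]; linear_combination h2.1
    · simpa [S] using h10
    · simp [S, ← hw]; linear_combination h2.2

theorem S_ne_one [Finite F] (h : IsAniso a b) : S a ≠ 1 := by
  intro hS
  have h01 := congrFun (congrFun hS 0) 1
  have h11 := congrFun (congrFun hS 1) 1
  simp [S] at h01 h11
  have h2 : (2 : F) = 0 := by linear_combination -h11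
  have hchar : ringChar F = 2 := CharP.ringChar_of_prime_eq_zero Nat.prime_two (by exact_mod_cast h2)
  obtain ⟨c, hc⟩ := FiniteField.isSquare_of_char_two hchar b
  have := (h c 1 (by rw [h01, hc]; linear_combination (c * c) * h2)).2
  exact one_ne_zero this

theorem card_iso [Fintype F] (h : IsAniso a b) :
    Nat.card (Cfsg.isometryGroup F (Q2 a b)) = 2 * (Fintype.card F + 1) := by
  classical
  have hsmul : ∀ (g : Cfsg.isometryGroup F (Q2 a b)) (v : Fin 2 → F),
      g • v = ((g : GL (Fin 2) F) : Matrix (Fin 2) (Fin 2) F) *ᵥ v := fun _ _ => rfl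
  have he1 : Q2 a b ![1, 0] = 1 := by simp [Q2]
  have horbit : MulAction.orbit (Cfsg.isometryGroup F (Q2 a b)) (![1, 0] : Fin 2 → F)
      = {v | Q2 a b v = 1} := by
    ext v
    constructor
    · rintro ⟨g, rfl⟩
      change Q2 a b (g • ![1, 0]) = 1
      rw [hsmul, (mem_iso_iff a b g.1).1 g.2, he1]
    · intro hv
      refine ⟨⟨rotGL a b v hv, rotGL_mem a b v hv⟩, ?_⟩
      change (⟨rotGL a b v hv, rotGL_mem a b v hv⟩ : Cfsg.isometryGroup F (Q2 a b)) • ![1, 0] = v
      rw [hsmul]
      exact R_mulVec_e1 a b v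
  have h1 := Subgroup.card_mul_index (MulAction.stabilizer (Cfsg.isometryGroup F (Q2 a b))
    (![1, 0] : Fin 2 → F))
  rw [MulAction.index_stabilizer, horbit, ← Nat.card_coe_set_eq] at h1
  change _ * Nat.card {v : Fin 2 → F // Q2 a b v = 1} = _ at h1
  have : Fact (Irreducible (P a b)) := ⟨P_irreducible h⟩
  rw [← h1, card_Q2_one a b h]
  congr 1
  -- the stabilizer has order two
  obtain ⟨s, hs⟩ : ∃ s : Cfsg.isometryGroup F (Q2 a b), s = ⟨reflGL a, reflGL_mem a b⟩ :=
    ⟨_, rfl⟩
  have hs1 : s ≠ 1 := by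
    intro h1
    apply S_ne_one a b h
    have := congrArg (fun x : Cfsg.isometryGroup F (Q2 a b) =>
      ((x : GL (Fin 2) F) : Matrix (Fin 2) (Fin 2) F)) h1
    rw [hs] at this
    exact this
  have hs2 : s ^ 2 = 1 := by
    rw [hs]
    apply Subtype.ext
    apply Units.ext
    rw [pow_two]
    exact S_mul_S a
  have hso : orderOf s = 2 := orderOf_eq_prime hs2 hs1
  have hstab : MulAction.stabilizer (Cfsg.isometryGroup F (Q2 a b)) (![1, 0] : Fin 2 → F)
      = Subgroup.zpowers s := by
    ext g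
    rw [MulAction.mem_stabilizer_iff, hsmul]
    constructor
    · intro hg
      rcases stab_e1 a b h _ ((mem_iso_iff a b g.1).1 g.2) hg with h1 | h1
      · have : g = 1 := by
          apply Subtype.ext
          apply Units.ext
          exact h1
        rw [this]
        exact one_mem _
      · have : g = s := by
          rw [hs]
          apply Subtype.ext
          apply Units.ext
          exact h1
        rw [this]
        exact Subgroup.mem_zpowers s
    · rintro ⟨k, rfl⟩
      have hfix : ∀ g : Cfsg.isometryGroup F (Q2 a b),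
          g ∈ MulAction.stabilizer (Cfsg.isometryGroup F (Q2 a b)) (![1, 0] : Fin 2 → F) →
          ((g : GL (Fin 2) F) : Matrix (Fin 2) (Fin 2) F) *ᵥ ![1, 0] = ![1, 0] := by
        intro g hg
        rw [MulAction.mem_stabilizer_iff, hsmul] at hg
        exact hg
      apply hfix
      apply Subgroup.zpow_mem
      rw [MulAction.mem_stabilizer_iff, hsmul, hs]
      show S a *ᵥ ![1, 0] = ![1, 0]
      rw [S_mulVec]
      simp
  rw [hstab, Nat.card_zpowers, hso]

theorem nonempty_dihedral [Fintype F] (h : IsAniso a b) :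
    Nonempty (Cfsg.isometryGroup F (Q2 a b) ≃* DihedralGroup (Fintype.card F + 1)) := by
  have hq1 : 1 < Fintype.card F := Fintype.one_lt_card
  have : Fact (Irreducible (P a b)) := ⟨P_irreducible h⟩
  obtain ⟨v, hv, hvo⟩ := exists_orderOf_R a b h
  obtain ⟨A, hA⟩ : ∃ A : Cfsg.isometryGroup F (Q2 a b), A = ⟨rotGL a b v hv, rotGL_mem a b v hv⟩ :=
    ⟨_, rfl⟩
  obtain ⟨s, hs⟩ : ∃ s : Cfsg.isometryGroup F (Q2 a b), s = ⟨reflGL a, reflGL_mem a b⟩ :=
    ⟨_, rfl⟩
  have hAo : orderOf A = Fintype.card F + 1 := by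
    rw [← hvo, hA, ← Subgroup.orderOf_coe, ← orderOf_units]
    rfl
  have hss : s * s = 1 := by
    rw [hs]
    apply Subtype.ext
    apply Units.ext
    exact S_mul_S a
  have hsA : s * A * s = A⁻¹ := by
    rw [hs, hA]
    apply Subtype.ext
    apply Units.ext
    show S a * R a b v * S a = R a b (cj a v)
    rw [S_R_S]
    rfl
  refine Cfsg.Agent.Lead.nonempty_mulEquiv_dihedral (Fintype.card F + 1) A s hAo hss hsA ?_
    (card_iso a b h)
  rintro ⟨k, hk⟩
  have hk : A ^ k = s := hk
  have hcomm : s * A = A * s := by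
    rw [← hk]
    exact ((Commute.refl A).zpow_left k).eq
  have h1 : A⁻¹ = A := by
    rw [← hsA, hcomm, mul_assoc, hss, mul_one]
  have h2 : A ^ 2 = 1 := by
    rw [pow_two]
    nth_rewrite 1 [← h1]
    exact inv_mul_cancel A
  have h3 := orderOf_dvd_of_pow_eq_one h2
  rw [hAo] at h3
  have := Nat.le_of_dvd (by norm_num) h3
  omega

end grp

section transport

variable {ι κ : Type} [Fintype ι] [DecidableEq ι] [Fintype κ] [DecidableEq κ]

/-- reindexing the isometry group along an equivalence of index types -/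
theorem nonempty_iso_reindex (e : ι ≃ κ) (Q : (κ → F) → F) :
    Nonempty (Cfsg.isometryGroup F (fun v : ι → F => Q (v ∘ e.symm)) ≃* Cfsg.isometryGroup F Q) := by
  obtain ⟨φ, hφ⟩ : ∃ φ : GL ι F ≃* GL κ F, ∀ g : GL κ F,
      ((φ.symm g : GL ι F) : Matrix ι ι F) = (g : Matrix κ κ F).submatrix e e := by
    refine ⟨Units.mapEquiv (Matrix.reindexAlgEquiv F F e).toMulEquiv, ?_⟩
    intro g
    rfl
  have hmap : (Cfsg.isometryGroup F (fun v : ι → F => Q (v ∘ e.symm))).map φ.toMonoidHom
      = Cfsg.isometryGroup F Q := by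
    ext g
    rw [Subgroup.mem_map_equiv]
    constructor
    · intro hg u _
      have h1 := hg (u ∘ e) (u ∘ e)
      simp only [Units.coeHom_apply, hφ, Matrix.submatrix_mulVec_equiv] at h1
      have h2 : (u ∘ e) ∘ e.symm = u := by
        ext i; simp
      rw [h2] at h1
      have h3 : (((g : Matrix κ κ F) *ᵥ u) ∘ e) ∘ e.symm = (g : Matrix κ κ F) *ᵥ u := by
        ext i; simp
      rw [h3] at h1
      exact h1
    · intro hg u _
      have h1 := hg (u ∘ e.symm) (u ∘ e.symm)
      simp only [Units.coeHom_apply, hφ, Matrix.submatrix_mulVec_equiv]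
      have h3 : (((g : Matrix κ κ F) *ᵥ (u ∘ e.symm)) ∘ e) ∘ e.symm
          = (g : Matrix κ κ F) *ᵥ (u ∘ e.symm) := by
        ext i; simp
      rw [h3]
      exact h1
  exact ⟨(φ.subgroupMap _).trans (MulEquiv.subgroupCongr hmap)⟩

end transport

end Cfsg.Agent.Helper11.Aniso
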