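import Mathlib

/-!
# S2262 piece AO-S3A (helper11, for helper17): a twisted-isometry relation `1 + tA = c A^j`
forces a quadratic relation on `A`
-/

set_option autoImplicit false

namespace Cfsg.Agent.Helper17.AO

open Polynomial Matrix

section mat
variable {F : Type*} [Field F] {n : ℕ}

/-- AO-S3A -/
theorem quad_of_eq (σ : RingAut F) (A J : Matrix (Fin n) (Fin n) F)
    (hJ : IsUnit J.det) (hA : (A.map σ)ᵀ * J * A = J) (t c : F) (ht : t ≠ 0) (j : ℕ)
    (h : 1 + t • A = c • A ^ j) :
    ∃ p : F[X], p ≠ 0 ∧ p.natDegree ≤ 2 ∧ aeval A p = 0 := by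
  classical
  have hS : ∀ M : Matrix (Fin n) (Fin n) F,
      M.map σ = (RingEquiv.mapMatrix (m := Fin n) (σ : F ≃+* F)) M := fun M => rfl
  set B : Matrix (Fin n) (Fin n) F := (A.map σ)ᵀ with hB
  have hpow : ∀ j : ℕ, B ^ j * J * A ^ j = J := by
    intro j
    induction j with
    | zero => simp
    | succ j ih =>
      calc B ^ (j + 1) * J * A ^ (j + 1) = B ^ j * (B * J * A) * A ^ j := by
            rw [pow_succ, pow_succ']
            simp only [mul_assoc]
        _ = J := by rw [hA, ih]
  have hx1 : ((1 + t • A).map σ)ᵀ = 1 + σ t • B := by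
    rw [hS, map_add, map_one, ← hS, Matrix.map_smul' _ _ _ (map_mul σ), Matrix.transpose_add,
      Matrix.transpose_one, Matrix.transpose_smul]
  have hx2 : ((c • A ^ j).map σ)ᵀ = σ c • B ^ j := by
    rw [Matrix.map_smul' _ _ _ (map_mul σ), hS, map_pow, ← hS, Matrix.transpose_smul,
      Matrix.transpose_pow]
  have hE : (1 + σ t • B) * J * (1 + t • A) = (σ c * c) • J := by
    rw [← hx1, h, hx2, smul_mul_assoc, smul_mul_assoc, mul_smul_comm, smul_smul, hpow j]
  have hE2 : J * (t • A ^ 2 + (1 + σ t * t - σ c * c) • A + σ t • 1) = 0 := by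
    have h3 := congrArg (· * A) hE
    simp only [add_mul, mul_add, one_mul, mul_one, smul_mul_assoc, mul_smul_comm, hA] at h3
    simp only [mul_add, mul_smul_comm, mul_one, pow_two, ← mul_assoc]
    linear_combination (norm := module) h3
  have hE3 : t • A ^ 2 + (1 + σ t * t - σ c * c) • A + σ t • (1 : Matrix (Fin n) (Fin n) F) = 0 := by
    have h4 := congrArg (J⁻¹ * ·) hE2
    simpa only [← mul_assoc, Matrix.nonsing_inv_mul J hJ, one_mul, mul_zero] using h4
  refine ⟨C t * X ^ 2 + C (1 + σ t * t - σ c * c) * X + C (σ t), ?_, natDegree_quadratic_le, ?_⟩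
  · intro h0
    have h2 := natDegree_quadratic (b := 1 + σ t * t - σ c * c) (c := σ t) ht
    rw [h0, natDegree_zero] at h2
    omega
  · simp only [map_add, map_mul, map_pow, aeval_X, aeval_C, Algebra.algebraMap_eq_smul_one,
      smul_mul_assoc, one_mul]
    exact hE3

end mat

end Cfsg.Agent.Helper17.AO
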