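import Mathlib

set_option autoImplicit false

namespace Cfsg.Agent.Helper11

/-- Every `p`-subgroup of `G` is commutative. -/
def AbP (p : ℕ) (G : Type*) [Group G] : Prop :=
  ∀ P : Subgroup G, IsPGroup p P → ∀ x ∈ P, ∀ y ∈ P, x * y = y * x

theorem AbP.of_injective {p : ℕ} {G H : Type*} [Group G] [Group H] (hG : AbP p G) (f : H →* G)
    (hf : Function.Injective f) : AbP p H := by
  intro P hP x hx y hy
  have h := hG (P.map f) (hP.map f) (f x) (Subgroup.mem_map_of_mem f hx) (f y)
    (Subgroup.mem_map_of_mem f hy)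
  rw [← map_mul, ← map_mul] at h
  exact hf h

theorem AbP.subgroup {p : ℕ} {G : Type*} [Group G] (hG : AbP p G) (K : Subgroup G) : AbP p K :=
  hG.of_injective K.subtype Subtype.coe_injective

theorem AbP.of_equiv {p : ℕ} {G H : Type*} [Group G] [Group H] (hG : AbP p G) (e : H ≃* G) : AbP p H :=
  hG.of_injective e.toMonoidHom e.injective

theorem AbP.of_surjective {p : ℕ} [Fact p.Prime] {G H : Type*} [Group G] [Finite G] [Group H]
    (hG : AbP p G) (f : G →* H) (hf : Function.Surjective f) : AbP p H := by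
  intro Q hQ x hx y hy
  -- the preimage of Q
  set Q' : Subgroup G := Q.comap f with hQ'
  have hAb : AbP p Q' := hG.subgroup Q'
  -- restricted hom Q' → Q
  let f' : Q' →* Q := f.subgroupComap Q
  have hf' : Function.Surjective f' := f.subgroupComap_surjective_of_surjective Q hf
  -- Sylow p-subgroup of Q'
  obtain ⟨P⟩ : Nonempty (Sylow p Q') := inferInstance
  -- its image is everything
  have hidx1 : ((P : Subgroup Q').map f').index ∣ (P : Subgroup Q').index :=
    Subgroup.index_map_dvd _ hf'
  haveI : Finite Q := Finite.of_surjective f' hf'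
  have hidx2 : ((P : Subgroup Q').map f').index ∣ Nat.card Q := Subgroup.index_dvd_card _
  obtain ⟨k, hk⟩ := IsPGroup.iff_card.mp hQ
  have hcop : Nat.Coprime ((P : Subgroup Q').map f').index p := by
    have h1 : ¬ p ∣ (P : Subgroup Q').index := P.not_dvd_index
    have hp : p.Prime := Fact.out
    rw [Nat.coprime_comm]
    exact (Nat.Prime.coprime_iff_not_dvd hp).mpr (fun h => h1 (h.trans hidx1))
  have hone : ((P : Subgroup Q').map f').index = 1 := by
    rw [hk] at hidx2
    have := Nat.Coprime.eq_one_of_dvd (hcop.pow_right k) hidx2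
    exact this
  have htop : (P : Subgroup Q').map f' = ⊤ := Subgroup.index_eq_one.mp hone
  have hxm : (⟨x, hx⟩ : Q) ∈ (P : Subgroup Q').map f' := by rw [htop]; trivial
  have hym : (⟨y, hy⟩ : Q) ∈ (P : Subgroup Q').map f' := by rw [htop]; trivial
  obtain ⟨a, ha, hax⟩ := hxm
  obtain ⟨b, hb, hby⟩ := hym
  have hab := hAb (P : Subgroup Q') P.2 a ha b hb
  have h1 : f' (a * b) = f' (b * a) := by rw [hab]
  rw [map_mul, map_mul, hax, hby] at h1
  have := congrArg Subtype.val h1
  simpa using this

theorem AbP.quotient {p : ℕ} [Fact p.Prime] {G : Type*} [Group G] [Finite G]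
    (hG : AbP p G) (N : Subgroup G) [N.Normal] : AbP p (G ⧸ N) :=
  hG.of_surjective (QuotientGroup.mk' N) (QuotientGroup.mk'_surjective N)

end Cfsg.Agent.Helper11
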