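import Mathlib

set_option autoImplicit false

namespace Cfsg.Agent.Helper11

open Module LinearMap LinearMap.BilinForm

/-- A nondegenerate alternating bilinear form lives on a space of even dimension. -/
theorem even_finrank_of_nondegenerate_isAlt_aux {K : Type*} [Field K] :
    ∀ (n : ℕ) (V : Type*) [AddCommGroup V] [Module K V] [FiniteDimensional K V]
      (B : LinearMap.BilinForm K V), B.Nondegenerate → B.IsAlt → finrank K V = n → Even n := by
  intro n
  induction n using Nat.strong_induction_on with
  | _ n ih =>
    intro V _ _ _ B hnd halt hn
    rcases Nat.eq_zero_or_pos n with rfl | hpos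
    · exact ⟨0, rfl⟩
    have hrefl : B.IsRefl := halt.isRefl
    -- pick v ≠ 0
    have hnt : Nontrivial V := by
      rw [← hn] at hpos
      exact Module.finrank_pos_iff.mp hpos
    obtain ⟨v, hv⟩ := exists_ne (0 : V)
    -- pick w with B v w ≠ 0
    have : ∃ w, B v w ≠ 0 := by
      by_contra hcon
      push Not at hcon
      exact hv (hnd.1 v hcon)
    obtain ⟨w, hw⟩ := this
    have hvv : B v v = 0 := halt v
    have hww : B w w = 0 := halt w
    have hwv : B w v = - B v w := by
      have := halt.neg_eq v w
      rw [← this]
    set W : Submodule K V := Submodule.span K {v, w} with hW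
    -- linear independence
    have hli : LinearIndependent K ![v, w] := by
      rw [LinearIndependent.pair_iff]
      intro s t hst
      have h1 : B v (s • v + t • w) = 0 := by rw [hst]; simp
      have h2 : B w (s • v + t • w) = 0 := by rw [hst]; simp
      simp only [map_add, map_smul, smul_eq_mul, hvv, hww, mul_zero, zero_add, add_zero] at h1 h2
      rw [hwv] at h2
      have ht : t = 0 := by
        rcases mul_eq_zero.mp h1 with h | h
        · exact h
        · exact absurd h hw
      have hs : s = 0 := by
        rcases mul_eq_zero.mp h2 with h | h
        · exact h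
        · exact absurd (neg_eq_zero.mp h) hw
      exact ⟨hs, ht⟩
    have hWdim : finrank K W = 2 := by
      have := finrank_span_eq_card hli
      have hrange : Set.range ![v, w] = {v, w} := by
        ext x; simp [Matrix.range_cons, Matrix.range_empty, eq_comm, or_comm]
      rw [hrange] at this
      simpa using this
    -- W ∩ W^⊥ = 0
    have hdisj : Disjoint W (B.orthogonal W) := by
      rw [Submodule.disjoint_def]
      intro x hxW hxO
      rw [hW, Submodule.mem_span_pair] at hxW
      obtain ⟨a, b, rfl⟩ := hxW
      have hvW : v ∈ W := Submodule.subset_span (by simp)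
      have hwW : w ∈ W := Submodule.subset_span (by simp)
      have h1 : B v (a • v + b • w) = 0 := hxO v hvW
      have h2 : B w (a • v + b • w) = 0 := hxO w hwW
      simp only [map_add, map_smul, smul_eq_mul, hvv, hww, mul_zero, zero_add, add_zero] at h1 h2
      rw [hwv] at h2
      have hb : b = 0 := by
        rcases mul_eq_zero.mp h1 with h | h
        · exact h
        · exact absurd h hw
      have ha : a = 0 := by
        rcases mul_eq_zero.mp h2 with h | h
        · exact h
        · exact absurd (neg_eq_zero.mp h) hw
      rw [ha, hb]; simp
    have hcompl : IsCompl W (B.orthogonal W) := (isCompl_orthogonal_iff_disjoint hrefl).mpr hdisj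
    -- restriction to W^⊥ is nondegenerate
    have hdisj' : Disjoint (B.orthogonal W) (B.orthogonal (B.orthogonal W)) := by
      rw [orthogonal_orthogonal hnd hrefl]
      exact hdisj.symm
    have hnd' : (B.restrict (B.orthogonal W)).Nondegenerate :=
      B.nondegenerate_restrict_of_disjoint_orthogonal hrefl hdisj'
    have halt' : (B.restrict (B.orthogonal W)).IsAlt := fun x => halt x
    have hdim : finrank K W + finrank K (B.orthogonal W) = finrank K V :=
      Submodule.finrank_add_eq_of_isCompl hcompl
    have hdim' : finrank K (B.orthogonal W) = n - 2 := by omega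
    have hlt : n - 2 < n := by omega
    have := ih (n - 2) hlt (B.orthogonal W) (B.restrict (B.orthogonal W)) hnd' halt' hdim'
    have hn2 : 2 ≤ n := by omega
    obtain ⟨k, hk⟩ := this
    exact ⟨k + 1, by omega⟩

theorem even_finrank_of_nondegenerate_isAlt {K V : Type*} [Field K] [AddCommGroup V] [Module K V]
    [FiniteDimensional K V] (B : LinearMap.BilinForm K V) (hnd : B.Nondegenerate) (halt : B.IsAlt) :
    Even (finrank K V) :=
  even_finrank_of_nondegenerate_isAlt_aux _ V B hnd halt rfl

/-- A square matrix `S` over a field with `v ⬝ᵥ S *ᵥ v = 0` for all `v` has even rank. -/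
theorem even_rank_of_alternating {K : Type*} [Field K] {n : Type*} [Fintype n] [DecidableEq n]
    (S : Matrix n n K) (hS : ∀ v : n → K, v ⬝ᵥ S.mulVec v = 0) : Even S.rank := by
  classical
  set B : LinearMap.BilinForm K (n → K) := Matrix.toBilin' S with hB
  have hBapp : ∀ x y, B x y = x ⬝ᵥ S.mulVec y := fun x y => Matrix.toBilin'_apply' S x y
  have halt : B.IsAlt := fun x => by rw [hBapp]; exact hS x
  have hrefl : B.IsRefl := halt.isRefl
  set K₀ : Submodule K (n → K) := LinearMap.ker S.mulVecLin with hK₀
  obtain ⟨C, hC⟩ := Submodule.exists_isCompl K₀
  -- Disjoint C C^⊥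
  have hdisj : Disjoint C (B.orthogonal C) := by
    rw [Submodule.disjoint_def]
    intro x hxC hxO
    -- show S x = 0
    have hall : ∀ y, B y x = 0 := by
      intro y
      have hy : y ∈ K₀ ⊔ C := by rw [hC.sup_eq_top]; trivial
      obtain ⟨k, hk, c, hc, rfl⟩ := Submodule.mem_sup.mp hy
      rw [map_add, LinearMap.add_apply]
      have h1 : B c x = 0 := hxO c hc
      have h2 : B k x = 0 := by
        have : B x k = 0 := by
          rw [hBapp]
          have : S.mulVec k = 0 := by
            have := LinearMap.mem_ker.mp hk
            simpa using this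
          rw [this]; simp
        exact hrefl x k this
      rw [h1, h2, add_zero]
    have hSx : S.mulVec x = 0 := by
      funext i
      have := hall (Pi.single i 1)
      rw [hBapp] at this
      simpa using this
    have hxK : x ∈ K₀ := by
      rw [hK₀, LinearMap.mem_ker]
      simpa using hSx
    exact (Submodule.disjoint_def.mp hC.disjoint) x hxK hxC
  have hnd : (B.restrict C).Nondegenerate :=
    B.nondegenerate_restrict_of_disjoint_orthogonal hrefl hdisj
  have halt' : (B.restrict C).IsAlt := fun x => halt x
  have heven := even_finrank_of_nondegenerate_isAlt (B.restrict C) hnd halt'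
  -- finrank C = rank S
  have h1 : finrank K K₀ + finrank K C = finrank K (n → K) :=
    Submodule.finrank_add_eq_of_isCompl hC
  have h2 : finrank K (LinearMap.range S.mulVecLin) + finrank K K₀ = finrank K (n → K) :=
    LinearMap.finrank_range_add_finrank_ker S.mulVecLin
  have h3 : S.rank = finrank K (LinearMap.range S.mulVecLin) := rfl
  have : finrank K C = S.rank := by omega
  rw [← this]
  exact heven

end Cfsg.Agent.Helper11
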