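import Mathlib
import Cfsg.Agent.Lib.Helper23.BG10A
import Cfsg.Agent.Lib.Helper7.BG121b
import Cfsg.Agent.Lib.Helper1.FpfThompson

/-!
# The statement of S1429 (helper11)

With the statements of S1403 (Uniqueness Theorem) and S1417 (BG 12.5) as hypotheses:
for `p ∉ σ(M) ∪ κ(M)` dividing `|M|` and `S` a Sylow `p`-subgroup of `M`, `A = Ω₁(S)` has order at
most `p ^ 2`, `C_{M_σ}(A) = 1` and `M_σ` is nilpotent.
-/

set_option autoImplicit false

namespace Cfsg.Agent.Helper11.BG137

open Cfsg Subgroup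
open Cfsg.Agent.Helper14.BGTrans Cfsg.Agent.Helper14.BGUniq
open Cfsg.Agent.Helper15 (IsSylowIn isSylowIn_map_subtype exists_isSylowIn_ge)
open Cfsg.Agent.Helper23.BG10

universe u

variable {G : Type u} [Group G]

/-- the statement of S1417 (BG 12.5) for the group `G` -/
def H1417 (G : Type u) [Group G] : Prop :=
  ∀ (M : Subgroup G), IsCoatom M → ∀ (p : ℕ) [Fact p.Prime], p ∈ tau2 M → ∀ (A : Subgroup G),
    (A ≤ M ∧ IsElementaryAbelian p A ∧ Nat.card A = p ^ 2) →
    Group.IsNilpotent (sigmaCore M) ∧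
      (∀ P : Sylow p M, IsMulCommutative (P : Subgroup M) ∧
        (A ≤ (P : Subgroup M).map M.subtype →
          (∀ x ∈ (P : Subgroup M).map M.subtype, x ^ p = 1 ↔ x ∈ A) ∧
          ¬ Subgroup.normalizer ((((P : Subgroup M).map M.subtype : Subgroup G)) : Set G) ≤ M)) ∧
      M ≤ Subgroup.normalizer ((sigmaCore M ⊔ A : Subgroup G) : Set G) ∧
      sigmaCore M ⊓ Subgroup.centralizer (A : Set G) = ⊥ ∧
      (∀ Mstar : Subgroup G, IsCoatom Mstar → Mstar ≠ M → A ≤ Mstar → sigmaCore M ⊓ Mstar = ⊥) ∧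
      ∃ A₁ : Subgroup G, A₁ ≤ A ∧ Nat.card A₁ = p ∧
        sigmaCore M ⊓ Subgroup.centralizer (A₁ : Set G) = ⊥

/-- the set of elements of order dividing `p` of `S` -/
def omegaSet (p : ℕ) (S : Subgroup G) : Set G := {x : G | x ∈ S ∧ x ^ p = 1}

variable [Finite G]

theorem isElementaryAbelian_map_conj {p : ℕ} {A : Subgroup G} (hA : IsElementaryAbelian p A)
    (g : G) : IsElementaryAbelian p (A.map (MulAut.conj g).toMonoidHom) := by
  have hc : A ≤ centralizer (A : Set G) := le_centralizer_self_of_isElementaryAbelian hA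
  refine ⟨⟨⟨?_⟩⟩, ?_⟩
  · rintro ⟨_, a, ha, rfl⟩ ⟨_, b, hb, rfl⟩
    apply Subtype.ext
    have h1 := hc ha
    rw [Subgroup.mem_centralizer_iff] at h1
    have h2 : b * a = a * b := h1 b hb
    show (MulAut.conj g).toMonoidHom a * (MulAut.conj g).toMonoidHom b =
      (MulAut.conj g).toMonoidHom b * (MulAut.conj g).toMonoidHom a
    rw [← map_mul, ← map_mul, h2]
  · rintro _ ⟨a, ha, rfl⟩
    rw [← map_pow, hA.2 a ha, map_one]

/-- **rank two case**: from the statement of S1417 -/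
theorem rank_two (h17 : H1417 G) {M : Subgroup G} (hM : IsCoatom M) {p : ℕ} [Fact p.Prime]
    (hp : p ∉ sigma M) (hr2 : PRankLE p 2 ↥M) (hr1 : ¬ PRankLE p 1 ↥M) (S : Sylow p M) :
    Nat.card ↥(Subgroup.closure (omegaSet p ((S : Subgroup M).map M.subtype))) ≤ p ^ 2 ∧
      sigmaCore M ⊓ Subgroup.centralizer
        ((Subgroup.closure (omegaSet p ((S : Subgroup M).map M.subtype)) : Subgroup G) : Set G)
          = ⊥ ∧
      Group.IsNilpotent (sigmaCore M) := by
  have hpp : p.Prime := Fact.out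
  have hτ : p ∈ tau2 M := ⟨hpp, hp, hr2, hr1⟩
  obtain ⟨A, hAM, hAe, hAc⟩ := exists_elemAb_sq hr2 hr1
  obtain ⟨T, hAT, hT⟩ := exists_isSylowIn_ge (isPGroup_of_isElementaryAbelian hAe) hAM
  obtain ⟨k, hk, hkT⟩ := hT.exists_conj (isSylowIn_map_subtype S)
  set A' := A.map (MulAut.conj k).toMonoidHom with hA'
  have hA'S : A' ≤ (S : Subgroup M).map M.subtype := by
    rw [← hkT]; exact Subgroup.map_mono hAT
  have hA'M : A' ≤ M := hA'S.trans (Subgroup.map_subtype_le _)
  have hA'e : IsElementaryAbelian p A' := isElementaryAbelian_map_conj hAe k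
  have hA'c : Nat.card ↥A' = p ^ 2 := by
    rw [hA', Subgroup.card_map_of_injective (MulAut.conj k).injective, hAc]
  obtain ⟨hnil, hb, -, hd, -, -⟩ := h17 M hM p hτ A' ⟨hA'M, hA'e, hA'c⟩
  have hset : omegaSet p ((S : Subgroup M).map M.subtype) = (A' : Set G) := by
    ext x
    constructor
    · rintro ⟨hxS, hxp⟩
      exact (((hb S).2 hA'S).1 x hxS).mp hxp
    · intro hx
      exact ⟨hA'S hx, hA'e.2 x hx⟩
  rw [hset, Subgroup.closure_eq]
  exact ⟨hA'c.le, hd, hnil⟩

/-- **rank one case**: from Thompson's theorem on fixed-point-free automorphisms -/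
theorem rank_one (hG : IsMinSimpleOddOrder G) {M : Subgroup G} {p : ℕ}
    [Fact p.Prime] (hpM : p ∣ Nat.card ↥M) (hpσ : p ∉ sigma M) (hpκ : p ∉ kappa M)
    (hr1 : PRankLE p 1 ↥M) (S : Sylow p M) :
    Nat.card ↥(Subgroup.closure (omegaSet p ((S : Subgroup M).map M.subtype))) ≤ p ^ 2 ∧
      sigmaCore M ⊓ Subgroup.centralizer
        ((Subgroup.closure (omegaSet p ((S : Subgroup M).map M.subtype)) : Subgroup G) : Set G)
          = ⊥ ∧
      Group.IsNilpotent (sigmaCore M) := by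
  classical
  have hpp : p.Prime := Fact.out
  have hcyc : ∀ P : Sylow p M, IsCyclic ↥(P : Subgroup M) := by
    intro P
    by_cases hP : Nontrivial ↥(P : Subgroup M)
    · exact Cfsg.Agent.Helper7.BG12.isCyclic_of_pRankLE_one_of_injective hG.1 hr1
        (P : Subgroup M).subtype (Subgroup.subtype_injective _) P.isPGroup'
    · rw [not_nontrivial_iff_subsingleton] at hP
      infer_instance
  -- some Sylow subgroup acts semiregularly
  have h1 : ∃ P : Sylow p M, ¬ ∃ x : M, x ∈ (P : Subgroup M) ∧ x ≠ 1 ∧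
      ∃ y ∈ sigmaCore M, y ≠ 1 ∧ (x : G) * y = y * x := by
    by_contra hcon
    apply hpκ
    refine ⟨hpp, hpM, hpσ, fun P => ⟨hcyc P, ?_⟩⟩
    by_contra hP
    exact hcon ⟨P, hP⟩
  obtain ⟨P, hP⟩ := h1
  -- hence `S` does
  have hS : ∀ x : M, x ∈ (S : Subgroup M) → x ≠ 1 → ∀ y ∈ piCore (sigma M) ↥M,
      x * y = y * x → y = 1 := by
    intro x hx hx1 y hy hxy
    obtain ⟨m, hm⟩ := MulAction.exists_smul_eq ↥M P S
    have hx' : x ∈ ((m • P : Sylow p M) : Subgroup M) := by rw [hm]; exact hx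
    rw [Cfsg.Agent.Helper15.sylow_smul_coe_eq_map] at hx'
    obtain ⟨x₀, hx₀, rfl⟩ := hx'
    by_contra hy1
    apply hP
    have hx₀1 : x₀ ≠ 1 := by
      rintro rfl
      exact hx1 (map_one _)
    have hy₀ : m⁻¹ * y * m ∈ piCore (sigma M) ↥M := by
      have := (inferInstance : (piCore (sigma M) ↥M).Normal).conj_mem y hy m⁻¹
      simpa using this
    refine ⟨x₀, hx₀, hx₀1, ((m⁻¹ * y * m : M) : G), ⟨_, hy₀, rfl⟩, ?_, ?_⟩
    · intro h
      apply hy1
      have h2 : m⁻¹ * y * m = 1 := Subtype.ext h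
      have h3 : y = m * (m⁻¹ * y * m) * m⁻¹ := by group
      rw [h3, h2]; group
    · have h2 : x₀ * (m⁻¹ * y * m) = (m⁻¹ * y * m) * x₀ := by
        have h3 : (m * x₀ * m⁻¹) * y = y * (m * x₀ * m⁻¹) := by
          simpa [MulAut.conj_apply] using hxy
        calc x₀ * (m⁻¹ * y * m) = m⁻¹ * ((m * x₀ * m⁻¹) * y) * m := by group
          _ = m⁻¹ * (y * (m * x₀ * m⁻¹)) * m := by rw [h3]
          _ = (m⁻¹ * y * m) * x₀ := by group
      have := congrArg Subtype.val h2
      simpa using this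
  -- an element of order `p` of `S`
  have hSdvd : p ∣ Nat.card ↥(S : Subgroup M) := by
    rw [S.card_eq_multiplicity]
    apply dvd_pow_self
    have hM0 : Nat.card ↥M ≠ 0 := Nat.card_pos.ne'
    exact (Nat.Prime.factorization_pos_of_dvd hpp hM0 hpM).ne'
  obtain ⟨a, ha⟩ := exists_prime_orderOf_dvd_card' p hSdvd
  have ha1 : (a : M) ≠ 1 := by
    intro h
    have : a = 1 := Subtype.ext h
    rw [this, orderOf_one] at ha
    exact hpp.one_lt.ne ha
  have hap : (a : M) ^ p = 1 := by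
    have : a ^ p = 1 := by
      have h := pow_orderOf_eq_one a
      rwa [ha] at h
    have := congrArg Subtype.val this
    simpa using this
  -- the subgroup `Ω₁(S)`
  haveI := hcyc S
  have hScomm : ∀ x ∈ (S : Subgroup M).map M.subtype, ∀ y ∈ (S : Subgroup M).map M.subtype,
      x * y = y * x := by
    rintro _ ⟨x, hx, rfl⟩ _ ⟨y, hy, rfl⟩
    have h := IsCyclic.commGroup.mul_comm (⟨x, hx⟩ : ↥(S : Subgroup M)) ⟨y, hy⟩
    have h2 : x * y = y * x := congrArg Subtype.val h
    rw [← map_mul, ← map_mul, h2]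
  let Ω : Subgroup G :=
    { carrier := omegaSet p ((S : Subgroup M).map M.subtype)
      one_mem' := ⟨one_mem _, one_pow _⟩
      mul_mem' := by
        rintro x y ⟨hx, hxp⟩ ⟨hy, hyp⟩
        refine ⟨mul_mem hx hy, ?_⟩
        have : Commute x y := hScomm x hx y hy
        rw [this.mul_pow, hxp, hyp, one_mul]
      inv_mem' := by
        rintro x ⟨hx, hxp⟩
        exact ⟨inv_mem hx, by rw [inv_pow, hxp, inv_one]⟩ }
  have hΩ : Subgroup.closure (omegaSet p ((S : Subgroup M).map M.subtype)) = Ω :=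
    Subgroup.closure_eq Ω
  rw [hΩ]
  have haΩ : ((a : M) : G) ∈ Ω := by
    refine ⟨⟨(a : M), a.2, rfl⟩, ?_⟩
    have := congrArg Subtype.val hap
    simpa using this
  refine ⟨?_, ?_, ?_⟩
  · -- cardinality
    have hle : Nat.card ↥Ω ≤ p := by
      let f : ↥Ω → {b : ↥(S : Subgroup M) // b ^ p = 1} := fun x =>
        ⟨⟨⟨(x : G), (Subgroup.map_subtype_le _) x.2.1⟩, by
          obtain ⟨y, hy, hyx⟩ := x.2.1
          have : y = ⟨(x : G), (Subgroup.map_subtype_le _) x.2.1⟩ := Subtype.ext hyx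
          rw [← this]; exact hy⟩, by
          apply Subtype.ext; apply Subtype.ext
          simpa using x.2.2⟩
      have hf : Function.Injective f := by
        intro x y hxy
        apply Subtype.ext
        have := congrArg (fun z => ((z.1 : ↥(S : Subgroup M)) : M).1) hxy
        exact this
      have h2 : Nat.card ↥Ω ≤ Nat.card {b : ↥(S : Subgroup M) // b ^ p = 1} :=
        Nat.card_le_card_of_injective f hf
      haveI : Fintype ↥(S : Subgroup M) := Fintype.ofFinite _
      have h3 := IsCyclic.card_pow_eq_one_le (α := ↥(S : Subgroup M)) (n := p) hpp.pos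
      have h4 : Nat.card {b : ↥(S : Subgroup M) // b ^ p = 1} =
          (Finset.univ.filter fun b : ↥(S : Subgroup M) => b ^ p = 1).card := by
        rw [Nat.card_eq_fintype_card, Fintype.card_subtype]
      rw [h4] at h2
      exact h2.trans h3
    calc Nat.card ↥Ω ≤ p := hle
      _ = p ^ 1 := (pow_one p).symm
      _ ≤ p ^ 2 := Nat.pow_le_pow_right hpp.pos (by norm_num)
  · -- centralizer
    rw [eq_bot_iff]
    rintro y ⟨hyσ, hyc⟩
    obtain ⟨y₀, hy₀, rfl⟩ := hyσ
    have hyc' : M.subtype y₀ ∈ centralizer (Ω : Set G) := hyc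
    rw [Subgroup.mem_centralizer_iff] at hyc'
    have h2 := hyc' _ haΩ
    have h3 : (a : M) * y₀ = y₀ * (a : M) := Subtype.ext (by simpa using h2)
    have := hS (a : M) a.2 ha1 y₀ hy₀ h3
    rw [Subgroup.mem_bot, this]; rfl
  · -- nilpotency
    let φ : ↥(piCore (sigma M) ↥M) ≃* ↥(piCore (sigma M) ↥M) :=
      MulAut.conjNormal (H := piCore (sigma M) ↥M) (a : M)
    have hφ : MonoidHom.FixedPointFree φ := by
      intro y hy
      have h2 : ((φ y : ↥(piCore (sigma M) ↥M)) : M) = (a : M) * y * (a : M)⁻¹ :=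
        MulAut.conjNormal_apply (a : M) y
      rw [hy] at h2
      have h3 : (a : M) * (y : M) = (y : M) * (a : M) := by
        calc (a : M) * (y : M) = ((a : M) * y * (a : M)⁻¹) * (a : M) := by group
          _ = (y : M) * (a : M) := by rw [← h2]
      exact Subtype.ext (hS (a : M) a.2 ha1 (y : M) y.2 h3)
    have hφp : φ ^ p = 1 := by
      show (MulAut.conjNormal (H := piCore (sigma M) ↥M) (a : M)) ^ p = 1
      rw [← map_pow, hap, map_one]
    haveI : Group.IsNilpotent ↥(piCore (sigma M) ↥M) :=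
      Cfsg.Agent.Helper1.Fpf.fpf_nilpotent φ hφ hpp hφp
    exact Group.nilpotent_of_mulEquiv
      ((piCore (sigma M) ↥M).equivMapOfInjective M.subtype M.subtype_injective)

/-- **the statement of S1429** -/
theorem main (hG : IsMinSimpleOddOrder G) (hU : UniqThm G) (h17 : H1417 G) (M : Subgroup G)
    (hM : IsCoatom M) (p : ℕ) [Fact p.Prime] (hpM : p ∣ Nat.card M)
    (hp : p ∉ sigma M ∪ kappa M) (S : Sylow p M) :
    Nat.card ↥(Subgroup.closure {x : G | x ∈ (S : Subgroup M).map M.subtype ∧ x ^ p = 1}) ≤ p ^ 2 ∧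
      sigmaCore M ⊓ Subgroup.centralizer ((Subgroup.closure
        {x : G | x ∈ (S : Subgroup M).map M.subtype ∧ x ^ p = 1} : Subgroup G) : Set G) = ⊥ ∧
      Group.IsNilpotent (sigmaCore M) := by
  have hpσ : p ∉ sigma M := fun h => hp (Or.inl h)
  have hpκ : p ∉ kappa M := fun h => hp (Or.inr h)
  by_cases hr1 : PRankLE p 1 ↥M
  · exact rank_one hG hpM hpσ hpκ hr1 S
  · by_cases hr2 : PRankLE p 2 ↥M
    · exact rank_two h17 hM hpσ hr2 hr1 S
    · exact absurd (alpha_subset_sigma hG hU hM ⟨Fact.out, hr2⟩) hpσ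

end Cfsg.Agent.Helper11.BG137
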