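import Mathlib
import Cfsg.Prelude.Def_OddOrder
import Cfsg.Prelude.Def_OddOrderLocal
import Cfsg.Agent.Lib.Helper1.PiHall
import Cfsg.Agent.Lib.Helper1.FpfThompson
import Cfsg.Agent.Lib.Helper4.BG144A
import Cfsg.Agent.Lib.Helper15.SylowIn
import Cfsg.Agent.Lib.Helper22.PPrimeCore
import Cfsg.Agent.Lib.Helper22.BG13C
import Cfsg.Agent.Lib.Helper11.BG137

/-!
# BG 14.13 (S1436), part A: general group theory (helper11)

* conjugacy of the complements of a normal Hall subgroup of a solvable group;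
* the "largest prime" inequality coming from the index of `O_{s'}(H)`;
* a group with a Frobenius complement `E` (cyclic) cannot have the `τ₂`-configuration.
-/

set_option autoImplicit false

namespace Cfsg.Agent.Helper11.BG1413

open Cfsg Subgroup
open Cfsg.Agent.Helper15 (IsSylowIn exists_isSylowIn_ge)

universe u

variable {G : Type u} [Group G]

/-! ### elements of prime order -/

theorem exists_prime_order_pow {d : G} (hd : d ≠ 1) (hfin : IsOfFinOrder d) :
    ∃ (t : ℕ) (k : ℕ), t.Prime ∧ t ∣ orderOf d ∧ orderOf (d ^ k) = t := by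
  have h1 : orderOf d ≠ 1 := fun h => hd (orderOf_eq_one_iff.mp h)
  have h0 : orderOf d ≠ 0 := (hfin.orderOf_pos).ne'
  refine ⟨(orderOf d).minFac, orderOf d / (orderOf d).minFac, Nat.minFac_prime h1,
    Nat.minFac_dvd _, ?_⟩
  exact orderOf_pow_orderOf_div h0 (Nat.minFac_dvd _)

theorem commute_pow_of_commute {a b : G} (h : a * b = b * a) (k : ℕ) : a ^ k * b = b * a ^ k :=
  ((show Commute a b from h).pow_left k).eq

/-! ### conjugacy of complements -/

section compl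

variable [Finite G]

/-- a complement of a normal Hall `π`-subgroup is a Hall `π'`-subgroup -/
theorem isPiHallOf_compl {π : Set ℕ} {N M E : Subgroup G} (hN : IsPiHallOf π N M)
    (h : IsComplIn E N M) : IsPiHallOf {q | q.Prime ∧ q ∉ π} E M := by
  refine ⟨h.1, fun p hp hd => ⟨hp, fun hpπ => hN.2.2 p hp hpπ ?_⟩, fun p hp hpπ hd => hpπ.2 ?_⟩
  · rw [Cfsg.Agent.Helper4.BG144.complIn_relIndex_eq' h]; exact hd
  · rw [Cfsg.Agent.Helper4.BG144.complIn_relIndex_eq h] at hd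
    exact hN.2.1 p hp hd

/-- complements of a normal Hall subgroup of a solvable group are conjugate -/
theorem exists_conj_of_isComplIn {π : Set ℕ} {N M E₁ E₂ : Subgroup G} [Group.IsSolvable ↥M]
    (hN : IsPiHallOf π N M) (h₁ : IsComplIn E₁ N M) (h₂ : IsComplIn E₂ N M) :
    ∃ m ∈ M, E₁.map (MulAut.conj m).toMonoidHom = E₂ :=
  Cfsg.Agent.Helper1.PiHall.exists_conj_of_isPiHallOf (isPiHallOf_compl hN h₁) (isPiHallOf_compl hN h₂)

end compl

/-! ### the largest-prime inequality -/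

section largest

variable [Finite G]

/-- If every prime dividing `|H : O_{s'}(H)|` is at most `s`, and an element `a` of `H` with
`a ^ t = 1` (`t` prime) does not centralise a normal `s`-subgroup `S` of `H`, then `t ≤ s`. -/
theorem prime_le_of_not_commute {H S : Subgroup G} {s t : ℕ} [Fact s.Prime]
    (hidx : ∀ q : ℕ, q.Prime → q ∣ (Cfsg.pPrimeCore s ↥H).index → q ≤ s)
    (hSH : S ≤ H) (hHS : H ≤ normalizer (S : Set G)) (hS : IsPGroup s S)
    {a y : G} (haH : a ∈ H) (ht : t.Prime) (hat : a ^ t = 1)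
    (hy : y ∈ S) (hay : a * y ≠ y * a) : t ≤ s := by
  have hs : s.Prime := Fact.out
  set T : Subgroup ↥H := Cfsg.pPrimeCore s ↥H with hT
  haveI hTn : T.Normal := Cfsg.Agent.Helper22.pPrimeCore_normal s
  have hTc : (Nat.card ↥T).Coprime s := Cfsg.Agent.Helper22.card_pPrimeCore_coprime s
  set a' : ↥H := ⟨a, haH⟩ with ha'
  set y' : ↥H := ⟨y, hSH hy⟩ with hy'
  have hnot : a' ∉ T := by
    intro haT
    apply hay
    have hc'T : a' * (y' * a'⁻¹ * y'⁻¹) ∈ T := T.mul_mem haT (hTn.conj_mem _ (T.inv_mem haT) y')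
    have hcS : a * y * a⁻¹ * y⁻¹ ∈ S :=
      S.mul_mem ((mem_normalizer_iff.mp (hHS haH) y).mp hy) (S.inv_mem hy)
    have hcval : ((a' * (y' * a'⁻¹ * y'⁻¹) : ↥H) : G) = a * y * a⁻¹ * y⁻¹ := by
      simp [ha', hy', mul_assoc]
    have ho1 : orderOf (a * y * a⁻¹ * y⁻¹) ∣ Nat.card ↥T := by
      rw [← hcval, Subgroup.orderOf_coe]
      have := Subgroup.orderOf_dvd_natCard T hc'T
      exact this
    obtain ⟨k, hk⟩ := (IsPGroup.iff_orderOf.mp hS) ⟨_, hcS⟩
    rw [Subgroup.orderOf_mk] at hk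
    have ho2 : orderOf (a * y * a⁻¹ * y⁻¹) = 1 := by
      have h2 : orderOf (a * y * a⁻¹ * y⁻¹) ∣ s ^ k := by rw [hk]
      have h3 : (Nat.card ↥T).Coprime (s ^ k) := hTc.pow_right k
      exact Nat.eq_one_of_dvd_coprimes h3 ho1 h2
    have h1 : a * y * a⁻¹ * y⁻¹ = 1 := orderOf_eq_one_iff.mp ho2
    calc a * y = (a * y * a⁻¹ * y⁻¹) * (y * a) := by group
      _ = y * a := by rw [h1, one_mul]
  have hmk1 : (QuotientGroup.mk a' : ↥H ⧸ T) ≠ 1 := by
    intro h
    exact hnot ((QuotientGroup.eq_one_iff a').mp h)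
  have hmkt : (QuotientGroup.mk a' : ↥H ⧸ T) ^ t = 1 := by
    rw [← QuotientGroup.mk_pow]
    have : a' ^ t = 1 := by
      apply Subtype.ext
      simp [ha', hat]
    rw [this]
    rfl
  haveI : Fact t.Prime := ⟨ht⟩
  have ho : orderOf (QuotientGroup.mk a' : ↥H ⧸ T) = t := orderOf_eq_prime hmkt hmk1
  have hdvd : t ∣ T.index := by
    rw [Subgroup.index_eq_card, ← ho]
    exact orderOf_dvd_natCard _
  exact hidx t ht hdvd

end largest

/-! ### no Frobenius complement in the `τ₂`-configuration -/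

section frob

variable [Finite G]

theorem exists_mul_of_mem_sup' {A B : Subgroup G} (hBA : B ≤ normalizer (A : Set G)) {x : G}
    (hx : x ∈ A ⊔ B) : ∃ a ∈ A, ∃ b ∈ B, x = a * b :=
  Cfsg.Agent.Helper22.BG13.exists_mul_of_mem_sup hBA hx

/-- `M` has a normal nilpotent subgroup `Ms ≠ 1` of order prime to `s`, an elementary abelian
subgroup `A` of order `s²` with `Ms A` normal in `M` and `C_{Ms}(A) = 1`.  Then `M` has no cyclic
"Frobenius complement" `E`. -/
theorem frob_false {M Ms A E : Subgroup G} {s : ℕ} [Fact s.Prime]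
    (hMsM : Ms ≤ M) (hMsn : M ≤ normalizer (Ms : Set G)) (hnil : Group.IsNilpotent ↥Ms)
    (hMs1 : Ms ≠ ⊥) (hs : ¬ s ∣ Nat.card ↥Ms)
    (hAM : A ≤ M) (hA : IsElementaryAbelian s A) (hAc : Nat.card ↥A = s ^ 2)
    (hW : M ≤ normalizer ((Ms ⊔ A : Subgroup G) : Set G))
    (hC : Ms ⊓ centralizer (A : Set G) = ⊥)
    (hEM : E ≤ M) (hE1 : E ≠ ⊥) (hEM' : E ≠ M) (hEc : IsCyclic ↥E)
    (hfrob : ∀ g ∈ M, g ∉ E → E ⊓ E.map (MulAut.conj g).toMonoidHom = ⊥) : False := by
  have hsp : s.Prime := Fact.out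
  -- (F): centralizers of non-identity elements of `E` lie in `E`
  have hF : ∀ e ∈ E, e ≠ 1 → ∀ c ∈ M, c * e = e * c → c ∈ E := by
    intro e he he1 c hc hce
    by_contra hcE
    have h1 := hfrob c hc hcE
    have h2 : e ∈ E ⊓ E.map (MulAut.conj c).toMonoidHom := by
      refine ⟨he, e, he, ?_⟩
      show c * e * c⁻¹ = e
      rw [hce]; group
    rw [h1, mem_bot] at h2
    exact he1 h2
  -- an element of `M` outside `E`
  obtain ⟨g, hgM, hgE⟩ : ∃ g ∈ M, g ∉ E := by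
    by_contra hcon
    push Not at hcon
    exact hEM' (le_antisymm hEM hcon)
  -- (i) `E ⊓ Ms = ⊥`
  have hEMs : E ⊓ Ms = ⊥ := by
    rw [eq_bot_iff]
    intro d hd
    rw [mem_bot]
    by_contra hd1
    haveI : Nontrivial ↥Ms := (Subgroup.nontrivial_iff_ne_bot Ms).mpr hMs1
    haveI := hnil
    have hZ1 : center ↥Ms ≠ ⊥ := Group.IsNilpotent.center_ne_bot _
    set Z : Subgroup G := (center ↥Ms).map Ms.subtype with hZ
    have hZne : Z ≠ ⊥ := by
      intro h
      apply hZ1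
      rw [eq_bot_iff]
      intro z hz
      have : (z : G) ∈ Z := ⟨z, hz, rfl⟩
      rw [h, mem_bot] at this
      rw [mem_bot]
      exact Subtype.ext this
    have hZE : Z ≤ E := by
      rintro _ ⟨z, hz, rfl⟩
      apply hF d hd.1 hd1 _ (hMsM z.2)
      have h1 := (Subgroup.mem_center_iff.mp hz) ⟨d, hd.2⟩
      have h2 : d * (z : G) = (z : G) * d := congrArg Subtype.val h1
      exact h2.symm
    have hZn : M ≤ normalizer (Z : Set G) :=
      hMsn.trans (Cfsg.Agent.Helper1.normalizer_le_normalizer_map_of_characteristic Ms (center ↥Ms))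
    have hZg : Z ≤ E.map (MulAut.conj g).toMonoidHom := by
      intro z hz
      have h1 : g⁻¹ * z * g⁻¹⁻¹ ∈ Z :=
        (mem_normalizer_iff.mp (hZn (M.inv_mem hgM)) z).mp hz
      refine ⟨g⁻¹ * z * g⁻¹⁻¹, hZE h1, ?_⟩
      show g * (g⁻¹ * z * g⁻¹⁻¹) * g⁻¹ = z
      group
    have h3 : Z ≤ E ⊓ E.map (MulAut.conj g).toMonoidHom := le_inf hZE hZg
    rw [hfrob g hgM hgE] at h3
    exact hZne (eq_bot_iff.mpr h3)
  -- the product `W = Ms A`
  have hAMs : A ⊓ Ms = ⊥ := by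
    apply Cfsg.Agent.Helper1.PiHall.inf_eq_bot_of_coprime
    rw [hAc]
    exact Nat.Coprime.pow_left 2 ((Nat.Prime.coprime_iff_not_dvd hsp).mpr hs)
  have hAn : A ≤ normalizer (Ms : Set G) := hAM.trans hMsn
  have hWM : Ms ⊔ A ≤ M := sup_le hMsM hAM
  have hcompl : IsComplIn A Ms (Ms ⊔ A) := by
    refine ⟨le_sup_right, le_sup_left, hAMs, ?_⟩
    intro w hw
    obtain ⟨m, hm, a, ha, rfl⟩ := exists_mul_of_mem_sup' hAn hw
    refine ⟨a, ha, a⁻¹ * m * a, ?_, by group⟩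
    have := (mem_normalizer_iff.mp (hAn (A.inv_mem ha)) m).mp hm
    simpa using this
  have hApg : IsPGroup s A := Cfsg.Agent.Helper14.BGUniq.isPGroup_of_isElementaryAbelian hA
  have hAsyl : IsSylowIn s A (Ms ⊔ A) := by
    apply Cfsg.Agent.Helper15.isSylowIn_of_not_dvd_relIndex hApg le_sup_right
    rw [Cfsg.Agent.Helper4.BG144.complIn_relIndex_eq hcompl]
    exact hs
  -- (ii) `E ⊓ W = ⊥`
  have hEW : E ⊓ (Ms ⊔ A) = ⊥ := by
    rw [eq_bot_iff]
    intro d hd
    rw [mem_bot]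
    by_contra hd1
    -- `d ^ s ∈ Ms`
    obtain ⟨m, hm, a, ha, hdma⟩ := exists_mul_of_mem_sup' hAn hd.2
    have hds : d ^ s ∈ Ms := by
      haveI : (Ms.subgroupOf (Ms ⊔ A)).Normal :=
        (Subgroup.normal_subgroupOf_iff_le_normalizer le_sup_left).mpr (hWM.trans hMsn)
      set d' : ↥(Ms ⊔ A) := ⟨d, hd.2⟩ with hd'
      have h1 : (QuotientGroup.mk d' : ↥(Ms ⊔ A) ⧸ Ms.subgroupOf (Ms ⊔ A)) =
          QuotientGroup.mk (⟨a, (le_sup_right : A ≤ Ms ⊔ A) ha⟩ : ↥(Ms ⊔ A)) := by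
        rw [QuotientGroup.eq]
        rw [Subgroup.mem_subgroupOf]
        have : ((d'⁻¹ * ⟨a, (le_sup_right : A ≤ Ms ⊔ A) ha⟩ : ↥(Ms ⊔ A)) : G) = a⁻¹ * m⁻¹ * a := by
          simp [hd', hdma, mul_assoc]
        rw [this]
        have := (mem_normalizer_iff.mp (hAn (A.inv_mem ha)) m⁻¹).mp (Ms.inv_mem hm)
        simpa using this
      have h2 : (QuotientGroup.mk (d' ^ s) : ↥(Ms ⊔ A) ⧸ Ms.subgroupOf (Ms ⊔ A)) = 1 := by
        rw [QuotientGroup.mk_pow, h1, ← QuotientGroup.mk_pow]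
        have : (⟨a, (le_sup_right : A ≤ Ms ⊔ A) ha⟩ : ↥(Ms ⊔ A)) ^ s = 1 := by
          apply Subtype.ext
          simp [hA.2 a ha]
        rw [this]; rfl
      have h3 := (QuotientGroup.eq_one_iff (d' ^ s)).mp h2
      rw [Subgroup.mem_subgroupOf] at h3
      simpa [hd'] using h3
    have hds1 : d ^ s = 1 := by
      have : d ^ s ∈ E ⊓ Ms := ⟨E.pow_mem hd.1 s, hds⟩
      rw [hEMs, mem_bot] at this
      exact this
    have hdpg : IsPGroup s (zpowers d) := by
      apply IsPGroup.of_card (n := 1)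
      rw [Nat.card_zpowers, pow_one]
      exact orderOf_eq_prime hds1 hd1
    have hdW : zpowers d ≤ Ms ⊔ A := (zpowers_le).mpr hd.2
    obtain ⟨T, hdT, hT⟩ := exists_isSylowIn_ge hdpg hdW
    obtain ⟨k, hk, hkT⟩ := hAsyl.exists_conj hT
    have hTea : IsElementaryAbelian s T := by
      rw [← hkT]
      exact Cfsg.Agent.Helper11.BG137.isElementaryAbelian_map_conj hA k
    have hTc : Nat.card ↥T = s ^ 2 := by
      rw [← hkT, Cfsg.Agent.Helper15.card_map_conj, hAc]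
    have hTE : T ≤ E := by
      intro x hx
      apply hF d hd.1 hd1 x (hWM (hT.le hx))
      have hdT' : d ∈ T := hdT (mem_zpowers d)
      haveI := hTea.1
      have h1 := mul_comm' (⟨x, hx⟩ : ↥T) ⟨d, hdT'⟩
      exact congrArg Subtype.val h1
    -- `T` is cyclic of exponent `s` and order `s²`
    haveI : IsCyclic ↥T := by
      haveI := hEc
      have e : ↥T ≃* ↥(T.subgroupOf E) := (Subgroup.subgroupOfEquivOfLe hTE).symm
      exact isCyclic_of_surjective e.symm.toMonoidHom e.symm.surjective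
    obtain ⟨x, hx⟩ := IsCyclic.exists_ofOrder_eq_natCard (α := ↥T)
    have h1 : x ^ s = 1 := Subtype.ext (by simpa using hTea.2 (x : G) x.2)
    have h2 : orderOf x ∣ s := orderOf_dvd_of_pow_eq_one h1
    rw [hx, hTc] at h2
    have h3 : s ^ 2 ≤ s := Nat.le_of_dvd hsp.pos h2
    have h4 : s < s ^ 2 := by
      have := hsp.one_lt
      nlinarith
    omega
  -- (iii) a fixed-point-free automorphism of prime order of `W`
  obtain ⟨d, hdE, hd1⟩ : ∃ d ∈ E, d ≠ 1 := by
    by_contra hcon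
    push Not at hcon
    exact hE1 (eq_bot_iff.mpr fun x hx => by rw [mem_bot]; exact hcon x hx)
  obtain ⟨t, k, ht, -, hok⟩ := exists_prime_order_pow hd1 (isOfFinOrder_of_finite d)
  set e : G := d ^ k with he
  have heE : e ∈ E := E.pow_mem hdE k
  have he1 : e ≠ 1 := by
    intro h
    rw [h, orderOf_one] at hok
    exact ht.one_lt.ne hok
  have heM : e ∈ M := hEM heE
  haveI hWn : ((Ms ⊔ A).subgroupOf M).Normal :=
    (Subgroup.normal_subgroupOf_iff_le_normalizer hWM).mpr hW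
  set φ : ↥((Ms ⊔ A).subgroupOf M) ≃* ↥((Ms ⊔ A).subgroupOf M) :=
    MulAut.conjNormal (⟨e, heM⟩ : ↥M) with hφ
  have hφfix : MonoidHom.FixedPointFree (φ : ↥((Ms ⊔ A).subgroupOf M) →* _) := by
    intro w hw
    have h1 : ((φ w : ↥((Ms ⊔ A).subgroupOf M)) : ↥M) = ⟨e, heM⟩ * (w : ↥M) * (⟨e, heM⟩ : ↥M)⁻¹ := by
      rw [hφ]
      exact MulAut.conjNormal_apply _ _
    have h2 : e * ((w : ↥M) : G) * e⁻¹ = ((w : ↥M) : G) := by
      have h3 : ((φ w : ↥((Ms ⊔ A).subgroupOf M)) : ↥M) = (w : ↥M) := by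
        have : φ w = w := hw
        rw [this]
      rw [h1] at h3
      have := congrArg (Subtype.val : ↥M → G) h3
      simpa using this
    have h4 : ((w : ↥M) : G) * e = e * ((w : ↥M) : G) := by
      calc ((w : ↥M) : G) * e = (e * ((w : ↥M) : G) * e⁻¹) * e := by rw [h2]
        _ = e * ((w : ↥M) : G) := by group
    have h5 : ((w : ↥M) : G) ∈ E := hF e heE he1 _ (w : ↥M).2 h4
    have h6 : ((w : ↥M) : G) ∈ E ⊓ (Ms ⊔ A) := ⟨h5, Subgroup.mem_subgroupOf.mp w.2⟩
    rw [hEW, mem_bot] at h6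
    exact Subtype.ext (Subtype.ext h6)
  have hφt : φ ^ t = 1 := by
    rw [hφ, ← map_pow]
    have : (⟨e, heM⟩ : ↥M) ^ t = 1 := by
      apply Subtype.ext
      show e ^ t = 1
      rw [← hok]; exact pow_orderOf_eq_one e
    rw [this, map_one]
  have hWnil' : Group.IsNilpotent ↥((Ms ⊔ A).subgroupOf M) :=
    Cfsg.Agent.Helper1.Fpf.fpf_nilpotent φ hφfix ht hφt
  have hWnil : Group.IsNilpotent ↥(Ms ⊔ A) := by
    haveI := hWnil'
    exact Group.nilpotent_of_mulEquiv (Subgroup.subgroupOfEquivOfLe hWM)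
  -- (iv) `A` is normal in `W`, so centralises `Ms`
  have hWA : Ms ⊔ A ≤ normalizer (A : Set G) :=
    Cfsg.Agent.Helper22.BG13.le_normalizer_of_isNilpotent hWnil hAsyl
  have hcent : Ms ≤ centralizer (A : Set G) := by
    intro m hm
    rw [mem_centralizer_iff]
    intro a ha
    have h1 : m * a * m⁻¹ * a⁻¹ ∈ A :=
      A.mul_mem ((mem_normalizer_iff.mp (hWA ((le_sup_left : Ms ≤ Ms ⊔ A) hm)) a).mp ha)
        (A.inv_mem ha)
    have h2 : m * a * m⁻¹ * a⁻¹ ∈ Ms := by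
      have h3 : a * m⁻¹ * a⁻¹ ∈ Ms := (mem_normalizer_iff.mp (hAn ha) m⁻¹).mp (Ms.inv_mem hm)
      have : m * a * m⁻¹ * a⁻¹ = m * (a * m⁻¹ * a⁻¹) := by group
      rw [this]
      exact Ms.mul_mem hm h3
    have h4 : m * a * m⁻¹ * a⁻¹ ∈ A ⊓ Ms := ⟨h1, h2⟩
    rw [hAMs, mem_bot] at h4
    calc a * m = (m * a * m⁻¹ * a⁻¹)⁻¹ * (m * a) := by group
      _ = m * a := by rw [h4, inv_one, one_mul]
  apply hMs1
  rw [eq_bot_iff, ← hC]
  exact le_inf le_rfl hcent

end frob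

end Cfsg.Agent.Helper11.BG1413
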