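import Mathlib
import Cfsg.Prelude.Def_OddOrder
import Cfsg.Prelude.Def_OddOrderLocal
import Cfsg.Prelude.Def_Solvable
import Cfsg.Agent.Lib.Helper11.BG1413A
import Cfsg.Agent.Lib.Helper4.BG144B
import Cfsg.Agent.Lib.Helper4.BG144C
import Cfsg.Agent.Lib.Helper14.BG1369C
import Cfsg.Agent.Lib.Helper16.BG145A
import Cfsg.Agent.Lib.Helper16.BG145B
import Cfsg.Agent.Lib.Helper23.BG10A

/-!
# BG 14.13 (S1436), part B: the hypotheses and the largest-prime inequality (helper11)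
-/

set_option autoImplicit false
set_option linter.unusedVariables false

namespace Cfsg.Agent.Helper11.BG1413

open Cfsg Subgroup
open Cfsg.Agent.Helper15 (IsSylowIn exists_isSylowIn_ge exists_isSylowIn)
open Cfsg.Agent.Helper23.BG10 (UniqThm)

universe u

/-- the statement of S1350 -/
def H1350 (G : Type u) [Group G] : Prop :=
  ∀ (M : Subgroup G) (hM : IsCoatom M),
    Cfsg.IsPiHallOf (Cfsg.sigma M) (Cfsg.sigmaCore M) M ∧ Cfsg.IsPiHall (Cfsg.sigma M) (Cfsg.sigmaCore M) ∧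
      ∀ N : Subgroup G, M ≤ Subgroup.normalizer (N : Set G) → Cfsg.IsPiHallOf (Cfsg.sigma M) N M →
        N = Cfsg.sigmaCore M

/-- the statement of S1351 -/
def H1351 (G : Type u) [Group G] : Prop :=
  ∀ (M : Subgroup G) (hM : IsCoatom M),
    (∃ K : Subgroup G, Cfsg.IsPiHallOf (Cfsg.kappa M) K M) ∧
      ∀ K : Subgroup G, Cfsg.IsPiHallOf (Cfsg.kappa M) K M → IsCyclic K

/-- the statement of S1352 -/
def H1352 (G : Type u) [Group G] : Prop :=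
  ∀ (M : Subgroup G) (hM : IsCoatom M) (K : Subgroup G)
    (hKc : IsCyclic K) (hK : Cfsg.IsPiHallOf (Cfsg.kappa M) K M),
    (∃ U : Subgroup G, Cfsg.IsSigmaDecomposition M K U) ∧
      ∀ U : Subgroup G, Cfsg.IsSigmaDecomposition M K U → M ≤ Subgroup.normalizer ((U ⊔ Cfsg.sigmaCore M : Subgroup G) : Set G)

/-- the statement of S1354 -/
def H1354 (G : Type u) [Group G] : Prop :=
  ∀ (M : Subgroup G) (hM : IsCoatom M) (K : Subgroup G)
    (hKc : IsCyclic K) (hK : Cfsg.IsPiHallOf (Cfsg.kappa M) K M),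
    Cfsg.sigmaCore M ⊓ Subgroup.centralizer (K : Set G) ≠ ⊥ ∧
      (K ≠ ⊥ → ∀ k ∈ K, k ≠ 1 →
        M ⊓ Subgroup.centralizer ({k} : Set G) = K ⊔ (Cfsg.sigmaCore M ⊓ Subgroup.centralizer (K : Set G)))

/-- the statement of S1366 -/
def H1366 (G : Type u) [Group G] : Prop :=
  ∀ (M : Subgroup G) (hM : IsCoatom M) (K U : Subgroup G) (hKU : Cfsg.IsSigmaDecomposition M K U) (hK1 : K ≠ ⊥),
    ∃! Mstar : Subgroup G, IsCoatom Mstar ∧ K = Cfsg.sigmaCore Mstar ⊓ Subgroup.centralizer ((Cfsg.sigmaCore M ⊓ Subgroup.centralizer (K : Set G)) : Set G) ∧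
        Cfsg.IsPiHallOf (Cfsg.kappa Mstar) (Cfsg.sigmaCore M ⊓ Subgroup.centralizer (K : Set G)) Mstar

/-- the statement of S1367 -/
def H1367 (G : Type u) [Group G] : Prop :=
  ∀ (M : Subgroup G) (hM : IsCoatom M) (K U : Subgroup G) (hKU : Cfsg.IsSigmaDecomposition M K U) (hK1 : K ≠ ⊥) (Mstar : Subgroup G) (hMstar : IsCoatom Mstar)
    (hKst : K = Cfsg.sigmaCore Mstar ⊓ Subgroup.centralizer ((Cfsg.sigmaCore M ⊓ Subgroup.centralizer (K : Set G)) : Set G))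
    (hKstH : Cfsg.IsPiHallOf (Cfsg.kappa Mstar) (Cfsg.sigmaCore M ⊓ Subgroup.centralizer (K : Set G)) Mstar),
    (∀ X : Subgroup G, X ≤ (Cfsg.sigmaCore M ⊓ Subgroup.centralizer (K : Set G)) → (Nat.card X).Prime →
        Subgroup.centralizer (X : Set G) ≤ M ∧ ∀ L : Subgroup G, IsCoatom L → Subgroup.centralizer (X : Set G) ≤ L → L = M) ∧
      (∀ Y : Subgroup G, Y ≤ K → (Nat.card Y).Prime →
        Subgroup.centralizer (Y : Set G) ≤ Mstar ∧ ∀ L : Subgroup G, IsCoatom L → Subgroup.centralizer (Y : Set G) ≤ L → L = Mstar)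

/-- the statement of S1374 -/
def H1374 (G : Type u) [Group G] : Prop :=
  ∀ (M : Subgroup G) (hM : IsCoatom M) (x : G) (hx : x ∈ Cfsg.sigmaCore M) (hx1 : x ≠ 1),
    (Nat.card ↥(M ⊓ Subgroup.centralizer ({x} : Set G))).Coprime ((M ⊓ Subgroup.centralizer ({x} : Set G)).relIndex (Subgroup.centralizer ({x} : Set G))) ∧
      ∃ R : Subgroup G, Subgroup.centralizer ({x} : Set G) ≤ Subgroup.normalizer (R : Set G) ∧ Cfsg.IsComplIn (M ⊓ Subgroup.centralizer ({x} : Set G)) R (Subgroup.centralizer ({x} : Set G)) ∧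
        ∀ g : G, x ∈ M.map (MulAut.conj g).toMonoidHom → ∃! r : G, r ∈ R ∧ M.map (MulAut.conj r).toMonoidHom = M.map (MulAut.conj g).toMonoidHom

/-- the statement of S1375 -/
def H1375 (G : Type u) [Group G] : Prop :=
  ∀ (M : Subgroup G) (hM : IsCoatom M) (x : G) (hx : x ∈ Cfsg.sigmaCore M) (hx1 : x ≠ 1) (hxM : ¬ Subgroup.centralizer ({x} : Set G) ≤ M),
    ∃ N : Subgroup G, (IsCoatom N ∧ Subgroup.centralizer ({x} : Set G) ≤ N) ∧ (∀ L : Subgroup G, IsCoatom L → Subgroup.centralizer ({x} : Set G) ≤ L → L = N) ∧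
        Cfsg.sigmaCore N = Cfsg.fittingHallOf N ∧
        Subgroup.centralizer ({x} : Set G) ≤ Subgroup.normalizer ((Cfsg.sigmaCore N ⊓ Subgroup.centralizer ({x} : Set G) : Subgroup G) : Set G) ∧
        Cfsg.IsComplIn (M ⊓ Subgroup.centralizer ({x} : Set G)) (Cfsg.sigmaCore N ⊓ Subgroup.centralizer ({x} : Set G)) (Subgroup.centralizer ({x} : Set G)) ∧
        Cfsg.IsComplIn (M ⊓ N) (Cfsg.sigmaCore N) N ∧
        ∀ K' U' : Subgroup G, Cfsg.IsSigmaDecomposition N K' U' → U' ≠ ⊥ ∧ x ∈ Cfsg.sigmaA N U' ∧ x ∉ Cfsg.sigmaCore N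

/-- the statement of S1376 -/
def H1376 (G : Type u) [Group G] : Prop :=
  ∀ (M : Subgroup G) (hM : IsCoatom M) (x : G) (hx : x ∈ Cfsg.sigmaCore M) (hx1 : x ≠ 1) (hxM : ¬ Subgroup.centralizer ({x} : Set G) ≤ M)
    (N : Subgroup G) (hN : IsCoatom N) (hxN : Subgroup.centralizer ({x} : Set G) ≤ N) (hkN : (Cfsg.kappa N).Nonempty),
    Cfsg.kappa M = ∅ ∧ (∃ E : Subgroup ↥M, Cfsg.IsFrobeniusComplement E ∧ IsCyclic E) ∧ ¬ Cfsg.IsTISubset (Cfsg.fittingHallOf M : Set G)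

/-- the statement of S1378 -/
def H1378 (G : Type u) [Group G] : Prop :=
    (∀ p : ℕ, p.Prime → p ∣ Nat.card G → ∃ M : Subgroup G, IsCoatom M ∧ p ∈ Cfsg.sigma M) ∧
      ∀ M N : Subgroup G, IsCoatom M → IsCoatom N → (Cfsg.sigma M ∩ Cfsg.sigma N).Nonempty → ∃ g : G, N = M.map (MulAut.conj g).toMonoidHom

/-- the statement of S1408 -/
def H1408 (G : Type u) [Group G] : Prop :=
  ∀ (M : Subgroup G) (hM : IsCoatom M) (p : ℕ) [Fact p.Prime] (hp : p ∉ Cfsg.sigma M) (hr2 : Cfsg.PRankLE p 2 M) (hr1 : ¬ Cfsg.PRankLE p 1 M),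
    ¬ Cfsg.IsIdealPrime p G ∧ ∀ A : Subgroup G, A ≤ M → Cfsg.IsElementaryAbelian p A → Nat.card A = p ^ 2 →
        ∀ B : Subgroup G, Cfsg.IsElementaryAbelian p B → A ≤ B → B = A

/-- the statement of S1414 -/
def H1414 (G : Type u) [Group G] : Prop :=
  ∀ (M : Subgroup G) (hM : IsCoatom M),
    Cfsg.IsPiHallOf (Cfsg.beta M) (Cfsg.piCoreOf (Cfsg.beta M) M) M ∧ Cfsg.IsPiHall (Cfsg.beta M) (Cfsg.piCoreOf (Cfsg.beta M) M) ∧
      (∃ H : Subgroup G, Cfsg.IsPiHallOf {q | q.Prime ∧ q ∉ Cfsg.beta M} H ⁅M, M⁆ ∧ Group.IsNilpotent H) ∧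
      (∃ H : Subgroup G, Cfsg.IsPiHallOf {q | q.Prime ∧ q ∉ Cfsg.beta M} H (Cfsg.sigmaCore M) ∧ Group.IsNilpotent H) ∧
      ∀ p : ℕ, p.Prime → p ∣ Nat.card M → p ∉ Cfsg.beta M →
        Cfsg.HasNormalPComplement p ↥⁅M, M⁆ ∧ Cfsg.HasNormalPComplement p ↥(Cfsg.sigmaCore M) ∧
        ∀ q : ℕ, q.Prime → q ∣ (Cfsg.pPrimeCore p ↥M).index → q ≤ p

/-- the statement of S1417 -/
def H1417 (G : Type u) [Group G] : Prop :=
  ∀ (M : Subgroup G) (hM : IsCoatom M) (p : ℕ) [Fact p.Prime] (hp : p ∈ Cfsg.tau2 M) (A : Subgroup G) (hA : (A ≤ M ∧ Cfsg.IsElementaryAbelian p A ∧ Nat.card A = p ^ 2)),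
    Group.IsNilpotent (Cfsg.sigmaCore M) ∧
      (∀ P : Sylow p M, IsMulCommutative (P : Subgroup M) ∧
        (A ≤ (P : Subgroup M).map M.subtype →
          (∀ x ∈ (P : Subgroup M).map M.subtype, x ^ p = 1 ↔ x ∈ A) ∧
          ¬ Subgroup.normalizer ((((P : Subgroup M).map M.subtype : Subgroup G)) : Set G) ≤ M)) ∧
      M ≤ Subgroup.normalizer ((Cfsg.sigmaCore M ⊔ A : Subgroup G) : Set G) ∧
      Cfsg.sigmaCore M ⊓ Subgroup.centralizer (A : Set G) = ⊥ ∧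
      (∀ Mstar : Subgroup G, IsCoatom Mstar → Mstar ≠ M → A ≤ Mstar → Cfsg.sigmaCore M ⊓ Mstar = ⊥) ∧
      ∃ A₁ : Subgroup G, A₁ ≤ A ∧ Nat.card A₁ = p ∧ Cfsg.sigmaCore M ⊓ Subgroup.centralizer (A₁ : Set G) = ⊥

/-- the statement of S1418 -/
def H1418 (G : Type u) [Group G] : Prop :=
  ∀ (M : Subgroup G) (hM : IsCoatom M) (E : Subgroup G) (hE : Cfsg.IsComplIn E (Cfsg.sigmaCore M) M) (p : ℕ) [Fact p.Prime] (hp : p ∈ Cfsg.tau2 M) (A : Subgroup G) (hA : (A ≤ E ∧ Cfsg.IsElementaryAbelian p A ∧ Nat.card A = p ^ 2)),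
    (E ≤ Subgroup.normalizer (A : Set G) ∧ ∀ X : Subgroup G, X ≤ E → Nat.card X = p → X ≤ A) ∧
      (Subgroup.centralizer (A : Set G) ≤ M ⊓ Subgroup.normalizer (A : Set G) ∧ M ⊓ Subgroup.normalizer (A : Set G) = E ∧
        ¬ Subgroup.normalizer (A : Set G) ≤ M) ∧
      ∀ X : Subgroup G, X ≤ A → Nat.card X = p → Cfsg.sigmaCore M ⊓ Subgroup.centralizer (X : Set G) ≠ ⊥ → (Subgroup.centralizer (X : Set G) ≤ M ∧ ∀ L : Subgroup G, IsCoatom L → Subgroup.centralizer (X : Set G) ≤ L → L = M)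

/-- the statement of S1432 -/
def H1432 (G : Type u) [Group G] : Prop :=
  ∀ (M : Subgroup G) (hM : IsCoatom M) (x : G) (hx : x ∈ Cfsg.sigmaCore M) (hx1 : x ≠ 1) (x' : G) (hx' : x' ∈ M ⊓ Subgroup.centralizer ({x} : Set G)) (hx'1 : x' ≠ 1)
    (hσ : ∀ p : ℕ, p.Prime → p ∣ orderOf x' → p ∉ Cfsg.sigma M),
    ((∀ p : ℕ, p.Prime → p ∣ orderOf x' → p ∈ Cfsg.kappa M) ∧ Subgroup.centralizer ({x} : Set G) ≤ M) ∨
      ((∀ p : ℕ, p.Prime → p ∣ orderOf x' → p ∈ Cfsg.tau2 M) ∧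
        (∃ L : Subgroup G, IsCoatom L ∧ ∀ p : ℕ, p.Prime → p ∣ orderOf x' → p ∈ Cfsg.sigma L) ∧
        (Subgroup.centralizer ({x'} : Set G) ≤ M ∧ ∀ L : Subgroup G, IsCoatom L → Subgroup.centralizer ({x'} : Set G) ≤ L → L = M))

/-- the statement of S1434 -/
def H1434 (G : Type u) [Group G] : Prop :=
  ∀ (M : Subgroup G) (hM : IsCoatom M) (K U : Subgroup G) (hKU : Cfsg.IsSigmaDecomposition M K U) (hK1 : K ≠ ⊥) (Mstar : Subgroup G) (hMstar : IsCoatom Mstar)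
    (hKst : K = Cfsg.sigmaCore Mstar ⊓ Subgroup.centralizer ((Cfsg.sigmaCore M ⊓ Subgroup.centralizer (K : Set G)) : Set G))
    (hKstH : Cfsg.IsPiHallOf (Cfsg.kappa Mstar) (Cfsg.sigmaCore M ⊓ Subgroup.centralizer (K : Set G)) Mstar),
    Cfsg.kappa M = Cfsg.tau1 M ∧ Cfsg.IsPiHallOf (Cfsg.sigma M) (Cfsg.sigmaCore M ⊓ Subgroup.centralizer (K : Set G)) Mstar ∧
      (∀ x ∈ K, x ≠ 1 → ∀ y ∈ (Cfsg.sigmaCore M ⊓ Subgroup.centralizer (K : Set G)), y ≠ 1 →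
        M ⊓ Subgroup.centralizer ({x} : Set G) = K ⊔ (Cfsg.sigmaCore M ⊓ Subgroup.centralizer (K : Set G)) ∧ Mstar ⊓ Subgroup.centralizer ({y} : Set G) = K ⊔ (Cfsg.sigmaCore M ⊓ Subgroup.centralizer (K : Set G)) ∧
        Subgroup.centralizer ({x * y} : Set G) = K ⊔ (Cfsg.sigmaCore M ⊓ Subgroup.centralizer (K : Set G))) ∧
      (∀ g : G, g ∉ M → ∀ z ∈ ((↑(K ⊔ (Cfsg.sigmaCore M ⊓ Subgroup.centralizer (K : Set G))) : Set G) \ ((K : Set G) ∪ ↑(Cfsg.sigmaCore M ⊓ Subgroup.centralizer (K : Set G)))), z ∉ M.map (MulAut.conj g).toMonoidHom) ∧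
      Nat.card K * Nat.card ↥(Cfsg.sigmaCore M ⊓ Subgroup.centralizer (K : Set G)) * Set.ncard {a : G | ∃ g : G, ∃ z ∈ ((↑(K ⊔ (Cfsg.sigmaCore M ⊓ Subgroup.centralizer (K : Set G))) : Set G) \ ((K : Set G) ∪ ↑(Cfsg.sigmaCore M ⊓ Subgroup.centralizer (K : Set G)))), a = g * z * g⁻¹} =
        (Nat.card K * Nat.card ↥(Cfsg.sigmaCore M ⊓ Subgroup.centralizer (K : Set G)) - Nat.card K - Nat.card ↥(Cfsg.sigmaCore M ⊓ Subgroup.centralizer (K : Set G)) + 1) * Nat.card G ∧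
      Nat.card G < 2 * Set.ncard {a : G | ∃ g : G, ∃ z ∈ ((↑(K ⊔ (Cfsg.sigmaCore M ⊓ Subgroup.centralizer (K : Set G))) : Set G) \ ((K : Set G) ∪ ↑(Cfsg.sigmaCore M ⊓ Subgroup.centralizer (K : Set G)))), a = g * z * g⁻¹}

/-- the statement of S1435 -/
def H1435 (G : Type u) [Group G] : Prop :=
  ∀ (M : Subgroup G) (hM : IsCoatom M) (K U : Subgroup G) (hKU : Cfsg.IsSigmaDecomposition M K U) (hK1 : K ≠ ⊥) (hU1 : U ≠ ⊥) (Mstar : Subgroup G) (hMstar : IsCoatom Mstar)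
    (hKst : K = Cfsg.sigmaCore Mstar ⊓ Subgroup.centralizer ((Cfsg.sigmaCore M ⊓ Subgroup.centralizer (K : Set G)) : Set G))
    (hKstH : Cfsg.IsPiHallOf (Cfsg.kappa Mstar) (Cfsg.sigmaCore M ⊓ Subgroup.centralizer (K : Set G)) Mstar)
    (r : ℕ) [Fact r.Prime] (hr : r ∣ Nat.card U) (R : Sylow r U) (H : Subgroup G) (hH : IsCoatom H)
    (hNR : Subgroup.normalizer (((R : Subgroup U).map U.subtype : Subgroup G) : Set G) ≤ H),
    Cfsg.kappa H = ∅ ∧ U ≤ Cfsg.sigmaCore H ∧ M ⊓ H = U ⊔ K ∧ ¬ H ⊓ Subgroup.normalizer (U : Set G) ≤ M ∧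
      K ≤ Cfsg.fittingOf (H ⊓ Mstar) ∧ Cfsg.IsComplIn (H ⊓ Mstar) (Cfsg.sigmaCore H) H


/-- the frozen statements used in the proof of S1436 -/
structure Hyps (G : Type u) [Group G] : Prop where
  hG : IsMinSimpleOddOrder G
  hU : UniqThm G
  h50 : H1350 G
  h51 : H1351 G
  h52 : H1352 G
  h54 : H1354 G
  h66 : H1366 G
  h67 : H1367 G
  h74 : H1374 G
  h75 : H1375 G
  h76 : H1376 G
  h78 : H1378 G
  h08 : H1408 G
  h14 : H1414 G
  h17 : H1417 G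
  h18 : H1418 G
  h32 : H1432 G
  h34 : H1434 G
  h35 : H1435 G

variable {G : Type u} [Group G] [Finite G]

/-! ### basic facts on `M_σ` -/

theorem Hyps.hall (h : Hyps G) {M : Subgroup G} (hM : IsCoatom M) :
    IsPiHallOf (sigma M) (sigmaCore M) M := (h.h50 M hM).1

theorem Hyps.solv (h : Hyps G) {M : Subgroup G} (hM : IsCoatom M) : Group.IsSolvable ↥M :=
  Cfsg.Agent.Helper14.BGTrans.isSolvable_of_ne_top h.hG hM.1

theorem Hyps.alpha_sub (h : Hyps G) {M : Subgroup G} (hM : IsCoatom M) : alpha M ⊆ sigma M :=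
  Cfsg.Agent.Helper23.BG10.alpha_subset_sigma h.hG h.hU hM

theorem sigmaCore_le (M : Subgroup G) : sigmaCore M ≤ M :=
  Cfsg.Agent.Helper4.BG144.sigmaCore_le M

theorem le_normalizer_sigmaCore (M : Subgroup G) : M ≤ normalizer (sigmaCore M : Set G) :=
  Cfsg.Agent.Helper4.BG144.le_normalizer_sigmaCore M

/-- a `σ(M)`-element of `M` lies in `M_σ` -/
theorem Hyps.mem_sigmaCore (h : Hyps G) {M : Subgroup G} (hM : IsCoatom M) {z : G} (hz : z ∈ M)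
    (hzσ : ∀ p : ℕ, p.Prime → p ∣ orderOf z → p ∈ sigma M) : z ∈ sigmaCore M := by
  have h1 : zpowers z ≤ sigmaCore M :=
    Cfsg.Agent.Helper1.PiHall.le_of_isPiHallOf_of_le_normalizer (h.hall hM)
      (le_normalizer_sigmaCore M) ((zpowers_le).mpr hz)
      (fun p hp hd => hzσ p hp (by rwa [Nat.card_zpowers] at hd))
  exact h1 (mem_zpowers z)

/-- a `σ(M)`-subgroup of `M` lies in `M_σ` -/
theorem Hyps.le_sigmaCore (h : Hyps G) {M : Subgroup G} (hM : IsCoatom M) {X : Subgroup G}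
    (hX : X ≤ M) (hXσ : ∀ p : ℕ, p.Prime → p ∣ Nat.card ↥X → p ∈ sigma M) : X ≤ sigmaCore M :=
  Cfsg.Agent.Helper1.PiHall.le_of_isPiHallOf_of_le_normalizer (h.hall hM)
    (le_normalizer_sigmaCore M) hX hXσ

theorem prime_mem_sigma {M : Subgroup G} {z : G} (hz : z ∈ sigmaCore M) {p : ℕ} (hp : p.Prime)
    (hpd : p ∣ orderOf z) : p ∈ sigma M :=
  Cfsg.Agent.Helper16.BG145.prime_mem_sigma_of_mem_sigmaCore hz p hp hpd

theorem mem_sigma_of_dvd_card_sigmaCore {M : Subgroup G} {p : ℕ} (hp : p.Prime)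
    (hpd : p ∣ Nat.card ↥(sigmaCore M)) : p ∈ sigma M := by
  by_contra hσ
  exact Cfsg.Agent.Helper4.BG144.not_dvd_card_sigmaCore hp hσ hpd

theorem Hyps.dvd_card_sigmaCore (h : Hyps G) {M : Subgroup G} (hM : IsCoatom M) {p : ℕ}
    (hp : p ∈ sigma M) : p ∣ Nat.card ↥(sigmaCore M) := by
  have hpp : p.Prime := hp.1
  have h1 : Nat.card ↥(sigmaCore M) * (sigmaCore M).relIndex M = Nat.card ↥M :=
    Cfsg.Agent.Helper4.BG144.card_mul_relIndex' (sigmaCore_le M)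
  have h2 : p ∣ Nat.card ↥(sigmaCore M) * (sigmaCore M).relIndex M := by rw [h1]; exact hp.2.1
  rcases (Nat.Prime.dvd_mul hpp).mp h2 with h3 | h3
  · exact h3
  · exact absurd h3 ((h.hall hM).2.2 p hpp hp)

/-! ### the largest-prime inequality -/

/-- Lemma L: if `H_σ` is nilpotent, `X ≤ H` has exponent `t` (a prime outside `σ(H)`) and
`C_{H_σ}(X) = 1`, then `t < s` for every `s ∈ σ(H) - β(H)`. -/
theorem Hyps.lt_of_regular (h : Hyps G) {H : Subgroup G} (hH : IsCoatom H)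
    (hnil : Group.IsNilpotent ↥(sigmaCore H)) {t s : ℕ} (ht : t.Prime) (htσ : t ∉ sigma H)
    (hs : s ∈ sigma H) (hsβ : s ∉ beta H) {X : Subgroup G} (hXH : X ≤ H)
    (hXt : ∀ a ∈ X, a ^ t = 1) (hC : sigmaCore H ⊓ centralizer (X : Set G) = ⊥) : t < s := by
  have hsp : s.Prime := hs.1
  haveI : Fact s.Prime := ⟨hsp⟩
  obtain ⟨S, hS⟩ := exists_isSylowIn (p := s) (sigmaCore H)
  have hSn : H ≤ normalizer (S : Set G) :=
    Cfsg.Agent.Helper22.BG13.le_normalizer_sylow_of_nilpotent_normal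
      (le_normalizer_sigmaCore H) hnil hS
  have hSH : S ≤ H := hS.le.trans (sigmaCore_le H)
  have hS1 : S ≠ ⊥ := by
    intro hbot
    have h1 := hS.not_dvd_relIndex
    rw [hbot, relIndex_bot_left] at h1
    exact h1 (h.dvd_card_sigmaCore hH hs)
  have hex : ∃ a ∈ X, ∃ y ∈ S, a * y ≠ y * a := by
    by_contra hcon
    push Not at hcon
    apply hS1
    rw [eq_bot_iff, ← hC]
    intro y hy
    have hyc : y ∈ centralizer (X : Set G) := by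
      rw [mem_centralizer_iff]
      intro a ha
      exact hcon a ha y hy
    exact ⟨hS.le hy, hyc⟩
  obtain ⟨a, ha, y, hy, hay⟩ := hex
  have hidx := ((h.h14 H hH).2.2.2.2 s hsp hs.2.1 hsβ).2.2
  have hle : t ≤ s :=
    prime_le_of_not_commute hidx hSH hSn hS.isPGroup (hXH ha) ht (hXt a ha) hy hay
  rcases lt_or_eq_of_le hle with h1 | h1
  · exact h1
  · exact absurd (h1 ▸ hs) htσ

/-- for `t ∈ τ₂(H)`: an elementary abelian subgroup of order `t²`, and the consequences of S1417 -/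
theorem Hyps.tau2_data (h : Hyps G) {H : Subgroup G} (hH : IsCoatom H) {t : ℕ} (ht : t ∈ tau2 H) :
    ∃ A : Subgroup G, A ≤ H ∧ IsElementaryAbelian t A ∧ Nat.card ↥A = t ^ 2 ∧
      Group.IsNilpotent ↥(sigmaCore H) ∧
      H ≤ normalizer ((sigmaCore H ⊔ A : Subgroup G) : Set G) ∧
      sigmaCore H ⊓ centralizer (A : Set G) = ⊥ := by
  haveI : Fact t.Prime := ⟨ht.1⟩
  obtain ⟨A, hAH, hAe, hAc⟩ := Cfsg.Agent.Helper23.BG10.exists_elemAb_sq ht.2.2.1 ht.2.2.2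
  have h17 := h.h17 H hH t ht A ⟨hAH, hAe, hAc⟩
  exact ⟨A, hAH, hAe, hAc, h17.1, h17.2.2.1, h17.2.2.2.1⟩

/-- Lemma L for `τ₂`: `t ∈ τ₂(H)`, `s ∈ σ(H) - β(H)` gives `t < s`. -/
theorem Hyps.tau2_lt_sigma (h : Hyps G) {H : Subgroup G} (hH : IsCoatom H) {t s : ℕ}
    (ht : t ∈ tau2 H) (hs : s ∈ sigma H) (hsβ : s ∉ beta H) : t < s := by
  obtain ⟨A, hAH, hAe, hAc, hnil, -, hC⟩ := h.tau2_data hH ht
  exact h.lt_of_regular hH hnil ht.1 ht.2.1 hs hsβ hAH hAe.2 hC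

/-- primes of `τ₂(H)` are not ideal -/
theorem Hyps.not_ideal_of_tau2 (h : Hyps G) {H : Subgroup G} (hH : IsCoatom H) {t : ℕ}
    (ht : t ∈ tau2 H) : ¬ IsIdealPrime t G := by
  haveI : Fact t.Prime := ⟨ht.1⟩
  exact (h.h08 H hH t ht.2.1 ht.2.2.1 ht.2.2.2).1

/-- no 2-cycles: `q ∈ σ(M) ∩ τ₂(N)` and `s ∈ σ(N) ∩ τ₂(M)` is impossible -/
theorem Hyps.no_two_cycle (h : Hyps G) {M N : Subgroup G} (hM : IsCoatom M) (hN : IsCoatom N)
    {q s : ℕ} (hqM : q ∈ sigma M) (hqN : q ∈ tau2 N) (hsN : s ∈ sigma N) (hsM : s ∈ tau2 M) :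
    False := by
  have h1 : q ∉ beta M := fun hb => h.not_ideal_of_tau2 hN hqN hb.2
  have h2 : s ∉ beta N := fun hb => h.not_ideal_of_tau2 hM hsM hb.2
  have h3 : q < s := h.tau2_lt_sigma hN hqN hsN h2
  have h4 : s < q := h.tau2_lt_sigma hM hsM hqM h1
  omega

end Cfsg.Agent.Helper11.BG1413
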