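import Mathlib
import Cfsg.Agent.Lib.Helper11.BG1413B

/-!
# BG 14.13 (S1436), part C: the setting, and Steps 1–3 (helper11)
-/

set_option autoImplicit false
set_option linter.unusedVariables false

namespace Cfsg.Agent.Helper11.BG1413

open Cfsg Subgroup
open scoped Pointwise
open Cfsg.Agent.Helper15 (IsSylowIn exists_isSylowIn_ge exists_isSylowIn)

universe u

variable {G : Type u} [Group G] [Finite G]

/-- the setting of BG 14.13: `x ∈ M_σ#`, `C_G(x) ≰ M`, `C_G(x) ≤ N` -/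
structure Setting (M N : Subgroup G) (x : G) : Prop where
  hM : IsCoatom M
  hN : IsCoatom N
  hx : x ∈ sigmaCore M
  hx1 : x ≠ 1
  hxM : ¬ centralizer ({x} : Set G) ≤ M
  hxN : centralizer ({x} : Set G) ≤ N

namespace Setting

variable {M N : Subgroup G} {x : G}

/-- the conclusions of S1375, for our `N` -/
theorem facts (s : Setting M N x) (h : Hyps G) :
    (∀ L : Subgroup G, IsCoatom L → centralizer ({x} : Set G) ≤ L → L = N) ∧
      IsComplIn (M ⊓ centralizer ({x} : Set G)) (sigmaCore N ⊓ centralizer ({x} : Set G))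
        (centralizer ({x} : Set G)) ∧
      IsComplIn (M ⊓ N) (sigmaCore N) N := by
  obtain ⟨N₀, ⟨hN₀, hxN₀⟩, huniq, -, -, hc1, hc2, -⟩ := h.h75 M s.hM x s.hx s.hx1 s.hxM
  have hNN : N = N₀ := huniq N s.hN s.hxN
  subst hNN
  exact ⟨huniq, hc1, hc2⟩

theorem uniq (s : Setting M N x) (h : Hyps G) :
    ∀ L : Subgroup G, IsCoatom L → centralizer ({x} : Set G) ≤ L → L = N := (s.facts h).1

theorem compl (s : Setting M N x) (h : Hyps G) : IsComplIn (M ⊓ N) (sigmaCore N) N :=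
  (s.facts h).2.2

theorem x_mem_M (s : Setting M N x) : x ∈ M := sigmaCore_le M s.hx

theorem x_mem_N (s : Setting M N x) : x ∈ N :=
  s.hxN (mem_centralizer_singleton_iff.mpr rfl)

/-- a non-identity element of `C_{N_σ}(x)` -/
theorem exists_y (s : Setting M N x) (h : Hyps G) :
    ∃ y ∈ sigmaCore N, y ≠ 1 ∧ x * y = y * x := by
  by_contra hcon
  push Not at hcon
  apply s.hxM
  intro c hc
  obtain ⟨a, ha, b, hb, rfl⟩ := (s.facts h).2.1.2.2.2 c hc
  have hb1 : b = 1 := by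
    by_contra hb1
    apply hcon b hb.1 hb1
    have := mem_centralizer_singleton_iff.mp hb.2
    exact this.symm
  rw [hb1, mul_one]
  exact ha.1

/-- no prime divisor of the order of `x` lies in `σ(N)` -/
theorem not_sigma (s : Setting M N x) (h : Hyps G) :
    ∀ p : ℕ, p.Prime → p ∣ orderOf x → p ∉ sigma N := by
  intro p hp hpd hpσ
  have h0 : orderOf x ≠ 0 := (orderOf_pos x).ne'
  set z : G := x ^ (orderOf x / p) with hz
  have hoz : orderOf z = p := orderOf_pow_orderOf_div h0 hpd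
  have hzM : z ∈ M := M.pow_mem s.x_mem_M _
  have hzN : z ∈ N := N.pow_mem s.x_mem_N _
  have hzσ : z ∈ sigmaCore N := by
    apply h.mem_sigmaCore s.hN hzN
    intro r hr hrd
    rw [hoz] at hrd
    have : r = p := (Nat.prime_dvd_prime_iff_eq hr hp).mp hrd
    rw [this]; exact hpσ
  have h1 : z ∈ (M ⊓ N) ⊓ sigmaCore N := ⟨⟨hzM, hzN⟩, hzσ⟩
  rw [(s.compl h).2.2.1, mem_bot] at h1
  rw [h1, orderOf_one] at hoz
  exact hp.one_lt.ne hoz

/-- `x ∉ N_σ` -/
theorem x_not_mem (s : Setting M N x) (h : Hyps G) : x ∉ sigmaCore N := by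
  intro hx
  have h1 : x ∈ (M ⊓ N) ⊓ sigmaCore N := ⟨⟨s.x_mem_M, s.x_mem_N⟩, hx⟩
  rw [(s.compl h).2.2.1, mem_bot] at h1
  exact s.hx1 h1

/-- a prime divisor of the order of `x` -/
theorem exists_prime (s : Setting M N x) : ∃ q : ℕ, q.Prime ∧ q ∣ orderOf x := by
  have h1 : orderOf x ≠ 1 := fun h => s.hx1 (orderOf_eq_one_iff.mp h)
  exact ⟨(orderOf x).minFac, Nat.minFac_prime h1, Nat.minFac_dvd _⟩

/-- `N` is not conjugate to `M` -/
theorem not_conj (s : Setting M N x) (h : Hyps G) (g : G) :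
    N ≠ M.map (MulAut.conj g).toMonoidHom := by
  intro hNM
  obtain ⟨q, hq, hqd⟩ := s.exists_prime
  have h1 : q ∈ sigma M := prime_mem_sigma s.hx hq hqd
  have h2 : q ∈ sigma N := by
    rw [hNM, Cfsg.Agent.Helper16.BG145.sigma_map_conj]; exact h1
  exact s.not_sigma h q hq hqd h2

/-- `σ(M) ∩ σ(N) = ∅` -/
theorem sigma_disjoint (s : Setting M N x) (h : Hyps G) {p : ℕ} (hpM : p ∈ sigma M)
    (hpN : p ∈ sigma N) : False := by
  obtain ⟨g, hg⟩ := h.h78.2 M N s.hM s.hN ⟨p, hpM, hpN⟩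
  exact s.not_conj h g hg

theorem sigmaCore_ne_bot (s : Setting M N x) : sigmaCore M ≠ ⊥ := by
  intro hbot
  have := s.hx
  rw [hbot, mem_bot] at this
  exact s.hx1 this

/-! ### Step 1: `κ(N) ≠ ∅` -/

theorem step1 (s : Setting M N x) (h : Hyps G) (hk : (kappa N).Nonempty) :
    kappa M = ∅ ∧ tau2 M = ∅ := by
  obtain ⟨hκM, ⟨E', hE'f, hE'c⟩, -⟩ := h.h76 M s.hM x s.hx s.hx1 s.hxM N s.hN s.hxN hk
  refine ⟨hκM, ?_⟩
  rw [Set.eq_empty_iff_forall_notMem]
  intro t ht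
  haveI : Fact t.Prime := ⟨ht.1⟩
  obtain ⟨A, hAM, hAe, hAc, hnil, hW, hC⟩ := h.tau2_data s.hM ht
  set E : Subgroup G := E'.map M.subtype with hE
  have hEM : E ≤ M := map_subtype_le _
  have hE1 : E ≠ ⊥ := by
    intro hbot
    apply hE'f.1
    rw [eq_bot_iff]
    intro e he
    have : (e : G) ∈ E := ⟨e, he, rfl⟩
    rw [hbot, mem_bot] at this
    rw [mem_bot]
    exact Subtype.ext this
  have hEM' : E ≠ M := by
    intro hEq
    apply hE'f.2.1
    rw [eq_top_iff]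
    intro m _
    have : (m : G) ∈ E := by rw [hEq]; exact m.2
    obtain ⟨e, he, hem⟩ := this
    have : e = m := Subtype.ext hem
    rw [← this]; exact he
  have hEc : IsCyclic ↥E := by
    haveI := hE'c
    have e := E'.equivMapOfInjective M.subtype M.subtype_injective
    exact isCyclic_of_surjective e.toMonoidHom e.surjective
  have hfrob : ∀ g ∈ M, g ∉ E → E ⊓ E.map (MulAut.conj g).toMonoidHom = ⊥ := by
    intro g hg hgE
    have hg' : (⟨g, hg⟩ : ↥M) ∉ E' := by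
      intro h'
      exact hgE ⟨⟨g, hg⟩, h', rfl⟩
    have h1 := hE'f.2.2 ⟨g, hg⟩ hg'
    rw [eq_bot_iff]
    rintro z ⟨⟨e₁, he₁, rfl⟩, ⟨_, ⟨e₂, he₂, rfl⟩, hz⟩⟩
    have h2 : e₁ = MulAut.conj (⟨g, hg⟩ : ↥M) • e₂ := by
      apply Subtype.ext
      have : g * (e₂ : G) * g⁻¹ = (e₁ : G) := hz
      rw [← this]
      simp [MulAut.smul_def, MulAut.conj_apply]
    have h3 : e₁ ∈ MulAut.conj (⟨g, hg⟩ : ↥M) • E' := by
      rw [h2]
      exact Subgroup.smul_mem_pointwise_smul _ _ _ he₂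
    have h4 : e₁ ∈ E' ⊓ MulAut.conj (⟨g, hg⟩ : ↥M) • E' := ⟨he₁, h3⟩
    rw [h1, mem_bot] at h4
    rw [mem_bot, h4]
    rfl
  exact frob_false (sigmaCore_le M) (le_normalizer_sigmaCore M) hnil s.sigmaCore_ne_bot
    (Cfsg.Agent.Helper4.BG144.not_dvd_card_sigmaCore ht.1 ht.2.1) hAM hAe hAc hW hC hEM hE1 hEM'
    hEc hfrob

/-! ### Step 2: `κ(N) = ∅` -/

/-- every prime divisor of the order of `x` lies in `τ₂(N)` -/
theorem step2 (s : Setting M N x) (h : Hyps G) (hk : kappa N = ∅) :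
    ∀ q : ℕ, q.Prime → q ∣ orderOf x → q ∈ tau2 N := by
  obtain ⟨y, hy, hy1, hxy⟩ := s.exists_y h
  have hxc : x ∈ N ⊓ centralizer ({y} : Set G) :=
    ⟨s.x_mem_N, mem_centralizer_singleton_iff.mpr hxy⟩
  rcases h.h32 N s.hN y hy hy1 x hxc s.hx1 (s.not_sigma h) with ⟨h1, -⟩ | ⟨h1, -, -⟩
  · obtain ⟨q, hq, hqd⟩ := s.exists_prime
    have := h1 q hq hqd
    rw [hk] at this
    exact absurd this (Set.notMem_empty q)
  · exact h1

/-- a prime `q ∈ τ₂(N) ∩ σ(M)` -/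
theorem exists_q (s : Setting M N x) (h : Hyps G) (hk : kappa N = ∅) :
    ∃ q : ℕ, q ∈ tau2 N ∧ q ∈ sigma M := by
  obtain ⟨q, hq, hqd⟩ := s.exists_prime
  exact ⟨q, s.step2 h hk q hq hqd, prime_mem_sigma s.hx hq hqd⟩

/-! ### Step 3 -/

/-- a prime `p ∈ σ(N)` dividing `|M|` is not in `σ(M)`, and `M` has `p`-rank one -/
theorem step3 (s : Setting M N x) (h : Hyps G) (hk : kappa N = ∅) {p : ℕ} (hpN : p ∈ sigma N)
    (hpM : p ∣ Nat.card ↥M) : p ∉ sigma M ∧ PRankLE p 1 ↥M := by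
  have hpσ : p ∉ sigma M := fun hp => s.sigma_disjoint h hp hpN
  refine ⟨hpσ, ?_⟩
  by_contra hr1
  obtain ⟨q, hqN, hqM⟩ := s.exists_q h hk
  by_cases hr2 : PRankLE p 2 ↥M
  · exact h.no_two_cycle s.hM s.hN hqM hqN hpN ⟨hpN.1, hpσ, hr2, hr1⟩
  · exact hpσ (h.alpha_sub s.hM ⟨hpN.1, hr2⟩)

end Setting

end Cfsg.Agent.Helper11.BG1413
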