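import Mathlib
import Cfsg.Agent.Lib.Helper11.BG1413C
import Cfsg.Agent.Lib.Helper4.BG144F
import Cfsg.Agent.Lib.Helper18.BG13P4
import Cfsg.Agent.Lib.Helper19.BG16A

/-!
# BG 14.13 (S1436), part D: Step 4 (`κ(N) = ∅` forces `κ(M) = ∅`) (helper11)
-/

set_option autoImplicit false
set_option linter.unusedVariables false

namespace Cfsg.Agent.Helper11.BG1413

open Cfsg Subgroup
open scoped Pointwise
open Cfsg.Agent.Helper15 (IsSylowIn exists_isSylowIn_ge exists_isSylowIn)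
open Cfsg.Agent.Helper14.BG1369 (conj_mem_sigmaCore centralizer_conj_le_iff isCoatom_map_conj'
  conj_mem_map_conj)

universe u

variable {G : Type u} [Group G] [Finite G]

/-! ### transport of `κ ≠ ∅` under conjugation -/

theorem orderOf_conj' (g x : G) : orderOf (g * x * g⁻¹) = orderOf x := by
  have : g * x * g⁻¹ = MulAut.conj g x := rfl
  rw [this, MulEquiv.orderOf_eq]

/-- an element of prime order `r ∈ κ(M)` of `M` commuting with a non-identity element of `M_σ` -/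
theorem exists_commute_of_kappa {M : Subgroup G} {r : ℕ} (hr : r ∈ kappa M) :
    ∃ e ∈ M, orderOf e = r ∧ ∃ y ∈ sigmaCore M, y ≠ 1 ∧ e * y = y * e := by
  obtain ⟨hrp, hrM, hrσ, hcyc⟩ := hr
  haveI : Fact r.Prime := ⟨hrp⟩
  obtain ⟨P⟩ : Nonempty (Sylow r ↥M) := inferInstance
  obtain ⟨-, x, hxP, hx1, y, hy, hy1, hxy⟩ := hcyc P
  have hx1' : (x : G) ≠ 1 := fun h => hx1 (Subtype.ext h)
  obtain ⟨t, k, ht, htd, hok⟩ := exists_prime_order_pow hx1' (isOfFinOrder_of_finite (x : G))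
  have htr : t = r := by
    obtain ⟨j, hj⟩ := (IsPGroup.iff_orderOf.mp P.isPGroup') ⟨x, hxP⟩
    rw [Subgroup.orderOf_mk] at hj
    have h1 : orderOf (x : G) = orderOf x := Subgroup.orderOf_coe x
    rw [h1, hj] at htd
    exact (Nat.prime_dvd_prime_iff_eq ht hrp).mp (ht.dvd_of_dvd_pow htd)
  refine ⟨(x : G) ^ k, M.pow_mem x.2 k, by rw [hok, htr], y, hy, hy1, ?_⟩
  exact commute_pow_of_commute hxy k

/-- `κ ≠ ∅` is invariant under conjugation -/
theorem kappa_nonempty_map_conj (hodd : Odd (Nat.card G)) {M : Subgroup G} (g : G)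
    (hk : (kappa M).Nonempty) : (kappa (M.map (MulAut.conj g).toMonoidHom)).Nonempty := by
  obtain ⟨r, hr⟩ := hk
  obtain ⟨e, heM, heo, y, hy, hy1, hey⟩ := exists_commute_of_kappa hr
  have hrk1 : PRankLE r 1 ↥(M.map (MulAut.conj g).toMonoidHom) :=
    Cfsg.Agent.Helper18.BG13P.pRankLE_map_conj
      (Cfsg.Agent.Helper4.BG144.pRankLE_one_of_kappa hr) g
  have hrσ : r ∉ sigma (M.map (MulAut.conj g).toMonoidHom) := by
    rw [Cfsg.Agent.Helper16.BG145.sigma_map_conj]; exact hr.2.2.1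
  have hrd : r ∣ Nat.card ↥(M.map (MulAut.conj g).toMonoidHom) := by
    rw [Cfsg.Agent.Helper15.card_map_conj]; exact hr.2.1
  have hτ : r ∈ tau1 (M.map (MulAut.conj g).toMonoidHom) ∪
      tau3 (M.map (MulAut.conj g).toMonoidHom) := by
    by_cases hd : r ∣ Nat.card ↥⁅M.map (MulAut.conj g).toMonoidHom,
        M.map (MulAut.conj g).toMonoidHom⁆
    · exact Or.inr ⟨hr.1, hrσ, hd, hrk1⟩
    · exact Or.inl ⟨hr.1, hrσ, hrd, hd, hrk1⟩
  refine ⟨r, Cfsg.Agent.Helper19.BG16.mem_kappa_of_commute hodd hτ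
    (conj_mem_map_conj heM g) (by rw [orderOf_conj', heo]) (conj_mem_sigmaCore hy g) ?_ ?_⟩
  · intro h1
    apply hy1
    have := congrArg (fun z => g⁻¹ * z * g) h1
    simpa [mul_assoc] using this
  · calc g * e * g⁻¹ * (g * y * g⁻¹) = g * (e * y) * g⁻¹ := by group
      _ = g * (y * e) * g⁻¹ := by rw [hey]
      _ = g * y * g⁻¹ * (g * e * g⁻¹) := by group

/-- two maximal subgroups with a common `σ`-prime: `κ ≠ ∅` passes from one to the other -/
theorem Hyps.kappa_nonempty_of_sigma (h : Hyps G) {L N : Subgroup G} (hL : IsCoatom L)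
    (hN : IsCoatom N) (hk : (kappa L).Nonempty) {p : ℕ} (hp1 : p ∈ sigma L) (hp2 : p ∈ sigma N) :
    (kappa N).Nonempty := by
  obtain ⟨g, hg⟩ := h.h78.2 L N hL hN ⟨p, hp1, hp2⟩
  rw [hg]
  exact kappa_nonempty_map_conj h.hG.1 g hk

/-! ### the standard factorisation and the partner -/

/-- the data `K`, `U`, `M*` attached to a maximal subgroup `L` with `κ(L) ≠ ∅` -/
theorem Hyps.exists_fact (h : Hyps G) {L : Subgroup G} (hL : IsCoatom L)
    (hk : (kappa L).Nonempty) :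
    ∃ K U Ls : Subgroup G, IsSigmaDecomposition L K U ∧ K ≠ ⊥ ∧ IsCoatom Ls ∧
      K = sigmaCore Ls ⊓
        centralizer ((sigmaCore L ⊓ centralizer (K : Set G) : Subgroup G) : Set G) ∧
      IsPiHallOf (kappa Ls) (sigmaCore L ⊓ centralizer (K : Set G)) Ls ∧
      (kappa Ls).Nonempty ∧ (∀ r ∈ kappa L, r ∣ Nat.card ↥K) := by
  obtain ⟨⟨K, hK⟩, hcyc⟩ := h.h51 L hL
  have hKc : IsCyclic ↥K := hcyc K hK
  have hdvd : ∀ r ∈ kappa L, r ∣ Nat.card ↥K := by
    intro r hr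
    have h1 : Nat.card ↥K * K.relIndex L = Nat.card ↥L :=
      Cfsg.Agent.Helper4.BG144.card_mul_relIndex' hK.1
    have h2 : r ∣ Nat.card ↥K * K.relIndex L := by rw [h1]; exact hr.2.1
    rcases (Nat.Prime.dvd_mul hr.1).mp h2 with h3 | h3
    · exact h3
    · exact absurd h3 (hK.2.2 r hr.1 hr)
  have hK1 : K ≠ ⊥ := by
    obtain ⟨r, hr⟩ := hk
    intro hbot
    have := hdvd r hr
    rw [hbot, Subgroup.card_bot] at this
    exact hr.1.one_lt.ne' (Nat.dvd_one.mp this)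
  obtain ⟨U, hKU⟩ := (h.h52 L hL K hKc hK).1
  obtain ⟨Ls, ⟨hLs, hKst, hKstH⟩, -⟩ := h.h66 L hL K U hKU hK1
  have hKst1 := (h.h54 L hL K hKc hK).1
  have hkLs : (kappa Ls).Nonempty := by
    have hc1 : Nat.card ↥(sigmaCore L ⊓ centralizer (K : Set G)) ≠ 1 := by
      intro h1
      exact hKst1 (Subgroup.card_eq_one.mp h1)
    exact ⟨_, hKstH.2.1 _ (Nat.minFac_prime hc1) (Nat.minFac_dvd _)⟩
  exact ⟨K, U, Ls, hKU, hK1, hLs, hKst, hKstH, hkLs, hdvd⟩

/-- `|K U M_σ| = |U| |K| |M_σ|` -/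
theorem card_of_sigmaDecomposition {L K U : Subgroup G} (hKU : IsSigmaDecomposition L K U) :
    Nat.card ↥U * (Nat.card ↥K * Nat.card ↥(sigmaCore L)) = Nat.card ↥L := by
  have h1 := Cfsg.Agent.Helper4.BG144.complIn_card_mul hKU.compl
  have hKn : K ≤ normalizer (sigmaCore L : Set G) :=
    hKU.hall.1.trans (le_normalizer_sigmaCore L)
  have hcop : (Nat.card ↥K).Coprime (Nat.card ↥(sigmaCore L)) := by
    refine Nat.coprime_of_dvd ?_
    intro r hr h2 h3
    exact (hKU.hall.2.1 r hr h2).2.2.1 (mem_sigma_of_dvd_card_sigmaCore hr h3)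
  have hinf : K ⊓ sigmaCore L = ⊥ := Cfsg.Agent.Helper1.PiHall.inf_eq_bot_of_coprime hcop
  have hc : IsComplIn K (sigmaCore L) (K ⊔ sigmaCore L) := by
    refine ⟨le_sup_left, le_sup_right, hinf, ?_⟩
    intro w hw
    rw [sup_comm] at hw
    obtain ⟨m, hm, a, ha, rfl⟩ := exists_mul_of_mem_sup' hKn hw
    refine ⟨a, ha, a⁻¹ * m * a, ?_, by group⟩
    have := (mem_normalizer_iff.mp (hKn (K.inv_mem ha)) m).mp hm
    simpa using this
  rw [Cfsg.Agent.Helper4.BG144.complIn_card_mul hc]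
  exact h1

/-! ### Step 4 -/

namespace Setting

variable {M N : Subgroup G} {x : G}

theorem step4 (s : Setting M N x) (h : Hyps G) (hk : kappa N = ∅) {p : ℕ} (hpN : p ∈ sigma N)
    (hpM : p ∣ Nat.card ↥M) : kappa M = ∅ := by
  by_contra hne
  have hkM : (kappa M).Nonempty := Set.nonempty_iff_ne_empty.mpr hne
  have hpp : p.Prime := hpN.1
  haveI : Fact p.Prime := ⟨hpp⟩
  have hpσ : p ∉ sigma M := fun hp => s.sigma_disjoint h hp hpN
  obtain ⟨K, U, Ms, hKU, hK1, hMs, hKst, hKstH, hkMs, hdvd⟩ := h.exists_fact s.hM hkM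
  have hKσ : K ≤ sigmaCore Ms := by rw [hKst]; exact inf_le_left
  -- (i) `p ∤ |K|`
  have hpK : ¬ p ∣ Nat.card ↥K := by
    intro hd
    have h1 : p ∈ sigma Ms :=
      mem_sigma_of_dvd_card_sigmaCore hpp (hd.trans (Subgroup.card_dvd_of_le hKσ))
    have h2 := h.kappa_nonempty_of_sigma hMs s.hN hkMs h1 hpN
    rw [hk] at h2
    exact Set.not_nonempty_empty h2
  -- (ii) `p ∣ |U|`
  have hpU : p ∣ Nat.card ↥U := by
    have h1 := card_of_sigmaDecomposition hKU
    have h2 : p ∣ Nat.card ↥U * (Nat.card ↥K * Nat.card ↥(sigmaCore M)) := by rw [h1]; exact hpM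
    rcases (Nat.Prime.dvd_mul hpp).mp h2 with h3 | h3
    · exact h3
    · rcases (Nat.Prime.dvd_mul hpp).mp h3 with h4 | h4
      · exact absurd h4 hpK
      · exact absurd h4 (Cfsg.Agent.Helper4.BG144.not_dvd_card_sigmaCore hpp hpσ)
  have hU1 : U ≠ ⊥ := by
    intro hbot
    rw [hbot, Subgroup.card_bot] at hpU
    exact hpp.one_lt.ne' (Nat.dvd_one.mp hpU)
  obtain ⟨R⟩ : Nonempty (Sylow p ↥U) := inferInstance
  set R' : Subgroup G := (R : Subgroup ↥U).map U.subtype with hR'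
  have hR'1 : R' ≠ ⊥ := by
    intro hbot
    have h1 : (R : Subgroup ↥U) = ⊥ := by
      rw [eq_bot_iff]
      intro r hr
      have : (r : G) ∈ R' := ⟨r, hr, rfl⟩
      rw [hbot, mem_bot] at this
      rw [mem_bot]
      exact Subtype.ext this
    exact R.ne_bot_of_dvd_card hpU h1
  have hR'top : R' ≠ ⊤ := by
    intro htop
    have h1 : R' ≤ M := (map_subtype_le _).trans hKU.compl.1
    rw [htop] at h1
    exact s.hM.1 (top_le_iff.mp h1)
  obtain ⟨H, hH, hNH⟩ := Cfsg.Agent.Helper4.BG144.exists_coatom_ge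
    (Cfsg.Agent.Helper4.BG144.normalizer_ne_top' h.hG hR'1 hR'top)
  obtain ⟨-, hUH, -, -, -, hcH⟩ :=
    h.h35 M s.hM K U hKU hK1 hU1 Ms hMs hKst hKstH p hpU R H hH hNH
  have hpH : p ∈ sigma H :=
    mem_sigma_of_dvd_card_sigmaCore hpp (hpU.trans (Subgroup.card_dvd_of_le hUH))
  obtain ⟨g, hg⟩ := h.h78.2 N H s.hN hH ⟨p, hpN, hpH⟩
  -- the conjugate setting
  have s₁ : Setting (M.map (MulAut.conj g).toMonoidHom) H (g * x * g⁻¹) := by
    refine ⟨isCoatom_map_conj' s.hM g, hH, conj_mem_sigmaCore s.hx g, ?_, ?_, ?_⟩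
    · intro h1
      apply s.hx1
      have := congrArg (fun z => g⁻¹ * z * g) h1
      simpa [mul_assoc] using this
    · rw [centralizer_conj_le_iff]; exact s.hxM
    · rw [hg, centralizer_conj_le_iff]; exact s.hxN
  haveI := h.solv hH
  obtain ⟨n, hnH, hn⟩ := exists_conj_of_isComplIn (h.hall hH) (s₁.compl h) hcH
  set x₂ : G := n * (g * x * g⁻¹) * n⁻¹ with hx₂
  have hx₂Ms : x₂ ∈ Ms := by
    have h1 : x₂ ∈ (M.map (MulAut.conj g).toMonoidHom ⊓ H).map (MulAut.conj n).toMonoidHom :=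
      ⟨g * x * g⁻¹, ⟨s₁.x_mem_M, s₁.x_mem_N⟩, rfl⟩
    rw [hn] at h1
    exact h1.2
  -- `K*` is a Hall `σ(M)`-subgroup of `M*`
  have hhall := (h.h34 M s.hM K U hKU hK1 Ms hMs hKst hKstH).2.1
  haveI := h.solv hMs
  have hox₂ : orderOf x₂ = orderOf x := by rw [hx₂, orderOf_conj', orderOf_conj']
  obtain ⟨m, hmMs, hm⟩ := Cfsg.Agent.Helper1.PiHall.exists_conj_le_of_isPiHallOf hhall
    ((zpowers_le).mpr hx₂Ms) (fun r hr hd => by
      rw [Nat.card_zpowers, hox₂] at hd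
      exact prime_mem_sigma s.hx hr hd)
  set x₃ : G := m * x₂ * m⁻¹ with hx₃
  have hx₃K : x₃ ∈ sigmaCore M ⊓ centralizer (K : Set G) := hm ⟨x₂, mem_zpowers x₂, rfl⟩
  have hx₃1 : x₃ ≠ 1 := by
    intro h1
    have h2 : orderOf x₃ = orderOf x := by rw [hx₃, orderOf_conj', hox₂]
    rw [h1, orderOf_one] at h2
    exact s.hx1 (orderOf_eq_one_iff.mp h2.symm)
  obtain ⟨t, k, ht, -, hok⟩ := exists_prime_order_pow hx₃1 (isOfFinOrder_of_finite x₃)
  have hX₃le : zpowers (x₃ ^ k) ≤ sigmaCore M ⊓ centralizer (K : Set G) :=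
    (zpowers_le).mpr (Subgroup.pow_mem _ hx₃K k)
  have hX₃p : (Nat.card ↥(zpowers (x₃ ^ k))).Prime := by rw [Nat.card_zpowers, hok]; exact ht
  have hcent := ((h.h67 M s.hM K U hKU hK1 Ms hMs hKst hKstH).1 _ hX₃le hX₃p).1
  have hc3 : centralizer ({x₃} : Set G) ≤ M := by
    refine le_trans ?_ hcent
    intro c hc
    rw [mem_centralizer_iff]
    intro z hz
    obtain ⟨j, rfl⟩ := mem_zpowers_iff.mp hz
    have h1 : x₃ * c = c * x₃ := (mem_centralizer_singleton_iff.mp hc).symm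
    have h2 : Commute (x₃ ^ k) c := (show Commute x₃ c from h1).pow_left k
    exact (h2.zpow_left j).eq
  -- transport back
  have hx₃eq : x₃ = (m * n * g) * x * (m * n * g)⁻¹ := by
    rw [hx₃, hx₂]; group
  have hc4 : centralizer ({x} : Set G) ≤ M.map (MulAut.conj (m * n * g)⁻¹).toMonoidHom := by
    rw [← centralizer_conj_le_iff (g := m * n * g), ← hx₃eq]
    have h1 := Cfsg.Agent.Helper15.map_conj_map_conj_inv M (m * n * g)
    rw [h1]
    exact hc3
  have hM₃ := s.uniq h _ (isCoatom_map_conj' s.hM (m * n * g)⁻¹) hc4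
  exact s.not_conj h _ hM₃.symm

end Setting

end Cfsg.Agent.Helper11.BG1413
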