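import Mathlib
import Cfsg.Agent.Lib.Helper11.BG1413D
import Cfsg.Agent.Lib.Helper8.BG149A

/-!
# BG 14.13 (S1436), part E: Step 5 (`κ(M) = κ(N) = ∅` forces `τ₂(M) = ∅`) (helper11)
-/

set_option autoImplicit false
set_option linter.unusedVariables false

namespace Cfsg.Agent.Helper11.BG1413

open Cfsg Subgroup
open scoped Pointwise
open Cfsg.Agent.Helper15 (IsSylowIn exists_isSylowIn_ge exists_isSylowIn)

universe u

variable {G : Type u} [Group G] [Finite G]

/-- `τ₁(M) ∪ τ₃(M)` -/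
theorem mem_tau13 {M : Subgroup G} {p : ℕ} (hp : p.Prime) (hpσ : p ∉ sigma M)
    (hpM : p ∣ Nat.card ↥M) (hr : PRankLE p 1 ↥M) : p ∈ tau1 M ∪ tau3 M := by
  by_cases hd : p ∣ Nat.card ↥⁅M, M⁆
  · exact Or.inr ⟨hp, hpσ, hd, hr⟩
  · exact Or.inl ⟨hp, hpσ, hpM, hd, hr⟩

/-- if `N_G(A) ≤ L` for a maximal subgroup `L` and an elementary abelian subgroup `A` of order
`t²`, then `t ∈ σ(L)` -/
theorem Hyps.mem_sigma_of_normalizer_le (h : Hyps G) {L A : Subgroup G} (hL : IsCoatom L) {t : ℕ}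
    [Fact t.Prime] (hAe : IsElementaryAbelian t A) (hAc : Nat.card ↥A = t ^ 2)
    (hNL : normalizer (A : Set G) ≤ L) : t ∈ sigma L := by
  have htp : t.Prime := Fact.out
  have hAL : A ≤ L := le_normalizer.trans hNL
  by_contra hσ
  have hr2 : PRankLE t 2 ↥L := by
    by_contra hr
    exact hσ (h.alpha_sub hL ⟨htp, hr⟩)
  have hr1 : ¬ PRankLE t 1 ↥L := by
    intro hr
    have h1 := hr (A.subgroupOf L) (by
      have := hAe.1
      infer_instance) (by
      intro a ha
      apply Subtype.ext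
      have := hAe.2 (a : G) (Subgroup.mem_subgroupOf.mp ha)
      simpa using this)
    rw [Cfsg.Agent.Helper1.PiHall.card_subgroupOf hAL, hAc, pow_one] at h1
    have : t < t ^ 2 := by
      have := htp.one_lt
      nlinarith
    omega
  have hτ : t ∈ tau2 L := ⟨htp, hσ, hr2, hr1⟩
  haveI := h.solv hL
  obtain ⟨EL, hEL, hAEL, -, -⟩ := Cfsg.Agent.Helper1.PiHall.exists_isComplIn_ge (h.hall hL)
    (le_normalizer_sigmaCore L) hAL (fun r hr hd => by
      rw [hAc] at hd
      have : r = t := (Nat.prime_dvd_prime_iff_eq hr htp).mp (hr.dvd_of_dvd_pow hd)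
      rw [this]; exact hσ)
  exact (h.h18 L hL EL hEL t hτ A ⟨hAEL, hAe, hAc⟩).2.1.2.2 hNL

namespace Setting

variable {M N : Subgroup G} {x : G}

theorem step5 (s : Setting M N x) (h : Hyps G) (hkN : kappa N = ∅) (hkM : kappa M = ∅) {p : ℕ}
    (hpN : p ∈ sigma N) (hpM : p ∣ Nat.card ↥M) : tau2 M = ∅ := by
  rw [Set.eq_empty_iff_forall_notMem]
  intro t ht
  have hpp : p.Prime := hpN.1
  have htp : t.Prime := ht.1
  haveI : Fact p.Prime := ⟨hpp⟩
  haveI : Fact t.Prime := ⟨htp⟩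
  have hodd : Odd (Nat.card G) := h.hG.1
  obtain ⟨q, hqN, hqM⟩ := s.exists_q h hkN
  have hqβ : q ∉ beta M := fun hb => h.not_ideal_of_tau2 s.hN hqN hb.2
  obtain ⟨hpσ, hpr1⟩ := s.step3 h hkN hpN hpM
  obtain ⟨A, hAM, hAe, hAc, hnil, -, hCA⟩ := h.tau2_data s.hM ht
  haveI := h.solv s.hM
  -- a complement `E ≥ A`
  obtain ⟨E, hE, hAE, -, -⟩ := Cfsg.Agent.Helper1.PiHall.exists_isComplIn_ge (h.hall s.hM)
    (le_normalizer_sigmaCore M) hAM (fun r hr hd => by
      rw [hAc] at hd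
      have : r = t := (Nat.prime_dvd_prime_iff_eq hr htp).mp (hr.dvd_of_dvd_pow hd)
      rw [this]; exact ht.2.1)
  obtain ⟨⟨hEn, -⟩, ⟨-, -, hNA⟩, -⟩ := h.h18 M s.hM E hE t ht A ⟨hAE, hAe, hAc⟩
  -- `L ≥ N_G(A)`
  have hA1 : A ≠ ⊥ := by
    intro hbot
    rw [hbot, Subgroup.card_bot] at hAc
    have := Nat.one_lt_pow (n := 2) (by norm_num) htp.one_lt
    omega
  have hAtop : A ≠ ⊤ := by
    intro htop
    rw [htop] at hAM
    exact s.hM.1 (top_le_iff.mp hAM)
  obtain ⟨L, hL, hNL⟩ := Cfsg.Agent.Helper4.BG144.exists_coatom_ge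
    (Cfsg.Agent.Helper4.BG144.normalizer_ne_top' h.hG hA1 hAtop)
  have hEL : E ≤ L := hEn.trans hNL
  have htL : t ∈ sigma L := h.mem_sigma_of_normalizer_le hL hAe hAc hNL
  have hAL : A ≤ sigmaCore L := by
    apply h.le_sigmaCore hL (le_normalizer.trans hNL)
    intro r hr hd
    rw [hAc] at hd
    have : r = t := (Nat.prime_dvd_prime_iff_eq hr htp).mp (hr.dvd_of_dvd_pow hd)
    rw [this]; exact htL
  -- `t ∉ σ(N)`, so `p ∉ σ(L)`
  have htN : t ∉ sigma N := fun h1 => h.no_two_cycle s.hM s.hN hqM hqN h1 ht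
  have hpL : p ∉ sigma L := by
    intro h1
    obtain ⟨g, hg⟩ := h.h78.2 L N hL s.hN ⟨p, h1, hpN⟩
    apply htN
    rw [hg, Cfsg.Agent.Helper16.BG145.sigma_map_conj]
    exact htL
  -- an element `e` of order `p` of `E`
  have hcop : (Nat.card ↥E).Coprime (Nat.card ↥(sigmaCore M)) :=
    Cfsg.Agent.Helper4.BG144.complIn_coprime_of_hall hE (h.hall s.hM)
  have hpE : p ∣ Nat.card ↥E := by
    have h1 := Cfsg.Agent.Helper4.BG144.complIn_card_mul hE
    have h2 : p ∣ Nat.card ↥E * Nat.card ↥(sigmaCore M) := by rw [h1]; exact hpM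
    rcases (Nat.Prime.dvd_mul hpp).mp h2 with h3 | h3
    · exact h3
    · exact absurd h3 (Cfsg.Agent.Helper4.BG144.not_dvd_card_sigmaCore hpp hpσ)
  obtain ⟨e', he'⟩ := exists_prime_orderOf_dvd_card' (G := ↥E) p hpE
  set e : G := (e' : G) with he
  have heE : e ∈ E := e'.2
  have heo : orderOf e = p := by rw [he, Subgroup.orderOf_coe, he']
  have heM : e ∈ M := hE.1 heE
  have he1 : e ≠ 1 := by
    intro h1
    rw [h1, orderOf_one] at heo
    exact hpp.one_lt.ne heo
  -- `C_{M_σ}(e) = 1`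
  have hreg : ∀ y ∈ sigmaCore M, e * y = y * e → y = 1 := by
    intro y hy hey
    by_contra hy1
    have := Cfsg.Agent.Helper19.BG16.mem_kappa_of_commute hodd (mem_tau13 hpp hpσ hpM hpr1)
      heM heo hy hy1 hey
    rw [hkM] at this
    exact Set.notMem_empty p this
  have hCe : sigmaCore M ⊓ centralizer ((zpowers e : Subgroup G) : Set G) = ⊥ := by
    rw [eq_bot_iff]
    rintro y ⟨hy1, hy2⟩
    rw [mem_bot]
    apply hreg y hy1
    have hy2' : y ∈ centralizer ((zpowers e : Subgroup G) : Set G) := hy2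
    rw [mem_centralizer_iff] at hy2'
    exact hy2' e (mem_zpowers e)
  -- `p < q`, hence `p ∈ β(N)` is ideal
  have hpq : p < q := by
    apply h.lt_of_regular s.hM hnil hpp hpσ hqM hqβ ((zpowers_le).mpr heM) _ hCe
    intro a ha
    obtain ⟨j, rfl⟩ := mem_zpowers_iff.mp ha
    rw [← zpow_natCast, ← zpow_mul, mul_comm, zpow_mul, zpow_natCast, ← heo, pow_orderOf_eq_one,
      one_zpow]
  have hpβ : p ∈ beta N := by
    by_contra hpβ
    have := h.tau2_lt_sigma s.hN hqN hpN hpβ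
    omega
  have hpL1 : PRankLE p 1 ↥L := by
    by_contra hr1
    by_cases hr2 : PRankLE p 2 ↥L
    · exact h.not_ideal_of_tau2 hL ⟨hpp, hpL, hr2, hr1⟩ hpβ.2
    · exact hpL (h.alpha_sub hL ⟨hpp, hr2⟩)
  -- Frobenius-Wielandt: some non-identity element of `A` commutes with `e`
  have hex : ∃ b ∈ A, b ≠ 1 ∧ e * b = b * e := by
    by_contra hcon
    push Not at hcon
    apply s.sigmaCore_ne_bot
    rw [eq_bot_iff, ← hCA]
    refine le_inf le_rfl ?_
    have hzE : zpowers e ≤ E := (zpowers_le).mpr heE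
    apply Cfsg.Agent.Helper8.BG149.frob_centralizes A (zpowers e) (sigmaCore M)
    · intro e₁ he₁ u hu
      exact (mem_normalizer_iff.mp (hEn (hzE he₁)) u).mp hu
    · intro e₁ he₁ he₁1 u hu hcomm
      by_contra hu1
      apply hcon u hu hu1
      -- `e ∈ zpowers e₁`
      have hle : zpowers e₁ ≤ zpowers e := (zpowers_le).mpr he₁
      have hcard : Nat.card ↥(zpowers e) ≤ Nat.card ↥(zpowers e₁) := by
        rw [Nat.card_zpowers, Nat.card_zpowers, heo]
        have h1 : orderOf e₁ ∣ p := by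
          rw [← heo, ← Nat.card_zpowers e]
          have := Subgroup.card_dvd_of_le hle
          rwa [Nat.card_zpowers] at this
        rcases (Nat.dvd_prime hpp).mp h1 with h2 | h2
        · exact absurd (orderOf_eq_one_iff.mp h2) he₁1
        · exact h2.ge
      have heq : zpowers e₁ = zpowers e := Subgroup.eq_of_le_of_card_ge hle hcard
      have he_mem : e ∈ zpowers e₁ := by rw [heq]; exact mem_zpowers e
      obtain ⟨j, hj⟩ := mem_zpowers_iff.mp he_mem
      rw [← hj]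
      exact ((show Commute e₁ u from hcomm).zpow_left j).eq
    · exact (Cfsg.Agent.Helper14.BGUniq.isPGroup_of_isElementaryAbelian hAe).isNilpotent
    · exact solvable_of_solvable_injective
        (Subgroup.inclusion_injective (sigmaCore_le M))
    · exact (sup_le hAM ((zpowers_le).mpr heM)).trans (le_normalizer_sigmaCore M)
    · have h1 : A ⊔ zpowers e ≤ E := sup_le hAE hzE
      exact (hcop.coprime_dvd_left (Subgroup.card_dvd_of_le h1)).symm
    · exact hCe
  obtain ⟨b, hbA, hb1, heb⟩ := hex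
  -- `p ∈ κ(L)`
  have heL : e ∈ L := hEL heE
  have hpLd : p ∣ Nat.card ↥L := by
    rw [← heo]
    have := orderOf_dvd_natCard (⟨e, heL⟩ : ↥L)
    rwa [Subgroup.orderOf_mk] at this
  have hpκ : p ∈ kappa L :=
    Cfsg.Agent.Helper19.BG16.mem_kappa_of_commute hodd (mem_tau13 hpp hpL hpLd hpL1)
      heL heo (hAL hbA) hb1 heb
  -- the partner of `L`
  obtain ⟨K, U, Ls, hKU, hK1, hLs, hKst, hKstH, hkLs, hdvd⟩ := h.exists_fact hL ⟨p, hpκ⟩
  have hKσ : K ≤ sigmaCore Ls := by rw [hKst]; exact inf_le_left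
  have hpLs : p ∈ sigma Ls :=
    mem_sigma_of_dvd_card_sigmaCore hpp ((hdvd p hpκ).trans (Subgroup.card_dvd_of_le hKσ))
  have := h.kappa_nonempty_of_sigma hLs s.hN hkLs hpLs hpN
  rw [hkN] at this
  exact Set.not_nonempty_empty this

end Setting

end Cfsg.Agent.Helper11.BG1413
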