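import Mathlib
import Cfsg.Agent.Lib.Helper11.BG1413E

/-!
# BG 14.13 (S1436), part F: part (b) and the statement of S1436 (helper11)
-/

set_option autoImplicit false
set_option linter.unusedVariables false

namespace Cfsg.Agent.Helper11.BG1413

open Cfsg Subgroup
open scoped Pointwise
open Cfsg.Agent.Helper15 (map_conj_map_conj map_conj_inv_map_conj map_conj_map_conj_inv
  map_conj_eq_self_of_mem mem_map_conj_iff)
open Cfsg.Agent.Helper14.BG1369 (conj_mem_sigmaCore isCoatom_map_conj')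

universe u

variable {G : Type u} [Group G] [Finite G]

/-- `M_σ` of a conjugate -/
theorem sigmaCore_map_conj (M : Subgroup G) (g : G) :
    sigmaCore (M.map (MulAut.conj g).toMonoidHom) =
      (sigmaCore M).map (MulAut.conj g).toMonoidHom := by
  apply le_antisymm
  · intro z hz
    have h1 := conj_mem_sigmaCore hz g⁻¹
    rw [map_conj_inv_map_conj] at h1
    rw [mem_map_conj_iff]
    have e : g⁻¹ * z * g⁻¹⁻¹ = g⁻¹ * z * g := by group
    rwa [e] at h1
  · rintro _ ⟨z, hz, rfl⟩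
    exact conj_mem_sigmaCore hz g

omit [Finite G] in
/-- complements are transported by conjugation -/
theorem isComplIn_map_conj {A B N : Subgroup G} (h : IsComplIn A B N) (g : G) :
    IsComplIn (A.map (MulAut.conj g).toMonoidHom) (B.map (MulAut.conj g).toMonoidHom)
      (N.map (MulAut.conj g).toMonoidHom) := by
  refine ⟨Subgroup.map_mono h.1, Subgroup.map_mono h.2.1, ?_, ?_⟩
  · rw [← Subgroup.map_inf_eq _ _ _ (MulAut.conj g).injective, h.2.2.1, Subgroup.map_bot]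
  · rintro _ ⟨n, hn, rfl⟩
    obtain ⟨a, ha, b, hb, rfl⟩ := h.2.2.2 n hn
    exact ⟨_, ⟨a, ha, rfl⟩, _, ⟨b, hb, rfl⟩, map_mul _ a b⟩

namespace Setting

variable {M N : Subgroup G} {x : G}

/-- part (b) of BG 14.13 -/
theorem part_b (s : Setting M N x) (h : Hyps G) {y : G} {N' : Subgroup G} (s' : Setting M N' y)
    {g : G} (hg : N'.map (MulAut.conj g).toMonoidHom = N) :
    ∃ m ∈ M, N'.map (MulAut.conj m).toMonoidHom = N := by
  have hE := s.compl h
  have hE' := isComplIn_map_conj (s'.compl h) g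
  rw [← sigmaCore_map_conj, hg] at hE'
  haveI := h.solv s.hN
  obtain ⟨n, hnN, hn⟩ := exists_conj_of_isComplIn (h.hall s.hN) hE' hE
  rw [map_conj_map_conj] at hn
  -- `y₁ = (n g) y (n g)⁻¹ ∈ M_σ`
  have hy₁ : (n * g) * y * (n * g)⁻¹ ∈ M ⊓ N := by
    rw [← hn]
    exact ⟨y, ⟨s'.x_mem_M, s'.x_mem_N⟩, rfl⟩
  have hy₁σ : (n * g) * y * (n * g)⁻¹ ∈ sigmaCore M := by
    apply h.mem_sigmaCore s.hM hy₁.1
    intro r hr hd
    rw [orderOf_conj'] at hd
    exact prime_mem_sigma s'.hx hr hd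
  have hyconj : y ∈ M.map (MulAut.conj (n * g)⁻¹).toMonoidHom := by
    rw [mem_map_conj_iff, inv_inv]
    exact sigmaCore_le M hy₁σ
  obtain ⟨-, R, -, hRc, hR⟩ := h.h74 M s.hM y s'.hx s'.hx1
  obtain ⟨r, ⟨hrR, hr⟩, -⟩ := hR (n * g)⁻¹ hyconj
  have hrN' : r ∈ N' := s'.hxN (hRc.2.1 hrR)
  refine ⟨n * g * r, ?_, ?_⟩
  · have h1 : M.map (MulAut.conj (n * g * r)).toMonoidHom = M := by
      rw [← map_conj_map_conj, hr, map_conj_map_conj_inv]
    have h2 : n * g * r ∈ normalizer (M : Set G) :=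
      Cfsg.Agent.Helper15.mem_normalizer_of_map_conj_eq h1
    rw [Cfsg.Agent.Helper4.BG144.normalizer_coatom h.hG s.hM] at h2
    exact h2
  · rw [← map_conj_map_conj, map_conj_eq_self_of_mem hrN', ← map_conj_map_conj, hg,
      map_conj_eq_self_of_mem hnN]

/-- part (a) of BG 14.13 -/
theorem part_a (s : Setting M N x) (h : Hyps G) {p : ℕ} (hpN : p ∈ sigma N)
    (hpM : p ∣ Nat.card ↥M) : kappa M = ∅ ∧ tau2 M = ∅ := by
  by_cases hk : (kappa N).Nonempty
  · exact s.step1 h hk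
  · have hkN : kappa N = ∅ := Set.not_nonempty_iff_eq_empty.mp hk
    have hkM := s.step4 h hkN hpN hpM
    exact ⟨hkM, s.step5 h hkN hkM hpN hpM⟩

end Setting

/-- the statement of S1436 -/
theorem main (h : Hyps G) (M : Subgroup G) (hM : IsCoatom M) (x : G) (hx : x ∈ sigmaCore M)
    (hx1 : x ≠ 1) (hxM : ¬ centralizer ({x} : Set G) ≤ M) (N : Subgroup G) (hN : IsCoatom N)
    (hxN : centralizer ({x} : Set G) ≤ N) :
    ((∃ p ∈ sigma N, p ∣ Nat.card M) → kappa M = ∅ ∧ tau2 M = ∅) ∧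
      ∀ (y : G) (N' : Subgroup G) (g : G), y ∈ sigmaCore M → y ≠ 1 →
        ¬ centralizer ({y} : Set G) ≤ M → IsCoatom N' → centralizer ({y} : Set G) ≤ N' →
        N'.map (MulAut.conj g).toMonoidHom = N →
        ∃ m ∈ M, N'.map (MulAut.conj m).toMonoidHom = N := by
  have s : Setting M N x := ⟨hM, hN, hx, hx1, hxM, hxN⟩
  refine ⟨?_, ?_⟩
  · rintro ⟨p, hpN, hpM⟩
    exact s.part_a h hpN hpM
  · intro y N' g hy hy1 hyM hN' hyN' hg
    exact s.part_b h ⟨hM, hN', hy, hy1, hyM, hyN'⟩ hg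

end Cfsg.Agent.Helper11.BG1413
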