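import Mathlib
import Cfsg.Agent.Lib.Helper25.OGLEVI
import Cfsg.Agent.Lib.Helper28.SpTwoA

/-!
# S2413-15, piece GEN2: two generators from a Levi pair and a commuting element of coprime order
(helper11)
-/

set_option autoImplicit false
set_option linter.unusedSectionVars false
set_option linter.unusedVariables false

namespace Cfsg.Agent.Helper11.OG

open QuadraticMap Matrix Cfsg.Agent.Helper2.Orth Cfsg.Agent.Helper28.WittQuad

variable {F : Type*} [Field F] {ι : Type} [Fintype ι] [DecidableEq ι]
variable {Q : QuadraticForm F (ι → F)}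
variable {n : ℕ} {e f : Fin (n + 1) → (ι → F)}

/-- **Two generators from a Levi pair and a commuting element of coprime order.** -/
theorem levi_two_gen (fr : HypFrame Q e f) (hn : 1 ≤ n)
    (A B : Matrix.SpecialLinearGroup (Fin (n + 1)) F)
    (hAB : Subgroup.closure ({A, B} : Set (Matrix.SpecialLinearGroup (Fin (n + 1)) F)) = ⊤)
    (c : Cfsg.isometryGroup F (⇑Q)) (hc : c ∈ eichGroup Q) (hcomm : Commute (leviG fr A) c)
    (M N : ℕ) (hAM : A ^ M = 1) (hcN : c ^ N = 1) (hMN : Nat.Coprime M N)
    (hgen : ∀ H : Subgroup (Cfsg.isometryGroup F (⇑Q)),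
      (∀ i j, i ≠ j → ∀ c' : F, eichG Q (e i) (c' • f j) ∈ H) → c ∈ H → eichGroup Q ≤ H) :
    ∃ a b : Cfsg.isometryGroup F (⇑Q), a ∈ eichGroup Q ∧ b ∈ eichGroup Q ∧
      eichGroup Q ≤ Subgroup.closure {a, b} := by
  refine ⟨leviG fr A * c, leviG fr B, ?_, ?_, ?_⟩
  · exact (eichGroup Q).mul_mem (leviG_mem_eichGroup fr (by omega) A) hc
  · exact leviG_mem_eichGroup fr (by omega) B
  · set H := Subgroup.closure ({leviG fr A * c, leviG fr B} : Set (Cfsg.isometryGroup F (⇑Q)))
      with hH
    have haH : leviG fr A * c ∈ H := Subgroup.subset_closure (by simp)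
    have hbH : leviG fr B ∈ H := Subgroup.subset_closure (by simp)
    have hAM' : (leviG fr A) ^ M = 1 := by
      rw [← leviHom_apply, ← map_pow, hAM, map_one]
    obtain ⟨hA, hcH⟩ :=
      Cfsg.Agent.Helper28.SpTwo.both_mem_of_mul_mem hcomm hAM' hcN hMN haH
    have hle : Subgroup.closure ({A, B} : Set (Matrix.SpecialLinearGroup (Fin (n + 1)) F))
        ≤ H.comap (leviHom fr) := by
      rw [Subgroup.closure_le]
      rintro x (rfl | rfl)
      · exact hA
      · exact hbH
    have hall : ∀ S : Matrix.SpecialLinearGroup (Fin (n + 1)) F, leviG fr S ∈ H := by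
      intro S
      have hS : S ∈ Subgroup.closure
          ({A, B} : Set (Matrix.SpecialLinearGroup (Fin (n + 1)) F)) := by
        rw [hAB]
        exact Subgroup.mem_top S
      exact hle hS
    apply hgen H _ hcH
    intro i j hij c'
    rw [← leviG_transvection fr hij c']
    exact hall _

end Cfsg.Agent.Helper11.OG
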