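import Mathlib
import Cfsg.Agent.Lib.Helper11.OGGEN2
import Cfsg.Agent.Lib.Helper1.OGBASE
import Cfsg.Agent.Lib.Helper26.OGSL
import Cfsg.Agent.Lib.Helper28.OGPLUSC1
import Cfsg.Agent.Lib.Helper28.OGPLUST
import Cfsg.Agent.Lib.Helper28.SpTwoF

/-!
# S2414, piece PLUSASM: two generators of `Ω` in type `D` (helper11)
-/

set_option autoImplicit false
set_option linter.unusedSectionVars false
set_option linter.unusedVariables false

namespace Cfsg.Agent.Helper11.OG

open QuadraticMap Matrix Cfsg.Agent.Helper2.Orth Cfsg.Agent.Helper28.WittQuad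

variable {F : Type*} [Field F] {ι : Type} [Fintype ι] [DecidableEq ι]
variable {Q : QuadraticForm F (ι → F)}
variable {n : ℕ} {e f : Fin (n + 1) → (ι → F)}

/-- a finite field has prime characteristic `p` with `p ∣ |F|` -/
theorem plusasm_char [Fintype F] : ∃ p : ℕ, p.Prime ∧ CharP F p := by
  obtain ⟨p, hp⟩ := CharP.exists F
  haveI := hp
  exact ⟨p, CharP.char_is_prime F p, hp⟩

theorem plusasm_fin_ne {i j : ℕ} (hi : i < n + 1) (hj : j < n + 1) (hij : i ≠ j) :
    (⟨i, hi⟩ : Fin (n + 1)) ≠ ⟨j, hj⟩ := by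
  intro h
  exact hij (Fin.mk.inj_iff.1 h)

theorem plusasm_zero_ne_one (hn : 1 ≤ n) : (0 : Fin (n + 1)) ≠ 1 := by
  intro h
  have := congrArg Fin.val h
  rw [Fin.val_zero, Fin.val_one'] at this
  have h2 : 1 % (n + 1) = 1 := Nat.mod_eq_of_lt (by omega)
  omega

theorem plusasm_ne_zero {i : ℕ} (hi : i < n + 1) (h0 : i ≠ 0) :
    (⟨i, hi⟩ : Fin (n + 1)) ≠ 0 := by
  intro h
  have := congrArg Fin.val h
  simp at this
  exact h0 this

theorem plusasm_ne_one {i : ℕ} (hn : 1 ≤ n) (hi : i < n + 1) (h1 : i ≠ 1) :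
    (⟨i, hi⟩ : Fin (n + 1)) ≠ 1 := by
  intro h
  have := congrArg Fin.val h
  rw [Fin.val_one'] at this
  have h2 : 1 % (n + 1) = 1 := Nat.mod_eq_of_lt (by omega)
  simp at this
  omega

/-- the torus element of the Levi subgroup fixes the frame vectors of index `≠ 0, 1` -/
theorem plusasm_diag_fix (fr : HypFrame Q e f) (hn : 1 ≤ n) (k : F) (hk : k ≠ 0)
    (j : Fin (n + 1)) (hj0 : j ≠ 0) (hj1 : j ≠ 1) :
    leviG fr (Matrix.SpecialLinearGroup.diag2n (plusasm_zero_ne_one hn) k hk) • e j = e j ∧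
    leviG fr (Matrix.SpecialLinearGroup.diag2n (plusasm_zero_ne_one hn) k hk) • f j = f j := by
  have h := leviG_diag fr (Matrix.SpecialLinearGroup.diag2n (plusasm_zero_ne_one hn) k hk) _
    (Matrix.SpecialLinearGroup.diag2n_coe (plusasm_zero_ne_one hn) k hk) j
  rw [if_neg hj0, if_neg hj1, inv_one, one_smul, one_smul] at h
  exact h

/-- type `D`: no anisotropic kernel, at least four hyperbolic pairs -/
theorem plus_two_gen [Fintype F] (hQ : (polarBilin Q).Nondegenerate) (hn : 3 ≤ n)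
    (fr : HypFrame Q e f) (hperp : ∀ x, Perp Q e f x → x = 0) :
    ∃ a b : Cfsg.isometryGroup F (⇑Q), a ∈ eichGroup Q ∧ b ∈ eichGroup Q ∧
      eichGroup Q ≤ Subgroup.closure {a, b} := by
  classical
  have hn1 : 1 ≤ n := by omega
  have h01 : (0 : Fin (n + 1)) ≠ 1 := plusasm_zero_ne_one hn1
  obtain ⟨w, hw⟩ := exists_coxW n F
  obtain ⟨p, hpp, hp⟩ := plusasm_char (F := F)
  haveI := hp
  haveI : Fact p.Prime := ⟨hpp⟩
  set i2 : Fin (n + 1) := ⟨2, by omega⟩ with hi2
  set i3 : Fin (n + 1) := ⟨3, by omega⟩ with hi3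
  have h20 : i2 ≠ 0 := plusasm_ne_zero _ (by omega)
  have h30 : i3 ≠ 0 := plusasm_ne_zero _ (by omega)
  have h21 : i2 ≠ 1 := plusasm_ne_one hn1 _ (by omega)
  have h31 : i3 ≠ 1 := plusasm_ne_one hn1 _ (by omega)
  have h23 : i2 ≠ i3 := plusasm_fin_ne _ _ (by omega)
  by_cases hF : 3 < Fintype.card F
  · -- large fields
    obtain ⟨k, hk⟩ := IsCyclic.exists_generator (α := Fˣ)
    have hz : Q (e i2 + f i3) = 0 := by
      have := QuadraticMap.map_add Q (e i2) (f i3)
      rw [this, fr.qe, fr.qf, fr.ef, if_neg h23]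
      simp
    have hzb : polar Q (e i2 + f i3) (e i3 - f i2) = 0 := by
      rw [polar_add_left, polar_sub_right, polar_sub_right, fr.ee, fr.ef, fr.fe, fr.ff]
      simp
    obtain ⟨he2, hf2⟩ := plusasm_diag_fix fr hn1 (k : F) k.ne_zero i2 h20 h21
    obtain ⟨he3, hf3⟩ := plusasm_diag_fix fr hn1 (k : F) k.ne_zero i3 h30 h31
    refine levi_two_gen fr hn1 (Matrix.SpecialLinearGroup.diag2n h01 (k : F) k.ne_zero)
      (Matrix.SpecialLinearGroup.transvection h01 1 * w)
      (sl_top_big hF hn1 k hk h01 w hw)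
      (eichG Q (e i2 + f i3) (e i3 - f i2)) (eichG_mem hz hzb) ?_
      (Fintype.card F - 1) p (diag2n_pow_card h01 _ _) (eichG_pow_char p hz hzb)
      (Cfsg.Agent.Helper28.SpTwo.coprime_char_card_sub_one p).symm ?_
    · apply commute_eichG_of_fix _ hz hzb
      · rw [smul_add_vec, he2, hf3]
      · rw [smul_sub_vec, he3, hf2]
    · intro H hL hc
      exact plus_hgen_c1 hQ fr hperp H hL 0 i2 i3 h20 h30 h23 hc
  · -- small fields
    have hF' : Fintype.card F ≤ 3 := by omega
    have hcardp : Fintype.card F = p := by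
      obtain ⟨k, hk1, hk2⟩ := FiniteField.card F p
      have hk : (k : ℕ) = 1 := by
        by_contra hne
        have h2 : 2 ≤ (k : ℕ) := by
          have := k.pos
          omega
        have : p ^ 2 ≤ p ^ (k : ℕ) := Nat.pow_le_pow_right hpp.pos h2
        have h4 : 2 ^ 2 ≤ p ^ 2 := Nat.pow_le_pow_left hpp.two_le 2
        omega
      rw [hk2, hk, pow_one]
    have hp23 : p = 2 ∨ p = 3 := by
      have := hpp.two_le
      omega
    have hqe2 : Q (e i2) = 0 := fr.qe i2
    have hqf2 : Q (f i2) = 0 := fr.qf i2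
    have hb1 : polar Q (e i2) (e i3) = 0 := fr.ee _ _
    have hb2 : polar Q (f i2) (-(f i3)) = 0 := by rw [polar_neg_right, fr.ff, neg_zero]
    have htm : eichG Q (e i2) (e i3) * eichG Q (f i2) (-(f i3)) ∈ eichGroup Q :=
      (eichGroup Q).mul_mem (eichG_mem hqe2 hb1) (eichG_mem hqf2 hb2)
    have hN : ∃ N : ℕ, (eichG Q (e i2) (e i3) * eichG Q (f i2) (-(f i3))) ^ N = 1 ∧
        Nat.Coprime p N := by
      rcases hp23 with h | h
      · refine ⟨3, plus_t_pow_three ?_ fr i2 i3 h23, by rw [h]; decide⟩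
        have := CharP.cast_eq_zero F p
        rw [h] at this
        exact_mod_cast this
      · refine ⟨4, plus_t_pow_four ?_ fr i2 i3 h23, by rw [h]; decide⟩
        have := CharP.cast_eq_zero F p
        rw [h] at this
        exact_mod_cast this
    obtain ⟨N, htN, hcop⟩ := hN
    refine levi_two_gen fr hn1 (Matrix.SpecialLinearGroup.transvection h01 1) w
      (sl_top_small hF' hn1 h01 w hw)
      (eichG Q (e i2) (e i3) * eichG Q (f i2) (-(f i3))) htm ?_
      p N (transvection_pow_char p h01 1) htN hcop ?_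
    · rw [leviG_transvection fr h01 1]
      have hq0 : Q (e (0 : Fin (n + 1))) = 0 := fr.qe 0
      have hb0 : polar Q (e (0 : Fin (n + 1))) ((1 : F) • f (1 : Fin (n + 1))) = 0 := by
        rw [polar_smul_right, fr.ef, if_neg h01, smul_zero]
      apply Commute.mul_right
      · apply eichG_commute hq0 hqe2 (fr.ee _ _) hb0
        · rw [polar_smul_right, fr.ef, if_neg h21, smul_zero]
        · exact fr.ee _ _
        · exact hb1
        · rw [polar_smul_left, fr.fe, if_neg h31.symm, smul_zero]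
      · apply eichG_commute hq0 hqf2
        · rw [fr.ef, if_neg h20.symm]
        · exact hb0
        · rw [polar_smul_right, fr.ff, smul_zero]
        · rw [polar_neg_right, fr.ef, if_neg h30.symm, neg_zero]
        · exact hb2
        · rw [polar_smul_left, polar_neg_right, fr.ff, neg_zero, smul_zero]
    · intro H hL hc
      exact plus_hgen_t hQ fr hperp H hL 0 i2 i3 h20 h30 h23 hc

end Cfsg.Agent.Helper11.OG
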