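import Mathlib
import Cfsg.Prelude
import Cfsg.Agent.Lib.Helper2.OrthFrames3

/-!
# Two-generation of `PΩ`: transfer from the isometry group to `PΩ`, and the concrete frames
(helper11)
-/

set_option autoImplicit false
set_option linter.unusedSectionVars false
set_option linter.unusedVariables false

namespace Cfsg.Agent.Helper11.OG

open QuadraticMap Matrix Cfsg.Agent.Helper2.Orth Cfsg.Agent.Helper13

/-- two elements of `Ω` generating a subgroup containing `Ω` give two generators of `PΩ` -/
theorem two_gen_POmega {F : Type*} [Field F] {ι : Type} [Fintype ι] [DecidableEq ι]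
    (Q : (ι → F) → F) (a b : Cfsg.isometryGroup F Q)
    (ha : a ∈ Cfsg.Omega F Q) (hb : b ∈ Cfsg.Omega F Q)
    (h : Cfsg.Omega F Q ≤ Subgroup.closure {a, b}) :
    ∃ a' b' : Cfsg.POmega F Q, Subgroup.closure ({a', b'} : Set (Cfsg.POmega F Q)) = ⊤ := by
  set a0 : Cfsg.Omega F Q := ⟨a, ha⟩ with ha0
  set b0 : Cfsg.Omega F Q := ⟨b, hb⟩ with hb0
  have htop : Subgroup.closure ({a0, b0} : Set (Cfsg.Omega F Q)) = ⊤ := by
    rw [eq_top_iff]
    intro x _
    have hx : (x : Cfsg.isometryGroup F Q) ∈ Subgroup.closure ({a, b} : Set _) := h x.2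
    have himg : ({a, b} : Set (Cfsg.isometryGroup F Q)) =
        (Cfsg.Omega F Q).subtype '' ({a0, b0} : Set (Cfsg.Omega F Q)) := by
      rw [Set.image_pair]
      rfl
    rw [himg, ← MonoidHom.map_closure] at hx
    obtain ⟨y, hy, hyx⟩ := hx
    have : y = x := Subtype.ext hyx
    rw [← this]
    exact hy
  refine ⟨QuotientGroup.mk a0, QuotientGroup.mk b0, ?_⟩
  have h1 : Subgroup.map (QuotientGroup.mk' (Subgroup.center (Cfsg.Omega F Q)))
      (Subgroup.closure ({a0, b0} : Set (Cfsg.Omega F Q))) = ⊤ := by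
    rw [htop]
    exact Subgroup.map_top_of_surjective _ (QuotientGroup.mk'_surjective _)
  rw [MonoidHom.map_closure] at h1
  rw [← h1]
  congr 1
  ext x
  simp [Set.image_pair]

/-- from generators of `eichGroup` to generators of `PΩ` -/
theorem two_gen_of_eich {F : Type*} [Field F] {ι : Type} [Fintype ι] [DecidableEq ι] (Q : QuadraticForm F (ι → F))
    (hΩ : Cfsg.Omega F (⇑Q) = eichGroup Q)
    (h : ∃ a b : Cfsg.isometryGroup F (⇑Q), a ∈ eichGroup Q ∧ b ∈ eichGroup Q ∧
      eichGroup Q ≤ Subgroup.closure {a, b}) :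
    ∃ a' b' : Cfsg.POmega F (⇑Q),
      Subgroup.closure ({a', b'} : Set (Cfsg.POmega F (⇑Q))) = ⊤ := by
  obtain ⟨a, b, ha, hb, hab⟩ := h
  rw [← hΩ] at ha hb hab
  exact two_gen_POmega (⇑Q) a b ha hb hab

section frames
variable {F : Type*} [Field F]

/-- polar form of a matrix quadratic form against a coordinate vector -/
theorem polar_matQ_single_left {ι : Type} [Fintype ι] [DecidableEq ι] (M : Matrix ι ι F) (k : ι)
    (x : ι → F) : polar (matQ M) (Pi.single k 1) x = ((M + Mᵀ) *ᵥ x) k := by
  rw [polar_matQ, single_dotProduct, one_mul]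

/-- the full frame of the plus form -/
theorem hypFrame_plus_full (m : ℕ) :
    HypFrame (matQ (plusMat m F))
      (fun i : Fin m => Pi.single (Sum.inl i) 1) (fun i : Fin m => Pi.single (Sum.inr i) 1) := by
  apply hypFrame_matQ (plusMat m F) (fun i : Fin m => Sum.inl i) (fun i : Fin m => Sum.inr i)
  · intro i; simp [plusMat]
  · intro i; simp [plusMat]
  · intro i j; simp [plusMat]
  · intro i j; simp [plusMat]
  · intro i j
    simp [plusMat, Matrix.one_apply]

theorem polar_plus_e (m : ℕ) (i : Fin m) (x : Fin m ⊕ Fin m → F) :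
    polar (matQ (plusMat m F)) (Pi.single (Sum.inl i) 1) x = x (Sum.inr i) := by
  rw [polar_matQ_single_left, plusMat_add_transpose]
  simp [hypBlock, Matrix.mulVec, dotProduct, Fintype.sum_sum_type, Matrix.one_apply]

theorem polar_plus_f (m : ℕ) (i : Fin m) (x : Fin m ⊕ Fin m → F) :
    polar (matQ (plusMat m F)) (Pi.single (Sum.inr i) 1) x = x (Sum.inl i) := by
  rw [polar_matQ_single_left, plusMat_add_transpose]
  simp [hypBlock, Matrix.mulVec, dotProduct, Fintype.sum_sum_type, Matrix.one_apply]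

/-- the full frame of the odd form -/
theorem hypFrame_odd_full (m : ℕ) :
    HypFrame (matQ (oddMat m F))
      (fun i : Fin m => Pi.single (Sum.inr (Sum.inl i)) 1)
      (fun i : Fin m => Pi.single (Sum.inr (Sum.inr i)) 1) := by
  apply hypFrame_matQ (oddMat m F) (fun i : Fin m => Sum.inr (Sum.inl i))
    (fun i : Fin m => Sum.inr (Sum.inr i))
  · intro i; simp [oddMat, plusMat]
  · intro i; simp [oddMat, plusMat]
  · intro i j; simp [oddMat, plusMat]
  · intro i j; simp [oddMat, plusMat]
  · intro i j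
    simp [oddMat, plusMat, Matrix.one_apply]

theorem oddMat_add_transpose (m : ℕ) :
    oddMat m F + (oddMat m F)ᵀ = fromBlocks (2 : Matrix Unit Unit F) 0 0 (hypBlock m F) := by
  unfold oddMat
  rw [fromBlocks_transpose, fromBlocks_add, plusMat_add_transpose]
  congr 1
  · rw [transpose_one]; norm_num
  · simp
  · simp

theorem polar_odd_e (m : ℕ) (i : Fin m) (x : Unit ⊕ (Fin m ⊕ Fin m) → F) :
    polar (matQ (oddMat m F)) (Pi.single (Sum.inr (Sum.inl i)) 1) x = x (Sum.inr (Sum.inr i)) := by
  rw [polar_matQ_single_left, oddMat_add_transpose]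
  simp [hypBlock, Matrix.mulVec, dotProduct, Fintype.sum_sum_type, Matrix.one_apply]

theorem polar_odd_f (m : ℕ) (i : Fin m) (x : Unit ⊕ (Fin m ⊕ Fin m) → F) :
    polar (matQ (oddMat m F)) (Pi.single (Sum.inr (Sum.inr i)) 1) x = x (Sum.inr (Sum.inl i)) := by
  rw [polar_matQ_single_left, oddMat_add_transpose]
  simp [hypBlock, Matrix.mulVec, dotProduct, Fintype.sum_sum_type, Matrix.one_apply]

/-- the full frame of the minus form -/
theorem hypFrame_minus_full (m : ℕ) (a b : F) :
    HypFrame (matQ (minusMat m a b))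
      (fun i : Fin m => Pi.single (Sum.inl (Sum.inl i)) 1)
      (fun i : Fin m => Pi.single (Sum.inl (Sum.inr i)) 1) := by
  apply hypFrame_matQ (minusMat m a b) (fun i : Fin m => Sum.inl (Sum.inl i))
    (fun i : Fin m => Sum.inl (Sum.inr i))
  · intro i; simp [minusMat, plusMat]
  · intro i; simp [minusMat, plusMat]
  · intro i j; simp [minusMat, plusMat]
  · intro i j; simp [minusMat, plusMat]
  · intro i j
    simp [minusMat, plusMat, Matrix.one_apply]

theorem polar_minus_e (m : ℕ) (a b : F) (i : Fin m) (x : (Fin m ⊕ Fin m) ⊕ Fin 2 → F) :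
    polar (matQ (minusMat m a b)) (Pi.single (Sum.inl (Sum.inl i)) 1) x
      = x (Sum.inl (Sum.inr i)) := by
  rw [polar_matQ_single_left, minusMat_add_transpose]
  simp [hypBlock, Matrix.mulVec, dotProduct, Fintype.sum_sum_type, Matrix.one_apply]

theorem polar_minus_f (m : ℕ) (a b : F) (i : Fin m) (x : (Fin m ⊕ Fin m) ⊕ Fin 2 → F) :
    polar (matQ (minusMat m a b)) (Pi.single (Sum.inl (Sum.inr i)) 1) x
      = x (Sum.inl (Sum.inl i)) := by
  rw [polar_matQ_single_left, minusMat_add_transpose]
  simp [hypBlock, Matrix.mulVec, dotProduct, Fintype.sum_sum_type, Matrix.one_apply]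

end frames

end Cfsg.Agent.Helper11.OG
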