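import Mathlib
import Cfsg.Prelude
import Cfsg.Agent.Lib.Helper11.OGTransfer
import Cfsg.Agent.Lib.Helper11.OGPLUSASM

/-!
# Two-generation of `PΩ⁺_{2m}(q)` (helper11)
-/

set_option autoImplicit false
set_option linter.unusedSectionVars false
set_option linter.unusedVariables false

namespace Cfsg.Agent.Helper11.OG

open QuadraticMap Matrix Cfsg.Agent.Helper2.Orth Cfsg.Agent.Helper13

variable {F : Type*} [Field F] [Fintype F]

theorem plus_final (m : ℕ) (hm : 4 ≤ m) :
    ∃ a b : Cfsg.POmega F (Cfsg.quadFormPlus m F),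
      Subgroup.closure ({a, b} : Set (Cfsg.POmega F (Cfsg.quadFormPlus m F))) = ⊤ := by
  classical
  obtain ⟨n, rfl⟩ : ∃ n, m = n + 1 := ⟨m - 1, by omega⟩
  rw [quadFormPlus_eq]
  have fr := hypFrame_plus_full (F := F) (n + 1)
  have hQ := nondeg_plus (F := F) (n + 1)
  have hex : Fintype.card F ≠ 2 ∨ Fintype.card (Fin (n + 1) ⊕ Fin (n + 1)) ≠ 4 := by
    right
    simp only [Fintype.card_sum, Fintype.card_fin]
    omega
  have fr2 := fr.comp (Fin.castLE (show 2 ≤ n + 1 by omega)) (Fin.castLE_injective _)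
  apply two_gen_of_eich _ (Omega_eq_eichGroup hQ hex fr2)
  apply plus_two_gen hQ (by omega) fr
  intro x hx
  funext k
  rcases k with i | i
  · have := (hx i).2
    rw [polar_plus_f] at this
    exact this
  · have := (hx i).1
    rw [polar_plus_e] at this
    exact this


end Cfsg.Agent.Helper11.OG
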