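import Mathlib
import Cfsg.Prelude.Def_SteinbergCover

/-!
Perfectness of the group presented by Steinberg's relations (R1), (R2) only (helper library for S2395).

All root elements are shown to lie in the commutator subgroup, using only the commutator relations:
* a relation whose right-hand side has a single term `x_k(± t u)` puts every `x_k(v)` into the commutator subgroup;
* a relation `x_{k1}(c1 (-t) u) x_{k2}(c2 (-t)^i u^j) * (known terms)` with `(i, j) = (2, 1)` or `(1, 2)` and a field
  element `l ≠ 0, 1` puts both `x_{k1}(v)` and `x_{k2}(v)` there (compare the parameters `(1, v)` and `(l, v / l)`).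
-/

set_option autoImplicit false

namespace Cfsg.Agent.Helper11.StPerf

open Cfsg Cfsg.Lie

variable {K : Type*} [Field K] (D : ChevalleyDatum)

theorem scGen_of_not_lt (r : ℕ) (hr : ¬ r < D.nroots) (t : K) : D.scGen K r t = 1 := by
  unfold ChevalleyDatum.scGen ChevalleyDatum.stX
  rw [dif_neg hr, map_one]

theorem scGen_add (r : ℕ) (t u : K) : D.scGen K r t * D.scGen K r u = D.scGen K r (t + u) := by
  by_cases hr : r < D.nroots
  · have hmem : D.stX r t * D.stX r u * (D.stX r (t + u))⁻¹ ∈ D.steinbergRelsAB K :=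
      Or.inl ⟨r, t, u, hr, rfl⟩
    have h := PresentedGroup.one_of_mem hmem
    rw [map_mul, map_mul, map_inv, mul_inv_eq_one] at h
    exact h
  · rw [scGen_of_not_lt D r hr, scGen_of_not_lt D r hr, scGen_of_not_lt D r hr, one_mul]

theorem scGen_zero (r : ℕ) : D.scGen K r (0 : K) = 1 := by
  have h := scGen_add D r (0 : K) 0
  rw [add_zero] at h
  exact mul_eq_left.mp h

theorem scGen_inv (r : ℕ) (t : K) : (D.scGen K r t)⁻¹ = D.scGen K r (-t) := by
  rw [inv_eq_iff_mul_eq_one, scGen_add, add_neg_cancel, scGen_zero]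

/-- the image of a word -/
theorem mk_stWord (w : List (ℕ × K)) :
    PresentedGroup.mk (D.steinbergRelsAB K) (D.stWord w) =
      (w.map fun p => D.scGen K p.1 p.2).prod := by
  unfold ChevalleyDatum.stWord
  rw [map_list_prod, List.map_map]
  rfl

theorem comm_rel (r s : ℕ) (hr : r < D.nroots) (hs : s < D.nroots) (hsr : s ≠ r) (hsn : s ≠ D.neg r)
    (t u : K) :
    (D.scGen K s u)⁻¹ * (D.scGen K r t)⁻¹ * D.scGen K s u * D.scGen K r t =
      ((D.commWord K r s t u).map fun p => D.scGen K p.1 p.2).prod := by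
  have hmem : (D.stX s u)⁻¹ * (D.stX r t)⁻¹ * D.stX s u * D.stX r t *
      (D.stWord (D.commWord K r s t u))⁻¹ ∈ D.steinbergRelsAB K :=
    Or.inr ⟨r, s, t, u, hr, hs, hsr, hsn, rfl⟩
  have h := PresentedGroup.one_of_mem hmem
  rw [map_mul, map_inv, mul_inv_eq_one, mk_stWord] at h
  rw [← h]
  simp only [map_mul, map_inv]
  rfl

/-- the right-hand side of every commutator relation lies in the commutator subgroup -/
theorem word_mem (r s : ℕ) (hr : r < D.nroots) (hs : s < D.nroots) (hsr : s ≠ r) (hsn : s ≠ D.neg r)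
    (t u : K) :
    ((D.commWord K r s t u).map fun p => D.scGen K p.1 p.2).prod ∈ commutator (D.SteinbergCover K) := by
  rw [← comm_rel D r s hr hs hsr hsn t u, commutator_def]
  have h := Subgroup.commutator_mem_commutator (H₁ := (⊤ : Subgroup (D.SteinbergCover K)))
    (H₂ := (⊤ : Subgroup (D.SteinbergCover K))) (g₁ := (D.scGen K s u)⁻¹) (g₂ := (D.scGen K r t)⁻¹)
    (Subgroup.mem_top _) (Subgroup.mem_top _)
  rw [commutatorElement_def, inv_inv, inv_inv] at h
  exact h


/-- a single-term relation `x_k(± t u)` -/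
theorem mem_of_single (r s k : ℕ) (c : ℤ) (hr : r < D.nroots) (hs : s < D.nroots) (hsr : s ≠ r)
    (hsn : s ≠ D.neg r) (hct : D.commTerms r s = [(k, c, 1, 1)]) (hc : c = 1 ∨ c = -1) (v : K) :
    D.scGen K k v ∈ commutator (D.SteinbergCover K) := by
  have key : ∀ t u : K, D.scGen K k ((c : K) * (-t) ^ 1 * u ^ 1) ∈ commutator (D.SteinbergCover K) := by
    intro t u
    have h := word_mem D r s hr hs hsr hsn t u
    have e : D.commWord K r s t u = [(k, (c : K) * (-t) ^ 1 * u ^ 1)] := by
      unfold ChevalleyDatum.commWord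
      rw [hct]
      rfl
    rw [e] at h
    simpa using h
  rcases hc with rfl | rfl
  · have := key (-v) 1
    simpa using this
  · have := key v 1
    simpa using this

/-- products of elements of a subgroup along a list -/
theorem list_prod_mem {G : Type*} [Group G] (N : Subgroup G) (l : List G) (h : ∀ x ∈ l, x ∈ N) :
    l.prod ∈ N := Subgroup.list_prod_mem N h

/-- a relation with two leading unknown terms of exponents `(1,1)` and `(i,j) ∈ {(2,1), (1,2)}` -/
theorem mem_of_pair (r s k1 k2 : ℕ) (c1 c2 : ℤ) (i j : ℕ) (rest : List (ℕ × ℤ × ℕ × ℕ))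
    (hr : r < D.nroots) (hs : s < D.nroots) (hsr : s ≠ r) (hsn : s ≠ D.neg r)
    (hct : D.commTerms r s = (k1, c1, 1, 1) :: (k2, c2, i, j) :: rest)
    (hc1 : c1 = 1 ∨ c1 = -1) (hc2 : c2 = 1 ∨ c2 = -1)
    (hij : (i = 2 ∧ j = 1) ∨ (i = 1 ∧ j = 2))
    (hrest : ∀ c ∈ rest, ∀ v : K, D.scGen K c.1 v ∈ commutator (D.SteinbergCover K))
    (l : K) (hl0 : l ≠ 0) (hl1 : l ≠ 1) (v : K) :
    D.scGen K k1 v ∈ commutator (D.SteinbergCover K) ∧
      D.scGen K k2 v ∈ commutator (D.SteinbergCover K) := by
  set N := commutator (D.SteinbergCover K) with hN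
  -- the two leading terms
  have key : ∀ t u : K, D.scGen K k1 ((c1 : K) * (-t) ^ 1 * u ^ 1) *
      D.scGen K k2 ((c2 : K) * (-t) ^ i * u ^ j) ∈ N := by
    intro t u
    have h := word_mem D r s hr hs hsr hsn t u
    have e : D.commWord K r s t u = (k1, (c1 : K) * (-t) ^ 1 * u ^ 1) ::
        (k2, (c2 : K) * (-t) ^ i * u ^ j) ::
          rest.map (fun c => (c.1, (c.2.1 : K) * (-t) ^ c.2.2.1 * u ^ c.2.2.2)) := by
      unfold ChevalleyDatum.commWord
      rw [hct]
      rfl
    rw [e, List.map_cons, List.map_cons, List.prod_cons, List.prod_cons, ← mul_assoc] at h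
    have hrestmem : ((rest.map (fun c => (c.1, (c.2.1 : K) * (-t) ^ c.2.2.1 * u ^ c.2.2.2))).map
        fun p => D.scGen K p.1 p.2).prod ∈ N := by
      apply Subgroup.list_prod_mem
      intro x hx
      rw [List.map_map] at hx
      obtain ⟨c, hc, rfl⟩ := List.mem_map.mp hx
      exact hrest c hc _
    exact (Subgroup.mul_mem_cancel_right N hrestmem).mp h
  have hc1K : (c1 : K) * (c1 : K) = 1 := by
    rcases hc1 with rfl | rfl <;> simp
  have hc2K : (c2 : K) * (c2 : K) = 1 := by
    rcases hc2 with rfl | rfl <;> simp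
  have hc2ne : (c2 : K) ≠ 0 := by
    intro h; rw [h] at hc2K; simp at hc2K
  have hl1' : l - 1 ≠ 0 := sub_ne_zero.mpr hl1
  -- two evaluations with the same first term
  have two : ∀ w : K, D.scGen K k1 ((c1 : K) * w) * D.scGen K k2 ((c2 : K) * w) ∈ N ∧
      D.scGen K k1 ((c1 : K) * w) * D.scGen K k2 ((c2 : K) * (l * w)) ∈ N := by
    intro w
    rcases hij with ⟨rfl, rfl⟩ | ⟨rfl, rfl⟩
    · constructor
      · have := key (-1) w
        simpa using this
      · have := key (-l) (w / l)
        have e1 : (c1 : K) * (- -l) ^ 1 * (w / l) ^ 1 = (c1 : K) * w := by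
          field_simp
        have e2 : (c2 : K) * (- -l) ^ 2 * (w / l) ^ 1 = (c2 : K) * (l * w) := by
          field_simp
        rw [e1, e2] at this
        exact this
    · constructor
      · have := key (-w) 1
        simpa using this
      · have := key (-(w / l)) l
        have e1 : (c1 : K) * (- -(w / l)) ^ 1 * l ^ 1 = (c1 : K) * w := by
          field_simp
        have e2 : (c2 : K) * (- -(w / l)) ^ 1 * l ^ 2 = (c2 : K) * (l * w) := by
          field_simp
        rw [e1, e2] at this
        exact this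
  have hk2 : ∀ w : K, D.scGen K k2 ((c2 : K) * ((l - 1) * w)) ∈ N := by
    intro w
    obtain ⟨h1, h2⟩ := two w
    have h3 := N.mul_mem (N.inv_mem h1) h2
    have e : (D.scGen K k1 ((c1 : K) * w) * D.scGen K k2 ((c2 : K) * w))⁻¹ *
        (D.scGen K k1 ((c1 : K) * w) * D.scGen K k2 ((c2 : K) * (l * w))) =
        D.scGen K k2 ((c2 : K) * ((l - 1) * w)) := by
      rw [mul_inv_rev, mul_assoc, ← mul_assoc (D.scGen K k1 ((c1 : K) * w))⁻¹, inv_mul_cancel, one_mul,
        scGen_inv, scGen_add]
      congr 1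
      ring
    rw [e] at h3
    exact h3
  have hk2' : ∀ v : K, D.scGen K k2 v ∈ N := by
    intro v
    have := hk2 ((c2 : K) * v / (l - 1))
    have e : (c2 : K) * ((l - 1) * ((c2 : K) * v / (l - 1))) = v := by
      field_simp
      rw [pow_two, hc2K, one_mul]
    rw [e] at this
    exact this
  refine ⟨?_, hk2' v⟩
  obtain ⟨h1, _⟩ := two ((c1 : K) * v)
  have h4 := (Subgroup.mul_mem_cancel_right N (hk2' ((c2 : K) * ((c1 : K) * v)))).mp h1
  rw [← mul_assoc, hc1K, one_mul] at h4
  exact h4

/-- the group is perfect once all generators are commutators -/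
theorem commutator_eq_top_of
    (h : ∀ r < D.nroots, ∀ v : K, D.scGen K r v ∈ commutator (D.SteinbergCover K)) :
    commutator (D.SteinbergCover K) = ⊤ := by
  rw [eq_top_iff, ← PresentedGroup.closure_range_of (D.steinbergRelsAB K), Subgroup.closure_le]
  rintro x ⟨⟨r, t⟩, rfl⟩
  have h1 := h r.1 r.2 t
  have e : D.scGen K r.1 t = PresentedGroup.of (rels := D.steinbergRelsAB K) (r, t) := by
    unfold ChevalleyDatum.scGen ChevalleyDatum.stX
    rw [dif_pos r.2]
    rfl
  rw [e] at h1
  exact h1

/-- certificate check: root `s` is the single term of the relation `(a, b)` -/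
def chk1 (D : ChevalleyDatum) (s a b : ℕ) : Bool :=
  decide (a < D.nroots) && decide (b < D.nroots) && decide (b ≠ a) && decide (b ≠ D.neg a) &&
    (D.commTerms a b == [(s, 1, 1, 1)] || D.commTerms a b == [(s, -1, 1, 1)])

theorem mem_of_chk1 (s a b : ℕ) (h : chk1 D s a b = true) (v : K) :
    D.scGen K s v ∈ commutator (D.SteinbergCover K) := by
  simp only [chk1, Bool.and_eq_true, Bool.or_eq_true, decide_eq_true_eq, beq_iff_eq] at h
  obtain ⟨⟨⟨⟨ha, hb⟩, hba⟩, hbn⟩, hct⟩ := h
  rcases hct with hct | hct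
  · exact mem_of_single D a b s 1 ha hb hba hbn hct (Or.inl rfl) v
  · exact mem_of_single D a b s (-1) ha hb hba hbn hct (Or.inr rfl) v

theorem commutator_eq_top_of_cert (cert : List (ℕ × ℕ))
    (h : ∀ s < D.nroots, chk1 D s (cert.getD s (0, 0)).1 (cert.getD s (0, 0)).2 = true) :
    commutator (D.SteinbergCover K) = ⊤ :=
  commutator_eq_top_of D fun s hs v => mem_of_chk1 D s _ _ (h s hs) v

end Cfsg.Agent.Helper11.StPerf
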