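import Mathlib
import Cfsg.Agent.Lib.Helper11.SteinbergPerfect
import Cfsg.Prelude.Def_ChevB2
import Cfsg.Prelude.Def_ChevG2

/-! The rank two cases B2 and G2 of S2395 (fields with more than two elements). -/

set_option autoImplicit false

namespace Cfsg.Agent.Helper11.StPerf

open Cfsg Cfsg.Lie

variable {K : Type*} [Field K]

theorem b2_nroots : chevB2.nroots = 8 := by decide
theorem b2_neg : ∀ r < 8, chevB2.neg r = 7 - r := by decide

theorem b2_05 : chevB2.commTerms 0 5 = [(1, 1, 1, 1), (3, -1, 1, 2)] := by decide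
theorem b2_06 : chevB2.commTerms 0 6 = [(2, -1, 1, 1), (4, 1, 1, 2)] := by decide
theorem b2_14 : chevB2.commTerms 1 4 = [(2, 1, 1, 1), (0, 1, 2, 1)] := by decide
theorem b2_17 : chevB2.commTerms 1 7 = [(5, -1, 1, 1), (3, 1, 2, 1)] := by decide
theorem b2_27 : chevB2.commTerms 2 7 = [(6, 1, 1, 1), (4, -1, 2, 1)] := by decide
theorem b2_36 : chevB2.commTerms 3 6 = [(5, 1, 1, 1), (7, 1, 1, 2)] := by decide

theorem b2_perfect (l : K) (hl0 : l ≠ 0) (hl1 : l ≠ 1) :
    commutator (chevB2.SteinbergCover K) = ⊤ := by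
  have n8 := b2_nroots
  have P := fun (r s k1 k2 : ℕ) (c1 c2 : ℤ) (i j : ℕ) (hr : r < 8) (hs : s < 8) (hsr : s ≠ r)
      (hsn : s ≠ 7 - r) (hct : chevB2.commTerms r s = [(k1, c1, 1, 1), (k2, c2, i, j)])
      (hc1 : c1 = 1 ∨ c1 = -1) (hc2 : c2 = 1 ∨ c2 = -1) (hij : (i = 2 ∧ j = 1) ∨ (i = 1 ∧ j = 2))
      (v : K) =>
    mem_of_pair (K := K) chevB2 r s k1 k2 c1 c2 i j [] (n8 ▸ hr) (n8 ▸ hs) hsr
      (by rw [b2_neg r hr]; exact hsn) hct hc1 hc2 hij (by simp) l hl0 hl1 v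
  have h05 := P 0 5 1 3 1 (-1) 1 2 (by norm_num) (by norm_num) (by norm_num) (by norm_num) b2_05
    (Or.inl rfl) (Or.inr rfl) (Or.inr ⟨rfl, rfl⟩)
  have h06 := P 0 6 2 4 (-1) 1 1 2 (by norm_num) (by norm_num) (by norm_num) (by norm_num) b2_06
    (Or.inr rfl) (Or.inl rfl) (Or.inr ⟨rfl, rfl⟩)
  have h14 := P 1 4 2 0 1 1 2 1 (by norm_num) (by norm_num) (by norm_num) (by norm_num) b2_14
    (Or.inl rfl) (Or.inl rfl) (Or.inl ⟨rfl, rfl⟩)
  have h17 := P 1 7 5 3 (-1) 1 2 1 (by norm_num) (by norm_num) (by norm_num) (by norm_num) b2_17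
    (Or.inr rfl) (Or.inl rfl) (Or.inl ⟨rfl, rfl⟩)
  have h27 := P 2 7 6 4 1 (-1) 2 1 (by norm_num) (by norm_num) (by norm_num) (by norm_num) b2_27
    (Or.inl rfl) (Or.inr rfl) (Or.inl ⟨rfl, rfl⟩)
  have h36 := P 3 6 5 7 1 1 1 2 (by norm_num) (by norm_num) (by norm_num) (by norm_num) b2_36
    (Or.inl rfl) (Or.inl rfl) (Or.inr ⟨rfl, rfl⟩)
  apply commutator_eq_top_of
  intro r hr v
  rw [n8] at hr
  interval_cases r
  · exact (h14 v).2
  · exact (h05 v).1
  · exact (h06 v).1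
  · exact (h05 v).2
  · exact (h06 v).2
  · exact (h17 v).1
  · exact (h27 v).1
  · exact (h36 v).2

theorem g2_nroots : chevG2.nroots = 12 := by decide
theorem g2_neg : ∀ r < 12, chevG2.neg r = 11 - r := by decide

theorem g2_0_6 : chevG2.commTerms 0 6 = [(1, 1, 1, 1)] := by decide
theorem g2_0_10 : chevG2.commTerms 0 10 = [(5, -1, 1, 1)] := by decide
theorem g2_1_5 : chevG2.commTerms 1 5 = [(0, 1, 1, 1)] := by decide
theorem g2_1_11 : chevG2.commTerms 1 11 = [(6, -1, 1, 1)] := by decide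
theorem g2_5_11 : chevG2.commTerms 5 11 = [(10, 1, 1, 1)] := by decide
theorem g2_6_10 : chevG2.commTerms 6 10 = [(11, 1, 1, 1)] := by decide
theorem g2_0_8 : chevG2.commTerms 0 8 = [(2, 1, 1, 1), (4, 1, 1, 2), (6, -1, 1, 3), (1, -2, 2, 3)] := by
  decide
theorem g2_0_9 : chevG2.commTerms 0 9 = [(3, -1, 1, 1), (7, -1, 1, 2), (10, -1, 1, 3), (5, 2, 2, 3)] := by
  decide
theorem g2_1_9 : chevG2.commTerms 1 9 = [(4, -1, 1, 1), (8, 1, 1, 2), (11, 1, 1, 3), (6, -2, 2, 3)] := by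
  decide
theorem g2_5_8 : chevG2.commTerms 5 8 = [(7, 1, 1, 1), (9, -1, 1, 2), (11, 1, 1, 3), (10, 2, 2, 3)] := by
  decide

theorem g2_perfect (l : K) (hl0 : l ≠ 0) (hl1 : l ≠ 1) :
    commutator (chevG2.SteinbergCover K) = ⊤ := by
  have n12 := g2_nroots
  have S := fun (r s k : ℕ) (c : ℤ) (hr : r < 12) (hs : s < 12) (hsr : s ≠ r) (hsn : s ≠ 11 - r)
      (hct : chevG2.commTerms r s = [(k, c, 1, 1)]) (hc : c = 1 ∨ c = -1) (v : K) =>
    mem_of_single (K := K) chevG2 r s k c (n12 ▸ hr) (n12 ▸ hs) hsr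
      (by rw [g2_neg r hr]; exact hsn) hct hc v
  have L1 := S 0 6 1 1 (by norm_num) (by norm_num) (by norm_num) (by norm_num) g2_0_6 (Or.inl rfl)
  have L5 := S 0 10 5 (-1) (by norm_num) (by norm_num) (by norm_num) (by norm_num) g2_0_10 (Or.inr rfl)
  have L0 := S 1 5 0 1 (by norm_num) (by norm_num) (by norm_num) (by norm_num) g2_1_5 (Or.inl rfl)
  have L6 := S 1 11 6 (-1) (by norm_num) (by norm_num) (by norm_num) (by norm_num) g2_1_11 (Or.inr rfl)
  have L10 := S 5 11 10 1 (by norm_num) (by norm_num) (by norm_num) (by norm_num) g2_5_11 (Or.inl rfl)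
  have L11 := S 6 10 11 1 (by norm_num) (by norm_num) (by norm_num) (by norm_num) g2_6_10 (Or.inl rfl)
  have P := fun (r s k1 k2 : ℕ) (c1 c2 : ℤ) (rest : List (ℕ × ℤ × ℕ × ℕ)) (hr : r < 12) (hs : s < 12)
      (hsr : s ≠ r) (hsn : s ≠ 11 - r)
      (hct : chevG2.commTerms r s = (k1, c1, 1, 1) :: (k2, c2, 1, 2) :: rest)
      (hc1 : c1 = 1 ∨ c1 = -1) (hc2 : c2 = 1 ∨ c2 = -1)
      (hrest : ∀ c ∈ rest, ∀ v : K, chevG2.scGen K c.1 v ∈ commutator (chevG2.SteinbergCover K))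
      (v : K) =>
    mem_of_pair (K := K) chevG2 r s k1 k2 c1 c2 1 2 rest (n12 ▸ hr) (n12 ▸ hs) hsr
      (by rw [g2_neg r hr]; exact hsn) hct hc1 hc2 (Or.inr ⟨rfl, rfl⟩) hrest l hl0 hl1 v
  have h08 := P 0 8 2 4 1 1 _ (by norm_num) (by norm_num) (by norm_num) (by norm_num) g2_0_8
    (Or.inl rfl) (Or.inl rfl) (by
      intro c hc
      simp only [List.mem_cons, List.not_mem_nil, or_false] at hc
      rcases hc with rfl | rfl
      · exact L6
      · exact L1)
  have h09 := P 0 9 3 7 (-1) (-1) _ (by norm_num) (by norm_num) (by norm_num) (by norm_num) g2_0_9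
    (Or.inr rfl) (Or.inr rfl) (by
      intro c hc
      simp only [List.mem_cons, List.not_mem_nil, or_false] at hc
      rcases hc with rfl | rfl
      · exact L10
      · exact L5)
  have h19 := P 1 9 4 8 (-1) 1 _ (by norm_num) (by norm_num) (by norm_num) (by norm_num) g2_1_9
    (Or.inr rfl) (Or.inl rfl) (by
      intro c hc
      simp only [List.mem_cons, List.not_mem_nil, or_false] at hc
      rcases hc with rfl | rfl
      · exact L11
      · exact L6)
  have h58 := P 5 8 7 9 1 (-1) _ (by norm_num) (by norm_num) (by norm_num) (by norm_num) g2_5_8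
    (Or.inl rfl) (Or.inr rfl) (by
      intro c hc
      simp only [List.mem_cons, List.not_mem_nil, or_false] at hc
      rcases hc with rfl | rfl
      · exact L11
      · exact L10)
  apply commutator_eq_top_of
  intro r hr v
  rw [n12] at hr
  interval_cases r
  · exact L0 v
  · exact L1 v
  · exact (h08 v).1
  · exact (h09 v).1
  · exact (h08 v).2
  · exact L5 v
  · exact L6 v
  · exact (h09 v).2
  · exact (h19 v).2
  · exact (h58 v).2
  · exact L10 v
  · exact L11 v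

end Cfsg.Agent.Helper11.StPerf
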