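import Mathlib
import Cfsg.Agent.Lib.Helper6.OrthD4Main
import Cfsg.Agent.Lib.Helper11.OGFinalPlus

/-!
# Two-generation of the Chevalley groups (S2405): type `D₄`, from `D₄(F) ≅ PΩ₈⁺(F)` and the
two-generation of `PΩ⁺_{2m}(q)`, `m ≥ 4`
-/

set_option autoImplicit false

namespace Cfsg.Agent.Helper11.CG

open Cfsg Cfsg.Lie

/-- two-generation is transported along an isomorphism -/
theorem cgd4_transport {G H : Type*} [Group G] [Group H] (e : G ≃* H)
    (h : ∃ a b : H, Subgroup.closure ({a, b} : Set H) = ⊤) :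
    ∃ a b : G, Subgroup.closure ({a, b} : Set G) = ⊤ := by
  obtain ⟨a, b, hab⟩ := h
  refine ⟨e.symm a, e.symm b, ?_⟩
  have h1 : (Subgroup.closure ({a, b} : Set H)).map e.symm.toMonoidHom =
      Subgroup.closure ({e.symm a, e.symm b} : Set G) := by
    rw [MonoidHom.map_closure]
    congr 1
    ext x
    simp [Set.image_insert_eq, Set.image_singleton]
  rw [← h1, hab, ← MonoidHom.range_eq_map]
  exact MonoidHom.range_eq_top.2 e.symm.surjective

theorem d4_two_gen {F : Type*} [Field F] [Finite F] :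
    ∃ a b : ↥(chevD4.group F), Subgroup.closure ({a, b} : Set ↥(chevD4.group F)) = ⊤ := by
  haveI : Fintype F := Fintype.ofFinite F
  obtain ⟨e⟩ := Cfsg.Agent.Helper6.OrthD4.nonempty_equiv (F := F)
  exact cgd4_transport e (Cfsg.Agent.Helper11.OG.plus_final 4 (le_refl 4))

end Cfsg.Agent.Helper11.CG
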