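import Mathlib
import Cfsg.Agent.Lib.Helper11.CGBase
import Cfsg.Agent.Lib.Helper20.CGDRVA
import Cfsg.Agent.Lib.Helper16.CGDRVB

/-!
# Two-generation of the Chevalley groups (S2405): the instances `E₆, E₇, E₈, F₄` (odd), `G₂`, `B₂`
-/

set_option autoImplicit false
set_option maxRecDepth 100000

namespace Cfsg.Agent.Helper11.CG

open Cfsg Cfsg.Lie Cfsg.Agent.Lead.Chev

variable {F : Type*} [Field F]

theorem cginst_cs1 : ∀ c ∈ ([1, -1] : List ℤ), ((c : ℤ) : F) ≠ 0 := by
  intro c hc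
  simp only [List.mem_cons, List.mem_nil_iff, or_false] at hc
  rcases hc with rfl | rfl <;> simp

theorem cginst_cs2 (h2 : (2 : F) ≠ 0) : ∀ c ∈ ([1, -1, 2, -2] : List ℤ), ((c : ℤ) : F) ≠ 0 := by
  intro c hc
  simp only [List.mem_cons, List.mem_nil_iff, or_false] at hc
  rcases hc with rfl | rfl | rfl | rfl <;> simp [h2]

theorem cginst_zs : ∀ c ∈ ([] : List ℤ), ((c : ℤ) : F) = 0 := by
  intro c hc
  simp at hc

/-- the Coxeter word of `E6` -/
def cginst_wE6 : List ℕ := [0, 1, 2, 3, 4, 5]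

/-- the closure certificate of `E6` -/
def cginst_certE6 : List (ℕ × ℕ × ℕ) :=
  [(9, 2, 45), (26, 2, 62), (29, 2, 66), (34, 2, 68), (5, 7, 33), (15, 7, 53), (32, 7, 62),
   (38, 7, 66), (3, 14, 17), (12, 14, 31), (48, 14, 62), (54, 14, 68), (24, 17, 45), (35, 17, 53),
   (57, 17, 68), (18, 21, 31), (19, 21, 33), (40, 21, 53), (60, 21, 68), (50, 31, 53),
   (63, 31, 66), (43, 33, 45), (64, 33, 66), (69, 45, 62), (0, 2, 24), (1, 2, 32), (4, 2, 38),
   (16, 2, 57), (20, 2, 60), (27, 2, 63), (8, 3, 43), (10, 3, 45), (11, 3, 50), (28, 3, 63),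
   (37, 3, 69), (23, 5, 60), (30, 5, 62), (42, 5, 69), (6, 7, 35), (13, 7, 48), (36, 9, 63),
   (39, 9, 64), (41, 9, 66), (46, 12, 62), (47, 12, 64), (49, 12, 66), (52, 12, 69), (55, 14, 69),
   (51, 15, 62), (22, 17, 43), (56, 18, 64), (25, 19, 45), (58, 19, 68), (59, 19, 69),
   (44, 24, 53), (61, 26, 68), (65, 29, 68), (67, 33, 69), (70, 40, 68), (71, 48, 68)]

theorem cginst_E6_chk : closChk chevE6 [] [1, -1] (orbitList chevE6 cginst_wE6 2 12)
    cginst_certE6 = true := by decide +kernel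

theorem cginst_E6_cov : coverChk chevE6 (orbitList chevE6 cginst_wE6 2 12) cginst_certE6 =
    true := by decide +kernel

theorem cginst_E6_per : iter chevE6 cginst_wE6 12 2 = 2 := by decide +kernel

theorem cginst_E6_c0 : chevE6.cartan 0 2 = 0 := by decide +kernel

theorem cginst_E6_c1 : chevE6.cartan 0 (iter chevE6 cginst_wE6 1 2) = 1 ∨
    chevE6.cartan 0 (iter chevE6 cginst_wE6 1 2) = -1 := by decide +kernel

theorem e6_two_gen [Finite F] :
    ∃ a b : ↥(chevE6.group F), Subgroup.closure ({a, b} : Set ↥(chevE6.group F)) = ⊤ :=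
  caseA chevE6 (chevFacts_of_mem chevE6 (by simp)) cginst_wE6 (by decide) 2 0 1 12
    (by decide) (by decide) cginst_E6_c0 cginst_E6_c1 cginst_E6_per [] [1, -1] cginst_zs cginst_cs1
    cginst_certE6 cginst_E6_chk cginst_E6_cov

/-- the Coxeter word of `E7` -/
def cginst_wE7 : List ℕ := [0, 1, 2, 3, 4, 5, 6]

/-- the closure certificate of `E7` -/
def cginst_certE7 : List (ℕ × ℕ × ℕ) :=
  [(6, 3, 68), (24, 3, 91), (33, 3, 100), (58, 3, 120), (2, 5, 54), (26, 5, 91), (36, 5, 100),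
   (67, 5, 122), (0, 8, 25), (14, 8, 71), (53, 8, 110), (60, 8, 115), (7, 10, 57), (16, 10, 71),
   (55, 10, 110), (65, 10, 117), (1, 15, 34), (11, 15, 57), (70, 15, 115), (72, 15, 117),
   (19, 25, 54), (89, 25, 120), (92, 25, 122), (38, 34, 68), (99, 34, 120), (101, 34, 122),
   (109, 54, 115), (111, 54, 117), (87, 57, 91), (119, 57, 122), (114, 68, 110), (118, 68, 115),
   (106, 71, 100), (123, 71, 120), (124, 91, 110), (125, 100, 117), (9, 0, 101), (17, 0, 109),
   (18, 0, 110), (22, 0, 114), (23, 0, 115), (27, 0, 119), (28, 0, 120), (30, 0, 122),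
   (31, 0, 123), (32, 0, 124), (13, 1, 89), (35, 1, 111), (39, 1, 115), (41, 1, 117), (42, 1, 118),
   (48, 1, 119), (49, 1, 120), (51, 1, 122), (52, 1, 123), (93, 1, 125), (4, 2, 70), (21, 2, 91),
   (43, 2, 115), (45, 2, 117), (46, 2, 118), (56, 2, 122), (73, 2, 124), (94, 2, 125),
   (47, 3, 118), (69, 3, 123), (74, 3, 124), (95, 3, 125), (62, 5, 119), (76, 5, 124),
   (97, 5, 125), (37, 6, 100), (44, 6, 109), (63, 6, 120), (77, 6, 124), (98, 6, 125), (12, 7, 71),
   (29, 7, 92), (59, 7, 117), (78, 7, 122), (79, 7, 123), (83, 7, 124), (66, 8, 118), (80, 8, 123),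
   (84, 8, 124), (82, 10, 123), (86, 10, 124), (102, 10, 125), (103, 11, 125), (90, 14, 124),
   (61, 15, 109), (107, 15, 125), (50, 16, 99), (64, 16, 110), (81, 16, 119), (108, 16, 125),
   (116, 24, 125), (88, 25, 119), (20, 26, 53), (75, 26, 109), (40, 33, 72), (96, 33, 118),
   (104, 34, 123), (112, 36, 124), (85, 53, 92), (113, 54, 118), (121, 55, 123), (105, 72, 99)]

theorem cginst_E7_chk : closChk chevE7 [] [1, -1] (orbitList chevE7 cginst_wE7 3 18)
    cginst_certE7 = true := by decide +kernel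

theorem cginst_E7_cov : coverChk chevE7 (orbitList chevE7 cginst_wE7 3 18) cginst_certE7 =
    true := by decide +kernel

theorem cginst_E7_per : iter chevE7 cginst_wE7 18 3 = 3 := by decide +kernel

theorem cginst_E7_c0 : chevE7.cartan 0 3 = 0 := by decide +kernel

theorem cginst_E7_c1 : chevE7.cartan 0 (iter chevE7 cginst_wE7 2 3) = 1 ∨
    chevE7.cartan 0 (iter chevE7 cginst_wE7 2 3) = -1 := by decide +kernel

theorem e7_two_gen [Finite F] :
    ∃ a b : ↥(chevE7.group F), Subgroup.closure ({a, b} : Set ↥(chevE7.group F)) = ⊤ :=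
  caseA chevE7 (chevFacts_of_mem chevE7 (by simp)) cginst_wE7 (by decide) 3 0 2 18
    (by decide) (by decide) cginst_E7_c0 cginst_E7_c1 cginst_E7_per [] [1, -1] cginst_zs cginst_cs1
    cginst_certE7 cginst_E7_chk cginst_E7_cov

/-- the Coxeter word of `E8` -/
def cginst_wE8 : List ℕ := [0, 1, 2, 3, 4, 5, 6, 7]

/-- the closure certificate of `E8` -/
def cginst_certE8 : List (ℕ × ℕ × ℕ) :=
  [(12, 0, 161), (33, 0, 203), (52, 0, 218), (66, 0, 224), (110, 0, 235), (114, 0, 236),
   (117, 0, 237), (119, 0, 238), (34, 1, 203), (53, 1, 218), (67, 1, 224), (106, 1, 234),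
   (111, 1, 235), (115, 1, 236), (118, 1, 237), (120, 1, 239), (54, 2, 218), (68, 2, 224),
   (79, 2, 226), (107, 2, 234), (112, 2, 235), (116, 2, 236), (121, 2, 238), (122, 2, 239),
   (37, 3, 204), (69, 3, 224), (81, 3, 226), (108, 3, 234), (113, 3, 235), (123, 3, 237),
   (124, 3, 238), (125, 3, 239), (22, 4, 184), (40, 4, 204), (84, 4, 226), (109, 4, 234),
   (126, 4, 236), (127, 4, 237), (128, 4, 238), (129, 4, 239), (16, 5, 169), (26, 5, 184),
   (46, 5, 204), (88, 5, 226), (130, 5, 235), (131, 5, 236), (132, 5, 237), (133, 5, 238),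
   (8, 13, 105), (39, 13, 169), (58, 13, 184), (72, 13, 204), (151, 13, 234), (155, 13, 235),
   (158, 13, 236), (160, 13, 237), (20, 15, 134), (45, 15, 161), (87, 15, 203), (103, 15, 218),
   (170, 15, 236), (171, 15, 237), (172, 15, 238), (173, 15, 239), (6, 21, 70), (29, 21, 134),
   (61, 21, 161), (96, 21, 203), (136, 21, 224), (185, 21, 237), (186, 21, 238), (187, 21, 239),
   (14, 35, 78), (24, 35, 105), (83, 35, 169), (95, 35, 184), (167, 35, 226), (193, 35, 234),
   (199, 35, 235), (202, 35, 236), (7, 36, 55), (10, 36, 70), (48, 36, 134), (73, 36, 161),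
   (143, 36, 218), (152, 36, 224), (205, 36, 238), (206, 36, 239), (18, 55, 78), (43, 55, 105),
   (102, 55, 169), (144, 55, 204), (181, 55, 226), (213, 55, 234), (217, 55, 235), (30, 70, 78),
   (62, 70, 105), (137, 70, 184), (156, 70, 204), (200, 70, 226), (223, 70, 234), (89, 78, 134),
   (166, 78, 203), (178, 78, 218), (194, 78, 224), (227, 78, 239), (150, 105, 161),
   (191, 105, 203), (210, 105, 218), (219, 105, 224), (177, 134, 169), (196, 134, 184),
   (215, 134, 204), (231, 134, 226), (209, 161, 169), (221, 161, 184), (225, 161, 204),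
   (229, 169, 203), (233, 169, 218), (232, 184, 203), (9, 0, 155), (11, 0, 160), (28, 0, 199),
   (31, 0, 202), (38, 0, 209), (49, 0, 217), (57, 0, 221), (71, 0, 225), (93, 0, 232),
   (99, 0, 233), (23, 1, 191), (25, 1, 193), (32, 1, 202), (44, 1, 213), (50, 1, 217),
   (56, 1, 219), (63, 1, 223), (82, 1, 229), (94, 1, 232), (100, 1, 233), (17, 2, 178),
   (19, 2, 181), (41, 2, 210), (51, 2, 217), (64, 2, 223), (80, 2, 227), (90, 2, 231),
   (101, 2, 233), (27, 3, 194), (59, 3, 219), (65, 3, 223), (74, 3, 225), (91, 3, 231),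
   (42, 4, 206), (75, 4, 225), (85, 4, 227), (92, 4, 231), (97, 4, 232), (47, 5, 205),
   (76, 5, 225), (98, 5, 232), (104, 5, 233), (77, 6, 225), (135, 6, 234), (138, 6, 237),
   (139, 6, 238), (140, 6, 239), (141, 7, 234), (142, 7, 235), (145, 7, 238), (146, 7, 239),
   (147, 8, 235), (148, 8, 236), (149, 8, 237), (157, 10, 238), (154, 12, 235), (159, 12, 237),
   (60, 13, 185), (162, 14, 233), (163, 14, 234), (164, 14, 235), (165, 14, 236), (168, 14, 239),
   (86, 15, 202), (174, 16, 236), (175, 16, 237), (176, 16, 238), (182, 18, 239), (180, 20, 236),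
   (183, 20, 238), (188, 22, 237), (189, 22, 238), (190, 22, 239), (195, 26, 238), (198, 29, 237),
   (201, 30, 239), (197, 33, 235), (192, 34, 234), (153, 37, 224), (207, 37, 238), (208, 37, 239),
   (211, 40, 239), (212, 45, 236), (214, 46, 238), (216, 48, 238), (179, 54, 226), (220, 58, 237),
   (222, 61, 237), (228, 79, 239), (230, 84, 239)]

theorem cginst_E8_chk : closChk chevE8 [] [1, -1] (orbitList chevE8 cginst_wE8 0 30)
    cginst_certE8 = true := by decide +kernel

theorem cginst_E8_cov : coverChk chevE8 (orbitList chevE8 cginst_wE8 0 30) cginst_certE8 =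
    true := by decide +kernel

theorem cginst_E8_per : iter chevE8 cginst_wE8 30 0 = 0 := by decide +kernel

theorem cginst_E8_c0 : chevE8.cartan 0 0 = 0 := by decide +kernel

theorem cginst_E8_c1 : chevE8.cartan 0 (iter chevE8 cginst_wE8 1 0) = 1 ∨
    chevE8.cartan 0 (iter chevE8 cginst_wE8 1 0) = -1 := by decide +kernel

theorem e8_two_gen [Finite F] :
    ∃ a b : ↥(chevE8.group F), Subgroup.closure ({a, b} : Set ↥(chevE8.group F)) = ⊤ :=
  caseA chevE8 (chevFacts_of_mem chevE8 (by simp)) cginst_wE8 (by decide) 0 0 1 30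
    (by decide) (by decide) cginst_E8_c0 cginst_E8_c1 cginst_E8_per [] [1, -1] cginst_zs cginst_cs1
    cginst_certE8 cginst_E8_chk cginst_E8_cov

/-- the Coxeter word of `F4` -/
def cginst_wF4 : List ℕ := [0, 1, 2, 3]

/-- the closure certificate of `F4` -/
def cginst_certF4 : List (ℕ × ℕ × ℕ) :=
  [(0, 3, 18), (6, 3, 29), (11, 3, 37), (14, 3, 40), (2, 7, 13), (15, 7, 34), (20, 7, 39),
   (33, 7, 44), (1, 8, 10), (12, 8, 29), (21, 8, 37), (27, 8, 40), (19, 10, 34), (26, 10, 39),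
   (36, 10, 44), (9, 13, 18), (28, 13, 37), (32, 13, 40), (35, 18, 39), (41, 18, 44), (38, 29, 34),
   (47, 29, 44), (45, 34, 40), (46, 37, 39), (5, 0, 32), (17, 0, 36), (22, 0, 38), (25, 0, 39),
   (30, 0, 40), (23, 0, 46), (16, 1, 35), (31, 1, 40), (42, 1, 44), (24, 1, 47), (4, 2, 27),
   (43, 2, 44)]

theorem cginst_F4_chk : closChk chevF4 [] [1, -1, 2, -2] (orbitList chevF4 cginst_wF4 3 12)
    cginst_certF4 = true := by decide +kernel

theorem cginst_F4_cov : coverChk chevF4 (orbitList chevF4 cginst_wF4 3 12) cginst_certF4 =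
    true := by decide +kernel

theorem cginst_F4_per : iter chevF4 cginst_wF4 12 3 = 3 := by decide +kernel

theorem cginst_F4_c0 : chevF4.cartan 1 3 = 0 := by decide +kernel

theorem cginst_F4_c1 : chevF4.cartan 1 (iter chevF4 cginst_wF4 1 3) = 1 ∨
    chevF4.cartan 1 (iter chevF4 cginst_wF4 1 3) = -1 := by decide +kernel

theorem f4_odd [Finite F] (h2 : (2 : F) ≠ 0) :
    ∃ a b : ↥(chevF4.group F), Subgroup.closure ({a, b} : Set ↥(chevF4.group F)) = ⊤ :=
  caseA chevF4 (chevFacts_of_mem chevF4 (by simp)) cginst_wF4 (by decide) 3 1 1 12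
    (by decide) (by decide) cginst_F4_c0 cginst_F4_c1 cginst_F4_per [] [1, -1, 2, -2] cginst_zs (cginst_cs2 h2)
    cginst_certF4 cginst_F4_chk cginst_F4_cov

/-- the Coxeter word in rank 2 -/
def cginst_w2 : List ℕ := [0, 1]

theorem cginst_G2_per : iter chevG2 cginst_w2 6 9 = 9 ∧ iter chevG2 cginst_w2 6 11 = 11 ∧
    reflWord chevG2 cginst_w2 10 = 11 := by decide +kernel

theorem cginst_G2_car : chevG2.cartan 1 11 = 1 ∧ chevG2.cartan 1 10 = -1 ∧ chevG2.cartan 1 9 = 0 ∧
    chevG2.cartan 1 (iter chevG2 cginst_w2 1 9) = 1 := by decide +kernel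

theorem cginst_G2_cov : coverChk chevG2 (orbitList chevG2 cginst_w2 9 6 ++ orbitList chevG2 cginst_w2 11 6)
    [] = true := by decide +kernel

theorem g2_two_gen [Finite F] (hq : ∃ x : F, x ≠ 0 ∧ x ≠ 1) :
    ∃ a b : ↥(chevG2.group F), Subgroup.closure ({a, b} : Set ↥(chevG2.group F)) = ⊤ :=
  caseB chevG2 (chevFacts_of_mem chevG2 (by simp)) cginst_w2 (by decide) hq 9 1 11 10 1 6
    (by decide) (by decide) (by decide) (by decide) cginst_G2_car.2.2.1 (Or.inl cginst_G2_car.1)
    cginst_G2_per.2.2 (Or.inr cginst_G2_car.2.1) (Or.inl cginst_G2_car.2.2.2)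
    cginst_G2_per.1 cginst_G2_per.2.1 [] [] cginst_zs (by intro c hc; simp at hc) [] rfl cginst_G2_cov

/-- the closure certificate of `B₂` in odd characteristic -/
def cginst_certB2 : List (ℕ × ℕ × ℕ) := [(0, 1, 2), (3, 1, 5), (4, 2, 6), (7, 5, 6)]

theorem cginst_B2_chk : closChk chevB2 [] [1, -1, 2, -2] (orbitList chevB2 cginst_w2 2 4) cginst_certB2 =
    true := by decide +kernel

theorem cginst_B2_cov : coverChk chevB2 (orbitList chevB2 cginst_w2 2 4) cginst_certB2 = true := by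
  decide +kernel

theorem cginst_B2_per : iter chevB2 cginst_w2 4 2 = 2 ∧ iter chevB2 cginst_w2 4 7 = 7 ∧
    reflWord chevB2 cginst_w2 6 = 2 := by decide +kernel

theorem cginst_B2_car : chevB2.cartan 1 2 = 1 ∧ chevB2.cartan 1 6 = 1 ∧ chevB2.cartan 1 7 = 0 ∧
    chevB2.cartan 1 (iter chevB2 cginst_w2 1 7) = 2 := by decide +kernel

theorem cginst_B2_cov2 : coverChk chevB2 (orbitList chevB2 cginst_w2 7 4 ++ orbitList chevB2 cginst_w2 2 4)
    [] = true := by decide +kernel

theorem b2_two_gen [Finite F] (hq : ∃ x : F, x ≠ 0 ∧ x ≠ 1) :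
    ∃ a b : ↥(chevB2.group F), Subgroup.closure ({a, b} : Set ↥(chevB2.group F)) = ⊤ := by
  by_cases h2 : (2 : F) = 0
  · exact caseB chevB2 (chevFacts_of_mem chevB2 (by simp)) cginst_w2 (by decide) hq 7 1 2 6 1 4
      (by decide) (by decide) (by decide) (by decide) cginst_B2_car.2.2.1 (Or.inl cginst_B2_car.1)
      cginst_B2_per.2.2 (Or.inl cginst_B2_car.2.1)
      (Or.inr (Or.inr ⟨h2, Or.inl cginst_B2_car.2.2.2⟩))
      cginst_B2_per.2.1 cginst_B2_per.1 [] [] cginst_zs (by intro c hc; simp at hc) [] rfl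
      cginst_B2_cov2
  · exact caseB0 chevB2 (chevFacts_of_mem chevB2 (by simp)) cginst_w2 (by decide) hq 1 2 6 4
      (by decide) (by decide) (by decide) (Or.inl cginst_B2_car.1) cginst_B2_per.2.2
      (Or.inl cginst_B2_car.2.1) cginst_B2_per.1 [] [1, -1, 2, -2] cginst_zs (cginst_cs2 h2)
      cginst_certB2 cginst_B2_chk cginst_B2_cov

end Cfsg.Agent.Helper11.CG
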