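import Mathlib
import Cfsg.Prelude.Def_CaseTheorems

/-!
Helper library for S3184: groups in which two distinct Sylow 2-subgroups meet inside the
centre of a Sylow 2-subgroup; the involution of a cyclic characteristic subgroup of a Sylow
2-subgroup has no other conjugate in that Sylow subgroup.
-/

set_option autoImplicit false

namespace Cfsg.Agent.Helper11.CIZStar

variable {G : Type*} [Group G]

theorem mem_smul_sylow {p : ℕ} (P : Sylow p G) (g x : G) :
    x ∈ (g • P : Sylow p G) ↔ g⁻¹ * x * g ∈ P := by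
  change x ∈ ((g • P : Sylow p G) : Subgroup G) ↔ _
  rw [Sylow.coe_subgroup_smul, Subgroup.mem_pointwise_smul_iff_inv_smul_mem, MulAut.smul_def,
    ← map_inv, MulAut.conj_apply, inv_inv]
  exact Iff.rfl

/-- conjugation by an element of the normalizer as an automorphism of the subgroup -/
def conjEquiv (S : Subgroup G) (n : G) (hn : n ∈ Subgroup.normalizer (S : Set G)) : ↥S ≃* ↥S where
  toFun x := ⟨n * x * n⁻¹, (Subgroup.mem_normalizer_iff.mp hn x).mp x.2⟩
  invFun x := ⟨n⁻¹ * x * n, by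
    have := (Subgroup.mem_normalizer_iff.mp hn (n⁻¹ * x * n)).mpr
    apply this
    have h : n * (n⁻¹ * (x : G) * n) * n⁻¹ = x := by group
    rw [h]; exact x.2⟩
  left_inv x := by
    apply Subtype.ext
    simp only []
    group
  right_inv x := by
    apply Subtype.ext
    simp only []
    group
  map_mul' x y := by
    apply Subtype.ext
    simp only [Subgroup.coe_mul]
    group

theorem conjEquiv_coe (S : Subgroup G) (n : G) (hn : n ∈ Subgroup.normalizer (S : Set G)) (x : ↥S) :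
    ((conjEquiv S n hn x : ↥S) : G) = n * x * n⁻¹ := rfl

/-- a cyclic group has at most one element of order two -/
theorem eq_of_orderOf_two {A : Type*} [Group A] [Finite A] [IsCyclic A] (x y : A)
    (hx : orderOf x = 2) (hy : orderOf y = 2) : x = y := by
  classical
  have := Fintype.ofFinite A
  by_contra hne
  have hx1 : x ≠ 1 := by
    intro h; rw [h, orderOf_one] at hx; omega
  have hy1 : y ≠ 1 := by
    intro h; rw [h, orderOf_one] at hy; omega
  have hx2 : x ^ 2 = 1 := by rw [← hx]; exact pow_orderOf_eq_one x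
  have hy2 : y ^ 2 = 1 := by rw [← hy]; exact pow_orderOf_eq_one y
  have hle := IsCyclic.card_pow_eq_one_le (α := A) (n := 2) (by norm_num)
  have hsub : ({1, x, y} : Finset A) ⊆ Finset.univ.filter (fun a : A => a ^ 2 = 1) := by
    intro a ha
    simp only [Finset.mem_insert, Finset.mem_singleton] at ha
    simp only [Finset.mem_filter, Finset.mem_univ, true_and]
    rcases ha with rfl | rfl | rfl
    · simp
    · exact hx2
    · exact hy2
  have hcard : ({1, x, y} : Finset A).card = 3 := by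
    rw [Finset.card_insert_of_notMem, Finset.card_insert_of_notMem, Finset.card_singleton]
    · simpa using hne
    · simp only [Finset.mem_insert, Finset.mem_singleton, not_or]
      exact ⟨fun h => hx1 h.symm, fun h => hy1 h.symm⟩
  have := Finset.card_le_card hsub
  omega

section

variable [Finite G] (S : Sylow 2 G) (C : Subgroup ↥(S : Subgroup G)) (hCc : IsCyclic ↥C)
  (hCh : C.Characteristic) (c : ↥(S : Subgroup G)) (hc : c ∈ C) (hc2 : orderOf c = 2)

include hCc hCh hc hc2

/-- Step B: the normalizer of `S` centralizes `c`. -/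
theorem normalizer_fix (n : G) (hn : n ∈ Subgroup.normalizer ((S : Subgroup G) : Set G)) :
    n * (c : G) * n⁻¹ = c := by
  have hfix := hCh.fixed (conjEquiv (S : Subgroup G) n hn)
  have hmem : conjEquiv (S : Subgroup G) n hn c ∈ C := by
    have : c ∈ Subgroup.comap (conjEquiv (S : Subgroup G) n hn).toMonoidHom C := by
      rw [hfix]; exact hc
    exact this
  have hord : orderOf (conjEquiv (S : Subgroup G) n hn c) = 2 := by
    rw [MulEquiv.orderOf_eq]; exact hc2
  have h1 : orderOf (⟨conjEquiv (S : Subgroup G) n hn c, hmem⟩ : ↥C) = 2 :=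
    (Subgroup.orderOf_mk _ _).trans hord
  have h2 : orderOf (⟨c, hc⟩ : ↥C) = 2 :=
    (Subgroup.orderOf_mk _ _).trans hc2
  have h3 := eq_of_orderOf_two (A := ↥C) _ _ h1 h2
  have h4 : conjEquiv (S : Subgroup G) n hn c = c := congrArg Subtype.val h3
  have h5 := congrArg Subtype.val h4
  rw [conjEquiv_coe] at h5
  exact h5

/-- `c` is central in `S`. -/
theorem central (s : G) (hs : s ∈ S) : s * (c : G) * s⁻¹ = c :=
  normalizer_fix S C hCc hCh c hc hc2 s (Subgroup.le_normalizer hs)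

theorem mem_centralizer : (c : G) ∈ Subgroup.centralizer ((S : Subgroup G) : Set G) := by
  rw [Subgroup.mem_centralizer_iff]
  intro s hs
  have h := central S C hCc hCh c hc hc2 s hs
  calc s * (c : G) = (s * c * s⁻¹) * s := by group
    _ = c * s := by rw [h]

/-- L1 (Burnside): a conjugate of `c` centralizing `S` equals `c`. -/
theorem eq_of_conj_mem_centralizer (a : G)
    (ha : a * (c : G) * a⁻¹ ∈ Subgroup.centralizer ((S : Subgroup G) : Set G)) :
    a * (c : G) * a⁻¹ = c := by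
  have hc0 := mem_centralizer S C hCc hCh c hc hc2
  have ha' : (a⁻¹)⁻¹ * (c : G) * a⁻¹ ∈ Subgroup.centralizer ((S : Subgroup G) : Set G) := by
    rw [inv_inv]; exact ha
  obtain ⟨n, hn, hn'⟩ := Sylow.conj_eq_normalizer_conj_of_mem_centralizer S (c : G) a⁻¹ hc0 ha'
  rw [inv_inv] at hn'
  rw [hn']
  have := normalizer_fix S C hCc hCh c hc hc2 n⁻¹ (inv_mem hn)
  rw [inv_inv] at this
  exact this

/-- L2: two conjugates of `c` centralizing the same Sylow subgroup are equal. -/
theorem eq_of_mem_centralizer (U : Sylow 2 G) (a b : G)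
    (ha : a * (c : G) * a⁻¹ ∈ Subgroup.centralizer ((U : Subgroup G) : Set G))
    (hb : b * (c : G) * b⁻¹ ∈ Subgroup.centralizer ((U : Subgroup G) : Set G)) :
    a * (c : G) * a⁻¹ = b * (c : G) * b⁻¹ := by
  obtain ⟨h, hh⟩ := MulAction.exists_smul_eq G S U
  have key : ∀ x : G, x * (c : G) * x⁻¹ ∈ Subgroup.centralizer ((U : Subgroup G) : Set G) →
      x * (c : G) * x⁻¹ = h * c * h⁻¹ := by
    intro x hx
    have h1 : (h⁻¹ * x) * (c : G) * (h⁻¹ * x)⁻¹ ∈
        Subgroup.centralizer ((S : Subgroup G) : Set G) := by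
      rw [Subgroup.mem_centralizer_iff]
      intro s hs
      have hsU : h * s * h⁻¹ ∈ U := by
        rw [← hh, mem_smul_sylow]
        have : h⁻¹ * (h * s * h⁻¹) * h = s := by group
        rw [this]; exact hs
      have h2 := Subgroup.mem_centralizer_iff.mp hx (h * s * h⁻¹) hsU
      have e1 : s * (h⁻¹ * x * (c : G) * (h⁻¹ * x)⁻¹) =
          h⁻¹ * ((h * s * h⁻¹) * (x * c * x⁻¹)) * h := by group
      have e2 : (h⁻¹ * x * (c : G) * (h⁻¹ * x)⁻¹) * s =
          h⁻¹ * ((x * c * x⁻¹) * (h * s * h⁻¹)) * h := by group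
      rw [e1, e2, h2]
    have h3 := eq_of_conj_mem_centralizer S C hCc hCh c hc hc2 (h⁻¹ * x) h1
    calc x * (c : G) * x⁻¹ = h * ((h⁻¹ * x) * c * (h⁻¹ * x)⁻¹) * h⁻¹ := by group
      _ = h * c * h⁻¹ := by rw [h3]
  rw [key a ha, key b hb]

end

end Cfsg.Agent.Helper11.CIZStar

namespace Cfsg.Agent.Helper11.CIZStar

variable {G : Type*} [Group G]

/-- Sylow's theorem inside a subgroup `H` containing the Sylow subgroup `T` of `G`. -/
theorem exists_conj_mem_of_le {p : ℕ} [Fact p.Prime] [Finite G] (H : Subgroup G) (T : Sylow p G)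
    (hT : (T : Subgroup G) ≤ H) (x : G) (hx : x ∈ H) (j : ℕ) (hxp : x ^ (p ^ j) = 1) :
    ∃ k ∈ H, k * x * k⁻¹ ∈ T := by
  have hP : IsPGroup p (Subgroup.zpowers (⟨x, hx⟩ : ↥H)) := by
    intro y
    obtain ⟨m, hm⟩ := Subgroup.mem_zpowers_iff.mp y.2
    refine ⟨j, ?_⟩
    apply Subtype.ext
    apply Subtype.ext
    have : ((y : ↥H) : G) = x ^ m := by
      rw [← hm]; simp
    simp only [Subgroup.coe_pow, Subgroup.coe_one, this]
    rw [← zpow_natCast, ← zpow_mul, mul_comm, zpow_mul, zpow_natCast, hxp, one_zpow]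
  obtain ⟨Q, hQ⟩ := hP.exists_le_sylow
  obtain ⟨k, hk⟩ := MulAction.exists_smul_eq ↥H Q (T.subtype hT)
  refine ⟨k, k.2, ?_⟩
  have h1 : (⟨x, hx⟩ : ↥H) ∈ Q := hQ (Subgroup.mem_zpowers _)
  have h2 : k * (⟨x, hx⟩ : ↥H) * k⁻¹ ∈ (k • Q : Sylow p ↥H) := by
    rw [mem_smul_sylow]
    have : k⁻¹ * (k * (⟨x, hx⟩ : ↥H) * k⁻¹) * k = ⟨x, hx⟩ := by group
    rw [this]; exact h1
  rw [hk] at h2
  have h3 : k * (⟨x, hx⟩ : ↥H) * k⁻¹ ∈ ((T.subtype hT : Sylow p ↥H) : Subgroup ↥H) := h2
  rw [Sylow.coe_subtype, Subgroup.mem_subgroupOf] at h3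
  change _ ∈ (T : Subgroup G)
  simpa using h3

section

variable [Finite G]
  (hCI : ∀ S T : Sylow 2 G, S ≠ T → ∃ U : Sylow 2 G,
      (S : Subgroup G) ⊓ (T : Subgroup G) ≤
        (Subgroup.center ↥(U : Subgroup G)).map (U : Subgroup G).subtype)
  (S : Sylow 2 G) (C : Subgroup ↥(S : Subgroup G)) (hCc : IsCyclic ↥C)
  (hCh : C.Characteristic) (c : ↥(S : Subgroup G)) (hc : c ∈ C) (hc2 : orderOf c = 2)

include hCI hCc hCh hc hc2

/-- the involution of `C` has no other conjugate in `S`. -/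
theorem conj_eq_of_mem (g : G) (hg : g * (c : G) * g⁻¹ ∈ S) : g * (c : G) * g⁻¹ = c := by
  have : Fact (Nat.Prime 2) := ⟨Nat.prime_two⟩
  set d : G := g * (c : G) * g⁻¹ with hd
  have hcc : (c : G) ^ 2 = 1 := by
    have h2 : orderOf (c : G) = 2 := (Subgroup.orderOf_coe c).trans hc2
    have h := pow_orderOf_eq_one (c : G)
    rw [h2] at h; exact h
  -- `c` commutes with `d`
  have hcd : d * (c : G) * d⁻¹ = c := central S C hCc hCh c hc hc2 d hg
  have hcH : (c : G) ∈ Subgroup.centralizer ({d} : Set G) := by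
    rw [Subgroup.mem_centralizer_singleton_iff]
    calc (c : G) * d = (d * c * d⁻¹) * d := by rw [hcd]
      _ = d * c := by group
  -- `g • S` centralizes `d`
  have hT : ((g • S : Sylow 2 G) : Subgroup G) ≤ Subgroup.centralizer ({d} : Set G) := by
    intro t ht
    have ht' : g⁻¹ * t * g ∈ S := (mem_smul_sylow S g t).mp ht
    rw [Subgroup.mem_centralizer_singleton_iff]
    have h1 := central S C hCc hCh c hc hc2 (g⁻¹ * t * g) ht'
    have h2 : t * d * t⁻¹ = d := by
      calc t * d * t⁻¹ = g * ((g⁻¹ * t * g) * c * (g⁻¹ * t * g)⁻¹) * g⁻¹ := by rw [hd]; group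
        _ = d := by rw [h1]
    calc t * d = (t * d * t⁻¹) * t := by group
      _ = d * t := by rw [h2]
  obtain ⟨k, hkH, hk⟩ := exists_conj_mem_of_le (Subgroup.centralizer ({d} : Set G)) (g • S) hT
    (c : G) hcH 1 (by simpa using hcc)
  have hkd : k * d * k⁻¹ = d := by
    have := Subgroup.mem_centralizer_singleton_iff.mp hkH
    calc k * d * k⁻¹ = (k * d) * k⁻¹ := by group
      _ = (d * k) * k⁻¹ := by rw [this]
      _ = d := by group
  -- it suffices to show `k c k⁻¹ = d`
  suffices hsuff : k * (c : G) * k⁻¹ = d by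
    calc d = k⁻¹ * (k * d * k⁻¹) * k := by group
      _ = k⁻¹ * d * k := by rw [hkd]
      _ = k⁻¹ * (k * (c : G) * k⁻¹) * k := by rw [hsuff]
      _ = c := by group
  by_cases hTT : (k • S : Sylow 2 G) = g • S
  · -- `g⁻¹ k` normalizes `S`
    have hn : (g⁻¹ * k) • S = S := by
      rw [mul_smul, hTT, ← mul_smul]; simp
    have hn' := Sylow.smul_eq_iff_mem_normalizer.mp hn
    have := normalizer_fix S C hCc hCh c hc hc2 (g⁻¹ * k) hn'
    calc k * (c : G) * k⁻¹ = g * ((g⁻¹ * k) * c * (g⁻¹ * k)⁻¹) * g⁻¹ := by group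
      _ = d := by rw [this]
  · obtain ⟨U, hU⟩ := hCI (k • S) (g • S) hTT
    have hcent : ∀ x : G, x ∈ (k • S : Sylow 2 G) → x ∈ (g • S : Sylow 2 G) →
        x ∈ Subgroup.centralizer ((U : Subgroup G) : Set G) := by
      intro x hx1 hx2
      have hx : x ∈ ((k • S : Sylow 2 G) : Subgroup G) ⊓ ((g • S : Sylow 2 G) : Subgroup G) :=
        ⟨hx1, hx2⟩
      obtain ⟨z, hz, hzx⟩ := hU hx
      rw [Subgroup.mem_centralizer_iff]
      intro u hu
      have := Subgroup.mem_center_iff.mp hz ⟨u, hu⟩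
      have h2 := congrArg Subtype.val this
      simp only [Subgroup.coe_mul] at h2
      rw [← hzx]
      exact h2
    have h1 : k * (c : G) * k⁻¹ ∈ Subgroup.centralizer ((U : Subgroup G) : Set G) := by
      apply hcent _ _ hk
      rw [mem_smul_sylow]
      have : k⁻¹ * (k * (c : G) * k⁻¹) * k = c := by group
      rw [this]; exact c.2
    have h2 : g * (c : G) * g⁻¹ ∈ Subgroup.centralizer ((U : Subgroup G) : Set G) := by
      apply hcent
      · rw [mem_smul_sylow]
        have : k⁻¹ * (g * (c : G) * g⁻¹) * k = k⁻¹ * (k * d * k⁻¹) * k := by rw [hkd]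
        rw [this]
        have : k⁻¹ * (k * d * k⁻¹) * k = d := by group
        rw [this]; exact hg
      · rw [mem_smul_sylow]
        have : g⁻¹ * (g * (c : G) * g⁻¹) * g = c := by group
        rw [this]; exact c.2
    exact eq_of_mem_centralizer S C hCc hCh c hc hc2 U k g h1 h2

/-- S3184 from the conclusion of the `Z*`-theorem. -/
theorem main_of_zstar
    (hZ : ∀ (P : Sylow 2 G) (u : G), orderOf u = 2 → u ∈ P →
      (∀ g : G, g * u * g⁻¹ ∈ P → g * u * g⁻¹ = u) →
      ∃ N : Subgroup G, N.Normal ∧ Odd (Nat.card N) ∧ ∀ g : G, (u * g * u⁻¹ * g⁻¹) ∈ N)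
    (g : G) :
    (QuotientGroup.mk (s := Cfsg.oddCore G) (g * (c : G) * g⁻¹)) =
      QuotientGroup.mk (s := Cfsg.oddCore G) (c : G) := by
  have h2 : orderOf (c : G) = 2 := (Subgroup.orderOf_coe c).trans hc2
  have hcc : (c : G) * c = 1 := by
    have h := pow_orderOf_eq_one (c : G)
    rw [h2, pow_two] at h; exact h
  have hci : (c : G)⁻¹ = c := inv_eq_of_mul_eq_one_right hcc
  obtain ⟨N, hNn, hNodd, hN⟩ := hZ S (c : G) h2 c.2
    (fun x hx => conj_eq_of_mem hCI S C hCc hCh c hc hc2 x hx)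
  have hNle : N ≤ Cfsg.oddCore G := by
    apply le_sSup
    refine ⟨hNn, ?_⟩
    exact (Nat.coprime_two_right.mpr hNodd)
  rw [QuotientGroup.eq]
  apply hNle
  have h1 := hN g
  have h3 : (g * (c : G) * g⁻¹)⁻¹ * c = ((c : G) * g * (c : G)⁻¹ * g⁻¹)⁻¹ := by
    calc (g * (c : G) * g⁻¹)⁻¹ * c = g * (c : G)⁻¹ * g⁻¹ * c := by group
      _ = g * (c : G) * g⁻¹ * (c : G)⁻¹ := by rw [hci]
      _ = ((c : G) * g * (c : G)⁻¹ * g⁻¹)⁻¹ := by group
  rw [h3]
  exact inv_mem h1

end

end Cfsg.Agent.Helper11.CIZStar
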