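import Mathlib
import Cfsg.Agent.Lib.Helper13.CoxeterA

/-!
# Coset enumeration for Carmichael's presentation of the alternating groups

Abstractly: a group generated by `t 0, …, t n` with `t 0` of order dividing `3`, the other `t v`
involutions, subject to Carmichael's relations, is covered by `n + 3` cosets of any subgroup
containing `t 0, …, t (n - 1)`.
-/

set_option autoImplicit false

namespace Cfsg.Agent.Helper11.Carmichael

open Cfsg.Agent.Helper13

section
variable {W : Type*} [Group W] (t : ℕ → W) (n : ℕ)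

/-- Carmichael's relations for the indices `≤ n`. -/
structure CarRel : Prop where
  cube : t 0 * t 0 * t 0 = 1
  sq : ∀ v, 1 ≤ v → v ≤ n → t v * t v = 1
  comm : ∀ u v, 1 ≤ u → v ≤ n → u + 2 ≤ v → t u * t v = t v * t u
  braid : ∀ u, 1 ≤ u → u + 1 ≤ n → t u * t (u + 1) * t u = t (u + 1) * t u * t (u + 1)
  inv0 : ∀ v, 2 ≤ v → v ≤ n → t v * t 0 * t v = (t 0)⁻¹
  braid0 : 1 ≤ n → t 1 * t 0 * t 1 = (t 0)⁻¹ * t 1 * (t 0)⁻¹

/-- the involutions, reindexed from `0`. -/
def shiftGen : ℕ → W := fun v => t (v + 1)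

/-- the coset representatives. -/
def rep (c : ℕ) : W :=
  if c ≤ n then descWord (shiftGen t) (n - 1) c
  else if c = n + 1 then descWord (shiftGen t) (n - 1) n * t 0
  else descWord (shiftGen t) (n - 1) n * t 0 * t 0

variable {t n}

theorem typeARel_shift (hR : CarRel t n) (hn : 1 ≤ n) : TypeARel (shiftGen t) (n - 1) := by
  refine ⟨?_, ?_, ?_⟩
  · intro v hv
    exact hR.sq (v + 1) (by omega) (by omega)
  · intro u v hv huv
    exact hR.comm (u + 1) (v + 1) (by omega) (by omega) (by omega)
  · intro u hu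
    exact hR.braid (u + 1) (by omega) (by omega)

theorem inv_zero (hR : CarRel t n) : (t 0)⁻¹ = t 0 * t 0 := by
  apply inv_eq_of_mul_eq_one_left
  rw [hR.cube]

theorem gen_mul_zero (hR : CarRel t n) (v : ℕ) (hv2 : 2 ≤ v) (hv : v ≤ n) :
    t v * t 0 = (t 0)⁻¹ * t v := by
  have h1 := hR.inv0 v hv2 hv
  have h2 : (t v)⁻¹ = t v := inv_eq_of_mul_eq_one_left (hR.sq v (by omega) hv)
  calc t v * t 0 = t v * t 0 * t v * (t v)⁻¹ := by rw [mul_inv_cancel_right]
    _ = (t 0)⁻¹ * t v := by rw [h1, h2]

theorem gen_mul_zero_inv (hR : CarRel t n) (v : ℕ) (hv2 : 2 ≤ v) (hv : v ≤ n) :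
    t v * (t 0)⁻¹ = t 0 * t v := by
  have h1 := gen_mul_zero hR v hv2 hv
  calc t v * (t 0)⁻¹ = t 0 * ((t 0)⁻¹ * t v) * (t 0)⁻¹ := by
        rw [mul_inv_cancel_left]
    _ = t 0 * (t v * t 0) * (t 0)⁻¹ := by rw [h1]
    _ = t 0 * t v := by rw [mul_assoc, mul_inv_cancel_right]

theorem zero_mul_gen (hR : CarRel t n) (v : ℕ) (hv2 : 2 ≤ v) (hv : v ≤ n) :
    t 0 * t v = t v * (t 0)⁻¹ := (gen_mul_zero_inv hR v hv2 hv).symm

/-- the words with all letters of index at least `2` normalise `⟨t 0⟩`. -/
theorem descWord_mul_zero (hR : CarRel t n) (k : ℕ) (hk : k + 1 ≤ n) (z : W)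
    (hz : z = t 0 ∨ z = (t 0)⁻¹) :
    ∃ z', (z' = t 0 ∨ z' = (t 0)⁻¹) ∧
      descWord (shiftGen t) (n - 1) k * z = z' * descWord (shiftGen t) (n - 1) k := by
  induction k generalizing z with
  | zero => exact ⟨z, hz, by simp [descWord]⟩
  | succ k ih =>
    have e : shiftGen t (n - 1 - k) = t (n - k) := by
      unfold shiftGen
      congr 1
      omega
    simp only [descWord]
    rw [e]
    rcases hz with rfl | rfl
    · obtain ⟨z', hz', h⟩ := ih (by omega) (t 0)⁻¹ (Or.inr rfl)
      refine ⟨z', hz', ?_⟩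
      rw [mul_assoc, gen_mul_zero hR (n - k) (by omega) (by omega), ← mul_assoc, h, mul_assoc]
    · obtain ⟨z', hz', h⟩ := ih (by omega) (t 0) (Or.inl rfl)
      refine ⟨z', hz', ?_⟩
      rw [mul_assoc, gen_mul_zero_inv hR (n - k) (by omega) (by omega), ← mul_assoc, h, mul_assoc]

/-- the longest word, times a generator of index at least `2`. -/
theorem top_mul_gen (hR : CarRel t n) (j : ℕ) (hj2 : 2 ≤ j) (hj : j ≤ n) :
    descWord (shiftGen t) (n - 1) n * t j = t (j - 1) * descWord (shiftGen t) (n - 1) n := by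
  have h := descWord_mul_high (typeARel_shift hR (by omega)) n (j - 1) (by omega) (by omega)
    (by omega)
  have e1 : shiftGen t (j - 1) = t j := by
    unfold shiftGen
    congr 1
    omega
  have e2 : shiftGen t (j - 1 - 1) = t (j - 1) := by
    unfold shiftGen
    congr 1
    omega
  rw [e1, e2] at h
  exact h

theorem top_eq (hn : 1 ≤ n) :
    descWord (shiftGen t) (n - 1) n = descWord (shiftGen t) (n - 1) (n - 1) * t 1 := by
  obtain ⟨m, rfl⟩ : ∃ m, n = m + 1 := ⟨n - 1, by omega⟩
  simp only [descWord, Nat.add_sub_cancel, Nat.sub_self]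
  rfl

theorem rep_of_le {c : ℕ} (hc : c ≤ n) : rep t n c = descWord (shiftGen t) (n - 1) c := by
  unfold rep
  rw [if_pos hc]

theorem rep_succ : rep t n (n + 1) = descWord (shiftGen t) (n - 1) n * t 0 := by
  unfold rep
  rw [if_neg (by omega), if_pos rfl]

theorem rep_succ_succ : rep t n (n + 2) = descWord (shiftGen t) (n - 1) n * t 0 * t 0 := by
  unfold rep
  rw [if_neg (by omega), if_neg (by omega)]

/-- right multiplication by a generator permutes the `n + 3` cosets -/
theorem rep_mul_gen (hR : CarRel t n) (H : Subgroup W) (hH : ∀ v, v < n → t v ∈ H)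
    (c j : ℕ) (hc : c ≤ n + 2) (hj : j ≤ n) :
    ∃ c', c' ≤ n + 2 ∧ ∃ h ∈ H, rep t n c * t j = h * rep t n c' := by
  have hzH : 1 ≤ n → ∀ z, (z = t 0 ∨ z = (t 0)⁻¹) → z ∈ H := by
    intro hn z hz
    rcases hz with rfl | rfl
    · exact hH 0 (by omega)
    · exact H.inv_mem (hH 0 (by omega))
  have hinv := inv_zero hR
  rcases Nat.eq_zero_or_pos j with hj0 | hj1
  · -- the generator of order three
    subst hj0
    rcases Nat.lt_or_ge c n with hcn | hcn
    · obtain ⟨z', hz', h⟩ := descWord_mul_zero hR c (by omega) (t 0) (Or.inl rfl)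
      refine ⟨c, hc, z', hzH (by omega) z' hz', ?_⟩
      rw [rep_of_le (by omega), h]
    · rcases eq_or_lt_of_le hcn with h1 | h1
      · subst h1
        refine ⟨n + 1, by omega, 1, H.one_mem, ?_⟩
        rw [rep_of_le le_rfl, rep_succ, one_mul]
      · rcases eq_or_lt_of_le (Nat.succ_le_of_lt h1) with h2 | h2
        · refine ⟨n + 2, by omega, 1, H.one_mem, ?_⟩
          rw [← h2, Nat.succ_eq_add_one, rep_succ, rep_succ_succ, one_mul]
        · have h3 : c = n + 2 := by omega
          refine ⟨n, by omega, 1, H.one_mem, ?_⟩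
          rw [h3, rep_succ_succ, rep_of_le le_rfl, one_mul, mul_assoc, mul_assoc, ← mul_assoc (t 0),
            hR.cube, mul_one]
  · -- the involutions
    have hA := typeARel_shift hR (by omega)
    have ej : shiftGen t (j - 1) = t j := by
      unfold shiftGen
      congr 1
      omega
    rcases Nat.lt_or_ge n c with hcn | hcn
    · -- the two extra cosets
      rcases Nat.lt_or_ge j 2 with hj2 | hj2
      · have hj1' : j = 1 := by omega
        subst hj1'
        have hb := hR.braid0 (by omega)
        rcases eq_or_lt_of_le (Nat.succ_le_of_lt hcn) with h2 | h2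
        · -- `c = n + 1`
          obtain ⟨z', hz', h⟩ := descWord_mul_zero hR (n - 1) (by omega) (t 0)⁻¹ (Or.inr rfl)
          refine ⟨n + 2, by omega, z', hzH (by omega) z' hz', ?_⟩
          rw [← h2, Nat.succ_eq_add_one, rep_succ, rep_succ_succ, top_eq (by omega)]
          calc descWord (shiftGen t) (n - 1) (n - 1) * t 1 * t 0 * t 1
              = descWord (shiftGen t) (n - 1) (n - 1) * (t 1 * t 0 * t 1) := by
                simp only [mul_assoc]
            _ = descWord (shiftGen t) (n - 1) (n - 1) * ((t 0)⁻¹ * t 1 * (t 0)⁻¹) := by rw [hb]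
            _ = (descWord (shiftGen t) (n - 1) (n - 1) * (t 0)⁻¹) * t 1 * (t 0)⁻¹ := by
                simp only [mul_assoc]
            _ = z' * descWord (shiftGen t) (n - 1) (n - 1) * t 1 * (t 0 * t 0) := by
                rw [h, hinv]
            _ = z' * (descWord (shiftGen t) (n - 1) (n - 1) * t 1 * t 0 * t 0) := by
                simp only [mul_assoc]
        · -- `c = n + 2`
          have h3 : c = n + 2 := by omega
          obtain ⟨z', hz', h⟩ := descWord_mul_zero hR (n - 1) (by omega) (t 0) (Or.inl rfl)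
          refine ⟨n + 1, by omega, z', hzH (by omega) z' hz', ?_⟩
          have hb' : t 1 * (t 0 * t 0) * t 1 = t 0 * t 1 * t 0 := by
            have h1 : (t 1)⁻¹ = t 1 := inv_eq_of_mul_eq_one_left (hR.sq 1 le_rfl (by omega))
            have h4 : (t 1 * t 0 * t 1)⁻¹ = t 1 * (t 0 * t 0) * t 1 := by
              rw [mul_inv_rev, mul_inv_rev, h1, hinv]
              simp only [mul_assoc]
            rw [← h4, hb, mul_inv_rev, mul_inv_rev, inv_inv, h1, mul_assoc]
          rw [h3, rep_succ_succ, rep_succ, top_eq (by omega)]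
          calc descWord (shiftGen t) (n - 1) (n - 1) * t 1 * t 0 * t 0 * t 1
              = descWord (shiftGen t) (n - 1) (n - 1) * (t 1 * (t 0 * t 0) * t 1) := by
                simp only [mul_assoc]
            _ = descWord (shiftGen t) (n - 1) (n - 1) * (t 0 * t 1 * t 0) := by rw [hb']
            _ = (descWord (shiftGen t) (n - 1) (n - 1) * t 0) * t 1 * t 0 := by
                simp only [mul_assoc]
            _ = z' * descWord (shiftGen t) (n - 1) (n - 1) * t 1 * t 0 := by rw [h]
            _ = z' * (descWord (shiftGen t) (n - 1) (n - 1) * t 1 * t 0) := by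
                simp only [mul_assoc]
      · have htop := top_mul_gen hR j hj2 hj
        have hz1 := zero_mul_gen hR j hj2 hj
        have hmem : t (j - 1) ∈ H := hH (j - 1) (by omega)
        rcases eq_or_lt_of_le (Nat.succ_le_of_lt hcn) with h2 | h2
        · -- `c = n + 1`
          refine ⟨n + 2, by omega, t (j - 1), hmem, ?_⟩
          rw [← h2, Nat.succ_eq_add_one, rep_succ, rep_succ_succ]
          calc descWord (shiftGen t) (n - 1) n * t 0 * t j
              = descWord (shiftGen t) (n - 1) n * (t 0 * t j) := by simp only [mul_assoc]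
            _ = descWord (shiftGen t) (n - 1) n * (t j * (t 0)⁻¹) := by rw [hz1]
            _ = (descWord (shiftGen t) (n - 1) n * t j) * (t 0)⁻¹ := by simp only [mul_assoc]
            _ = t (j - 1) * descWord (shiftGen t) (n - 1) n * (t 0 * t 0) := by rw [htop, hinv]
            _ = t (j - 1) * (descWord (shiftGen t) (n - 1) n * t 0 * t 0) := by
                simp only [mul_assoc]
        · -- `c = n + 2`
          have h3 : c = n + 2 := by omega
          refine ⟨n + 1, by omega, t (j - 1), hmem, ?_⟩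
          rw [h3, rep_succ_succ, rep_succ]
          have hcube : (t 0)⁻¹ * (t 0)⁻¹ = t 0 := by
            rw [hinv]
            calc t 0 * t 0 * (t 0 * t 0) = (t 0 * t 0 * t 0) * t 0 := by simp only [mul_assoc]
              _ = t 0 := by rw [hR.cube, one_mul]
          calc descWord (shiftGen t) (n - 1) n * t 0 * t 0 * t j
              = descWord (shiftGen t) (n - 1) n * t 0 * (t 0 * t j) := by simp only [mul_assoc]
            _ = descWord (shiftGen t) (n - 1) n * t 0 * (t j * (t 0)⁻¹) := by rw [hz1]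
            _ = descWord (shiftGen t) (n - 1) n * (t 0 * t j) * (t 0)⁻¹ := by
                simp only [mul_assoc]
            _ = descWord (shiftGen t) (n - 1) n * (t j * (t 0)⁻¹) * (t 0)⁻¹ := by rw [hz1]
            _ = (descWord (shiftGen t) (n - 1) n * t j) * ((t 0)⁻¹ * (t 0)⁻¹) := by
                simp only [mul_assoc]
            _ = t (j - 1) * (descWord (shiftGen t) (n - 1) n * t 0) := by
                rw [htop, hcube, mul_assoc]
    · -- the type `A` cosets
      have hH' : ∀ v, v < n - 1 → shiftGen t v ∈ H := fun v hv => hH (v + 1) (by omega)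
      obtain ⟨k', hk', h, hh, e⟩ := descWord_mul_gen hA H hH' c (j - 1) (by omega) (by omega)
      refine ⟨k', by omega, h, hh, ?_⟩
      rw [rep_of_le hcn, rep_of_le (by omega), ← ej, e]

/-- the `n + 3` cosets cover the group -/
theorem exists_rep (hR : CarRel t n) (H : Subgroup W) (hH : ∀ v, v < n → t v ∈ H)
    (hind : ∀ p : W → Prop, p 1 → (∀ w j, j ≤ n → p w → p (w * t j)) → ∀ w, p w) (w : W) :
    ∃ c, c ≤ n + 2 ∧ ∃ h ∈ H, w = h * rep t n c := by
  refine hind (fun w => ∃ c, c ≤ n + 2 ∧ ∃ h ∈ H, w = h * rep t n c) ?_ ?_ w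
  · exact ⟨0, by omega, 1, H.one_mem, by simp [rep, descWord]⟩
  · rintro w j hj ⟨c, hc, h, hh, rfl⟩
    obtain ⟨c', hc', h', hh', e⟩ := rep_mul_gen hR H hH c j hc hj
    refine ⟨c', hc', h * h', H.mul_mem hh hh', ?_⟩
    rw [mul_assoc, e, mul_assoc]

theorem card_le_of_car (hR : CarRel t n) (H : Subgroup W) [Finite H]
    (hH : ∀ v, v < n → t v ∈ H)
    (hind : ∀ p : W → Prop, p 1 → (∀ w j, j ≤ n → p w → p (w * t j)) → ∀ w, p w) :
    Finite W ∧ Nat.card W ≤ (n + 3) * Nat.card H := by
  have hsurj : Function.Surjective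
      (fun p : Fin (n + 3) × H => (p.2 : W) * rep t n p.1.val) := by
    intro w
    obtain ⟨c, hc, h, hh, rfl⟩ := exists_rep hR H hH hind w
    exact ⟨(⟨c, by omega⟩, ⟨h, hh⟩), rfl⟩
  have hfin : Finite W := Finite.of_surjective _ hsurj
  refine ⟨hfin, ?_⟩
  have := Nat.card_le_card_of_surjective _ hsurj
  rwa [Nat.card_prod, Nat.card_fin] at this

end

end Cfsg.Agent.Helper11.Carmichael
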