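import Mathlib
import Cfsg.Agent.Lib.Helper11.CarmichaelA

/-!
# Carmichael's presentation: the order of the presented group is at most `(m + 2)! / 2`
-/

set_option autoImplicit false

namespace Cfsg.Agent.Helper11.Carmichael

/-- Carmichael's relators on `m` generators. -/
def carRels (m : ℕ) : Set (FreeGroup (Fin m)) :=
  {g : FreeGroup (Fin m) | ∃ i : Fin m, i.val = 0 ∧ g = FreeGroup.of i ^ 3} ∪
   {g | ∃ i : Fin m, 1 ≤ i.val ∧ g = FreeGroup.of i ^ 2} ∪
   {g | ∃ i j : Fin m, j.val = i.val + 1 ∧ g = (FreeGroup.of i * FreeGroup.of j) ^ 3} ∪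
   {g | ∃ i j : Fin m, i.val + 1 < j.val ∧ g = (FreeGroup.of i * FreeGroup.of j) ^ 2}

section grp
variable {G : Type*} [Group G]

theorem comm_of_sq' (a b : G) (ha : a * a = 1) (hb : b * b = 1) (h : (a * b) ^ 2 = 1) :
    a * b = b * a := by
  have h1 : a * b * (a * b) = 1 := by rw [← pow_two]; exact h
  have h2 : a * b = (a * b)⁻¹ := eq_inv_of_mul_eq_one_left h1
  have ha' : a⁻¹ = a := inv_eq_of_mul_eq_one_left ha
  have hb' : b⁻¹ = b := inv_eq_of_mul_eq_one_left hb
  rw [h2, mul_inv_rev, ha', hb']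

theorem braid_of_cube' (a b : G) (ha : a * a = 1) (hb : b * b = 1) (h : (a * b) ^ 3 = 1) :
    a * b * a = b * a * b := by
  have ha' : a⁻¹ = a := inv_eq_of_mul_eq_one_left ha
  have hb' : b⁻¹ = b := inv_eq_of_mul_eq_one_left hb
  have h1 : (a * b * a) * (b * a * b) = 1 := by
    have : (a * b) ^ 3 = (a * b * a) * (b * a * b) := by
      rw [pow_succ, pow_two]; simp only [mul_assoc]
    rw [← this]; exact h
  have h2 : a * b * a = (b * a * b)⁻¹ := eq_inv_of_mul_eq_one_left h1
  rw [h2, mul_inv_rev, mul_inv_rev, ha', hb', mul_assoc]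

theorem inv_of_sq (a b : G) (hb : b * b = 1) (h : (a * b) ^ 2 = 1) : b * a * b = a⁻¹ := by
  have h1 : a * (b * a * b) = 1 := by
    have : (a * b) ^ 2 = a * (b * a * b) := by
      rw [pow_two]; simp only [mul_assoc]
    rw [← this]; exact h
  exact eq_inv_of_mul_eq_one_right h1

theorem braid_zero (a b : G) (hb : b * b = 1) (h : (a * b) ^ 3 = 1) :
    b * a * b = a⁻¹ * b * a⁻¹ := by
  have hb' : b⁻¹ = b := inv_eq_of_mul_eq_one_left hb
  have h1 : a * (b * a * b) * (a * b) = 1 := by
    have : (a * b) ^ 3 = a * (b * a * b) * (a * b) := by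
      rw [pow_succ, pow_two]; simp only [mul_assoc]
    rw [← this]; exact h
  have h2 : a * (b * a * b) = (a * b)⁻¹ := eq_inv_of_mul_eq_one_left h1
  have h3 : b * a * b = a⁻¹ * (a * b)⁻¹ := by
    rw [← h2, inv_mul_cancel_left]
  rw [h3, mul_inv_rev, hb', mul_assoc]

end grp

/-- the generators of the presented group, indexed by `ℕ` -/
noncomputable def tgen (m : ℕ) (v : ℕ) : PresentedGroup (carRels m) :=
  if h : v < m then PresentedGroup.of ⟨v, h⟩ else 1

theorem tgen_of_lt (m v : ℕ) (h : v < m) : tgen m v = PresentedGroup.of ⟨v, h⟩ := by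
  unfold tgen; rw [dif_pos h]

theorem rel_cube (m : ℕ) (i : Fin m) (hi : i.val = 0) :
    (PresentedGroup.of i : PresentedGroup (carRels m)) ^ 3 = 1 := by
  have hmem : FreeGroup.of i ^ 3 ∈ carRels m :=
    Or.inl (Or.inl (Or.inl ⟨i, hi, rfl⟩))
  have := PresentedGroup.one_of_mem hmem
  rwa [map_pow] at this

theorem rel_sq (m : ℕ) (i : Fin m) (hi : 1 ≤ i.val) :
    (PresentedGroup.of i : PresentedGroup (carRels m)) ^ 2 = 1 := by
  have hmem : FreeGroup.of i ^ 2 ∈ carRels m :=
    Or.inl (Or.inl (Or.inr ⟨i, hi, rfl⟩))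
  have := PresentedGroup.one_of_mem hmem
  rwa [map_pow] at this

theorem rel_adj (m : ℕ) (i j : Fin m) (hij : j.val = i.val + 1) :
    ((PresentedGroup.of i : PresentedGroup (carRels m)) * PresentedGroup.of j) ^ 3 = 1 := by
  have hmem : (FreeGroup.of i * FreeGroup.of j) ^ 3 ∈ carRels m :=
    Or.inl (Or.inr ⟨i, j, hij, rfl⟩)
  have := PresentedGroup.one_of_mem hmem
  rwa [map_pow, map_mul] at this

theorem rel_far (m : ℕ) (i j : Fin m) (hij : i.val + 1 < j.val) :
    ((PresentedGroup.of i : PresentedGroup (carRels m)) * PresentedGroup.of j) ^ 2 = 1 := by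
  have hmem : (FreeGroup.of i * FreeGroup.of j) ^ 2 ∈ carRels m :=
    Or.inr ⟨i, j, hij, rfl⟩
  have := PresentedGroup.one_of_mem hmem
  rwa [map_pow, map_mul] at this

theorem tgen_sq (m v : ℕ) (hv1 : 1 ≤ v) (hv : v < m) : tgen m v * tgen m v = 1 := by
  rw [tgen_of_lt m v hv, ← pow_two]
  exact rel_sq m ⟨v, hv⟩ hv1

theorem carRel_tgen (n : ℕ) : CarRel (tgen (n + 1)) n := by
  refine ⟨?_, ?_, ?_, ?_, ?_, ?_⟩
  · rw [tgen_of_lt _ _ (by omega : 0 < n + 1)]
    have := rel_cube (n + 1) ⟨0, by omega⟩ rfl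
    rw [pow_succ, pow_two] at this
    exact this
  · intro v hv1 hv
    exact tgen_sq _ v hv1 (by omega)
  · intro u v hu hv huv
    apply comm_of_sq' _ _ (tgen_sq _ u hu (by omega)) (tgen_sq _ v (by omega) (by omega))
    rw [tgen_of_lt _ _ (by omega : u < n + 1), tgen_of_lt _ _ (by omega : v < n + 1)]
    exact rel_far (n + 1) ⟨u, by omega⟩ ⟨v, by omega⟩ (by simp; omega)
  · intro u hu1 hu
    apply braid_of_cube' _ _ (tgen_sq _ u hu1 (by omega)) (tgen_sq _ (u + 1) (by omega) (by omega))
    rw [tgen_of_lt _ _ (by omega : u < n + 1), tgen_of_lt _ _ (by omega : u + 1 < n + 1)]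
    exact rel_adj (n + 1) ⟨u, by omega⟩ ⟨u + 1, by omega⟩ rfl
  · intro v hv2 hv
    apply inv_of_sq _ _ (tgen_sq _ v (by omega) (by omega))
    rw [tgen_of_lt _ _ (by omega : 0 < n + 1), tgen_of_lt _ _ (by omega : v < n + 1)]
    exact rel_far (n + 1) ⟨0, by omega⟩ ⟨v, by omega⟩ (by simp; omega)
  · intro hn
    apply braid_zero _ _ (tgen_sq _ 1 le_rfl (by omega))
    rw [tgen_of_lt _ _ (by omega : 0 < n + 1), tgen_of_lt _ _ (by omega : 1 < n + 1)]
    exact rel_adj (n + 1) ⟨0, by omega⟩ ⟨1, by omega⟩ rfl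

/-- the inclusion of the group on `m` generators into that on `m + 1` generators -/
noncomputable def incl (m : ℕ) : PresentedGroup (carRels m) →* PresentedGroup (carRels (m + 1)) :=
  PresentedGroup.toGroup (f := fun i : Fin m => (PresentedGroup.of i.castSucc :
      PresentedGroup (carRels (m + 1)))) (by
    intro r hr
    rcases hr with ((⟨i, hi, rfl⟩ | ⟨i, hi, rfl⟩) | ⟨i, j, hij, rfl⟩) | ⟨i, j, hij, rfl⟩
    · rw [map_pow, FreeGroup.lift_apply_of]
      exact rel_cube (m + 1) i.castSucc (by simpa using hi)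
    · rw [map_pow, FreeGroup.lift_apply_of]
      exact rel_sq (m + 1) i.castSucc (by simpa using hi)
    · rw [map_pow, map_mul, FreeGroup.lift_apply_of, FreeGroup.lift_apply_of]
      exact rel_adj (m + 1) i.castSucc j.castSucc (by simpa using hij)
    · rw [map_pow, map_mul, FreeGroup.lift_apply_of, FreeGroup.lift_apply_of]
      exact rel_far (m + 1) i.castSucc j.castSucc (by simpa using hij))

theorem incl_of (m : ℕ) (i : Fin m) :
    incl m (PresentedGroup.of i) = PresentedGroup.of i.castSucc :=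
  PresentedGroup.toGroup.of _

theorem gen_induction (n : ℕ) (p : PresentedGroup (carRels (n + 1)) → Prop) (h1 : p 1)
    (hstep : ∀ w j, j ≤ n → p w → p (w * tgen (n + 1) j)) : ∀ w, p w := by
  intro w
  have hw : w ∈ Subgroup.closure (Set.range (PresentedGroup.of :
      Fin (n + 1) → PresentedGroup (carRels (n + 1)))) := by
    rw [PresentedGroup.closure_range_of]
    exact Subgroup.mem_top w
  induction hw using Subgroup.closure_induction_right with
  | one => exact h1
  | mul_right x hx y hy ih =>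
    obtain ⟨i, rfl⟩ := hy
    have := hstep x i.val (by omega) ih
    rwa [tgen_of_lt _ _ i.isLt] at this
  | mul_inv_cancel x hx y hy ih =>
    obtain ⟨i, rfl⟩ := hy
    rcases Nat.eq_zero_or_pos i.val with h0 | h0
    · have hc := rel_cube (n + 1) i h0
      have hinv : (PresentedGroup.of i : PresentedGroup (carRels (n + 1)))⁻¹ =
          PresentedGroup.of i * PresentedGroup.of i := by
        apply inv_eq_of_mul_eq_one_left
        rw [← pow_two, ← pow_succ]
        exact hc
      rw [hinv, ← mul_assoc]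
      have s1 := hstep x i.val (by omega) ih
      have s2 := hstep _ i.val (by omega) s1
      rwa [tgen_of_lt _ _ i.isLt] at s2
    · have hc := rel_sq (n + 1) i h0
      have hinv : (PresentedGroup.of i : PresentedGroup (carRels (n + 1)))⁻¹ =
          PresentedGroup.of i := by
        apply inv_eq_of_mul_eq_one_left
        rw [← pow_two]
        exact hc
      rw [hinv]
      have := hstep x i.val (by omega) ih
      rwa [tgen_of_lt _ _ i.isLt] at this

theorem finite_card (m : ℕ) :
    Finite (PresentedGroup (carRels m)) ∧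
      2 * Nat.card (PresentedGroup (carRels m)) ≤ (m + 2).factorial := by
  induction m with
  | zero =>
    have hsub : Subsingleton (PresentedGroup (carRels 0)) := by
      have htop : (⊤ : Subgroup (PresentedGroup (carRels 0))) = ⊥ := by
        rw [← PresentedGroup.closure_range_of, Subgroup.closure_eq_bot_iff]
        rintro _ ⟨i, rfl⟩
        exact i.elim0
      refine ⟨fun a b => ?_⟩
      have ha : a ∈ (⊥ : Subgroup (PresentedGroup (carRels 0))) := htop ▸ Subgroup.mem_top a
      have hb : b ∈ (⊥ : Subgroup (PresentedGroup (carRels 0))) := htop ▸ Subgroup.mem_top b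
      rw [Subgroup.mem_bot] at ha hb
      rw [ha, hb]
    refine ⟨inferInstance, ?_⟩
    have := Finite.card_le_one_iff_subsingleton.2 hsub
    simp only [Nat.factorial]
    omega
  | succ n ih =>
    obtain ⟨hfin, hcard⟩ := ih
    set H := (incl n).range with hH
    have hsurj : Function.Surjective (incl n).rangeRestrict := (incl n).rangeRestrict_surjective
    have hHfin : Finite H := Finite.of_surjective _ hsurj
    have hHcard : Nat.card H ≤ Nat.card (PresentedGroup (carRels n)) :=
      Nat.card_le_card_of_surjective _ hsurj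
    have hmem : ∀ v, v < n → tgen (n + 1) v ∈ H := by
      intro v hv
      rw [tgen_of_lt _ _ (by omega)]
      exact ⟨PresentedGroup.of ⟨v, hv⟩, incl_of n ⟨v, hv⟩⟩
    obtain ⟨hfin', hcard'⟩ := card_le_of_car (carRel_tgen n) H hmem (gen_induction n)
    refine ⟨hfin', ?_⟩
    rw [Nat.factorial_succ (n + 2)]
    calc 2 * Nat.card (PresentedGroup (carRels (n + 1)))
        ≤ 2 * ((n + 3) * Nat.card H) := Nat.mul_le_mul_left _ hcard'
      _ = (n + 3) * (2 * Nat.card H) := by ring
      _ ≤ (n + 2 + 1) * (n + 2).factorial :=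
          Nat.mul_le_mul_left _ ((Nat.mul_le_mul_left _ hHcard).trans hcard)

end Cfsg.Agent.Helper11.Carmichael
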