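import Mathlib
import Cfsg.Agent.Lib.Helper11.CarmichaelB

/-!
# Carmichael's presentation: the homomorphism onto the alternating group
-/

set_option autoImplicit false

namespace Cfsg.Agent.Helper11.Carmichael

open Equiv

theorem fin_ne {N a b : ℕ} {ha : a < N} {hb : b < N} (h : a ≠ b) :
    (⟨a, ha⟩ : Fin N) ≠ ⟨b, hb⟩ := fun e => h (Fin.ext_iff.mp e)

theorem three_cycle_cube {N : ℕ} (a b c : Fin N) (hab : a ≠ b) (hac : a ≠ c) (hbc : b ≠ c) :
    (swap a b * swap a c) ^ 3 = 1 := by
  have h3 := Perm.isThreeCycle_swap_mul_swap_same hab hac hbc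
  have := pow_orderOf_eq_one (swap a b * swap a c)
  rwa [h3.orderOf] at this

/-- the adjacent transposition `(k, k + 1)` of `Fin (m + 2)`. -/
def sw (m k : ℕ) (hk : k + 1 < m + 2) : Perm (Fin (m + 2)) :=
  swap ⟨k, by omega⟩ ⟨k + 1, hk⟩

theorem sw_mul_self (m k : ℕ) (hk : k + 1 < m + 2) : sw m k hk * sw m k hk = 1 :=
  swap_mul_self _ _

theorem sw_comm (m k l : ℕ) (hk : k + 1 < m + 2) (hl : l + 1 < m + 2) (hkl : k + 2 ≤ l) :
    sw m k hk * sw m l hl = sw m l hl * sw m k hk := by
  have hd : Perm.Disjoint (sw m k hk) (sw m l hl) := by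
    apply Perm.disjoint_swap_swap
    simp only [List.nodup_cons, List.mem_cons, List.not_mem_nil, or_false, not_or,
      List.nodup_nil, and_true, Fin.ext_iff, not_false_eq_true]
    omega
  exact hd.commute.eq

theorem sw_adj_cube (m k : ℕ) (hk : k + 2 < m + 2) :
    (sw m k (by omega) * sw m (k + 1) hk) ^ 3 = 1 := by
  have e : sw m k (by omega) = swap (⟨k + 1, by omega⟩ : Fin (m + 2)) ⟨k, by omega⟩ :=
    swap_comm _ _
  rw [e]
  unfold sw
  exact three_cycle_cube _ _ _ (fin_ne (by omega)) (fin_ne (by omega)) (fin_ne (by omega))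

/-- the image of the `i`-th generator. -/
def gperm (m : ℕ) (i : Fin m) : Perm (Fin (m + 2)) :=
  sw m 0 (by omega) * sw m (i.val + 1) (by omega)

theorem sq_of_commute {G : Type*} [Group G] (a b : G) (ha : a * a = 1) (hb : b * b = 1)
    (hc : a * b = b * a) : (a * b) ^ 2 = 1 := by
  rw [pow_two]
  calc a * b * (a * b) = a * (b * a) * b := by simp only [mul_assoc]
    _ = a * (a * b) * b := by rw [hc]
    _ = (a * a) * (b * b) := by simp only [mul_assoc]
    _ = 1 := by rw [ha, hb, one_mul]

theorem gperm_mul_of_pos (m : ℕ) (i j : Fin m) (hi : 1 ≤ i.val) :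
    gperm m i * gperm m j = sw m (i.val + 1) (by omega) * sw m (j.val + 1) (by omega) := by
  unfold gperm
  have hc := sw_comm m 0 (i.val + 1) (by omega) (by omega) (by omega)
  calc sw m 0 (by omega) * sw m (i.val + 1) (by omega) *
        (sw m 0 (by omega) * sw m (j.val + 1) (by omega))
      = (sw m 0 (by omega) * sw m (i.val + 1) (by omega)) * sw m 0 (by omega) *
          sw m (j.val + 1) (by omega) := by simp only [mul_assoc]
    _ = (sw m (i.val + 1) (by omega) * sw m 0 (by omega)) * sw m 0 (by omega) *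
          sw m (j.val + 1) (by omega) := by rw [hc]
    _ = sw m (i.val + 1) (by omega) * (sw m 0 (by omega) * sw m 0 (by omega)) *
          sw m (j.val + 1) (by omega) := by simp only [mul_assoc]
    _ = sw m (i.val + 1) (by omega) * sw m (j.val + 1) (by omega) := by
        rw [sw_mul_self, mul_one]

theorem conj_zero (m : ℕ) (hm : 1 ≤ m) :
    sw m 0 (by omega) * sw m 1 (by omega) * sw m 0 (by omega) =
      swap (⟨0, by omega⟩ : Fin (m + 2)) ⟨2, by omega⟩ := by
  have h := swap_mul_swap_mul_swap (x := (⟨2, by omega⟩ : Fin (m + 2)))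
    (y := ⟨1, by omega⟩) (z := ⟨0, by omega⟩) (fin_ne (by omega)) (fin_ne (by omega))
  have e1 : sw m 0 (by omega) = swap (⟨1, by omega⟩ : Fin (m + 2)) ⟨0, by omega⟩ :=
    swap_comm _ _
  have e2 : sw m 1 (by omega) = swap (⟨2, by omega⟩ : Fin (m + 2)) ⟨1, by omega⟩ :=
    swap_comm _ _
  rw [e1, e2, h]

theorem gperm_mul_of_zero (m : ℕ) (i j : Fin m) (hi : i.val = 0) :
    gperm m i * gperm m j =
      swap (⟨0, by omega⟩ : Fin (m + 2)) ⟨2, by omega⟩ * sw m (j.val + 1) (by omega) := by
  have hm : 1 ≤ m := by have := i.isLt; omega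
  rw [← conj_zero m hm]
  unfold gperm
  have e : sw m (i.val + 1) (by omega) = sw m 1 (by omega) := by
    unfold sw
    congr 2 <;> simp [hi]
  rw [e]
  simp only [mul_assoc]

/-- the relators hold for the permutations `gperm`. -/
theorem gperm_rels (m : ℕ) : ∀ r ∈ carRels m, FreeGroup.lift (gperm m) r = 1 := by
  intro r hr
  rcases hr with ((⟨i, hi, rfl⟩ | ⟨i, hi, rfl⟩) | ⟨i, j, hij, rfl⟩) | ⟨i, j, hij, rfl⟩
  · rw [map_pow, FreeGroup.lift_apply_of]
    have e1 : sw m 0 (by omega) = swap (⟨1, by omega⟩ : Fin (m + 2)) ⟨0, by omega⟩ :=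
      swap_comm _ _
    have e : gperm m i = swap (⟨1, by omega⟩ : Fin (m + 2)) ⟨0, by omega⟩ *
        swap (⟨1, by omega⟩ : Fin (m + 2)) ⟨2, by omega⟩ := by
      unfold gperm
      rw [e1]
      unfold sw
      congr 2 <;> simp [hi]
    rw [e]
    exact three_cycle_cube _ _ _ (fin_ne (by omega)) (fin_ne (by omega)) (fin_ne (by omega))
  · rw [map_pow, FreeGroup.lift_apply_of]
    exact sq_of_commute _ _ (sw_mul_self _ _ _) (sw_mul_self _ _ _)
      (sw_comm m 0 (i.val + 1) (by omega) (by omega) (by omega))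
  · rw [map_pow, map_mul, FreeGroup.lift_apply_of, FreeGroup.lift_apply_of]
    rcases Nat.eq_zero_or_pos i.val with h0 | h0
    · rw [gperm_mul_of_zero m i j h0]
      have e1 : swap (⟨0, by omega⟩ : Fin (m + 2)) ⟨2, by have := j.isLt; omega⟩ =
          swap (⟨2, by have := j.isLt; omega⟩ : Fin (m + 2)) ⟨0, by omega⟩ := swap_comm _ _
      have e2 : sw m (j.val + 1) (by omega) =
          swap (⟨2, by have := j.isLt; omega⟩ : Fin (m + 2)) ⟨3, by have := j.isLt; omega⟩ := by
        unfold sw
        congr 2 <;> simp [hij, h0]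
      rw [e1, e2]
      exact three_cycle_cube _ _ _ (fin_ne (by omega)) (fin_ne (by omega)) (fin_ne (by omega))
    · rw [gperm_mul_of_pos m i j h0]
      have e2 : sw m (j.val + 1) (by omega) = sw m (i.val + 1 + 1) (by have := j.isLt; omega) := by
        unfold sw
        congr 2 <;> simp [hij]
      rw [e2]
      exact sw_adj_cube m (i.val + 1) (by have := j.isLt; omega)
  · rw [map_pow, map_mul, FreeGroup.lift_apply_of, FreeGroup.lift_apply_of]
    rcases Nat.eq_zero_or_pos i.val with h0 | h0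
    · rw [gperm_mul_of_zero m i j h0]
      apply sq_of_commute _ _ (swap_mul_self _ _) (sw_mul_self _ _ _)
      have hd : Perm.Disjoint (swap (⟨0, by omega⟩ : Fin (m + 2)) ⟨2, by have := j.isLt; omega⟩)
          (sw m (j.val + 1) (by omega)) := by
        apply Perm.disjoint_swap_swap
        simp only [List.nodup_cons, List.mem_cons, List.not_mem_nil, or_false, not_or,
          List.nodup_nil, and_true, Fin.ext_iff, not_false_eq_true]
        omega
      exact hd.commute.eq
    · rw [gperm_mul_of_pos m i j h0]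
      exact sq_of_commute _ _ (sw_mul_self _ _ _) (sw_mul_self _ _ _)
        (sw_comm m (i.val + 1) (j.val + 1) (by omega) (by omega) (by omega))

end Cfsg.Agent.Helper11.Carmichael
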