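import Mathlib
import Cfsg.Agent.Lib.Helper11.CarmichaelC

/-!
# Carmichael's presentation of the alternating groups
-/

set_option autoImplicit false

namespace Cfsg.Agent.Helper11.Carmichael

open Equiv

/-- the homomorphism to the symmetric group -/
noncomputable def toPermHom (m : ℕ) : PresentedGroup (carRels m) →* Perm (Fin (m + 2)) :=
  PresentedGroup.toGroup (gperm_rels m)

theorem toPermHom_of (m : ℕ) (i : Fin m) : toPermHom m (PresentedGroup.of i) = gperm m i :=
  PresentedGroup.toGroup.of _

theorem range_eq_closure (m : ℕ) :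
    (toPermHom m).range = Subgroup.closure (Set.range (gperm m)) := by
  rw [MonoidHom.range_eq_map, ← PresentedGroup.closure_range_of, MonoidHom.map_closure]
  congr 1
  ext x
  constructor
  · rintro ⟨_, ⟨i, rfl⟩, rfl⟩
    exact ⟨i, (toPermHom_of m i).symm⟩
  · rintro ⟨i, rfl⟩
    exact ⟨_, ⟨i, rfl⟩, toPermHom_of m i⟩

theorem sign_sw (m k : ℕ) (hk : k + 1 < m + 2) : Perm.sign (sw m k hk) = -1 :=
  Perm.sign_swap (fin_ne (by omega))

theorem gperm_mem_alt (m : ℕ) (i : Fin m) : gperm m i ∈ alternatingGroup (Fin (m + 2)) := by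
  rw [Perm.mem_alternatingGroup]
  unfold gperm
  rw [Perm.sign_mul, sign_sw, sign_sw]
  norm_num

theorem range_le_alt (m : ℕ) : (toPermHom m).range ≤ alternatingGroup (Fin (m + 2)) := by
  rw [range_eq_closure, Subgroup.closure_le]
  rintro _ ⟨i, rfl⟩
  exact gperm_mem_alt m i

theorem gperm_mem_range (m : ℕ) (i : Fin m) : gperm m i ∈ (toPermHom m).range :=
  ⟨_, toPermHom_of m i⟩

theorem conj_gperm (m : ℕ) (i : Fin m) :
    sw m 0 (by omega) * gperm m i * sw m 0 (by omega) = (gperm m i)⁻¹ := by
  unfold gperm
  have h1 : (sw m 0 (by omega))⁻¹ = sw m 0 (by omega) := swap_inv _ _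
  have h2 : (sw m (i.val + 1) (by omega))⁻¹ = sw m (i.val + 1) (by omega) := swap_inv _ _
  rw [mul_inv_rev, h1, h2, ← mul_assoc, sw_mul_self, one_mul]

/-- the transposition `(0 1)` normalises the range. -/
theorem conj_mem_range (m : ℕ) (r : Perm (Fin (m + 2))) (hr : r ∈ (toPermHom m).range) :
    sw m 0 (by omega) * r * sw m 0 (by omega) ∈ (toPermHom m).range := by
  have hcc := sw_mul_self m 0 (by omega)
  rw [range_eq_closure] at hr
  induction hr using Subgroup.closure_induction with
  | mem x hx =>
    obtain ⟨i, rfl⟩ := hx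
    rw [conj_gperm]
    exact Subgroup.inv_mem _ (gperm_mem_range m i)
  | one =>
    rw [mul_one, hcc]
    exact Subgroup.one_mem _
  | mul x y _ _ hx hy =>
    have e : sw m 0 (by omega) * (x * y) * sw m 0 (by omega) =
        (sw m 0 (by omega) * x * sw m 0 (by omega)) *
          (sw m 0 (by omega) * y * sw m 0 (by omega)) := by
      calc sw m 0 (by omega) * (x * y) * sw m 0 (by omega)
          = sw m 0 (by omega) * x * 1 * y * sw m 0 (by omega) := by
            simp only [mul_assoc, one_mul]
        _ = sw m 0 (by omega) * x * (sw m 0 (by omega) * sw m 0 (by omega)) * y *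
              sw m 0 (by omega) := by rw [hcc]
        _ = _ := by simp only [mul_assoc]
    rw [e]
    exact Subgroup.mul_mem _ hx hy
  | inv x _ hx =>
    have h1 : (sw m 0 (by omega))⁻¹ = sw m 0 (by omega) := swap_inv _ _
    have e : sw m 0 (by omega) * x⁻¹ * sw m 0 (by omega) =
        (sw m 0 (by omega) * x * sw m 0 (by omega))⁻¹ := by
      rw [mul_inv_rev, mul_inv_rev, h1, mul_assoc]
    rw [e]
    exact Subgroup.inv_mem _ hx

/-- every permutation lies in the range or in its other coset. -/
theorem mem_range_or (m : ℕ) (σ : Perm (Fin (m + 2))) :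
    σ ∈ (toPermHom m).range ∨ sw m 0 (by omega) * σ ∈ (toPermHom m).range := by
  have hcc := sw_mul_self m 0 (by omega)
  have hσ : σ ∈ Submonoid.closure
      (Set.range fun i : Fin (m + 1) => swap i.castSucc i.succ) := by
    rw [Perm.mclosure_swap_castSucc_succ (m + 1)]
    exact Submonoid.mem_top σ
  induction hσ using Submonoid.closure_induction with
  | mem x hx =>
    obtain ⟨i, rfl⟩ := hx
    right
    show sw m 0 (by omega) * swap i.castSucc i.succ ∈ (toPermHom m).range
    rcases Nat.eq_zero_or_pos i.val with h0 | h0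
    · have e : swap i.castSucc i.succ = sw m 0 (by omega) := by
        unfold sw
        congr 1 <;> exact Fin.ext (by simp [h0])
      rw [e, hcc]
      exact Subgroup.one_mem _
    · have hi : i.val - 1 < m := by have := i.isLt; omega
      have e : sw m 0 (by omega) * swap i.castSucc i.succ = gperm m ⟨i.val - 1, hi⟩ := by
        unfold gperm
        congr 1
        unfold sw
        congr 1 <;> exact Fin.ext (by simp; omega)
      rw [e]
      exact gperm_mem_range m _
  | one => exact Or.inl (Subgroup.one_mem _)
  | mul x y _ _ hx hy =>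
    rcases hx with hx | hx <;> rcases hy with hy | hy
    · exact Or.inl (Subgroup.mul_mem _ hx hy)
    · right
      have e : sw m 0 (by omega) * (x * y) =
          (sw m 0 (by omega) * x * sw m 0 (by omega)) * (sw m 0 (by omega) * y) := by
        calc sw m 0 (by omega) * (x * y) = sw m 0 (by omega) * x * 1 * y := by
              simp only [mul_assoc, one_mul]
          _ = sw m 0 (by omega) * x * (sw m 0 (by omega) * sw m 0 (by omega)) * y := by rw [hcc]
          _ = _ := by simp only [mul_assoc]
      rw [e]
      exact Subgroup.mul_mem _ (conj_mem_range m x hx) hy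
    · right
      rw [← mul_assoc]
      exact Subgroup.mul_mem _ hx hy
    · left
      have e : x * y = (sw m 0 (by omega) * (sw m 0 (by omega) * x) * sw m 0 (by omega)) *
          (sw m 0 (by omega) * y) := by
        calc x * y = 1 * x * 1 * y := by simp only [one_mul, mul_one]
          _ = (sw m 0 (by omega) * sw m 0 (by omega)) * x *
                (sw m 0 (by omega) * sw m 0 (by omega)) * y := by rw [hcc]
          _ = _ := by simp only [mul_assoc]
      rw [e]
      exact Subgroup.mul_mem _ (conj_mem_range m _ hx) hy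

theorem alt_le_range (m : ℕ) : alternatingGroup (Fin (m + 2)) ≤ (toPermHom m).range := by
  intro σ hσ
  rcases mem_range_or m σ with h | h
  · exact h
  · exfalso
    have h1 := range_le_alt m h
    rw [Perm.mem_alternatingGroup] at h1 hσ
    rw [Perm.sign_mul, sign_sw, hσ] at h1
    norm_num at h1

/-- the homomorphism to the alternating group -/
noncomputable def toAltHom (m : ℕ) :
    PresentedGroup (carRels m) →* alternatingGroup (Fin (m + 2)) :=
  (toPermHom m).codRestrict (alternatingGroup (Fin (m + 2)))
    (fun x => range_le_alt m ⟨x, rfl⟩)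

theorem toAltHom_surjective (m : ℕ) : Function.Surjective (toAltHom m) := by
  rintro ⟨σ, hσ⟩
  obtain ⟨x, hx⟩ := alt_le_range m hσ
  exact ⟨x, Subtype.ext hx⟩

theorem toAltHom_bijective (m : ℕ) : Function.Bijective (toAltHom m) := by
  obtain ⟨hfin, hcard⟩ := finite_card m
  apply (toAltHom_surjective m).bijective_of_nat_card_le
  have hnt : Nontrivial (Fin (m + 2)) := Fin.nontrivial_iff_two_le.mpr (by omega)
  have hA : 2 * Nat.card (alternatingGroup (Fin (m + 2))) = (m + 2).factorial := by
    rw [two_mul_nat_card_alternatingGroup, Nat.card_perm, Nat.card_eq_fintype_card,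
      Fintype.card_fin]
  omega

/-- Carmichael's presentation. -/
theorem carmichael (m : ℕ) :
    Nonempty (PresentedGroup (carRels m) ≃* alternatingGroup (Fin (m + 2))) :=
  ⟨MulEquiv.ofBijective (toAltHom m) (toAltHom_bijective m)⟩

end Cfsg.Agent.Helper11.Carmichael
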