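import Mathlib
import Cfsg.Agent.Lib.Lead.ChevFactsAll

/-!
The Chevalley group is generated by the root elements of the fundamental roots and of their negatives.
-/

set_option autoImplicit false

namespace Cfsg.Agent.Helper11.ChevGen

open Cfsg Cfsg.Lie Cfsg.Agent.Lead.Chev

variable {F : Type*} [Field F]

/-- the subgroup generated by the fundamental root elements and their negatives -/
def simpleGen (D : ChevalleyDatum) (F : Type*) [Field F] : Subgroup (GL D.Idx F) :=
  Subgroup.closure {g | ∃ (i : Fin D.rank) (t : F),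
    (g : Matrix D.Idx D.Idx F) = D.x F (D.simple i) t ∨
    (g : Matrix D.Idx D.Idx F) = D.x F (D.neg (D.simple i)) t}

theorem xGL_simple_mem (D : ChevalleyDatum) (hX : XAdd D F) (i : ℕ) (hi : i < D.rank) (t : F) :
    xGL D hX (D.simple i) t ∈ simpleGen D F :=
  Subgroup.subset_closure ⟨⟨i, hi⟩, t, Or.inl rfl⟩

theorem xGL_neg_simple_mem (D : ChevalleyDatum) (hX : XAdd D F) (i : ℕ) (hi : i < D.rank) (t : F) :
    xGL D hX (D.neg (D.simple i)) t ∈ simpleGen D F :=
  Subgroup.subset_closure ⟨⟨i, hi⟩, t, Or.inr rfl⟩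

theorem nGL_simple_mem (D : ChevalleyDatum) (hX : XAdd D F) (i : ℕ) (hi : i < D.rank) :
    nGL D hX (D.simple i) ∈ simpleGen D F := by
  unfold nGL ChevalleyDatum.nWord
  rw [wordGL_cons, wordGL_cons, wordGL_cons, wordGL_nil, mul_one]
  exact mul_mem (xGL_simple_mem D hX i hi _)
    (mul_mem (xGL_neg_simple_mem D hX i hi _) (xGL_simple_mem D hX i hi _))

theorem nWordGL_mem_simpleGen (D : ChevalleyDatum) (hX : XAdd D F) (w : List ℕ)
    (hw : ∀ j ∈ w, j < D.rank) : nWordGL D hX w ∈ simpleGen D F := by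
  induction w with
  | nil => rw [nWordGL_nil]; exact one_mem _
  | cons i w ih =>
    rw [nWordGL_cons]
    exact mul_mem (nGL_simple_mem D hX i (hw i List.mem_cons_self))
      (ih fun j hj => hw j (List.mem_cons_of_mem _ hj))

/-- every root element is a conjugate, under a word in the fundamental `n_p`, of a fundamental root element -/
theorem exists_conj_simple (D : ChevalleyDatum) (hF : ChevFacts D F) (r : ℕ) (hr : r < D.nroots) :
    ∃ i < D.rank, ∃ w : List ℕ, (∀ j ∈ w, j < D.rank) ∧ reflWord D w (D.simple i) = r ∧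
      ∃ ε : F, (ε = 1 ∨ ε = -1) ∧ ∀ t : F,
        nWordGL D hF.xadd w * xGL D hF.xadd (D.simple i) (ε * t) * (nWordGL D hF.xadd w)⁻¹ =
          xGL D hF.xadd r t := by
  obtain ⟨i, hi, w, hw, hwr⟩ := hF.orbit r hr
  refine ⟨i, hi, w, hw, hwr, ((signWord D (etaOf D) w (D.simple i) : ℤ) : F), ?_, ?_⟩
  · rcases signWord_sq D (etaOf D) w (fun j hj s => (hF.nsimple j (hw j hj)).sign s) (D.simple i) with h | h
    · left; rw [h]; simp
    · right; rw [h]; simp
  · intro t
    have hc := nWordGL_conj D hF.xadd (etaOf D) hF.nsimple w hw (D.simple i) (hF.simple_lt i hi)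
      (((signWord D (etaOf D) w (D.simple i) : ℤ) : F) * t)
    rw [hc, hwr, ← mul_assoc]
    have : ((signWord D (etaOf D) w (D.simple i) : ℤ) : F) *
        ((signWord D (etaOf D) w (D.simple i) : ℤ) : F) = 1 := by
      rcases signWord_sq D (etaOf D) w (fun j hj s => (hF.nsimple j (hw j hj)).sign s) (D.simple i) with h | h
      · rw [h]; simp
      · rw [h]; simp
    rw [this, one_mul]

theorem group_le_simpleGen (D : ChevalleyDatum) (hF : ChevFacts D F) : D.group F ≤ simpleGen D F := by
  apply group_le_of D hF.xadd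
  intro r hr t
  obtain ⟨i, hi, w, hw, -, ε, -, hc⟩ := exists_conj_simple D hF r hr
  rw [← hc t]
  exact mul_mem (mul_mem (nWordGL_mem_simpleGen D hF.xadd w hw) (xGL_simple_mem D hF.xadd i hi _))
    (inv_mem (nWordGL_mem_simpleGen D hF.xadd w hw))

theorem simpleGen_le_group (D : ChevalleyDatum) (hF : ChevFacts D F) : simpleGen D F ≤ D.group F := by
  unfold simpleGen
  rw [Subgroup.closure_le]
  rintro g ⟨i, t, h | h⟩
  · have : g = xGL D hF.xadd (D.simple i) t := Units.ext h
    rw [this]
    exact xGL_mem_group D hF.xadd _ _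
  · have : g = xGL D hF.xadd (D.neg (D.simple i)) t := Units.ext h
    rw [this]
    exact xGL_mem_group D hF.xadd _ _

/-- the generators inside the group -/
def simpleGenSet (D : ChevalleyDatum) (F : Type*) [Field F] : Set ↥(D.group F) :=
  {y | ∃ (i : Fin D.rank) (t : F),
    ((y : GL D.Idx F) : Matrix D.Idx D.Idx F) = D.x F (D.simple i) t ∨
    ((y : GL D.Idx F) : Matrix D.Idx D.Idx F) = D.x F (D.neg (D.simple i)) t}

theorem closure_simpleGenSet (D : ChevalleyDatum) (hF : ChevFacts D F) :
    Subgroup.closure (simpleGenSet D F) = ⊤ := by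
  rw [eq_top_iff]
  intro y _
  have hy : (y : GL D.Idx F) ∈ (Subgroup.closure (simpleGenSet D F)).map (D.group F).subtype := by
    rw [MonoidHom.map_closure]
    have h1 : simpleGen D F ≤ Subgroup.closure ((D.group F).subtype '' simpleGenSet D F) := by
      unfold simpleGen
      apply Subgroup.closure_mono
      rintro g ⟨i, t, h⟩
      have hg : g ∈ D.group F := by
        apply simpleGen_le_group D hF
        exact Subgroup.subset_closure ⟨i, t, h⟩
      exact ⟨⟨g, hg⟩, ⟨i, t, h⟩, rfl⟩
    exact h1 (group_le_simpleGen D hF y.2)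
  obtain ⟨y', hy', hyy⟩ := hy
  have : y' = y := Subtype.ext hyy
  rw [← this]
  exact hy'

end Cfsg.Agent.Helper11.ChevGen
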