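import Mathlib
import Cfsg.Agent.Lib.Helper11.ChevSimpleGen
import Cfsg.Prelude.Def_ChevAutomorphisms

/-!
A symmetry of a simply laced Dynkin diagram and the words in the fundamental reflections: the root
`w^π(p_{π i})` is the root whose coefficients are those of `w(p_i)` permuted by `π`.
-/

set_option autoImplicit false

namespace Cfsg.Agent.Helper11.ChevGraph

open Cfsg Cfsg.Lie Cfsg.Agent.Lead.Chev

/-- coefficient of the coroot of the root `s` at the node `k` -/
def cf (D : ChevalleyDatum) (s k : ℕ) : ℤ := (D.coroot.getD s #[]).getD k 0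

/-- the check that the diagram is simply laced -/
def slChk (D : ChevalleyDatum) : Bool :=
  (List.range D.rank).all fun a => (List.range D.rank).all fun b =>
    if a = b then decide (D.cartan a (D.simple b) = 2)
    else (decide (D.cartan a (D.simple b) = 0) || decide (D.cartan a (D.simple b) = -1)) &&
      decide (D.cartan a (D.simple b) = D.cartan b (D.simple a))

/-- the check that roots are determined by their coefficients -/
def injChk (D : ChevalleyDatum) : Bool :=
  (List.range D.nroots).all fun s => (List.range D.nroots).all fun t =>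
    decide (s = t) || (List.range D.rank).any fun k => decide (cf D s k ≠ cf D t k)

theorem slChk_D4 : slChk chevD4 = true := by decide +kernel
theorem slChk_E6 : slChk chevE6 = true := by decide +kernel
theorem injChk_D4 : injChk chevD4 = true := by decide +kernel
theorem injChk_E6 : injChk chevE6 = true := by decide +kernel

theorem sl_of_chk (D : ChevalleyDatum) (h : slChk D = true) (a b : ℕ) (ha : a < D.rank) (hb : b < D.rank) :
    (a = b → D.cartan a (D.simple b) = 2) ∧
    (a ≠ b → (D.cartan a (D.simple b) = 0 ∨ D.cartan a (D.simple b) = -1) ∧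
      D.cartan a (D.simple b) = D.cartan b (D.simple a)) := by
  unfold slChk at h
  rw [List.all_eq_true] at h
  have h1 := h a (List.mem_range.2 ha)
  rw [List.all_eq_true] at h1
  have h2 := h1 b (List.mem_range.2 hb)
  constructor
  · intro hab
    rw [if_pos hab] at h2
    exact of_decide_eq_true h2
  · intro hab
    rw [if_neg hab] at h2
    simp only [Bool.and_eq_true, Bool.or_eq_true, decide_eq_true_eq] at h2
    exact h2

theorem inj_of_chk (D : ChevalleyDatum) (h : injChk D = true) (s t : ℕ) (hs : s < D.nroots)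
    (ht : t < D.nroots) (hst : ∀ k < D.rank, cf D s k = cf D t k) : s = t := by
  unfold injChk at h
  rw [List.all_eq_true] at h
  have h1 := h s (List.mem_range.2 hs)
  rw [List.all_eq_true] at h1
  have h2 := h1 t (List.mem_range.2 ht)
  simp only [Bool.or_eq_true, decide_eq_true_eq, List.any_eq_true, List.mem_range] at h2
  rcases h2 with h2 | ⟨k, hk, hne⟩
  · exact h2
  · exact absurd (hst k hk) hne

variable (D : ChevalleyDatum)

/-- the extension of a permutation of the nodes to all natural numbers -/
def ext (π : Equiv.Perm (Fin D.rank)) (j : ℕ) : ℕ := if h : j < D.rank then (π ⟨j, h⟩ : ℕ) else j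

theorem ext_lt (π : Equiv.Perm (Fin D.rank)) (j : ℕ) (hj : j < D.rank) : ext D π j < D.rank := by
  unfold ext
  rw [dif_pos hj]
  exact (π ⟨j, hj⟩).2

theorem ext_fin (π : Equiv.Perm (Fin D.rank)) (j : Fin D.rank) : ext D π j = (π j : ℕ) := by
  unfold ext
  rw [dif_pos j.2]

/-- a diagram symmetry of a simply laced diagram preserves the Cartan integers -/
theorem cartan_perm (hsl : slChk D = true) (π : Equiv.Perm (Fin D.rank)) (hπ : D.IsDiagramSymmetry π)
    (a b : Fin D.rank) : D.cartan (π a) (D.simple (π b)) = D.cartan a (D.simple b) := by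
  by_cases hab : a = b
  · subst hab
    rw [(sl_of_chk D hsl _ _ (π a).2 (π a).2).1 rfl, (sl_of_chk D hsl _ _ a.2 a.2).1 rfl]
  · have hab' : (a : ℕ) ≠ b := fun h => hab (Fin.ext h)
    have hπab : π a ≠ π b := fun h => hab (π.injective h)
    have hπab' : ((π a : Fin D.rank) : ℕ) ≠ (π b : Fin D.rank) := fun h => hπab (Fin.ext h)
    obtain ⟨h1, h2⟩ := (sl_of_chk D hsl _ _ a.2 b.2).2 hab'
    obtain ⟨h3, h4⟩ := (sl_of_chk D hsl _ _ (π a).2 (π b).2).2 hπab'
    have hb := hπ a b hab
    unfold ChevalleyDatum.bonds at hb
    rw [← h4, ← h2] at hb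
    rcases h1 with h1 | h1 <;> rcases h3 with h3 | h3 <;> rw [h1, h3] at hb ⊢ <;> norm_num at hb

theorem list_sum_range_eq (n : ℕ) (f : ℕ → ℤ) : ((List.range n).map f).sum = ∑ i : Fin n, f i := by
  induction n with
  | zero => simp
  | succ n ih =>
    rw [List.range_succ, List.map_append, List.sum_append, ih, Fin.sum_univ_castSucc]
    simp

/-- the sum `Σ_k c_k(s) A_{p_k, p_j}` is unchanged under a diagram symmetry -/
theorem corSum_perm (hsl : slChk D = true) (π : Equiv.Perm (Fin D.rank)) (hπ : D.IsDiagramSymmetry π)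
    (s s' : ℕ) (j : Fin D.rank) (h : ∀ k : Fin D.rank, cf D s' (π k) = cf D s k) :
    corSum D s' (D.simple (π j)) = corSum D s (D.simple j) := by
  unfold corSum
  rw [list_sum_range_eq, list_sum_range_eq]
  rw [← Equiv.sum_comp π]
  apply Finset.sum_congr rfl
  intro k _
  have := h k
  unfold cf at this
  rw [this, cartan_perm D hsl π hπ]

variable {D}

/-- the coefficients of `w^π(p_{π i})` are those of `w(p_i)` permuted by `π` -/
theorem cf_reflWord_perm (η : ℕ → ℕ → ℤ) (hfa : ∀ i < D.rank, NXFacts D (η i) i)
    (hsl' : ∀ i < D.rank, D.simple i < D.nroots) (hR : ReflFacts D)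
    (hsl : slChk D = true) (π : Equiv.Perm (Fin D.rank)) (hπ : D.IsDiagramSymmetry π)
    (i : Fin D.rank) (w : List ℕ) (hw : ∀ j ∈ w, j < D.rank) (k : Fin D.rank) :
    cf D (reflWord D (w.map (ext D π)) (D.simple (π i))) (π k) =
      cf D (reflWord D w (D.simple i)) k := by
  induction w generalizing k with
  | nil =>
    simp only [List.map_nil, reflWord]
    unfold cf
    rw [hR.simple_coroot _ (π i).2 _ (π k).2, hR.simple_coroot _ i.2 _ k.2]
    by_cases hki : k = i
    · subst hki
      rw [if_pos rfl, if_pos rfl]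
    · rw [if_neg (fun h => hki (Fin.ext h)), if_neg (fun h => hki (π.injective (Fin.ext h)))]
  | cons j w ih =>
    have hw' : ∀ j ∈ w, j < D.rank := fun j hj => hw j (List.mem_cons_of_mem _ hj)
    have hj : j < D.rank := hw j List.mem_cons_self
    have hw'' : ∀ j ∈ w.map (ext D π), j < D.rank := by
      intro a ha
      rw [List.mem_map] at ha
      obtain ⟨b, hb, rfl⟩ := ha
      exact ext_lt D π b (hw' b hb)
    simp only [List.map_cons, reflWord]
    have h1 := reflWord_lt D η hfa w hw' (D.simple i) (hsl' i i.2)
    have h2 := reflWord_lt D η hfa (w.map (ext D π)) hw'' (D.simple (π i)) (hsl' _ (π i).2)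
    have e1 := (hfa j hj).cor _ h1 k k.2
    have e2 := (hfa (ext D π j) (ext_lt D π j hj)).cor _ h2 (π k) (π k).2
    unfold cf
    rw [e1, e2]
    have ih' := ih hw'
    have hcs := corSum_perm D hsl π hπ _ _ ⟨j, hj⟩ ih'
    have hext : ext D π j = ((π ⟨j, hj⟩ : Fin D.rank) : ℕ) := ext_fin D π ⟨j, hj⟩
    rw [hext, hcs]
    have := ih' k
    unfold cf at this
    rw [this]
    by_cases hkj : (k : ℕ) = j
    · have : k = ⟨j, hj⟩ := Fin.ext hkj
      subst this
      rw [if_pos rfl, if_pos rfl]
    · rw [if_neg hkj, if_neg]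
      intro h
      apply hkj
      have : k = ⟨j, hj⟩ := π.injective (Fin.ext h)
      rw [this]

/-- `permRoot` is characterised by the permuted coefficients -/
theorem permRoot_eq (hinj : injChk D = true) (π : Equiv.Perm (Fin D.rank)) (r s' : ℕ)
    (hs' : s' < D.nroots) (h : ∀ k : Fin D.rank, cf D s' (π k) = cf D r k) :
    D.permRoot π r = s' := by
  unfold ChevalleyDatum.permRoot
  set P : ℕ → Bool := fun s => (List.finRange D.rank).all fun i =>
      (D.coroot.getD s #[]).getD (π i).val 0 == (D.coroot.getD r #[]).getD i.val 0 with hP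
  have hPs' : P s' = true := by
    rw [hP]
    simp only [List.all_eq_true, beq_iff_eq]
    intro i _
    exact h i
  cases hf : (List.range D.nroots).find? P with
  | none =>
    exfalso
    rw [List.find?_eq_none] at hf
    exact hf s' (List.mem_range.2 hs') hPs'
  | some s'' =>
    rw [Option.getD_some]
    have h1 : P s'' = true := List.find?_some hf
    have h2 : s'' ∈ List.range D.nroots := List.mem_of_find?_eq_some hf
    rw [hP] at h1
    simp only [List.all_eq_true, beq_iff_eq] at h1
    apply inj_of_chk D hinj s'' s' (List.mem_range.1 h2) hs'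
    intro k hk
    obtain ⟨k', hk'⟩ := π.surjective ⟨k, hk⟩
    have e1 := h1 k' (List.mem_finRange k')
    have e2 := h k'
    unfold cf at e2 ⊢
    rw [hk'] at e1 e2
    rw [e1, e2]

end Cfsg.Agent.Helper11.ChevGraph
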