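import Mathlib

set_option autoImplicit false

namespace Cfsg.Agent.Helper11

open Module

/-- A commuting family of endomorphisms of a nonzero finite-dimensional space over an algebraically
closed field has a common eigenvector. -/
theorem exists_common_eigenvector_aux {K : Type*} [Field K] [IsAlgClosed K] :
    ∀ (n : ℕ) (V : Type*) [AddCommGroup V] [Module K V] [FiniteDimensional K V] [Nontrivial V]
      (S : Set (Module.End K V)), (∀ f ∈ S, ∀ g ∈ S, Commute f g) → finrank K V = n →
      ∃ v : V, v ≠ 0 ∧ ∀ f ∈ S, ∃ c : K, f v = c • v := by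
  intro n
  induction n using Nat.strong_induction_on with
  | _ n ih =>
    intro V _ _ _ _ S hcomm hn
    by_cases hS : ∀ f ∈ S, ∃ c : K, f = c • (1 : Module.End K V)
    · obtain ⟨v, hv⟩ := exists_ne (0 : V)
      refine ⟨v, hv, fun f hf => ?_⟩
      obtain ⟨c, hc⟩ := hS f hf
      exact ⟨c, by rw [hc]; simp⟩
    · push Not at hS
      obtain ⟨f, hfS, hf⟩ := hS
      obtain ⟨μ, hμ⟩ := Module.End.exists_eigenvalue f
      set E := Module.End.eigenspace f μ with hE
      have hEbot : E ≠ ⊥ := hμ
      have hEtop : E ≠ ⊤ := by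
        intro htop
        apply hf μ
        apply LinearMap.ext
        intro v
        have : v ∈ E := by rw [htop]; trivial
        rw [hE, Module.End.mem_eigenspace_iff] at this
        rw [this]; simp
      have hlt : finrank K E < n := by
        rw [← hn]
        exact Submodule.finrank_lt hEtop
      have hmaps : ∀ g ∈ S, ∀ v ∈ E, g v ∈ E := by
        intro g hg v hv
        rw [hE, Module.End.mem_eigenspace_iff] at hv ⊢
        have hc : f (g v) = g (f v) := by
          have := hcomm f hfS g hg
          have h2 := congrArg (fun T : Module.End K V => T v) this.eq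
          simpa using h2
        rw [hc, hv, map_smul]
      haveI : Nontrivial E := Submodule.nontrivial_iff_ne_bot.mpr hEbot
      let S' : Set (Module.End K E) := {g' | ∃ g, ∃ hg : g ∈ S, g' = g.restrict (hmaps g hg)}
      have hcomm' : ∀ f' ∈ S', ∀ g' ∈ S', Commute f' g' := by
        rintro f' ⟨f₁, hf₁, rfl⟩ g' ⟨g₁, hg₁, rfl⟩
        apply LinearMap.ext
        intro v
        apply Subtype.ext
        have := hcomm f₁ hf₁ g₁ hg₁
        have h2 := congrArg (fun T : Module.End K V => T (v : V)) this.eq
        simpa using h2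
      obtain ⟨v', hv', hall⟩ := ih (finrank K E) hlt E S' hcomm' rfl
      refine ⟨(v' : V), fun h => hv' (Subtype.ext h), fun g hg => ?_⟩
      obtain ⟨c, hc⟩ := hall (g.restrict (hmaps g hg)) ⟨g, hg, rfl⟩
      refine ⟨c, ?_⟩
      have := congrArg Subtype.val hc
      simpa using this

theorem exists_common_eigenvector {K V : Type*} [Field K] [IsAlgClosed K] [AddCommGroup V] [Module K V]
    [FiniteDimensional K V] [Nontrivial V] (S : Set (Module.End K V))
    (hS : ∀ f ∈ S, ∀ g ∈ S, Commute f g) : ∃ v : V, v ≠ 0 ∧ ∀ f ∈ S, ∃ c : K, f v = c • v :=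
  exists_common_eigenvector_aux _ V S hS rfl

end Cfsg.Agent.Helper11
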