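import Mathlib
import Cfsg.Agent.Lib.Helper11.D4IMem

/-!
# `³D₄(q)`, `q` even: reduction of the involutions of `U¹` with `t1 ≠ 0` (piece REDII of S2183)
-/

set_option autoImplicit false
set_option linter.unusedSectionVars false
set_option linter.unusedSimpArgs false
set_option linter.unusedVariables false

namespace Cfsg.Agent.Helper11.D4I

open Cfsg Cfsg.Lie Cfsg.Agent.Lead.Chev Cfsg.Agent.Lead.Tw

variable {K : Type*} [Field K] [Fintype K] [CharP K 2] {q : ℕ} (hK : Fintype.card K = q ^ 3)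
  (f : K ≃+* K) (hf : ∀ t, f t = t ^ q)
include hK hf

omit hK hf [Fintype K] [CharP K 2] in
theorem redII_Nm_ne_zero (t : K) (ht : t ≠ 0) : Nm f t ≠ 0 := by
  unfold Nm
  exact mul_ne_zero (mul_ne_zero ht ((map_ne_zero f).2 ht)) ((map_ne_zero f).2 ((map_ne_zero f).2 ht))

omit hK hf [Fintype K] in
/-- the trace of an element of the fixed field -/
theorem redII_Tr_fix (c : K) (hc : f c = c) : Tr f c = c := by
  simp only [Tr, hc]
  grind

omit hK hf [Fintype K] [CharP K 2] in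
theorem redII_NFtw_xa (t : K) : NFtw f t 0 0 0 0 0 = xa f t := by
  simp only [NFtw, xb, x3ab, x3a2b, xab, x2ab, map_zero, X_zero, mul_one]

theorem red_II (hFF : FieldFacts f) (t1 u2 t3 t4 u5 u6 : K) (h2 : f u2 = u2) (h5 : f u5 = u5) (h6 : f u6 = u6)
    (ht1 : t1 ≠ 0) (hsq : NFtw f t1 u2 t3 t4 u5 u6 * NFtw f t1 u2 t3 t4 u5 u6 = 1) :
    CJ q (NFtw f t1 u2 t3 t4 u5 u6) (xa f t1) := by
  have h3 := hf3 hK f hf
  have hN := redII_Nm_ne_zero f t1 ht1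
  have hft1 : f t1 ≠ 0 := (map_ne_zero f).2 ht1
  obtain ⟨f1, f2, -, -⟩ := invol_facts f h3 t1 u2 t3 t4 u5 u6 h2 h5 h6 hsq
  have hu2 : u2 = 0 := by
    rcases mul_eq_zero.1 f1 with h | h
    · exact absurd h ht1
    · exact h
  subst hu2
  have f2' : t1 * f (f t3) + f (f t1) * t3 = 0 := by grind
  obtain ⟨l, hl, hl3⟩ := hFF.fix_of_ratio t1 t3 ht1 f2'
  -- step 1: `x_b(l)` kills `t3`
  have k1 := CJ_xb hK f hf l hl (NFtw f t1 0 t3 t4 u5 u6)
  rw [conj_b f h3 l t1 0 t3 t4 u5 u6 hl h2 h5 h6] at k1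
  have z3 : t3 + l * t1 = 0 := by rw [hl3]; grind
  have fix5 : f (u5 + l * Nm f t1) = u5 + l * Nm f t1 := by
    simp only [map_add, map_mul, hl, h5, f_Nm f h3]
  have fix6 : f (u6 + l * Nm f t1 * 0 + l * Tr f (t1 * f t1 * f (f t3)) + l * u5) =
      u6 + l * Nm f t1 * 0 + l * Tr f (t1 * f t1 * f (f t3)) + l * u5 := by
    simp only [map_add, map_mul, map_zero, hl, h5, h6, f_Nm f h3, f_Tr f h3]
  rw [NFtw_congr f rfl rfl z3 rfl rfl rfl] at k1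
  generalize u5 + l * Nm f t1 = U5 at k1 fix5
  generalize u6 + l * Nm f t1 * 0 + l * Tr f (t1 * f t1 * f (f t3)) + l * u5 = U6 at k1 fix6
  generalize t4 + l * t1 * f (f t1) = T4 at k1
  -- step 2: `x_{a+b}(s)` kills `t4`
  obtain ⟨-, -, g3, -⟩ := invol_facts f h3 t1 0 0 T4 U5 U6 h2 fix5 fix6 (k1.sq_eq_one hsq)
  have g3' : Tr f (t1 * f (f T4)) = 0 := by
    simp only [Tr, Nm, map_zero, map_mul, map_add, h3, mul_zero, zero_mul, add_zero, zero_add] at g3 ⊢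
    exact g3
  obtain ⟨s, hs⟩ := hFF.hilbert90 t1 T4 ht1 g3'
  have k2 := CJ_xab hK f hf s (NFtw f t1 0 0 T4 U5 U6)
  rw [conj_ab f h3 s t1 0 0 T4 U5 U6 trivial h2 fix5 fix6] at k2
  have z4 : T4 + s * f (f t1) + f (f s) * t1 = 0 := by rw [← hs]; grind
  have fix5' : f (U5 + Tr f (s * f t1 * f (f t1))) = U5 + Tr f (s * f t1 * f (f t1)) := by
    simp only [map_add, fix5, f_Tr f h3]
  have fix6' : f (U6 + Tr f (s * f s * f (f t1)) + Tr f (s * f t1 * f (f t1)) * 0 + Tr f (s * f t1 * f (f 0)) +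
      Tr f (s * f (f t1) * f 0) + Tr f (s * f (f T4))) =
      U6 + Tr f (s * f s * f (f t1)) + Tr f (s * f t1 * f (f t1)) * 0 + Tr f (s * f t1 * f (f 0)) +
      Tr f (s * f (f t1) * f 0) + Tr f (s * f (f T4)) := by
    simp only [map_add, map_mul, map_zero, fix6, f_Tr f h3]
  rw [NFtw_congr f rfl rfl rfl z4 rfl rfl] at k2
  generalize U5 + Tr f (s * f t1 * f (f t1)) = V5 at k2 fix5'
  generalize U6 + Tr f (s * f s * f (f t1)) + Tr f (s * f t1 * f (f t1)) * 0 + Tr f (s * f t1 * f (f 0)) +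
      Tr f (s * f (f t1) * f 0) + Tr f (s * f (f T4)) = V6 at k2 fix6'
  -- step 3: `x_{2a+b}(s')` kills `u5`
  obtain ⟨s', hs'⟩ := hFF.tr_surj (f t1) V5 hft1 fix5'
  have k3 := CJ_x2ab hK f hf s' (NFtw f t1 0 0 0 V5 V6)
  rw [conj_2ab f h3 s' t1 0 0 0 V5 V6 trivial h2 fix5' fix6'] at k3
  have z5 : V5 + Tr f (s' * f t1) = 0 := by rw [hs']; grind
  have z6 : V6 + Tr f (s' * f t1) * 0 + Tr f (s' * f 0) = V6 := by
    simp only [Tr, map_zero, mul_zero, add_zero]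
  rw [NFtw_congr f rfl rfl rfl rfl z5 z6] at k3
  -- step 4: `x_{a+b}(l₂ t1)` kills `u6`
  have hc : f (V6 / Nm f t1) = V6 / Nm f t1 := by
    rw [map_div₀, fix6', f_Nm f h3]
  obtain ⟨l₂, hl₂, hl₂2⟩ := hFF.sqrt_fix (V6 / Nm f t1) hc
  have hl₂3 : l₂ * l₂ * Nm f t1 = V6 := by rw [hl₂2, div_mul_cancel₀ _ hN]
  have k4 := CJ_xab hK f hf (l₂ * t1) (NFtw f t1 0 0 0 0 V6)
  rw [conj_ab f h3 (l₂ * t1) t1 0 0 0 0 V6 trivial h2 (map_zero f) fix6'] at k4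
  have y4 : (0 : K) + l₂ * t1 * f (f t1) + f (f (l₂ * t1)) * t1 = 0 := by
    simp only [map_mul, hl₂]
    grind
  have y5 : (0 : K) + Tr f (l₂ * t1 * f t1 * f (f t1)) = l₂ * Nm f t1 := by
    have : l₂ * t1 * f t1 * f (f t1) = l₂ * Nm f t1 := by unfold Nm; ring
    rw [this, redII_Tr_fix f _ (by simp only [map_mul, hl₂, f_Nm f h3]), zero_add]
  have y6 : V6 + Tr f (l₂ * t1 * f (l₂ * t1) * f (f t1)) + Tr f (l₂ * t1 * f t1 * f (f t1)) * 0 +
      Tr f (l₂ * t1 * f t1 * f (f 0)) + Tr f (l₂ * t1 * f (f t1) * f 0) + Tr f (l₂ * t1 * f (f 0)) = 0 := by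
    have e1 : l₂ * t1 * f (l₂ * t1) * f (f t1) = l₂ * l₂ * Nm f t1 := by
      simp only [map_mul, hl₂]
      unfold Nm
      ring
    rw [e1, hl₂3, redII_Tr_fix f V6 fix6']
    simp only [Tr, map_zero, mul_zero, add_zero]
    grind
  rw [NFtw_congr f rfl rfl rfl y4 y5 y6] at k4
  -- step 5: `x_{2a+b}(s'')` kills `u5` again
  have hc5 : f (l₂ * Nm f t1) = l₂ * Nm f t1 := by simp only [map_mul, hl₂, f_Nm f h3]
  obtain ⟨s'', hs''⟩ := hFF.tr_surj (f t1) (l₂ * Nm f t1) hft1 hc5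
  have k5 := CJ_x2ab hK f hf s'' (NFtw f t1 0 0 0 (l₂ * Nm f t1) 0)
  rw [conj_2ab f h3 s'' t1 0 0 0 (l₂ * Nm f t1) 0 trivial h2 hc5 (map_zero f)] at k5
  have x5 : l₂ * Nm f t1 + Tr f (s'' * f t1) = 0 := by rw [hs'']; grind
  have x6 : (0 : K) + Tr f (s'' * f t1) * 0 + Tr f (s'' * f 0) = 0 := by
    simp only [Tr, map_zero, mul_zero, add_zero]
  rw [NFtw_congr f rfl rfl rfl rfl x5 x6, redII_NFtw_xa] at k5
  exact (((k1.trans k2).trans k3).trans k4).trans k5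

end Cfsg.Agent.Helper11.D4I
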