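import Mathlib
import Cfsg.Agent.Lib.Helper11.D4IMem
import Cfsg.Agent.Lib.Helper11.D4IREDII
import Cfsg.Agent.Lib.Helper1.D4IFIELDC
import Cfsg.Agent.Lib.Helper1.D4IREDI1
import Cfsg.Agent.Lib.Helper19.D4IFIELDA
import Cfsg.Agent.Lib.Helper19.D4IFIELDB
import Cfsg.Agent.Lib.Helper22.D4IREDI2
import Cfsg.Agent.Lib.Helper22.D4IREDI3
import Cfsg.Agent.Lib.Helper3.D4IWEYLA
import Cfsg.Agent.Lib.Helper3.D4IWEYLB
import Cfsg.Agent.Lib.Helper2.D4ISURJ
import Cfsg.Agent.Lib.Helper16.D4ISYL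
import Cfsg.Agent.Lib.Helper12.D4ITORA
import Cfsg.Agent.Lib.Helper12.D4ITORB
import Cfsg.Agent.Lib.Helper12.D4INCONJ

/-!
# `³D₄(q)`, `q` even, has exactly two conjugacy classes of involutions: assembly (S2183)
-/

set_option autoImplicit false
set_option linter.unusedSectionVars false
set_option linter.unusedSimpArgs false
set_option linter.unusedVariables false

namespace Cfsg.Agent.Helper11.D4I

open Cfsg Cfsg.Lie Cfsg.Agent.Lead.Chev Cfsg.Agent.Lead.Tw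

variable {K : Type*} [Field K] [Fintype K] [CharP K 2] {q : ℕ} (hK : Fintype.card K = q ^ 3)
  (f : K ≃+* K) (hf : ∀ t, f t = t ^ q)
include hK hf

theorem fieldFacts : FieldFacts f :=
  ⟨tr_surj hK f hf, sqrt_fix hK f hf, hilbert90 hK f hf (exists_tr_one hK f hf), fix_of_ratio hK f hf⟩

omit hK hf in
theorem xa_zero : xa f (0 : K) = 1 := by simp only [xa, map_zero, X_zero, mul_one]

omit hK hf in
theorem xab_zero : xab f (0 : K) = 1 := by simp only [xab, map_zero, X_zero, mul_one]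

omit hK hf in
theorem x2ab_zero : x2ab f (0 : K) = 1 := by simp only [x2ab, map_zero, X_zero, mul_one]

omit hK hf in
theorem NFtw_xa (t : K) : NFtw f t 0 0 0 0 0 = xa f t := by
  simp only [NFtw, xb, x3ab, x3a2b, xab_zero, x2ab_zero, X_zero, mul_one]

omit hK hf in
theorem NFtw_xb (u : K) : NFtw f 0 u 0 0 0 0 = xb u := by
  simp only [NFtw, xa_zero, x3ab, x3a2b, xab_zero, x2ab_zero, X_zero, mul_one, one_mul]

omit hK hf in
theorem NFtw_xab (t : K) : NFtw f 0 0 t 0 0 0 = xab f t := by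
  simp only [NFtw, xa_zero, xb, x3ab, x3a2b, x2ab_zero, X_zero, mul_one, one_mul]

omit hK hf in
theorem NFtw_x2ab (t : K) : NFtw f 0 0 0 t 0 0 = x2ab f t := by
  simp only [NFtw, xa_zero, xb, x3ab, x3a2b, xab_zero, X_zero, mul_one, one_mul]

omit hK hf in
theorem NFtw_xb_x2ab (u t : K) : NFtw f 0 u 0 t 0 0 = xb u * x2ab f t := by
  simp only [NFtw, xa_zero, x3ab, x3a2b, xab_zero, X_zero, mul_one, one_mul]

omit hK hf in
theorem NFtw_xab_x3ab (t u : K) : NFtw f 0 0 t 0 u 0 = x3ab u * xab f t := by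
  simp only [NFtw, xa_zero, xb, x3ab, x3a2b, xab, x2ab_zero, X_zero, mul_one, one_mul, mul_assoc,
    sw_22_19, sw_22_19', sw_22_16, sw_22_16', sw_22_15, sw_22_15']

/-- every involution of `U¹` is conjugate to a twisted root element -/
theorem reduce (u : GL chevD4.Idx K) (hu : u ∈ chevD4.posUnipotent K ⊓ twistedD4 K q) (h2 : u * u = 1)
    (h1 : u ≠ 1) :
    (∃ t : K, t ≠ 0 ∧ (CJ q u (xa f t) ∨ CJ q u (xab f t) ∨ CJ q u (x2ab f t))) ∨
    (∃ c : K, c ≠ 0 ∧ f c = c ∧ (CJ q u (xb c) ∨ CJ q u (x3ab c) ∨ CJ q u (x3a2b c))) := by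
  have hFF := fieldFacts hK f hf
  have h3 := hf3 hK f hf
  obtain ⟨t1, u2, t3, t4, u5, u6, e2, e5, e6, rfl⟩ := exists_NFtw hK f hf u hu
  obtain ⟨f1, f2, f3, f4⟩ := invol_facts f h3 t1 u2 t3 t4 u5 u6 e2 e5 e6 h2
  by_cases ht1 : t1 = 0
  · subst ht1
    by_cases hu2 : u2 = 0
    · subst hu2
      by_cases ht3 : t3 = 0
      · subst ht3
        rcases red_I1 hK f hf hFF t4 u5 u6 e5 e6 h1 with ⟨t, ht, h⟩ | ⟨c, hc, hfc, h | h⟩
        · exact Or.inl ⟨t, ht, Or.inr (Or.inr h)⟩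
        · exact Or.inr ⟨c, hc, hfc, Or.inr (Or.inl h)⟩
        · exact Or.inr ⟨c, hc, hfc, Or.inr (Or.inr h)⟩
      · have hinv : Tr f (t3 * f (f t4)) = 0 := by
          simp only [Tr, Nm, map_zero, map_mul, map_add, h3] at f4 ⊢
          grind
        exact Or.inl ⟨t3, ht3, Or.inr (Or.inl (red_I3 hK f hf hFF t3 t4 u5 u6 e5 e6 ht3 hinv))⟩
    · obtain ⟨t, k1⟩ := red_I2 hK f hf hFF u2 t3 t4 u5 u6 e2 e5 e6 hu2 h2
      by_cases ht : t = 0
      · subst ht
        rw [NFtw_xb] at k1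
        exact Or.inr ⟨u2, hu2, e2, Or.inl k1⟩
      · obtain ⟨n, hn, w1, -, -, w4⟩ := weyl_a hK f hf
        have k2 : CJ q (NFtw f 0 u2 0 t 0 0) (NFtw f 0 0 (f (f t)) 0 u2 0) := by
          refine ⟨n, hn, ?_⟩
          rw [NFtw_xb_x2ab, NFtw_xab_x3ab, ← w1 u2, ← w4 t]
          group
        have hne : f (f t) ≠ 0 := (map_ne_zero f).2 ((map_ne_zero f).2 ht)
        have hinv : Tr f (f (f t) * f (f (0 : K))) = 0 := by
          simp only [Tr, map_zero, mul_zero, add_zero]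
        have k3 := red_I3 hK f hf hFF (f (f t)) 0 u2 0 e2 (map_zero f) hne hinv
        exact Or.inl ⟨f (f t), hne, Or.inr (Or.inl ((k1.trans k2).trans k3))⟩
  · exact Or.inl ⟨t1, ht1, Or.inl (red_II hK f hf hFF t1 u2 t3 t4 u5 u6 e2 e5 e6 ht1 h2)⟩

theorem short_conj (t : K) (ht : t ≠ 0) :
    CJ q (xa f t) (xa f 1) ∧ CJ q (xab f t) (xa f 1) ∧ CJ q (x2ab f t) (xa f 1) := by
  obtain ⟨n, hn, -, -, -, w4⟩ := weyl_a hK f hf
  obtain ⟨m, hm, -, v2, -, -⟩ := weyl_b hK f hf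
  have k1 : ∀ s : K, s ≠ 0 → CJ q (xab f s) (xa f 1) := fun s hs =>
    CJ.trans ⟨m, hm, v2 s⟩ (torus_a hK f hf s hs)
  refine ⟨torus_a hK f hf t ht, k1 t ht, ?_⟩
  exact CJ.trans ⟨n, hn, w4 t⟩ (k1 _ ((map_ne_zero f).2 ((map_ne_zero f).2 ht)))

theorem long_conj (c : K) (hc : c ≠ 0) (hfc : f c = c) :
    CJ q (xb c) (xb 1) ∧ CJ q (x3ab c) (xb 1) ∧ CJ q (x3a2b c) (xb 1) := by
  have hFF := fieldFacts hK f hf
  obtain ⟨n, hn, -, w2, -, -⟩ := weyl_a hK f hf
  obtain ⟨m, hm, -, -, -, v4⟩ := weyl_b hK f hf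
  have k0 := torus_b hK f hf hFF c hfc hc
  have k1 : CJ q (x3ab c) (xb 1) := CJ.trans ⟨n, hn, w2 c⟩ k0
  exact ⟨k0, k1, CJ.trans ⟨m, hm, v4 c⟩ k1⟩

theorem not_conj' : ¬ CJ q (xb (1 : K)) (xa f 1) := by
  intro h
  apply not_conj hK f hf (exists_NFtw hK f hf)
  exact ((long_conj hK f hf 1 one_ne_zero (map_one f)).2.2).trans h

omit hK hf in
theorem xa_one_ne (hf3 : ∀ t, f (f (f t)) = t) : xa f (1 : K) ≠ 1 := by
  intro h
  rw [← NFtw_xa, ← NFtw_zero f] at h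
  exact one_ne_zero (NFtw_inj f hf3 h).1

omit hK hf in
theorem xb_one_ne (hf3 : ∀ t, f (f (f t)) = t) : xb (1 : K) ≠ 1 := by
  intro h
  rw [← NFtw_xb f, ← NFtw_zero f] at h
  exact one_ne_zero (NFtw_inj f hf3 h).2.1

/-- every involution of `³D₄(q)` is conjugate to `x_a(1)` or `x_b(1)` -/
theorem invol_conj (g : GL chevD4.Idx K) (hg : g ∈ twistedD4 K q) (h2 : g * g = 1) (h1 : g ≠ 1) :
    CJ q g (xa f 1) ∨ CJ q g (xb 1) := by
  obtain ⟨k, hk, hu⟩ := sylow_step hK f hf g hg h2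
  have hcj : CJ q g (k * g * k⁻¹) := ⟨k, hk, rfl⟩
  rcases reduce hK f hf _ hu (hcj.sq_eq_one h2) (hcj.ne_one h1) with ⟨t, ht, h | h | h⟩ | ⟨c, hc, hfc, h | h | h⟩
  · exact Or.inl ((hcj.trans h).trans (short_conj hK f hf t ht).1)
  · exact Or.inl ((hcj.trans h).trans (short_conj hK f hf t ht).2.1)
  · exact Or.inl ((hcj.trans h).trans (short_conj hK f hf t ht).2.2)
  · exact Or.inr ((hcj.trans h).trans (long_conj hK f hf c hc hfc).1)
  · exact Or.inr ((hcj.trans h).trans (long_conj hK f hf c hc hfc).2.1)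
  · exact Or.inr ((hcj.trans h).trans (long_conj hK f hf c hc hfc).2.2)

omit hf in
theorem main : (ConjClasses.mk '' {g : ↥(twistedD4 K q) | orderOf g = 2}).ncard = 2 := by
  obtain ⟨f, hf⟩ := exists_frob3 hK
  have h3 := hf3 hK f hf
  set a : ↥(twistedD4 K q) := ⟨xa f 1, xa_mem hK f hf 1⟩ with ha
  set b : ↥(twistedD4 K q) := ⟨xb 1, xb_mem hK f hf 1 (map_one f)⟩ with hb
  have hP : Fact (Nat.Prime 2) := ⟨Nat.prime_two⟩
  have hoa : orderOf a = 2 := by
    apply orderOf_eq_prime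
    · apply Subtype.ext
      rw [pow_two]
      exact xa_sq f 1
    · intro h
      exact xa_one_ne f h3 (congrArg Subtype.val h)
  have hob : orderOf b = 2 := by
    apply orderOf_eq_prime
    · apply Subtype.ext
      rw [pow_two]
      exact X_sq 14 1
    · intro h
      exact xb_one_ne f h3 (congrArg Subtype.val h)
  have hconj : ∀ x y : ↥(twistedD4 K q), CJ q x.1 y.1 ↔ IsConj x y := by
    intro x y
    constructor
    · rintro ⟨g, hg, e⟩
      exact isConj_iff.2 ⟨⟨g, hg⟩, Subtype.ext e⟩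
    · intro h
      obtain ⟨g, e⟩ := isConj_iff.1 h
      exact ⟨g.1, g.2, congrArg Subtype.val e⟩
  have hne : ConjClasses.mk a ≠ ConjClasses.mk b := by
    intro h
    rw [ConjClasses.mk_eq_mk_iff_isConj, ← hconj] at h
    exact not_conj' hK f hf h.symm
  have hset : ConjClasses.mk '' {g : ↥(twistedD4 K q) | orderOf g = 2} = {ConjClasses.mk a, ConjClasses.mk b} := by
    ext c
    constructor
    · rintro ⟨g, hg, rfl⟩
      have hg2 : orderOf g = 2 := hg
      have h2 : g.1 * g.1 = 1 := by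
        have : g ^ 2 = 1 := by rw [← hg2]; exact pow_orderOf_eq_one g
        rw [pow_two] at this
        exact congrArg Subtype.val this
      have h1 : g.1 ≠ 1 := by
        intro h
        have : g = 1 := Subtype.ext h
        rw [this, orderOf_one] at hg2
        omega
      rcases invol_conj hK f hf g.1 g.2 h2 h1 with h | h
      · left
        exact ConjClasses.mk_eq_mk_iff_isConj.2 ((hconj g a).1 h)
      · right
        exact ConjClasses.mk_eq_mk_iff_isConj.2 ((hconj g b).1 h)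
    · rintro (rfl | rfl)
      · exact ⟨a, hoa, rfl⟩
      · exact ⟨b, hob, rfl⟩
  rw [hset, Set.ncard_pair hne]

end Cfsg.Agent.Helper11.D4I
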