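import Mathlib
import Cfsg.Agent.Lib.Helper11.D4TDefs
import Cfsg.Agent.Lib.Helper15.D4TCHIA
import Cfsg.Agent.Lib.Helper1.D4TCHIC

/-!
# S2376 piece EVSIG: the twisted Frobenius on the torus of `D₄(L)`
-/

set_option autoImplicit false

namespace Cfsg.Agent.Helper11.D4T

open Cfsg Cfsg.Lie Cfsg.Agent.Lead.Chev Cfsg.Agent.Lead.Tw

variable {L : Type*} [Field L]

theorem d4tevsig_rho : ∀ v < 24, Cfsg.Agent.Helper6.ChevC.GD4a.gp.π v = rhoT.getD v 0 := by decide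

theorem sigma_mem_diagonal (f : L ≃+* L) (h : GL chevD4.Idx L) (hh : h ∈ chevD4.diagonalSubgroup L) :
    (TL f).σ h ∈ chevD4.diagonalSubgroup L :=
  (TL f).map_mem_diagonal (d4F L) h hh

theorem ev_sigma (f : L ≃+* L) (h : GL chevD4.Idx L) (hh : h ∈ chevD4.diagonalSubgroup L) (v : ℕ)
    (hv : v < 24) : ev ((TL f).σ h) (rhoT.getD v 0) = f (ev h v) := by
  have hv' : v < chevD4.nroots := hv
  have hρ : (TL f).ρ v = rhoT.getD v 0 := d4tevsig_rho v hv
  have hσh := sigma_mem_diagonal f h hh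
  have hhG := (d4F L).diagonal_le_group hh
  have hxG := xGL_mem_group chevD4 (d4F L).xadd v (1 : L)
  have hρlt : (TL f).ρ v < 24 := (TL f).ρ_lt v hv'
  have e1 := ev_conj h hh v hv 1
  have e2 := congrArg (TL f).σ e1
  rw [(TL f).map_mul _ _ (mul_mem hhG hxG) (inv_mem hhG), (TL f).map_mul _ _ hhG hxG,
    (TL f).map_inv (d4F L) _ hhG, (TL f).map_x v hv', (TL f).map_x v hv',
    ev_conj _ hσh ((TL f).ρ v) hρlt] at e2
  have hc : (TL f).c v (ev h v * 1) = f (ev h v) * (TL f).c v 1 := Cfsg.Agent.Lead.Tw.D4.hcm f v hv' _ _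
  rw [hc] at e2
  have e3 := d4tchic_xGL_inj _ hρlt _ _ e2
  have hne : (TL f).c v 1 ≠ 0 := (TL f).c_ne v hv' 1 one_ne_zero
  rw [← hρ]
  exact mul_right_cancel₀ hne e3

end Cfsg.Agent.Helper11.D4T
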