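import Mathlib
import Cfsg.Agent.Lib.Helper11.D4TDefs
import Cfsg.Agent.Lib.Helper15.D4TARITH
import Cfsg.Agent.Lib.Helper22.D4TREG
import Cfsg.Agent.Lib.Helper22.D4TSTAB
import Cfsg.Agent.Lib.Helper2.D4TREL
import Cfsg.Agent.Lib.Helper28.D4TCON
import Cfsg.Agent.Lib.Helper2.D4TLANG2
import Cfsg.Agent.Lib.Helper2.D4TFIELD6
import Cfsg.Agent.Lib.Helper15.D4TCHIA
import Cfsg.Agent.Lib.Helper1.D4TCHIB
import Cfsg.Agent.Lib.Helper1.D4TCHIC
import Cfsg.Agent.Lib.Helper25.D4TWEYL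
import Cfsg.Agent.Lib.Helper18.D4TTC
import Cfsg.Agent.Lib.Helper18.D4TUREG
import Cfsg.Agent.Lib.Helper11.D4TEVSIG
import Cfsg.Agent.Lib.Helper28.D4TEVTOR
import Cfsg.Agent.Lib.Helper22.D4TNCONJ1

/-!
# S2376: assembly
-/

set_option autoImplicit false

namespace Cfsg.Agent.Helper11.D4T

open Cfsg Cfsg.Lie Cfsg.Agent.Lead.Chev Cfsg.Agent.Lead.Tw Cfsg.Agent.Helper6.SL2Hom

section L

variable {L : Type*} [Field L]

/-- the unit `χ_h(v)` -/
noncomputable def evU (h : GL chevD4.Idx L) (hh : h ∈ chevD4.diagonalSubgroup L) (v : ℕ) : Lˣ :=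
  Units.mk0 (ev h v) (ev_ne_zero h hh v)

theorem asm_chiS (h : GL chevD4.Idx L) (hh : h ∈ chevD4.diagonalSubgroup L) (v : ℕ) (hv : v < 24) :
    chiS (evU h hh 18) (evU h hh 14) (evU h hh 13) (evU h hh 12) v = evU h hh v := by
  apply Units.ext
  rw [chiS, Units.val_mul, Units.val_mul, Units.val_mul, Units.val_zpow_eq_zpow_val,
    Units.val_zpow_eq_zpow_val, Units.val_zpow_eq_zpow_val, Units.val_zpow_eq_zpow_val]
  exact (ev_rc h hh v hv).symm

/-- two elements of `T(L)` with the same values at the fundamental roots are equal -/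
theorem asm_eq_of_ev (h h' : GL chevD4.Idx L) (hh : h ∈ chevD4.diagonalSubgroup L)
    (hh' : h' ∈ chevD4.diagonalSubgroup L) (h18 : ev h 18 = ev h' 18) (h14 : ev h 14 = ev h' 14)
    (h13 : ev h 13 = ev h' 13) (h12 : ev h 12 = ev h' 12) : h = h' := by
  have h1 : h * h'⁻¹ = 1 := by
    apply eq_one_of_ev _ (mul_mem hh (inv_mem hh'))
    · rw [ev_mul _ _ hh (inv_mem hh'), ev_inv _ hh', h18, mul_inv_cancel₀ (ev_ne_zero h' hh' 18)]
    · rw [ev_mul _ _ hh (inv_mem hh'), ev_inv _ hh', h14, mul_inv_cancel₀ (ev_ne_zero h' hh' 14)]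
    · rw [ev_mul _ _ hh (inv_mem hh'), ev_inv _ hh', h13, mul_inv_cancel₀ (ev_ne_zero h' hh' 13)]
    · rw [ev_mul _ _ hh (inv_mem hh'), ev_inv _ hh', h12, mul_inv_cancel₀ (ev_ne_zero h' hh' 12)]
  exact mul_inv_eq_one.1 h1

/-- the twisted torus `{t ∈ T(L) : n_c(a) σ(t) n_c(a)⁻¹ = t}` -/
def twTorus (f : L ≃+* L) (a : L) : Subgroup (GL chevD4.Idx L) where
  carrier := {t | t ∈ chevD4.diagonalSubgroup L ∧ nA a * (TL f).σ t * (nA a)⁻¹ = t}
  one_mem' := ⟨one_mem _, by rw [(TL f).map_one (d4F L), mul_one, mul_inv_cancel]⟩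
  mul_mem' := by
    rintro x y ⟨hx, ex⟩ ⟨hy, ey⟩
    refine ⟨mul_mem hx hy, ?_⟩
    rw [(TL f).map_mul x y ((d4F L).diagonal_le_group hx) ((d4F L).diagonal_le_group hy)]
    conv_rhs => rw [← ex, ← ey]
    group
  inv_mem' := by
    rintro x ⟨hx, ex⟩
    refine ⟨inv_mem hx, ?_⟩
    rw [(TL f).map_inv (d4F L) x ((d4F L).diagonal_le_group hx)]
    conv_rhs => rw [← ex]
    group

theorem mem_twTorus (f : L ≃+* L) (a : L) (t : GL chevD4.Idx L) :
    t ∈ twTorus f a ↔ t ∈ chevD4.diagonalSubgroup L ∧ nA a * (TL f).σ t * (nA a)⁻¹ = t := Iff.rfl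

theorem asm_wtil : ∀ v < 24, wtil.getD v 0 = chevD4.reflectRoot 1 (rhoT.getD v 0) := by decide +kernel

theorem asm_rhoT_lt : ∀ v < 24, rhoT.getD v 0 < 24 := by decide

theorem asm_wtil_lt : ∀ v < 24, wtil.getD v 0 < 24 := by decide

/-- membership in the twisted torus in terms of the characters -/
theorem asm_mem_iff (q : ℕ) (f : L ≃+* L) (hf : ∀ t, f t = t ^ q) (a : L) (ha : a ≠ 0)
    (t : GL chevD4.Idx L) (ht : t ∈ chevD4.diagonalSubgroup L) :
    t ∈ twTorus f a ↔ ∀ v < 24, ev t (wtil.getD v 0) = ev t v ^ q := by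
  have hst := sigma_mem_diagonal f t ht
  have key : ∀ v < 24, ev (nA a * (TL f).σ t * (nA a)⁻¹) (wtil.getD v 0) = ev t v ^ q := by
    intro v hv
    rw [asm_wtil v hv, ev_nA_conj a ha _ hst _ (asm_rhoT_lt v hv), ev_sigma f t ht v hv, hf]
  constructor
  · rintro ⟨_, e⟩ v hv
    have := key v hv
    rwa [e] at this
  · intro h
    refine ⟨ht, ?_⟩
    have ht' := nA_conj_mem a ha _ hst
    have key2 : ∀ v < 24, ev (nA a * (TL f).σ t * (nA a)⁻¹) (wtil.getD v 0) = ev t (wtil.getD v 0) := by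
      intro v hv
      rw [key v hv, h v hv]
    apply asm_eq_of_ev _ _ ht' ht
    · exact key2 15 (by decide)
    · exact key2 9 (by decide)
    · exact key2 19 (by decide)
    · exact key2 16 (by decide)

/-- the characters of an element of the twisted torus -/
theorem asm_rel (q : ℕ) (hq : 2 ≤ q) (f : L ≃+* L) (hf : ∀ t, f t = t ^ q) (a : L) (ha : a ≠ 0)
    (t : GL chevD4.Idx L) (ht : t ∈ twTorus f a) :
    evU t ht.1 18 ^ Mq q = 1 ∧ ∀ v < 24, evU t ht.1 v = evU t ht.1 18 ^ kq q v := by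
  have h1 := (asm_mem_iff q f hf a ha t ht.1).1 ht
  have h2 : ∀ v < 24, chiS (evU t ht.1 18) (evU t ht.1 14) (evU t ht.1 13) (evU t ht.1 12) (wtil.getD v 0) =
      chiS (evU t ht.1 18) (evU t ht.1 14) (evU t ht.1 13) (evU t ht.1 12) v ^ q := by
    intro v hv
    rw [asm_chiS t ht.1 _ (asm_wtil_lt v hv), asm_chiS t ht.1 v hv]
    apply Units.ext
    rw [Units.val_pow_eq_pow_val]
    exact h1 v hv
  obtain ⟨e1, e2⟩ := corel q hq _ _ _ _ h2
  refine ⟨e1, fun v hv => ?_⟩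
  rw [← asm_chiS t ht.1 v hv, e2 v hv]

theorem asm_inj (q : ℕ) (hq : 2 ≤ q) (f : L ≃+* L) (hf : ∀ t, f t = t ^ q) (a : L) (ha : a ≠ 0)
    (x y : twTorus f a) (e : ev x.1 18 = ev y.1 18) : x = y := by
  have hx := (asm_rel q hq f hf a ha x.1 x.2).2
  have hy := (asm_rel q hq f hf a ha y.1 y.2).2
  have e18 : evU x.1 x.2.1 18 = evU y.1 y.2.1 18 := Units.ext e
  have key : ∀ v < 24, ev x.1 v = ev y.1 v := by
    intro v hv
    have : evU x.1 x.2.1 v = evU y.1 y.2.1 v := by rw [hx v hv, hy v hv, e18]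
    exact congrArg Units.val this
  exact Subtype.ext (asm_eq_of_ev _ _ x.2.1 y.2.1 e (key 14 (by decide)) (key 13 (by decide))
    (key 12 (by decide)))

/-- a parameter vector from its four entries -/
def cvec (a0 a1 a2 a3 : Lˣ) : Fin chevD4.rank → Lˣ := fun j => [a0, a1, a2, a3].getD j.val 1

/-- the element `t_ω` of the twisted torus -/
noncomputable def tOm (q : ℕ) (ω : Lˣ) : GL chevD4.Idx L :=
  torusHom chevD4 L (cvec (ω ^ (q + 1)) (ω ^ (q ^ 2 + q + 1)) (ω ^ ((q + 1) * q)) (ω ^ ((q + 1) * q ^ 2)))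

theorem tOm_mem_diagonal (q : ℕ) (ω : Lˣ) : tOm q ω ∈ chevD4.diagonalSubgroup L :=
  torusHom_mem_diagonal _

theorem asm_ev_tOm (q : ℕ) (ω : Lˣ) (v : ℕ) (hv : v < 24) :
    ev (tOm q ω) v =
      ((chiC (ω ^ (q + 1)) (ω ^ (q ^ 2 + q + 1)) (ω ^ ((q + 1) * q)) (ω ^ ((q + 1) * q ^ 2)) v : Lˣ) : L) :=
  ev_torusHom _ v hv

theorem tOm_mem (q : ℕ) (hq : 2 ≤ q) (f : L ≃+* L) (hf : ∀ t, f t = t ^ q) (a : L) (ha : a ≠ 0) (ω : Lˣ)
    (hω : ω ^ Mq q = 1) : tOm q ω ∈ twTorus f a := by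
  rw [asm_mem_iff q f hf a ha _ (tOm_mem_diagonal q ω)]
  intro v hv
  rw [asm_ev_tOm q ω _ (asm_wtil_lt v hv), asm_ev_tOm q ω v hv, (cocon q hq ω hω).1 v hv,
    Units.val_pow_eq_pow_val]

theorem evU_tOm (q : ℕ) (hq : 2 ≤ q) (ω : Lˣ) (hω : ω ^ Mq q = 1) :
    evU (tOm q ω) (tOm_mem_diagonal q ω) 18 = ω ^ ((q : ℤ) + 1 - (q : ℤ) ^ 2) := by
  apply Units.ext
  show ev (tOm q ω) 18 = _
  rw [asm_ev_tOm q ω 18 (by decide), (cocon q hq ω hω).2]

theorem asm_orderOf (q : ℕ) (hq : 2 ≤ q) (ω : Lˣ) (hω : orderOf ω = Mq q) :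
    orderOf (ω ^ ((q : ℤ) + 1 - (q : ℤ) ^ 2)) = Mq q := by
  have h1 : q + 1 ≤ q ^ 2 := by nlinarith
  have e : ((q : ℤ) + 1 - (q : ℤ) ^ 2) = -((q ^ 2 - q - 1 : ℕ) : ℤ) := by
    have : ((q ^ 2 - q - 1 : ℕ) : ℤ) = (q : ℤ) ^ 2 - q - 1 := by
      rw [Nat.sub_sub, Nat.cast_sub h1]
      push_cast
      ring
    rw [this]
    ring
  rw [e, zpow_neg, orderOf_inv, zpow_natCast, Nat.Coprime.orderOf_pow, hω]
  rw [hω]
  exact (mq_coprime q hq).symm

theorem asm_getD_lt : ∀ A ∈ wActsD4, ∀ v < 24, A.getD v 0 < 24 := by decide +kernel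

/-- a generator of the twisted torus: regular, with trivial stabilizer in the Weyl group -/
theorem asm_gen (q : ℕ) (hq : 2 ≤ q) (f : L ≃+* L) (hf : ∀ t, f t = t ^ q) (a : L) (ha : a ≠ 0)
    (t : GL chevD4.Idx L) (ht : t ∈ twTorus f a) (ho : orderOf (evU t ht.1 18) = Mq q) :
    (∀ v < 24, ev t v ≠ 1) ∧
      (∀ A ∈ wActsD4, (∀ v < 24, ev t (A.getD v 0) = ev t v) → A = idL) := by
  obtain ⟨e1, e2⟩ := asm_rel q hq f hf a ha t ht
  constructor
  · intro v hv e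
    have h1 : evU t ht.1 v = 1 := Units.ext e
    rw [e2 v hv] at h1
    have h2 := (orderOf_dvd_iff_zpow_eq_one).2 h1
    rw [ho] at h2
    exact corew_reg q hq v hv h2
  · intro A hA h
    apply corew_stab q hq A hA
    intro v hv
    have hAv : A.getD v 0 < 24 := asm_getD_lt A hA v hv
    have h1 : evU t ht.1 (A.getD v 0) = evU t ht.1 v := Units.ext (h v hv)
    rw [e2 _ hAv, e2 v hv] at h1
    have h2 : evU t ht.1 18 ^ (kq q (A.getD v 0) - kq q v) = 1 := by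
      rw [zpow_sub, h1, mul_inv_cancel]
    have h3 := (orderOf_dvd_iff_zpow_eq_one).2 h2
    rwa [ho] at h3

/-- the centralizer in `D₄(L)` of a regular element of `T(L)` with trivial stabilizer is `T(L)` -/
theorem asm_cent (t : GL chevD4.Idx L) (ht : t ∈ chevD4.diagonalSubgroup L) (hreg : ∀ v < 24, ev t v ≠ 1)
    (hstab : ∀ A ∈ wActsD4, (∀ v < 24, ev t (A.getD v 0) = ev t v) → A = idL)
    (y : GL chevD4.Idx L) (hy : y ∈ chevD4.group L) (e : y * t = t * y) :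
    y ∈ chevD4.diagonalSubgroup L := by
  obtain ⟨u, hu, s, hs, w, hw, u', hu', ey, e1, e2, e3⟩ := torus_conj y t t hy ht ht e
  obtain ⟨A, hAm, hA⟩ := acts_cases w hw
  have hcond : ∀ v < 24, ev t (A.getD v 0) = ev t v := by
    intro v hv
    rw [← hA v hv]
    conv_lhs => rw [← e1]
    exact ev_nconj t ht w hw v hv
  have hAid := hstab A hAm hcond
  rw [hAid] at hA
  obtain ⟨p1, p2⟩ := acts_id_pos w hw hA
  have hnw := (d4F L).nWordGL_mem_diagonal_of_pos w hw p1 p2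
  have hu1 : u = 1 := ureg t ht hreg u hu e2
  have hu'1 : u' = 1 := ureg t ht hreg u' hu' e3
  rw [ey, hu1, hu'1, one_mul, mul_one]
  exact mul_mem hs hnw

/-- the twisted torus is cyclic of order `(q³ - 1)(q + 1)`, generated by a regular element -/
theorem asm_torus [Fintype L] (q : ℕ) (hq : 2 ≤ q) (hL : Fintype.card L = q ^ 6) (f : L ≃+* L)
    (hf : ∀ t, f t = t ^ q) (a : L) (ha : a ≠ 0) :
    IsCyclic (twTorus f a) ∧ Nat.card (twTorus f a) = Mq q ∧
      ∃ t ∈ twTorus f a, ∀ y ∈ chevD4.group L, y * t = t * y → y ∈ chevD4.diagonalSubgroup L := by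
  classical
  -- the embedding into `L`
  let φ : twTorus f a →* L :=
    { toFun := fun t => ev t.1 18
      map_one' := ev_one 18
      map_mul' := fun x y => ev_mul _ _ x.2.1 y.2.1 18 }
  have hφ : Function.Injective φ := fun x y e => asm_inj q hq f hf a ha x y e
  have hcyc : IsCyclic (twTorus f a) := isCyclic_of_subgroup_isDomain φ hφ
  -- the generator
  obtain ⟨ω, hω⟩ := exists_orderOf (L := L) (Mq q) (by rw [hL]; exact mq_dvd q hq)
  have hω1 : ω ^ Mq q = 1 := by rw [← hω]; exact pow_orderOf_eq_one ω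
  have htm := tOm_mem q hq f hf a ha ω hω1
  have ho : orderOf (evU (tOm q ω) htm.1 18) = Mq q := by
    rw [evU_tOm q hq ω hω1]
    exact asm_orderOf q hq ω hω
  obtain ⟨hreg, hstab⟩ := asm_gen q hq f hf a ha _ htm ho
  refine ⟨hcyc, ?_, tOm q ω, htm, fun y hy e => asm_cent _ htm.1 hreg hstab y hy e⟩
  -- the order
  have hMpos : 0 < Mq q := by
    rw [← ho]
    exact orderOf_pos _
  apply Nat.dvd_antisymm
  · -- every element is killed by `Mq q`
    haveI := hcyc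
    obtain ⟨g, hg⟩ := IsCyclic.exists_generator (α := twTorus f a)
    have hgM : g ^ Mq q = 1 := by
      apply hφ
      rw [map_pow, map_one]
      have := (asm_rel q hq f hf a ha g.1 g.2).1
      have h2 := congrArg Units.val this
      rw [Units.val_pow_eq_pow_val, Units.val_one] at h2
      exact h2
    rw [← orderOf_eq_card_of_forall_mem_zpowers hg]
    exact orderOf_dvd_of_pow_eq_one hgM
  · -- the element `t_ω` has order `Mq q`
    have h1 : orderOf (⟨tOm q ω, htm⟩ : twTorus f a) = Mq q := by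
      rw [← ho]
      have h2 : orderOf (φ ⟨tOm q ω, htm⟩) = orderOf (⟨tOm q ω, htm⟩ : twTorus f a) :=
        orderOf_injective φ hφ _
      rw [← h2]
      have h3 : (evU (tOm q ω) htm.1 18 : L) = φ ⟨tOm q ω, htm⟩ := rfl
      rw [← h3, orderOf_units]
    rw [← h1]
    exact orderOf_dvd_natCard _

end L

end Cfsg.Agent.Helper11.D4T
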