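import Mathlib
import Cfsg.Agent.Lib.Helper11.D4TDefs
import Cfsg.Agent.Lib.Lead.G2TFIX
import Cfsg.Agent.Lib.Lead.TwD4Grp
import Cfsg.Agent.Lib.Lead.TwFrob

/-!
# S2376, piece ISO: `³D₄(q) ⊂ D₄(K)` maps isomorphically onto the twisted group over the quadratic extension
-/

set_option autoImplicit false

namespace Cfsg.Agent.Helper11.D4T

open Cfsg Cfsg.Lie Cfsg.Agent.Lead.Chev Cfsg.Agent.Lead.Tw

section KL

variable {K : Type*} [Field K] {L : Type*} [Field L] (ι : K →+* L)

theorem mapGL_injective : Function.Injective (mapGL ι) := by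
  intro x y e
  apply Units.ext
  have h := congrArg (fun g : GL chevD4.Idx L => (g : Matrix chevD4.Idx chevD4.Idx L)) e
  simp only [G2T.FIX.mapGL_val] at h
  exact Matrix.map_injective ι.injective h

namespace ISO

theorem xs_map (v : List ℕ) (φ : ℕ → K) :
    mapGL ι (xs (d4F K) v φ) = xs (d4F L) v (fun i => ι (φ i)) := by
  unfold xs
  rw [map_list_prod, List.map_map]
  congr 1
  apply List.map_congr_left
  intro i _
  exact G2T.FIX.xGL_map_hom ι chevD4 (d4F K).xadd (d4F L).xadd _ _

theorem ys_map (v : List ℕ) (φ : ℕ → K) :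
    mapGL ι (ys (d4F K) v φ) = ys (d4F L) v (fun i => ι (φ i)) := by
  unfold ys
  rw [map_list_prod, List.map_map]
  congr 1
  apply List.map_congr_left
  intro i _
  exact G2T.FIX.xGL_map_hom ι chevD4 (d4F K).xadd (d4F L).xadd _ _

/-- `xs` only depends on the values of the parameter on the class -/
theorem xs_congr (v : List ℕ) (φ ψ : ℕ → L) (h : ∀ i ∈ v, φ i = ψ i) :
    xs (d4F L) v φ = xs (d4F L) v ψ := by
  unfold xs
  congr 1
  apply List.map_congr_left
  intro i hi
  rw [h i hi]

theorem ys_congr (v : List ℕ) (φ ψ : ℕ → L) (h : ∀ i ∈ v, φ i = ψ i) :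
    ys (d4F L) v φ = ys (d4F L) v ψ := by
  unfold ys
  congr 1
  apply List.map_congr_left
  intro i hi
  rw [h i hi]

end ISO

open ISO D4

theorem iso_map [Fintype K] (q : ℕ) (hq : IsPrimePow q) (hK : Fintype.card K = q ^ 3) (f : L ≃+* L)
    (hf : ∀ t, f t = t ^ q) (hfix : ∀ t : L, t ^ (q ^ 3) = t ↔ t ∈ Set.range ι) :
    (twistedD4 K q).map (mapGL ι) = G1 f := by
  obtain ⟨fK, hfK⟩ := exists_frob (n := 3) hq hK
  have hpi : D4.πs 0 = 2 ∧ D4.πs 1 = 1 ∧ D4.πs 2 = 3 ∧ D4.πs 3 = 0 := by decide
  obtain ⟨p0, p1, p2, p3⟩ := hpi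
  have hcube : ∀ t : K, t ^ (q ^ 3) = t := by
    intro t
    rw [← hK, FiniteField.pow_card]
  apply le_antisymm
  · -- generators of `³D₄(q)` go to generators over `L`
    rw [twisted_eq hK fK hfK, Subgroup.map_le_iff_le_comap]
    unfold orthGroup
    rw [Subgroup.closure_le]
    rintro g (⟨v, hv, φ, hφ, rfl⟩ | ⟨v, hv, φ, hφ, rfl⟩)
    · show mapGL ι (xs D4.hF v φ) ∈ G1 f
      have e : mapGL ι (xs D4.hF v φ) = xs (d4F L) v (fun i => ι (φ i)) := xs_map ι v φ
      rw [e]
      apply Subgroup.subset_closure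
      left
      refine ⟨v, hv, _, ?_, rfl⟩
      intro i hi
      have h1 := hφ i hi
      have hi4 : i < 4 := (D4.chk).valid v hv i hi
      show ι (φ ((TL f).π i)) = (TL f).c (chevD4.simple i) (ι (φ i))
      have e1 : (TL f).c (chevD4.simple i) (ι (φ i)) = f (ι (φ i)) := D4.c_simple f i hi4 _
      have e2 : (D4.tw fK).c (chevD4.simple i) (φ i) = fK (φ i) := D4.c_simple fK i hi4 _
      rw [e1, hf]
      have h2 : φ ((D4.tw fK).π i) = fK (φ i) := by rw [← e2]; exact h1
      have h3 : (TL f).π i = (D4.tw fK).π i := rfl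
      rw [h3, h2, hfK, map_pow]
    · show mapGL ι (ys D4.hF v φ) ∈ G1 f
      have e : mapGL ι (ys D4.hF v φ) = ys (d4F L) v (fun i => ι (φ i)) := ys_map ι v φ
      rw [e]
      apply Subgroup.subset_closure
      right
      refine ⟨v, hv, _, ?_, rfl⟩
      intro i hi
      have h1 := hφ i hi
      have hi4 : i < 4 := (D4.chk).valid v hv i hi
      show ι (φ ((TL f).π i)) = (TL f).c (chevD4.neg (chevD4.simple i)) (ι (φ i))
      have e1 : (TL f).c (chevD4.neg (chevD4.simple i)) (ι (φ i)) = f (ι (φ i)) :=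
        D4.c_neg_simple f i hi4 _
      have e2 : (D4.tw fK).c (chevD4.neg (chevD4.simple i)) (φ i) = fK (φ i) := D4.c_neg_simple fK i hi4 _
      rw [e1, hf]
      have h2 : φ ((D4.tw fK).π i) = fK (φ i) := by rw [← e2]; exact h1
      have h3 : (TL f).π i = (D4.tw fK).π i := rfl
      rw [h3, h2, hfK, map_pow]
  · -- generators over `L` come from `K`
    unfold G1 orthGroup
    rw [Subgroup.closure_le]
    -- the parameters lie in the image of `K`
    have hpar : ∀ (c : ℕ → L → L), (∀ i < 4, ∀ t, c i t = f t) → ∀ v ∈ D4.S, ∀ φ : ℕ → L,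
        (∀ i ∈ v, φ (D4.πs i) = c i (φ i)) →
        ∃ ψ : ℕ → K, (∀ i ∈ v, φ i = ι (ψ i)) ∧ (∀ i ∈ v, ψ (D4.πs i) = fK (ψ i)) := by
      intro c hc v hv φ hφ
      simp only [D4.S, List.mem_cons, List.not_mem_nil, or_false] at hv
      rcases hv with rfl | rfl
      · have h1 := hφ 1 (by simp)
        rw [p1, hc 1 (by norm_num), hf] at h1
        have h2 : φ 1 ^ (q ^ 3) = φ 1 := by
          rw [pow_succ, pow_succ, pow_one, pow_mul, pow_mul, ← h1, ← h1, ← h1]
        obtain ⟨t, ht⟩ := (hfix (φ 1)).1 h2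
        have ht' : t ^ q = t := by
          apply ι.injective
          rw [map_pow, ht]
          exact h1.symm
        refine ⟨fun _ => t, ?_, ?_⟩
        · intro i hi
          rw [List.mem_singleton] at hi
          subst hi
          exact ht.symm
        · intro i hi
          rw [hfK, ht']
      · have h0 := hφ 0 (by simp)
        have h2 := hφ 2 (by simp)
        have h3 := hφ 3 (by simp)
        rw [p0, hc 0 (by norm_num), hf] at h0
        rw [p2, hc 2 (by norm_num), hf] at h2
        rw [p3, hc 3 (by norm_num), hf] at h3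
        have h4 : φ 0 ^ (q ^ 3) = φ 0 := by
          rw [pow_succ, pow_succ, pow_one, pow_mul, pow_mul, ← h0, ← h2, ← h3]
        obtain ⟨t, ht⟩ := (hfix (φ 0)).1 h4
        refine ⟨fun k => if k = 0 then t else if k = 2 then t ^ q else t ^ (q ^ 2), ?_, ?_⟩
        · intro i hi
          simp only [List.mem_cons, List.not_mem_nil, or_false] at hi
          rcases hi with rfl | rfl | rfl
          · simpa using ht.symm
          · simp only [OfNat.ofNat_ne_zero, if_false, if_true]
            rw [h0, ← ht, map_pow]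
          · simp only [OfNat.ofNat_ne_zero, if_false]
            norm_num
            rw [h2, h0, ← ht, ← pow_mul, pow_two]
        · intro i hi
          simp only [List.mem_cons, List.not_mem_nil, or_false] at hi
          rcases hi with rfl | rfl | rfl
          · rw [p0, hfK]
            simp
          · rw [p2, hfK]
            norm_num
            rw [← pow_mul, pow_two]
          · rw [p3, hfK]
            norm_num
            rw [← pow_mul, ← pow_succ]
            exact (hcube t).symm
    rintro g (⟨v, hv, φ, hφ, rfl⟩ | ⟨v, hv, φ, hφ, rfl⟩)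
    · obtain ⟨ψ, hψ1, hψ2⟩ := hpar (fun i t => (TL f).c (chevD4.simple i) t)
        (fun i hi t => D4.c_simple f i hi t) v hv φ hφ
      have e : xs (d4F L) v φ = mapGL ι (xs (d4F K) v ψ) := by
        rw [xs_map, xs_congr v φ _ hψ1]
      rw [SetLike.mem_coe, e]
      apply Subgroup.mem_map_of_mem
      rw [twisted_eq hK fK hfK]
      apply Subgroup.subset_closure
      left
      refine ⟨v, hv, ψ, ?_, rfl⟩
      intro i hi
      have hi4 : i < 4 := (D4.chk).valid v hv i hi
      show ψ ((D4.tw fK).π i) = (D4.tw fK).c (chevD4.simple i) (ψ i)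
      rw [D4.c_simple fK i hi4]
      exact hψ2 i hi
    · obtain ⟨ψ, hψ1, hψ2⟩ := hpar (fun i t => (TL f).c (chevD4.neg (chevD4.simple i)) t)
        (fun i hi t => D4.c_neg_simple f i hi t) v hv φ hφ
      have e : ys (d4F L) v φ = mapGL ι (ys (d4F K) v ψ) := by
        rw [ys_map, ys_congr v φ _ hψ1]
      rw [SetLike.mem_coe, e]
      apply Subgroup.mem_map_of_mem
      rw [twisted_eq hK fK hfK]
      apply Subgroup.subset_closure
      right
      refine ⟨v, hv, ψ, ?_, rfl⟩
      intro i hi
      have hi4 : i < 4 := (D4.chk).valid v hv i hi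
      show ψ ((D4.tw fK).π i) = (D4.tw fK).c (chevD4.neg (chevD4.simple i)) (ψ i)
      rw [D4.c_neg_simple fK i hi4]
      exact hψ2 i hi

end KL

end Cfsg.Agent.Helper11.D4T
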