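import Mathlib
import Cfsg.Agent.Lib.Helper11.D4TDefs
import Cfsg.Agent.Lib.Helper2.D4TLANG2
import Cfsg.Agent.Lib.Helper6.ChevLSL2

/-!
# S2376 piece SL2HOM: the homomorphism `SL₂(L) → D₄(L)` of the central node `c = 14`, `-c = 9`
-/

set_option autoImplicit false

namespace Cfsg.Agent.Helper11.D4T

open Cfsg Cfsg.Lie Cfsg.Agent.Lead.Chev Cfsg.Agent.Lead.Tw Cfsg.Agent.Helper6.SL2Hom

variable {L : Type*} [Field L]

theorem d4tsl2_rankOne :
    RankOne (xGL chevD4 (d4F L).xadd 14) (xGL chevD4 (d4F L).xadd 9) :=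
  Cfsg.Agent.Helper6.ChevL.rankOne_simple (d4F L) Cfsg.Agent.Helper6.ChevL.diag2_D4 1 (by decide)

theorem d4tsl2_adiag (a : Lˣ) : adiag a = xS (a : L) * yS (-((a⁻¹ : Lˣ) : L)) * xS (a : L) := by
  apply Subtype.ext
  rw [adiag_eq]
  rfl

theorem d4tsl2_nS : nS L = xS 1 * yS (-1) * xS 1 := by
  apply Subtype.ext
  show !![(0 : L), 1; -1, 0] = !![1, (1 : L); 0, 1] * !![1, 0; (-1 : L), 1] * !![1, (1 : L); 0, 1]
  ext i j
  fin_cases i <;> fin_cases j <;> simp [Matrix.mul_apply, Fin.sum_univ_two]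

theorem d4tsl2_map_xS (f : L ≃+* L) (t : L) :
    Matrix.SpecialLinearGroup.map (f : L →+* L) (xS t) = xS (f t) := by
  apply Subtype.ext
  show (f : L →+* L).mapMatrix !![1, t; 0, 1] = !![1, f t; 0, 1]
  ext i j
  fin_cases i <;> fin_cases j <;> simp

theorem d4tsl2_map_yS (f : L ≃+* L) (t : L) :
    Matrix.SpecialLinearGroup.map (f : L →+* L) (yS t) = yS (f t) := by
  apply Subtype.ext
  show (f : L →+* L).mapMatrix !![1, 0; t, 1] = !![1, 0; f t, 1]
  ext i j
  fin_cases i <;> fin_cases j <;> simp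

theorem exists_sl2 : ∃ φ : Matrix.SpecialLinearGroup (Fin 2) L →* GL chevD4.Idx L,
    (∀ A, φ A ∈ chevD4.group L) ∧
    (∀ t : L, φ (xS t) = xGL chevD4 (d4F L).xadd 14 t) ∧
    (∀ t : L, φ (yS t) = xGL chevD4 (d4F L).xadd 9 t) ∧
    (∀ a : Lˣ, φ (adiag a) = nA (a : L)) ∧
    (∀ (f : L ≃+* L) (A : Matrix.SpecialLinearGroup (Fin 2) L),
      (TL f).σ (φ A) = φ (Matrix.SpecialLinearGroup.map (f : L →+* L) A)) := by
  have R := d4tsl2_rankOne (L := L)
  have hgrp : ∀ A, R.hom A ∈ chevD4.group L := by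
    intro A
    have h1 : R.hom A ∈ R.hom.range := ⟨A, rfl⟩
    rw [R.hom_range] at h1
    have hle : Subgroup.closure (Set.range (xGL chevD4 (d4F L).xadd 14)) ⊔
        Subgroup.closure (Set.range (xGL chevD4 (d4F L).xadd 9)) ≤ chevD4.group L := by
      apply sup_le
      · rw [Subgroup.closure_le]
        rintro _ ⟨t, rfl⟩
        exact xGL_mem_group chevD4 (d4F L).xadd 14 t
      · rw [Subgroup.closure_le]
        rintro _ ⟨t, rfl⟩
        exact xGL_mem_group chevD4 (d4F L).xadd 9 t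
    exact hle h1
  have hσx : ∀ (f : L ≃+* L) (t : L), (TL f).σ (xGL chevD4 (d4F L).xadd 14 t) =
      xGL chevD4 (d4F L).xadd 14 (f t) := by
    intro f t
    have h1 := (TL f).map_x 14 (by decide) t
    have h2 : (TL f).c 14 t = f t := Cfsg.Agent.Lead.Tw.D4.c_simple f 1 (by norm_num) t
    rw [h1, h2]
    rfl
  have hσy : ∀ (f : L ≃+* L) (t : L), (TL f).σ (xGL chevD4 (d4F L).xadd 9 t) =
      xGL chevD4 (d4F L).xadd 9 (f t) := by
    intro f t
    have h1 := (TL f).map_x 9 (by decide) t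
    have h2 : (TL f).c 9 t = f t := Cfsg.Agent.Lead.Tw.D4.c_neg_simple f 1 (by norm_num) t
    rw [h1, h2]
    rfl
  refine ⟨R.hom, hgrp, fun t => R.hom_xS t, fun t => R.hom_yS t, ?_, ?_⟩
  · intro a
    rw [d4tsl2_adiag, map_mul, map_mul, R.hom_xS, R.hom_yS]
    unfold nA
    rw [nGLt_eq, Units.val_inv_eq_inv_val]
    rfl
  · intro f A
    have hmem := mem_closure A
    induction hmem using Submonoid.closure_induction with
    | mem x hx =>
      rcases hx with hx | ⟨t, rfl⟩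
      · rw [Set.mem_singleton_iff] at hx
        subst hx
        have e : Matrix.SpecialLinearGroup.map (f : L →+* L) (nS L) = nS L := by
          rw [d4tsl2_nS, map_mul, map_mul, d4tsl2_map_xS, d4tsl2_map_yS, map_one, map_neg, map_one]
        rw [e, d4tsl2_nS, map_mul, map_mul, R.hom_xS, R.hom_yS,
          (TL f).map_mul _ _ (mul_mem (xGL_mem_group _ _ _ _) (xGL_mem_group _ _ _ _)) (xGL_mem_group _ _ _ _),
          (TL f).map_mul _ _ (xGL_mem_group _ _ _ _) (xGL_mem_group _ _ _ _), hσx, hσy, map_one, map_neg, map_one]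
      · rw [d4tsl2_map_xS, R.hom_xS, R.hom_xS, hσx]
    | one =>
      rw [map_one, map_one, map_one]
      exact (TL f).map_one (d4F L)
    | mul x y _ _ hx hy =>
      rw [map_mul, map_mul, map_mul, (TL f).map_mul _ _ (hgrp x) (hgrp y), hx, hy]

end Cfsg.Agent.Helper11.D4T
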