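import Mathlib
import Cfsg.Agent.Lib.Helper11.D4TDefs
import Cfsg.Agent.Lib.Helper11.D4TAsm
import Cfsg.Agent.Lib.Helper11.D4TSL2HOM
import Cfsg.Agent.Lib.Helper18.D4TFIXTW
import Cfsg.Agent.Lib.Helper11.D4TISO
import Cfsg.Agent.Lib.Lead.TwFrob

/-!
# S2376: the main theorem
-/

set_option autoImplicit false

namespace Cfsg.Agent.Helper11.D4T

open Cfsg Cfsg.Lie Cfsg.Agent.Lead.Chev Cfsg.Agent.Lead.Tw Cfsg.Agent.Helper6.SL2Hom

/-- transfer of the statement along an isomorphism -/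
theorem main_transfer {G G' : Type*} [Group G] [Group G'] (e : G ≃* G') (m : ℕ)
    (h : ∃ H : Subgroup G', IsCyclic H ∧ Nat.card H = m ∧ Subgroup.centralizer (H : Set G') = H) :
    ∃ H : Subgroup G, IsCyclic H ∧ Nat.card H = m ∧ Subgroup.centralizer (H : Set G) = H := by
  obtain ⟨H', hc, hn, hz⟩ := h
  let ε := e.symm.subgroupMap H'
  refine ⟨H'.map e.symm.toMonoidHom, ?_, ?_, ?_⟩
  · haveI := hc
    exact isCyclic_of_surjective ε ε.surjective
  · rw [← hn]
    exact (Nat.card_congr ε.toEquiv).symm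
  · ext z
    have key : z ∈ H'.map e.symm.toMonoidHom ↔ e z ∈ H' := by
      constructor
      · rintro ⟨y, hy, rfl⟩
        simpa using hy
      · intro hz'
        exact ⟨e z, hz', by simp⟩
    rw [key]
    constructor
    · intro hc
      have h0 : e z ∈ Subgroup.centralizer (H' : Set G') := by
        rw [Subgroup.mem_centralizer_iff]
        intro y hy
        have h1 := (Subgroup.mem_centralizer_iff.1 hc) (e.symm y) ⟨y, hy, rfl⟩
        have h2 := congrArg e h1
        simpa using h2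
      rwa [hz] at h0
    · intro hz'
      rw [Subgroup.mem_centralizer_iff]
      rintro _ ⟨y, hy, rfl⟩
      have hz2 : e z ∈ Subgroup.centralizer (H' : Set G') := by rw [hz]; exact hz'
      have h1 := (Subgroup.mem_centralizer_iff.1 hz2) y hy
      apply e.injective
      simpa using h1

section Main

variable {L : Type*} [Field L] [Fintype L]

theorem asm_comm (x y : GL chevD4.Idx L) (hx : x ∈ chevD4.diagonalSubgroup L)
    (hy : y ∈ chevD4.diagonalSubgroup L) : x * y = y * x := by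
  apply asm_eq_of_ev _ _ (mul_mem hx hy) (mul_mem hy hx) <;>
    rw [ev_mul _ _ hx hy, ev_mul _ _ hy hx, mul_comm]

theorem main_L (q : ℕ) (hq : 2 ≤ q) (hL : Fintype.card L = q ^ 6) (f : L ≃+* L) (hf : ∀ t, f t = t ^ q) :
    ∃ H : Subgroup ↥(G1 f), IsCyclic H ∧ Nat.card H = Mq q ∧
      Subgroup.centralizer (H : Set ↥(G1 f)) = H := by
  classical
  obtain ⟨lamU, hlam⟩ := exists_orderOf (L := L) (q + 1) (by rw [hL]; exact mq_dvd' q hq)
  have hl1 : lamU ^ (q + 1) = 1 := by rw [← hlam]; exact pow_orderOf_eq_one _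
  have hflam : f (lamU : L) = (lamU : L)⁻¹ := by
    rw [hf]
    have : (lamU : L) ^ q * (lamU : L) = 1 := by
      rw [← pow_succ, ← Units.val_pow_eq_pow_val, hl1, Units.val_one]
    exact eq_inv_of_mul_eq_one_left this
  have hl2 : (lamU : L) ^ 2 ≠ 1 := by
    intro h
    have h' : lamU ^ 2 = 1 := Units.ext (by rw [Units.val_pow_eq_pow_val, h, Units.val_one])
    have h3 := orderOf_dvd_of_pow_eq_one h'
    rw [hlam] at h3
    have := Nat.le_of_dvd (by norm_num) h3
    omega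
  obtain ⟨g₀, a, hg₀⟩ := lang2 f (lamU : L) lamU.ne_zero hflam hl2
  obtain ⟨φ, hφG, hφx, hφy, hφa, hφσ⟩ := exists_sl2 (L := L)
  set g := φ g₀ with hg
  have hgG : g ∈ chevD4.group L := hφG g₀
  have hσg : (TL f).σ g = g * nA (a : L) := by rw [hg, hφσ, hg₀, map_mul, hφa]
  have ha : (a : L) ≠ 0 := a.ne_zero
  have hnG : nA (a : L) ∈ chevD4.group L := nA_mem_group _
  obtain ⟨hcyc, hcard, t₀, ht₀, hcent⟩ := asm_torus q hq hL f hf (a : L) ha
  -- the conjugation map
  let Ψ : ↥(G1 f) →* GL chevD4.Idx L := (MulAut.conj g⁻¹).toMonoidHom.comp (G1 f).subtype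
  have hΨ : ∀ z : ↥(G1 f), Ψ z = g⁻¹ * z.1 * g := by
    intro z
    simp [Ψ, MulAut.conj_apply]
  have hΨinj : Function.Injective Ψ := by
    intro x y e
    rw [hΨ, hΨ] at e
    apply Subtype.ext
    have : x.1 = g * (g⁻¹ * x.1 * g) * g⁻¹ := by group
    rw [this, e]
    group
  have hΨG : ∀ z : ↥(G1 f), Ψ z ∈ chevD4.group L := by
    intro z
    rw [hΨ]
    exact mul_mem (mul_mem (inv_mem hgG) (G1_le_group f z.2)) hgG
  have hA_of : ∀ z : ↥(G1 f), Ψ z ∈ chevD4.diagonalSubgroup L → Ψ z ∈ twTorus f (a : L) := by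
    intro z hz
    refine ⟨hz, ?_⟩
    have hzG := G1_le_group f z.2
    rw [hΨ, (TL f).map_mul _ _ (mul_mem (inv_mem hgG) hzG) hgG, (TL f).map_mul _ _ (inv_mem hgG) hzG,
      (TL f).map_inv (d4F L) g hgG, G1_fixed f z.1 z.2, hσg]
    group
  have hsurj : ∀ t ∈ twTorus f (a : L), ∃ z : ↥(G1 f), Ψ z = t := by
    intro t ht
    have htG := (d4F L).diagonal_le_group ht.1
    have hyG : g * t * g⁻¹ ∈ chevD4.group L := mul_mem (mul_mem hgG htG) (inv_mem hgG)
    have hfix : (TL f).σ (g * t * g⁻¹) = g * t * g⁻¹ := by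
      rw [(TL f).map_mul _ _ (mul_mem hgG htG) (inv_mem hgG), (TL f).map_mul _ _ hgG htG,
        (TL f).map_inv (d4F L) g hgG, hσg]
      conv_rhs => rw [← ht.2]
      group
    refine ⟨⟨g * t * g⁻¹, fix_tw f _ hyG hfix⟩, ?_⟩
    rw [hΨ]
    group
  let H : Subgroup ↥(G1 f) := (twTorus f (a : L)).comap Ψ
  have hHmem : ∀ z : ↥(G1 f), z ∈ H ↔ Ψ z ∈ twTorus f (a : L) := fun z => Iff.rfl
  let ε : ↥H →* ↥(twTorus f (a : L)) :=
    { toFun := fun z => ⟨Ψ z.1, z.2⟩
      map_one' := Subtype.ext (map_one Ψ)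
      map_mul' := fun x y => Subtype.ext (map_mul Ψ x.1 y.1) }
  have hεinj : Function.Injective ε := by
    intro x y e
    apply Subtype.ext
    apply hΨinj
    exact congrArg Subtype.val e
  have hεsurj : Function.Surjective ε := by
    rintro ⟨t, ht⟩
    obtain ⟨z, hz⟩ := hsurj t ht
    exact ⟨⟨z, by rw [hHmem, hz]; exact ht⟩, Subtype.ext hz⟩
  let E : ↥H ≃* ↥(twTorus f (a : L)) := MulEquiv.ofBijective ε ⟨hεinj, hεsurj⟩
  refine ⟨H, ?_, ?_, ?_⟩
  · haveI := hcyc
    exact isCyclic_of_surjective E.symm E.symm.surjective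
  · rw [← hcard]
    exact Nat.card_congr E.toEquiv
  · ext z
    rw [Subgroup.mem_centralizer_iff]
    constructor
    · intro hcomm
      obtain ⟨z₀, hz₀⟩ := hsurj t₀ ht₀
      have hz₀H : z₀ ∈ H := by rw [hHmem, hz₀]; exact ht₀
      have h1 := hcomm z₀ hz₀H
      have h2 := congrArg Ψ h1
      rw [map_mul, map_mul, hz₀] at h2
      have h3 := hcent (Ψ z) (hΨG z) h2.symm
      exact hA_of z h3
    · intro hz y hy
      apply hΨinj
      rw [map_mul, map_mul]
      exact asm_comm _ _ ((hHmem y).1 hy).1 ((hHmem z).1 hz).1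

end Main

/-- **S2376** for `twistedD4 K q` -/
theorem main_K {K : Type*} [Field K] [Fintype K] (q : ℕ) (hq : IsPrimePow q) (hK : Fintype.card K = q ^ 3) :
    ∃ H : Subgroup ↥(twistedD4 K q), IsCyclic H ∧ Nat.card H = (q ^ 3 - 1) * (q + 1) ∧
      Subgroup.centralizer (H : Set ↥(twistedD4 K q)) = H := by
  have hq2 : 2 ≤ q := hq.two_le
  obtain ⟨L, hfield, hfin, ι, hL⟩ := field6_exists K
  have hL6 : Fintype.card L = q ^ 6 := by rw [hL, hK]; ring
  obtain ⟨f, hf⟩ := exists_frob (n := 6) hq hL6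
  have hfix : ∀ t : L, t ^ (q ^ 3) = t ↔ t ∈ Set.range ι := by
    intro t
    rw [← hK]
    exact field6_fixed ι t
  have hiso := iso_map ι q hq hK f hf hfix
  let e1 : ↥(twistedD4 K q) ≃* ↥((twistedD4 K q).map (mapGL ι)) :=
    (twistedD4 K q).equivMapOfInjective (mapGL ι) (mapGL_injective ι)
  let e2 : ↥((twistedD4 K q).map (mapGL ι)) ≃* ↥(G1 f) := MulEquiv.subgroupCongr hiso
  exact main_transfer (e1.trans e2) _ (main_L q hq2 hL6 f hf)

end Cfsg.Agent.Helper11.D4T
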