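import Mathlib
import Cfsg.Agent.Lib.Helper11.DicksonIdx
import Cfsg.Agent.Lib.Helper12.Small60
import Cfsg.Agent.Lib.Helper2.Psln2

set_option autoImplicit false
set_option linter.unusedVariables false
set_option linter.unusedSectionVars false
set_option linter.unusedSimpArgs false

/-! Solvability of the subgroups of `PSL₂(q)` of the various types. -/

namespace Cfsg.Agent.Helper11.Dickson

open Matrix Matrix.SpecialLinearGroup
open scoped MatrixGroups
open Cfsg.Agent.Helper2.SL2S
open Cfsg.Agent.Helper12 Cfsg.Agent.Helper4.DC Cfsg.Agent.Helper4.DSL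
open Cfsg.Agent.Helper11.Klein
open Cfsg.Agent.Helper2.PN (mkn mkn_surjective mkn_eq_iff)

/-- the sign character of a dihedral group -/
def dihedralSign (k : ℕ) : DihedralGroup k →* Multiplicative (ZMod 2) where
  toFun x := match x with
    | DihedralGroup.r _ => 1
    | DihedralGroup.sr _ => Multiplicative.ofAdd 1
  map_one' := rfl
  map_mul' := by
    rintro (i | i) (j | j)
    · rfl
    · rfl
    · rfl
    · change (1 : Multiplicative (ZMod 2)) = Multiplicative.ofAdd 1 * Multiplicative.ofAdd 1
      rw [← ofAdd_add]
      rfl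

/-- the rotations -/
def dihedralRot (k : ℕ) : Multiplicative (ZMod k) →* DihedralGroup k where
  toFun i := DihedralGroup.r (Multiplicative.toAdd i)
  map_one' := rfl
  map_mul' := by
    intro i j
    rw [DihedralGroup.r_mul_r]
    rfl

theorem isSolvable_dihedral (k : ℕ) : Group.IsSolvable (DihedralGroup k) := by
  haveI : Group.IsSolvable (Multiplicative (ZMod k)) :=
    Group.isSolvable_of_comm (fun a b => mul_comm a b)
  haveI : Group.IsSolvable (Multiplicative (ZMod 2)) :=
    Group.isSolvable_of_comm (fun a b => mul_comm a b)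
  apply Group.isSolvable_of_ker_le_range (dihedralRot k) (dihedralSign k)
  rintro (i | i) hx
  · exact ⟨Multiplicative.ofAdd i, rfl⟩
  · exfalso
    rw [MonoidHom.mem_ker] at hx
    have h1 : (Multiplicative.ofAdd (1 : ZMod 2)) = 1 := hx
    have h2 : (1 : ZMod 2) = 0 := by
      have := congrArg Multiplicative.toAdd h1
      simpa using this
    exact one_ne_zero h2

variable {K : Type*} [Field K]

/-- `PSL₂` is not commutative -/
theorem psl2_noncomm :
    ∃ a b : Matrix.ProjectiveSpecialLinearGroup (Fin 2) K, a * b ≠ b * a := by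
  refine ⟨mkn (u 1), mkn (v 1), ?_⟩
  intro h
  rw [← map_mul, ← map_mul, mkn_eq_iff] at h
  obtain ⟨z, -, hz⟩ := h
  have h01 := congrFun (congrFun hz 0) 1
  have h00 := congrFun (congrFun hz 0) 0
  rw [Matrix.smul_apply, smul_eq_mul] at h01 h00
  rw [m01, v00, u01, v01, u11, m01, u00, v01, u01, v11] at h01
  rw [m00, v00, u00, v01, u10, m00, u00, v00, u01, v10] at h00
  have hz1 : z = 1 := by linear_combination (-1 : K) * h01
  rw [hz1] at h00
  have : (1 : K) = 0 := by linear_combination (-1 : K) * h00
  exact one_ne_zero this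

/-- a group isomorphic to a noncommutative simple group is not solvable -/
theorem not_solvable_of_equiv {H X : Type*} [Group H] [Group X] [IsSimpleGroup X] (e : H ≃* X)
    (hX : ∃ a b : X, a * b ≠ b * a) : ¬ Group.IsSolvable H := by
  intro hs
  haveI := hs
  have h1 : Group.IsSolvable X := Group.isSolvable_of_surjective (f := e.toMonoidHom) e.surjective
  obtain ⟨a, b, hab⟩ := hX
  exact hab (IsSimpleGroup.comm_iff_isSolvable.2 h1 a b)

theorem alt_five_noncomm : ∃ a b : alternatingGroup (Fin 5), a * b ≠ b * a := by
  by_contra h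
  push Not at h
  have h1 : Group.IsSolvable (alternatingGroup (Fin 5)) := Group.isSolvable_of_comm h
  have h2 : Group.IsSolvable (Equiv.Perm (Fin 5)) := by
    haveI := h1
    haveI : Group.IsSolvable (Equiv.Perm (Fin 5) ⧸ alternatingGroup (Fin 5)) := by
      apply Cfsg.Agent.Helper12.Small60.isSolvable_of_card_lt _ _ rfl
      rw [← Subgroup.index_eq_card, alternatingGroup.index_eq_two]
      norm_num
    exact (Group.isSolvable_iff_subgroup_quotient (alternatingGroup (Fin 5))).2 ⟨h1, inferInstance⟩
  exact Equiv.Perm.fin_5_not_solvable h2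

end Cfsg.Agent.Helper11.Dickson
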