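import Mathlib
import Cfsg.Agent.Lib.Helper11.DicksonMin1

set_option autoImplicit false
set_option linter.unusedVariables false
set_option linter.unusedSectionVars false
set_option linter.unusedSimpArgs false

/-! Solvability of the proper subgroups of `PSL₂(q)`. -/

namespace Cfsg.Agent.Helper11.Dickson

open Matrix Matrix.SpecialLinearGroup
open scoped MatrixGroups
open Cfsg.Agent.Helper2.SL2S
open Cfsg.Agent.Helper12 Cfsg.Agent.Helper4.DC Cfsg.Agent.Helper4.DSL
open Cfsg.Agent.Helper11.Klein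

variable {F : Type*} [Field F] [Fintype F]

/-- a subgroup of `PSL₂` whose preimage is upper triangular in a frame is solvable -/
theorem isSolvable_of_frame (H : Subgroup (Matrix.ProjectiveSpecialLinearGroup (Fin 2) F))
    (s : SL(2, F)) (hs : ∀ h ∈ preim H, (s * h * s⁻¹).1 1 0 = 0) : Group.IsSolvable H := by
  have hB : Bhat (preim H) s = ⊤ := by
    rw [eq_top_iff]
    intro x _
    exact mem_Bhat.2 (hs x x.2)
  have hker : Group.IsSolvable (diagHom (preim H) s).ker := by
    apply Group.isSolvable_of_comm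
    intro x y
    have hkk := ker_diagHom (Hs := preim H) s
    have hx : (x : ↥(Bhat (preim H) s)) ∈ (Uhat (preim H) s).subgroupOf (Bhat (preim H) s) := by
      rw [← hkk]; exact x.2
    have hy : (y : ↥(Bhat (preim H) s)) ∈ (Uhat (preim H) s).subgroupOf (Bhat (preim H) s) := by
      rw [← hkk]; exact y.2
    rw [Subgroup.mem_subgroupOf, mem_Uhat] at hx hy
    obtain ⟨t, ht⟩ := hx
    obtain ⟨t', ht'⟩ := hy
    apply Subtype.ext
    apply Subtype.ext
    apply Subtype.ext
    simp only [Subgroup.coe_mul]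
    have e1 := coe_conj_eq ht
    have e2 := coe_conj_eq ht'
    rw [e1, e2]
    calc s⁻¹ * u t * s * (s⁻¹ * u t' * s) = s⁻¹ * (u t * u t') * s := by group
      _ = s⁻¹ * (u t' * u t) * s := by rw [← u_add, ← u_add, add_comm]
      _ = _ := by group
  have hU : Group.IsSolvable Fˣ := Group.isSolvable_of_comm (fun a b => mul_comm a b)
  have h1 : Group.IsSolvable ↥(Bhat (preim H) s) := by
    haveI := hker
    haveI := hU
    apply Group.isSolvable_of_ker_le_range (diagHom (preim H) s).ker.subtype (diagHom (preim H) s)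
    rw [Subgroup.range_subtype]
  have h2 : Group.IsSolvable ↥(preim H) := by
    haveI := h1
    apply Group.isSolvable_of_surjective (f := (Bhat (preim H) s).subtype)
    intro x
    exact ⟨⟨x, by rw [hB]; trivial⟩, rfl⟩
  obtain ⟨e⟩ := nonempty_quot_equiv H
  haveI := h2
  exact Group.isSolvable_of_surjective (f := e.toMonoidHom) e.surjective


/-- a proper subgroup of subfield type comes from a proper subfield -/
theorem subfield_two_le (H : Subgroup (Matrix.ProjectiveSpecialLinearGroup (Fin 2) F))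
    (hH : H ≠ ⊤) (K : Type) [Field K] [Fintype K] (m : ℕ)
    (hm : Fintype.card K ^ m = Fintype.card F)
    (hK : Nonempty (H ≃* Matrix.ProjectiveSpecialLinearGroup (Fin 2) K) ∨
      Nonempty (H ≃* Matrix.ProjGenLinGroup (Fin 2) K)) : 2 ≤ m := by
  have hL := card_PSL2_mul (F := F)
  have hd := gcd_two_cases (Fintype.card F - 1)
  have hHle : Nat.card H ≤ Nat.card (Matrix.ProjectiveSpecialLinearGroup (Fin 2) F) :=
    Subgroup.card_le_card_group H
  have hne : Nat.card H ≠ Nat.card (Matrix.ProjectiveSpecialLinearGroup (Fin 2) F) :=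
    fun h => hH (Subgroup.eq_top_of_card_eq H h)
  have hq2 : 2 ≤ Fintype.card F := Fintype.one_lt_card
  by_contra hm2
  push Not at hm2
  have hm1 : m = 1 := by
    rcases Nat.eq_zero_or_pos m with h0 | h0
    · rw [h0, pow_zero] at hm; omega
    · omega
  rw [hm1, pow_one] at hm
  have hLpos : 0 < Nat.card (Matrix.ProjectiveSpecialLinearGroup (Fin 2) F) := Nat.card_pos
  rcases hK with ⟨⟨e⟩⟩ | ⟨⟨e⟩⟩
  · apply hne
    have h2 := card_PSL2_mul (F := K)
    rw [hm, ← Nat.card_congr e.toEquiv, ← hL] at h2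
    exact Nat.eq_of_mul_eq_mul_left (by rcases hd with h' | h' <;> omega) h2
  · have h2 := card_PGL2_eq K
    rw [hm, ← Nat.card_congr e.toEquiv, ← hL] at h2
    rcases hd with h' | h'
    · rw [h', one_mul] at h2
      exact hne h2
    · rw [h'] at h2
      omega

theorem four_pow_mod_five (k : ℕ) : 4 ^ k % 5 = 1 ∨ 4 ^ k % 5 = 4 := by
  induction k with
  | zero => left; rfl
  | succ k ih =>
    rw [pow_succ, Nat.mul_mod]
    rcases ih with h | h <;> rw [h] <;> simp

theorem nine_pow_mod_five (k : ℕ) : 9 ^ k % 5 = 1 ∨ 9 ^ k % 5 = 4 := by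
  induction k with
  | zero => left; rfl
  | succ k ih =>
    rw [pow_succ, Nat.mul_mod]
    rcases ih with h | h <;> rw [h] <;> simp

/-- the list of orders `q` for which `PSL₂(q)` is minimal simple -/
def MinList (q : ℕ) : Prop :=
  (∃ r : ℕ, r.Prime ∧ q = 2 ^ r) ∨ (∃ r : ℕ, r.Prime ∧ r ≠ 2 ∧ q = 3 ^ r) ∨
    (q.Prime ∧ 5 < q ∧ (q % 5 = 2 ∨ q % 5 = 3)) ∨ q = 5

theorem MinList.mod_five {q : ℕ} (h : MinList q) : q = 4 ∨ q = 5 ∨ q % 5 = 2 ∨ q % 5 = 3 := by
  rcases h with ⟨r, hr, rfl⟩ | ⟨r, hr, hr2, rfl⟩ | ⟨-, -, h⟩ | h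
  · rcases hr.eq_two_or_odd' with h2 | ⟨k, hk⟩
    · left; rw [h2]; norm_num
    · right; right
      have e : 2 ^ r = 4 ^ k * 2 := by rw [hk, pow_succ, pow_mul]; norm_num
      rw [e]
      have h4 := four_pow_mod_five k
      generalize 4 ^ k = x at h4 ⊢
      omega
  · rcases hr.eq_two_or_odd' with h2 | ⟨k, hk⟩
    · exact absurd h2 hr2
    · right; right
      have e : 3 ^ r = 9 ^ k * 3 := by rw [hk, pow_succ, pow_mul]; norm_num
      rw [e]
      have h9 := nine_pow_mod_five k
      generalize 9 ^ k = x at h9 ⊢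
      omega
  · right; right; exact h
  · right; left; exact h

theorem MinList.four_le {q : ℕ} (h : MinList q) : 4 ≤ q := by
  rcases h with ⟨r, hr, rfl⟩ | ⟨r, hr, hr2, rfl⟩ | ⟨-, h, -⟩ | h
  · calc 4 = 2 ^ 2 := by norm_num
      _ ≤ 2 ^ r := Nat.pow_le_pow_right (by norm_num) hr.two_le
  · calc 4 ≤ 3 ^ 2 := by norm_num
      _ ≤ 3 ^ r := Nat.pow_le_pow_right (by norm_num) hr.two_le
  · omega
  · omega

/-- a proper subfield of a field whose order is in the list has at most three elements -/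
theorem MinList.subfield {q : ℕ} (h : MinList q) {q₀ m : ℕ} (hq₀ : 2 ≤ q₀) (hm : 2 ≤ m)
    (hqm : q₀ ^ m = q) : q₀ ≤ 3 := by
  have key : ∀ (l r : ℕ), l.Prime → r.Prime → q = l ^ r → q₀ = l := by
    intro l r hl hr hq
    have hdvd : q₀ ∣ l ^ r := by
      rw [← hq, ← hqm]
      exact dvd_pow_self q₀ (by omega)
    obtain ⟨a, -, ha⟩ := (Nat.dvd_prime_pow hl).1 hdvd
    rw [ha, ← pow_mul, hq] at hqm
    have h1 : a * m = r := Nat.pow_right_injective hl.two_le hqm
    have h2 : m ∣ r := Dvd.intro_left a h1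
    rcases (Nat.dvd_prime hr).1 h2 with h3 | h3
    · omega
    · rw [h3] at h1
      have : a = 1 := by
        have hr0 : 0 < r := hr.pos
        exact Nat.eq_of_mul_eq_mul_right hr0 (by rw [h1, one_mul])
      rw [ha, this, pow_one]
  have keyp : q.Prime → False := by
    intro hq
    have hdvd : q₀ ∣ q := by
      rw [← hqm]
      exact dvd_pow_self q₀ (by omega)
    rcases (Nat.dvd_prime hq).1 hdvd with h1 | h1
    · omega
    · rw [h1] at hqm
      have h2 : q ^ m = q ^ 1 := by rw [hqm, pow_one]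
      have := Nat.pow_right_injective hq.two_le h2
      omega
  rcases h with ⟨r, hr, hq⟩ | ⟨r, hr, hr2, hq⟩ | ⟨hq, -, -⟩ | hq
  · rw [key 2 r Nat.prime_two hr hq]; norm_num
  · rw [key 3 r Nat.prime_three hr hq]
  · exact (keyp hq).elim
  · exact (keyp (by rw [hq]; norm_num)).elim

end Cfsg.Agent.Helper11.Dickson
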