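import Mathlib
import Cfsg.Agent.Lib.Helper11.DicksonMin2

set_option autoImplicit false
set_option linter.unusedVariables false
set_option linter.unusedSectionVars false
set_option linter.unusedSimpArgs false

/-! The groups `PSL₂(q)` with `q` in the list are minimal simple. -/

namespace Cfsg.Agent.Helper11.Dickson

open Matrix Matrix.SpecialLinearGroup
open scoped MatrixGroups
open Cfsg.Agent.Helper2.SL2S
open Cfsg.Agent.Helper12 Cfsg.Agent.Helper4.DC Cfsg.Agent.Helper4.DSL
open Cfsg.Agent.Helper11.Klein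

variable {F : Type*} [Field F] [Fintype F]

theorem solvable_of_list {q : ℕ} (hF : Fintype.card F = q) (hq : MinList q)
    (H : Subgroup (Matrix.ProjectiveSpecialLinearGroup (Fin 2) F)) (hH : H ≠ ⊤) :
    Group.IsSolvable H := by
  obtain ⟨p, hp⟩ := CharP.exists F
  haveI : Fact p.Prime := ⟨CharP.char_is_prime F p⟩
  have hL := card_PSL2_mul (F := F)
  rw [hF] at hL
  have hne : Nat.card H ≠ Nat.card (Matrix.ProjectiveSpecialLinearGroup (Fin 2) F) :=
    fun h => hH (Subgroup.eq_top_of_card_eq H h)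
  rcases dickson_refined hF p H with ⟨k, -, ⟨hc, -⟩ | ⟨⟨e⟩⟩⟩ | ⟨-, s, hs⟩ | ⟨⟨e⟩⟩ | ⟨⟨e⟩⟩ |
    ⟨⟨e⟩⟩ | ⟨K, _, _, m, hm, hK⟩
  · haveI := hc
    obtain ⟨g, hg⟩ := IsCyclic.exists_generator (α := H)
    apply Group.isSolvable_of_comm
    intro a b
    obtain ⟨i, rfl⟩ := Subgroup.mem_zpowers_iff.1 (hg a)
    obtain ⟨j, rfl⟩ := Subgroup.mem_zpowers_iff.1 (hg b)
    rw [← _root_.zpow_add, ← _root_.zpow_add, add_comm]
  · haveI := isSolvable_dihedral k
    exact Group.isSolvable_of_isSolvable_injective (f := e.toMonoidHom) e.injective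
  · exact isSolvable_of_frame H s hs
  · exact Small60.isSolvable_of_card_lt 12 H
      (by rw [Nat.card_congr e.toEquiv, card_alt_four]) (by norm_num)
  · exact Small60.isSolvable_of_card_lt 24 H
      (by rw [Nat.card_congr e.toEquiv, card_perm_four]) (by norm_num)
  · exfalso
    have hH60 : Nat.card H = 60 := by rw [Nat.card_congr e.toEquiv, card_alt_five]
    have h60 : 60 ∣ Nat.card (Matrix.ProjectiveSpecialLinearGroup (Fin 2) F) := by
      rw [← hH60]; exact Subgroup.card_subgroup_dvd_card H
    have h5 : 5 ∣ q * (q - 1) * (q + 1) := by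
      rw [← hL]
      exact Dvd.dvd.mul_left (dvd_trans (by norm_num) h60) _
    rcases hq.mod_five with h4 | h4 | h4 | h4
    · rw [h4] at hL
      have : Nat.gcd 2 (4 - 1) = 1 := by decide
      rw [this] at hL
      apply hne
      omega
    · rw [h4] at hL
      have : Nat.gcd 2 (5 - 1) = 2 := by decide
      rw [this] at hL
      apply hne
      omega
    · rcases (Nat.Prime.dvd_mul Nat.prime_five).1 h5 with h | h
      · rcases (Nat.Prime.dvd_mul Nat.prime_five).1 h with h | h <;> omega
      · omega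
    · rcases (Nat.Prime.dvd_mul Nat.prime_five).1 h5 with h | h
      · rcases (Nat.Prime.dvd_mul Nat.prime_five).1 h with h | h <;> omega
      · omega
  · have hm2 : 2 ≤ m := subfield_two_le H hH K m (hm.trans hF.symm) hK
    have hK2 : 2 ≤ Fintype.card K := Fintype.one_lt_card
    have hK3 : Fintype.card K ≤ 3 := hq.subfield hK2 hm2 hm
    have hcard : Nat.card H ≤ 24 := by
      rcases hK with ⟨⟨e⟩⟩ | ⟨⟨e⟩⟩
      · rw [Nat.card_congr e.toEquiv]
        refine le_trans (card_PSL2_le K) ?_
        have : Fintype.card K = 2 ∨ Fintype.card K = 3 := by omega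
        rcases this with h | h <;> rw [h] <;> norm_num
      · rw [Nat.card_congr e.toEquiv, card_PGL2_eq K]
        have : Fintype.card K = 2 ∨ Fintype.card K = 3 := by omega
        rcases this with h | h <;> rw [h] <;> norm_num
    exact Small60.isSolvable_of_card_lt _ H rfl (by omega)

theorem minimal_of_list {q : ℕ} (hF : Fintype.card F = q) (hq : MinList q) :
    IsSimpleGroup (Matrix.ProjectiveSpecialLinearGroup (Fin 2) F) ∧
      ¬ IsMulCommutative (Matrix.ProjectiveSpecialLinearGroup (Fin 2) F) ∧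
      ∀ H : Subgroup (Matrix.ProjectiveSpecialLinearGroup (Fin 2) F), H ≠ ⊤ →
        Group.IsSolvable H := by
  refine ⟨?_, ?_, fun H hH => solvable_of_list hF hq H hH⟩
  · apply Matrix.ProjectiveSpecialLinearGroup.rank_two_simple
    rw [Nat.card_eq_fintype_card, hF]
    exact hq.four_le
  · intro h
    obtain ⟨a, b, hab⟩ := psl2_noncomm (K := F)
    exact hab (h.is_comm.comm a b)

end Cfsg.Agent.Helper11.Dickson
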