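import Mathlib
import Cfsg.Agent.Lib.Helper11.DicksonMin3
import Cfsg.Agent.S0804

set_option autoImplicit false
set_option linter.unusedVariables false
set_option linter.unusedSectionVars false
set_option linter.unusedSimpArgs false

/-! The minimal simple groups among the `PSL₂(q)`: necessity of the list. -/

namespace Cfsg.Agent.Helper11.Dickson

open Matrix Matrix.SpecialLinearGroup
open scoped MatrixGroups
open Cfsg.Agent.Helper2.SL2S
open Cfsg.Agent.Helper12 Cfsg.Agent.Helper4.DC Cfsg.Agent.Helper4.DSL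
open Cfsg.Agent.Helper11.Klein

variable {F : Type*} [Field F] [Fintype F]

theorem two_mul_lt_of_pow {q₀ q m : ℕ} (hq₀ : 2 ≤ q₀) (hm : 2 ≤ m) (hq : q₀ ^ m = q) :
    2 * (q₀ * (q₀ - 1) * (q₀ + 1)) < q * (q - 1) * (q + 1) := by
  have h1 : 2 * q₀ ≤ q := by
    rw [← hq]
    calc 2 * q₀ ≤ q₀ * q₀ := Nat.mul_le_mul_right _ hq₀
      _ = q₀ ^ 2 := by ring
      _ ≤ q₀ ^ m := Nat.pow_le_pow_right (by omega) hm
  have h2 : q₀ - 1 ≤ q - 1 := by omega
  have h3 : q₀ + 1 < q + 1 := by omega
  have hpos : 0 < q * (q - 1) := Nat.mul_pos (by omega) (by omega)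
  calc 2 * (q₀ * (q₀ - 1) * (q₀ + 1)) = (2 * q₀) * (q₀ - 1) * (q₀ + 1) := by ring
    _ ≤ q * (q - 1) * (q₀ + 1) := by gcongr
    _ < q * (q - 1) * (q + 1) := Nat.mul_lt_mul_of_pos_left h3 hpos

/-- a subfield with at least four elements yields a proper nonsolvable subgroup -/
theorem subfield_obstruction
    (hmin : ∀ H : Subgroup (Matrix.ProjectiveSpecialLinearGroup (Fin 2) F), H ≠ ⊤ →
      Group.IsSolvable H)
    (K : Type*) [Field K] [Fintype K] (hK4 : 4 ≤ Fintype.card K) (m : ℕ) (hm : 2 ≤ m)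
    (hKm : Fintype.card K ^ m = Fintype.card F) : False := by
  obtain ⟨ι⟩ := Cfsg.Agent.Helper28.SubfieldPSL2.exists_ringHom hKm
  obtain ⟨H, ⟨e⟩⟩ := Cfsg.Agent.Helper28.SubfieldPSL2.exists_psl_subgroup ι
  have hns : ¬ Group.IsSolvable H := by
    haveI : IsSimpleGroup (Matrix.ProjectiveSpecialLinearGroup (Fin 2) K) :=
      Matrix.ProjectiveSpecialLinearGroup.rank_two_simple
        (by rw [Nat.card_eq_fintype_card]; exact hK4)
    exact not_solvable_of_equiv e psl2_noncomm
  apply hns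
  apply hmin
  intro htop
  have hc : Nat.card H = Nat.card (Matrix.ProjectiveSpecialLinearGroup (Fin 2) K) :=
    Nat.card_congr e.toEquiv
  rw [htop, Subgroup.card_top] at hc
  have h1 := card_PSL2_mul (F := F)
  have h2 := card_PSL2_le K
  have h3 := two_mul_lt_of_pow (by omega) hm hKm
  have hd := gcd_two_cases (Fintype.card F - 1)
  rw [← h1, hc] at h3
  rcases hd with h | h <;> rw [h] at h3 <;> omega

/-- a subgroup `A₅` in a larger group is a proper nonsolvable subgroup -/
theorem alt_five_obstruction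
    (hmin : ∀ H : Subgroup (Matrix.ProjectiveSpecialLinearGroup (Fin 2) F), H ≠ ⊤ →
      Group.IsSolvable H)
    (h5 : 5 ∣ Fintype.card F * (Fintype.card F ^ 2 - 1)) (hq : 5 < Fintype.card F) : False := by
  obtain ⟨H, ⟨e⟩⟩ := (Cfsg.Agent.S0804.result (F := F) rfl).2 h5
  have hns : ¬ Group.IsSolvable H := by
    haveI := alternatingGroup.isSimpleGroup_five
    exact not_solvable_of_equiv e alt_five_noncomm
  apply hns
  apply hmin
  intro htop
  have hc : Nat.card H = 60 := by rw [Nat.card_congr e.toEquiv, card_alt_five]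
  rw [htop, Subgroup.card_top] at hc
  have h1 := card_PSL2_mul (F := F)
  rw [hc] at h1
  have hd := gcd_two_cases (Fintype.card F - 1)
  have h6 : 6 ≤ Fintype.card F := hq
  have h3 : 6 * 5 * 7 ≤ Fintype.card F * (Fintype.card F - 1) * (Fintype.card F + 1) := by
    gcongr <;> omega
  rcases hd with h | h <;> rw [h] at h1 <;> omega

end Cfsg.Agent.Helper11.Dickson
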