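import Mathlib
import Cfsg.Agent.Lib.Helper11.DicksonMin4

set_option autoImplicit false
set_option linter.unusedVariables false
set_option linter.unusedSectionVars false
set_option linter.unusedSimpArgs false

/-! The minimal simple groups among the `PSL₂(q)`: the list is necessary. -/

namespace Cfsg.Agent.Helper11.Dickson

open Matrix Matrix.SpecialLinearGroup
open scoped MatrixGroups
open Cfsg.Agent.Helper2.SL2S
open Cfsg.Agent.Helper12 Cfsg.Agent.Helper4.DC Cfsg.Agent.Helper4.DSL
open Cfsg.Agent.Helper11.Klein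

variable {F : Type*} [Field F] [Fintype F]

theorem five_dvd_of_mod {q : ℕ} (h : q % 5 = 0 ∨ q % 5 = 1 ∨ q % 5 = 4) :
    5 ∣ q * (q ^ 2 - 1) := by
  rcases Nat.eq_zero_or_pos q with h0 | h0
  · rw [h0]; simp
  obtain ⟨r, rfl⟩ : ∃ r, q = r + 1 := ⟨q - 1, by omega⟩
  have e : (r + 1) ^ 2 - 1 = r * (r + 2) := by
    have : (r + 1) ^ 2 = r * (r + 2) + 1 := by ring
    omega
  rw [e]
  rcases h with h | h | h
  · exact Dvd.dvd.mul_right (Nat.dvd_of_mod_eq_zero h) _
  · exact Dvd.dvd.mul_left (Dvd.dvd.mul_right (Nat.dvd_of_mod_eq_zero (by omega)) _) _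
  · exact Dvd.dvd.mul_left (Dvd.dvd.mul_left (Nat.dvd_of_mod_eq_zero (by omega)) _) _

theorem list_of_minimal {q : ℕ} (hF : Fintype.card F = q)
    (hs : IsSimpleGroup (Matrix.ProjectiveSpecialLinearGroup (Fin 2) F))
    (hnc : ¬ IsMulCommutative (Matrix.ProjectiveSpecialLinearGroup (Fin 2) F))
    (hmin : ∀ H : Subgroup (Matrix.ProjectiveSpecialLinearGroup (Fin 2) F), H ≠ ⊤ →
      Group.IsSolvable H) : MinList q := by
  subst hF
  obtain ⟨p, hp⟩ := CharP.exists F
  haveI hpf : Fact p.Prime := ⟨CharP.char_is_prime F p⟩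
  have hpp : p.Prime := hpf.out
  obtain ⟨n, -, hn⟩ := FiniteField.card F p
  have hLns : ¬ Group.IsSolvable (Matrix.ProjectiveSpecialLinearGroup (Fin 2) F) := by
    intro h
    apply hnc
    exact ⟨⟨fun a b => IsSimpleGroup.comm_iff_isSolvable.2 h a b⟩⟩
  have h60 : 60 ≤ Nat.card (Matrix.ProjectiveSpecialLinearGroup (Fin 2) F) := by
    by_contra hlt
    exact hLns (Small60.isSolvable_of_card_lt _ _ rfl (by omega))
  have hL := card_PSL2_mul (F := F)
  have hq4 : 4 ≤ Fintype.card F := by
    by_contra hlt
    have h2 : 2 ≤ Fintype.card F := Fintype.one_lt_card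
    have : Fintype.card F = 2 ∨ Fintype.card F = 3 := by omega
    rcases this with h | h
    · rw [h] at hL
      have : Nat.gcd 2 (2 - 1) = 1 := by decide
      rw [this] at hL
      omega
    · rw [h] at hL
      have : Nat.gcd 2 (3 - 1) = 2 := by decide
      rw [this] at hL
      omega
  have hn1 : 1 ≤ (n : ℕ) := n.pos
  rcases Nat.eq_or_lt_of_le hn1 with hn1' | hn2
  · -- prime field
    rw [← hn1', pow_one] at hn
    have hqp : (Fintype.card F).Prime := by rw [hn]; exact hpp
    have hq5 : 5 ≤ Fintype.card F := by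
      rcases Nat.eq_or_lt_of_le hq4 with h | h
      · exfalso
        rw [← h] at hqp
        norm_num at hqp
      · exact h
    rcases Nat.eq_or_lt_of_le hq5 with h | h
    · right; right; right; exact h.symm
    · right; right; left
      refine ⟨hqp, h, ?_⟩
      by_contra hcon
      exact alt_five_obstruction hmin (five_dvd_of_mod (by omega)) h
  · -- proper prime power
    have hp3 : p ≤ 3 := by
      by_contra hp4
      push Not at hp4
      exact subfield_obstruction hmin (ZMod p) (by rw [ZMod.card]; exact hp4) (n : ℕ) hn2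
        (by rw [ZMod.card, hn])
    have hnp : (n : ℕ).Prime := by
      by_contra hnp
      obtain ⟨a, ⟨b, hab⟩, ha2, han⟩ := Nat.exists_dvd_of_not_prime2 hn2 hnp
      have hb2 : 2 ≤ b := by
        by_contra hb
        push Not at hb
        have : b = 0 ∨ b = 1 := by omega
        rcases this with h | h <;> rw [h] at hab <;> omega
      letI : Fintype (GaloisField p a) := Fintype.ofFinite _
      have hcard : Fintype.card (GaloisField p a) = p ^ a := by
        rw [← Nat.card_eq_fintype_card, GaloisField.card p a (by omega)]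
      refine subfield_obstruction hmin (GaloisField p a) ?_ b hb2 ?_
      · rw [hcard]
        calc 4 = 2 ^ 2 := by norm_num
          _ ≤ p ^ 2 := Nat.pow_le_pow_left hpp.two_le 2
          _ ≤ p ^ a := Nat.pow_le_pow_right hpp.pos ha2
      · rw [hcard, ← pow_mul, ← hab, hn]
    have hp23 : p = 2 ∨ p = 3 := by
      have := hpp.two_le
      omega
    rcases hp23 with h | h
    · left
      exact ⟨n, hnp, by rw [hn, h]⟩
    · right; left
      refine ⟨n, hnp, ?_, by rw [hn, h]⟩
      intro hn2'
      rw [h, hn2'] at hn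
      have h9 : Fintype.card F = 9 := by rw [hn]; norm_num
      exact alt_five_obstruction hmin (by rw [h9]; norm_num) (by rw [h9]; norm_num)

end Cfsg.Agent.Helper11.Dickson
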