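import Mathlib
import Cfsg.Agent.S0556
import Cfsg.Agent.Lib.Helper11.DicksonMin5

set_option autoImplicit false
set_option linter.unusedVariables false
set_option linter.unusedSectionVars false
set_option linter.unusedSimpArgs false

/-! General lemmas for the maximal subgroups of `PSL₂(q)`. -/

namespace Cfsg.Agent.Helper11.Dickson

/-- a maximal subgroup of a noncommutative simple group is not commutative -/
theorem not_comm_of_coatom {G : Type*} [Group G] [Finite G] [IsSimpleGroup G]
    (hG : ∃ a b : G, a * b ≠ b * a) (M : Subgroup G) (hM : IsCoatom M)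
    (hc : ∀ a ∈ M, ∀ b ∈ M, a * b = b * a) : False := by
  haveI : IsMulCommutative M := ⟨⟨fun a b => Subtype.ext (hc a a.2 b b.2)⟩⟩
  have h3 := Cfsg.Agent.S0556.result M hM
  have hs : Group.IsSolvable G := (isSolvable_def G).2 ⟨3, h3⟩
  obtain ⟨a, b, hab⟩ := hG
  exact hab (IsSimpleGroup.comm_iff_isSolvable.2 hs a b)

/-- an element of order at least three of a dihedral group is a rotation -/
theorem dihedral_orderOf_dvd {n : ℕ} [NeZero n] (x : DihedralGroup n) (hx : 3 ≤ orderOf x) :
    orderOf x ∣ n := by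
  rcases x with i | i
  · rw [DihedralGroup.orderOf_r]
    exact Nat.div_dvd_of_dvd (Nat.gcd_dvd_left _ _)
  · rw [DihedralGroup.orderOf_sr] at hx
    omega

set_option maxRecDepth 100000 in
theorem alt_four_pow : ∀ x : alternatingGroup (Fin 4), x ^ 2 = 1 ∨ x ^ 3 = 1 := by decide

set_option maxRecDepth 100000 in
theorem perm_four_pow : ∀ x : Equiv.Perm (Fin 4), x ^ 2 = 1 ∨ x ^ 3 = 1 ∨ x ^ 4 = 1 := by
  decide

set_option maxRecDepth 100000 in
theorem alt_five_pow : ∀ x : alternatingGroup (Fin 5), x ^ 2 = 1 ∨ x ^ 3 = 1 ∨ x ^ 5 = 1 := by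
  decide

set_option maxRecDepth 100000 in
theorem alt_four_not_inverted :
    ∀ t c : alternatingGroup (Fin 4), c ^ 3 = 1 → t * c * t⁻¹ = c⁻¹ → c = 1 := by decide

theorem alt_four_orderOf (x : alternatingGroup (Fin 4)) : orderOf x ≤ 3 := by
  rcases alt_four_pow x with h | h
  · exact le_trans (Nat.le_of_dvd (by norm_num) (orderOf_dvd_of_pow_eq_one h)) (by norm_num)
  · exact Nat.le_of_dvd (by norm_num) (orderOf_dvd_of_pow_eq_one h)

theorem perm_four_orderOf (x : Equiv.Perm (Fin 4)) : orderOf x ≤ 4 := by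
  rcases perm_four_pow x with h | h | h
  · exact le_trans (Nat.le_of_dvd (by norm_num) (orderOf_dvd_of_pow_eq_one h)) (by norm_num)
  · exact le_trans (Nat.le_of_dvd (by norm_num) (orderOf_dvd_of_pow_eq_one h)) (by norm_num)
  · exact Nat.le_of_dvd (by norm_num) (orderOf_dvd_of_pow_eq_one h)

theorem alt_five_orderOf (x : alternatingGroup (Fin 5)) :
    orderOf x ∣ 2 ∨ orderOf x ∣ 3 ∨ orderOf x ∣ 5 := by
  rcases alt_five_pow x with h | h | h
  · exact Or.inl (orderOf_dvd_of_pow_eq_one h)
  · exact Or.inr (Or.inl (orderOf_dvd_of_pow_eq_one h))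
  · exact Or.inr (Or.inr (orderOf_dvd_of_pow_eq_one h))

end Cfsg.Agent.Helper11.Dickson
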