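import Mathlib
import Cfsg.Agent.Lib.Helper11.DicksonMax1
import Cfsg.Agent.Lib.Helper12.PSL2Orders

set_option autoImplicit false
set_option linter.unusedVariables false
set_option linter.unusedSectionVars false
set_option linter.unusedSimpArgs false

/-! Order lemmas for the maximal subgroups of `PSL₂(q)`. -/

namespace Cfsg.Agent.Helper11.Dickson

open Matrix Matrix.SpecialLinearGroup
open scoped MatrixGroups
open Cfsg.Agent.Helper2.SL2S
open Cfsg.Agent.Helper12 Cfsg.Agent.Helper4.DC Cfsg.Agent.Helper4.DSL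
open Cfsg.Agent.Helper11.Klein

variable {F : Type*} [Field F] [Fintype F]

/-- a subgroup which is upper triangular in some frame has order dividing `q (q - 1)` -/
theorem card_dvd_of_frame (Hs : Subgroup SL(2, F)) (s : SL(2, F))
    (hs : ∀ h ∈ Hs, (s * h * s⁻¹).1 1 0 = 0) :
    Nat.card Hs ∣ Fintype.card F * (Fintype.card F - 1) := by
  rw [← card_borelSL2]
  let f : ↥Hs →* ↥(borelSL2 F) :=
    ((MulAut.conj s).toMonoidHom.comp Hs.subtype).codRestrict (borelSL2 F) (fun h => by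
      show s * (h : SL(2, F)) * s⁻¹ ∈ borelSL2 F
      exact (mem_borelSL2_iff _).2 (hs h h.2))
  apply Subgroup.card_dvd_of_injective f
  intro x y hxy
  have h1 : s * (x : SL(2, F)) * s⁻¹ = s * (y : SL(2, F)) * s⁻¹ := congrArg Subtype.val hxy
  apply Subtype.ext
  have : (x : SL(2, F)) = s⁻¹ * (s * (x : SL(2, F)) * s⁻¹) * s := by group
  rw [this, h1]; group

/-- a subgroup of `PSL₂` of Borel type has order dividing `q (q - 1) / d` -/
theorem card_mul_dvd_of_frame (H : Subgroup (Matrix.ProjectiveSpecialLinearGroup (Fin 2) F))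
    (s : SL(2, F)) (hs : ∀ h ∈ preim H, (s * h * s⁻¹).1 1 0 = 0) :
    Nat.card H * Nat.gcd 2 (Fintype.card F - 1) ∣ Fintype.card F * (Fintype.card F - 1) := by
  rw [← card_preim H]
  exact card_dvd_of_frame (preim H) s hs

/-- the square of an element of `PGL₂` lies in the image of `PSL₂` -/
theorem pgl_sq_mem_range {K : Type*} [Field K] (x : Matrix.ProjGenLinGroup (Fin 2) K) :
    ∃ y : Matrix.ProjectiveSpecialLinearGroup (Fin 2) K,
      x ^ 2 = Matrix.ProjectiveSpecialLinearGroup.toPGL y := by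
  induction x using Matrix.ProjGenLinGroup.induction_on with | mk g =>
  have hdet : (g.1.det) ≠ 0 := by
    have := g.det.ne_zero
    simpa using this
  let B : SL(2, K) := ⟨(g.1.det)⁻¹ • (g.1 * g.1), by
    rw [Matrix.det_smul, Matrix.det_mul, Fintype.card_fin]
    field_simp⟩
  refine ⟨QuotientGroup.mk B, ?_⟩
  rw [Matrix.ProjectiveSpecialLinearGroup.toPGL_mk, ← map_pow,
    Matrix.ProjGenLinGroup.mk_eq_mk_iff]
  refine ⟨(Units.mk0 _ hdet)⁻¹, ?_⟩
  apply Units.ext
  rw [Units.val_mul, pow_two, Units.val_mul]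
  ext i j
  rw [Matrix.SpecialLinearGroup.coe_GL_coe_matrix]
  fin_cases i <;> fin_cases j <;>
  simp [B, Matrix.GeneralLinearGroup.scalar, Matrix.mul_apply, Matrix.smul_apply,
    Fin.sum_univ_two] <;> ring

theorem gcd_two_pow_sub_one {q₀ m : ℕ} (hq₀ : 1 ≤ q₀) (hm : 1 ≤ m) :
    Nat.gcd 2 (q₀ ^ m - 1) = Nat.gcd 2 (q₀ - 1) := by
  have hpos : 1 ≤ q₀ ^ m := Nat.one_le_pow _ _ hq₀
  rcases Nat.even_or_odd q₀ with he | ho
  · have he' : Even (q₀ ^ m) := (Nat.even_pow.2 ⟨he, by omega⟩)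
    have h1 : Odd (q₀ ^ m - 1) := by
      rw [Nat.odd_iff]; rw [Nat.even_iff] at he'; omega
    have h2 : Odd (q₀ - 1) := by
      rw [Nat.odd_iff]; rw [Nat.even_iff] at he; omega
    rw [Nat.coprime_two_left.2 h1, Nat.coprime_two_left.2 h2]
  · have ho' : Odd (q₀ ^ m) := ho.pow
    have h1 : 2 ∣ q₀ ^ m - 1 := by
      rw [Nat.odd_iff] at ho'; omega
    have h2 : 2 ∣ q₀ - 1 := by
      rw [Nat.odd_iff] at ho; omega
    rw [Nat.gcd_eq_left h1, Nat.gcd_eq_left h2]

/-- the order of a subgroup of subfield type divides `q₀ (q₀ - 1) (q₀ + 1)` -/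
theorem card_dvd_of_subfield {G : Type*} [Group G] (K : Type*) [Field K] [Fintype K]
    (hK : Nonempty (G ≃* Matrix.ProjectiveSpecialLinearGroup (Fin 2) K) ∨
      Nonempty (G ≃* Matrix.ProjGenLinGroup (Fin 2) K)) :
    Nat.card G ∣ Fintype.card K * (Fintype.card K - 1) * (Fintype.card K + 1) := by
  rcases hK with ⟨⟨e⟩⟩ | ⟨⟨e⟩⟩
  · rw [Nat.card_congr e.toEquiv, ← card_PSL2_mul (F := K)]
    exact Dvd.intro_left _ rfl
  · rw [Nat.card_congr e.toEquiv, card_PGL2_eq K]

/-- the order of an element of a subgroup, transported along an isomorphism -/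
theorem orderOf_equiv_mk {G X : Type*} [Group G] [Group X] (M : Subgroup G) (e : M ≃* X)
    (x : G) (hx : x ∈ M) : orderOf (e ⟨x, hx⟩) = orderOf x := by
  rw [MulEquiv.orderOf_eq e, Subgroup.orderOf_mk]

end Cfsg.Agent.Helper11.Dickson
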