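import Mathlib
import Cfsg.Agent.Lib.Helper11.DicksonMax2

set_option autoImplicit false
set_option linter.unusedVariables false
set_option linter.unusedSectionVars false
set_option linter.unusedSimpArgs false

/-! The dihedral maximal subgroups of order `2 (q + 1) / d` of `PSL₂(q)`. -/

namespace Cfsg.Agent.Helper11.Dickson

open Matrix Matrix.SpecialLinearGroup
open scoped MatrixGroups
open Cfsg.Agent.Helper2.SL2S
open Cfsg.Agent.Helper12 Cfsg.Agent.Helper4.DC Cfsg.Agent.Helper4.DSL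
open Cfsg.Agent.Helper11.Klein

variable {F : Type*} [Field F] [Fintype F]

theorem comm_of_isCyclic {G : Type*} [Group G] (M : Subgroup G) (hc : IsCyclic M) :
    ∀ a ∈ M, ∀ b ∈ M, a * b = b * a := by
  intro a ha b hb
  obtain ⟨g, hg⟩ := IsCyclic.exists_generator (α := M)
  obtain ⟨i, hi⟩ := Subgroup.mem_zpowers_iff.1 (hg ⟨a, ha⟩)
  obtain ⟨j, hj⟩ := Subgroup.mem_zpowers_iff.1 (hg ⟨b, hb⟩)
  have : (⟨a, ha⟩ : M) * ⟨b, hb⟩ = ⟨b, hb⟩ * ⟨a, ha⟩ := by
    rw [← hi, ← hj, ← _root_.zpow_add, ← _root_.zpow_add, add_comm]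
  exact congrArg Subtype.val this

theorem not_succ_dvd {q : ℕ} (hq : 2 ≤ q) : ¬ (q + 1) ∣ q * (q - 1) := by
  intro h
  obtain ⟨r, rfl⟩ : ∃ r, q = r + 2 := ⟨q - 2, by omega⟩
  have e : (r + 2) * (r + 2 - 1) = (r + 2 + 1) * r + 2 := by
    have : r + 2 - 1 = r + 1 := by omega
    rw [this]; ring
  rw [e] at h
  have h2 : (r + 2 + 1) ∣ 2 := (Nat.dvd_add_right (Dvd.intro _ rfl)).1 h
  have := Nat.le_of_dvd (by norm_num) h2
  omega

theorem coprime_succ_of_dvd {k q q₀ m : ℕ} (hk : k ∣ q + 1) (hm : 1 ≤ m) (hq : q₀ ^ m = q) :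
    Nat.Coprime k q₀ := by
  have h1 : Nat.Coprime (q + 1) q := by
    rw [Nat.coprime_comm]
    exact (Nat.coprime_self_add_right).2 (Nat.coprime_one_right q)
  have h2 : q₀ ∣ q := by
    rw [← hq]; exact dvd_pow_self q₀ (by omega)
  exact Nat.Coprime.coprime_dvd_left hk (Nat.Coprime.coprime_dvd_right h2 h1)

/-- the arithmetic of the subfield case for `q + 1` -/
theorem subfield_plus_arith {k q q₀ m d : ℕ} (hq₀ : 2 ≤ q₀) (hm : 2 ≤ m) (hq : q₀ ^ m = q)
    (hkd : k * d = q + 1) (hd : d = 1 ∨ d = 2) (hk3 : 3 ≤ k)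
    (hdvd : k ∣ q₀ * (q₀ - 1) * (q₀ + 1)) : False := by
  have hcop : Nat.Coprime k q₀ := coprime_succ_of_dvd (Dvd.intro _ hkd) (by omega) hq
  have h1 : k ∣ (q₀ - 1) * (q₀ + 1) := by
    rw [mul_assoc] at hdvd
    exact Nat.Coprime.dvd_of_dvd_mul_left hcop hdvd
  obtain ⟨r, rfl⟩ : ∃ r, q₀ = r + 2 := ⟨q₀ - 2, by omega⟩
  have e : (r + 2 - 1) * (r + 2 + 1) + 1 = (r + 2) ^ 2 := by
    have : r + 2 - 1 = r + 1 := by omega
    rw [this]; ring
  have hNpos : 0 < (r + 2 - 1) * (r + 2 + 1) := Nat.mul_pos (by omega) (by omega)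
  rcases Nat.eq_or_lt_of_le hm with h2 | h3
  · rw [← h2] at hq
    have h3 : k ∣ (r + 2 - 1) * (r + 2 + 1) + 2 := by
      have : (r + 2 - 1) * (r + 2 + 1) + 2 = q + 1 := by rw [← hq, ← e]
      rw [this]; exact Dvd.intro _ hkd
    have h4 : k ∣ 2 := (Nat.dvd_add_right h1).1 h3
    have := Nat.le_of_dvd (by norm_num) h4
    omega
  · have hle : k ≤ (r + 2 - 1) * (r + 2 + 1) := Nat.le_of_dvd hNpos h1
    have hpow : (r + 2) ^ 3 ≤ q := by
      rw [← hq]; exact Nat.pow_le_pow_right (by omega) h3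
    have h5 : 2 * (r + 2) ^ 2 ≤ (r + 2) ^ 3 := by
      have : (r + 2) ^ 3 = (r + 2) * (r + 2) ^ 2 := by ring
      rw [this]; exact Nat.mul_le_mul_right _ (by omega)
    have h6 : q + 1 ≤ 2 * k := by
      rw [← hkd]
      rcases hd with h | h <;> rw [h] <;> omega
    omega

theorem psl2_card_five (h5 : Fintype.card F = 5) :
    Nat.card (Matrix.ProjectiveSpecialLinearGroup (Fin 2) F) = 60 := by
  have hL := card_PSL2_mul (F := F)
  rw [h5] at hL
  have : Nat.gcd 2 (5 - 1) = 2 := by decide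
  rw [this] at hL
  omega

theorem psl2_card_four (h4 : Fintype.card F = 4) :
    Nat.card (Matrix.ProjectiveSpecialLinearGroup (Fin 2) F) = 60 := by
  have hL := card_PSL2_mul (F := F)
  rw [h4] at hL
  have : Nat.gcd 2 (4 - 1) = 1 := by decide
  rw [this] at hL
  omega

/-- a maximal subgroup containing an element of order `(q + 1) / d` is dihedral -/
theorem plus_core (p : ℕ) [Fact p.Prime] [CharP F p] (h4 : 4 ≤ Fintype.card F)
    (h7 : Fintype.card F ≠ 7) (h9 : Fintype.card F ≠ 9)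
    (M : Subgroup (Matrix.ProjectiveSpecialLinearGroup (Fin 2) F)) (hM : IsCoatom M)
    (x : Matrix.ProjectiveSpecialLinearGroup (Fin 2) F) (hxM : x ∈ M)
    (hx : orderOf x = (Fintype.card F + 1) / Nat.gcd 2 (Fintype.card F - 1))
    (h5 : Fintype.card F = 5 → ∃ t ∈ M, t * x * t⁻¹ = x⁻¹) :
    Nonempty (M ≃* DihedralGroup ((Fintype.card F + 1) / Nat.gcd 2 (Fintype.card F - 1))) := by
  obtain ⟨q, hq⟩ : ∃ q, Fintype.card F = q := ⟨_, rfl⟩
  obtain ⟨d, hd⟩ : ∃ d, Nat.gcd 2 (q - 1) = d := ⟨_, rfl⟩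
  obtain ⟨k, hk⟩ : ∃ k, (q + 1) / d = k := ⟨_, rfl⟩
  have hL := card_PSL2_mul (F := F)
  rw [hq] at h4 h7 h9 hx h5 hL ⊢
  rw [hd] at hx hL ⊢
  rw [hk] at hx ⊢
  have hd12 : d = 1 ∨ d = 2 := by rw [← hd]; exact gcd_two_cases _
  have hdq : d ∣ q - 1 := by rw [← hd]; exact Nat.gcd_dvd_right _ _
  have hkd : k * d = q + 1 := by
    rcases hd12 with h | h
    · rw [h] at hk ⊢; rw [← hk]; simp
    · rw [h] at hk hdq ⊢
      obtain ⟨c, hc⟩ := hdq
      rw [← hk]; omega
  have hk3 : 3 ≤ k := by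
    rcases hd12 with h | h
    · rw [h] at hkd; omega
    · rw [h] at hkd hdq
      obtain ⟨c, hc⟩ := hdq
      omega
  haveI : IsSimpleGroup (Matrix.ProjectiveSpecialLinearGroup (Fin 2) F) :=
    Matrix.ProjectiveSpecialLinearGroup.rank_two_simple
      (by rw [Nat.card_eq_fintype_card, hq]; exact h4)
  have hxc : k ∣ Nat.card M := by rw [← hx]; exact Subgroup.orderOf_dvd_natCard M hxM
  have hMdvd : Nat.card M ∣ Nat.card (Matrix.ProjectiveSpecialLinearGroup (Fin 2) F) :=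
    Subgroup.card_subgroup_dvd_card M
  have hMne : Nat.card M ≠ Nat.card (Matrix.ProjectiveSpecialLinearGroup (Fin 2) F) :=
    fun h => hM.1 (Subgroup.eq_top_of_card_eq M h)
  have hq5 : k = 3 → q = 5 := by
    intro h3
    rw [h3] at hkd
    rcases hd12 with h | h <;> rw [h] at hkd <;> omega
  rcases dickson_refined hq p M with ⟨k', hk', ⟨hc, -⟩ | ⟨⟨e⟩⟩⟩ | ⟨-, s, hs⟩ | ⟨⟨e⟩⟩ | ⟨⟨e⟩⟩ |
    ⟨⟨e⟩⟩ | ⟨K, _, _, m, hm, hK⟩
  · exact (not_comm_of_coatom psl2_noncomm M hM (comm_of_isCyclic M hc)).elim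
  · rw [hd, hk] at hk'
    have hk'0 : k' ≠ 0 := by
      rintro rfl
      rcases hk' with h | h
      · rw [zero_dvd_iff] at h; omega
      · rw [zero_dvd_iff] at h
        have : 0 < (q - 1) / d := Nat.div_pos (Nat.le_of_dvd (by omega) hdq) (by omega)
        omega
    haveI : NeZero k' := ⟨hk'0⟩
    have ho := orderOf_equiv_mk M e x hxM
    have hdv : k ∣ k' := by
      rw [← hx, ← ho]
      exact dihedral_orderOf_dvd _ (by rw [ho, hx]; exact hk3)
    rcases hk' with h | h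
    · have : k' = k := Nat.dvd_antisymm h hdv
      rw [← this]; exact ⟨e⟩
    · exfalso
      have h1 : k ≤ (q - 1) / d :=
        Nat.le_of_dvd (Nat.div_pos (Nat.le_of_dvd (by omega) hdq) (by omega)) (hdv.trans h)
      rcases hd12 with h' | h' <;> rw [h'] at h1 hkd <;> omega
  · exfalso
    have h1 := card_mul_dvd_of_frame M s hs
    rw [hq, hd] at h1
    have h2 : q + 1 ∣ q * (q - 1) := by
      rw [← hkd]
      exact (Nat.mul_dvd_mul_right hxc d).trans h1
    exact not_succ_dvd (by omega) h2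
  · exfalso
    have ho := orderOf_equiv_mk M e x hxM
    have hle := alt_four_orderOf (e ⟨x, hxM⟩)
    rw [ho, hx] at hle
    have hk3' : k = 3 := by omega
    obtain ⟨t, htM, htx⟩ := h5 (hq5 hk3')
    have h3 : (e ⟨x, hxM⟩) ^ 3 = 1 := by
      rw [← hk3', ← hx, ← ho]; exact pow_orderOf_eq_one _
    have hinv : e ⟨t, htM⟩ * e ⟨x, hxM⟩ * (e ⟨t, htM⟩)⁻¹ = (e ⟨x, hxM⟩)⁻¹ := by
      rw [← map_inv, ← map_mul, ← map_mul, ← map_inv]
      congr 1
      exact Subtype.ext htx
    have h1 := alt_four_not_inverted _ _ h3 hinv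
    rw [h1, orderOf_one] at ho
    omega
  · exfalso
    have ho := orderOf_equiv_mk M e x hxM
    have hle := perm_four_orderOf (e ⟨x, hxM⟩)
    rw [ho, hx] at hle
    have hc24 : Nat.card M = 24 := by rw [Nat.card_congr e.toEquiv, card_perm_four]
    have hk34 : k = 3 ∨ k = 4 := by omega
    rcases hk34 with h | h
    · have h5' := hq5 h
      rw [← hq] at h5'
      rw [hc24, psl2_card_five h5'] at hMdvd
      omega
    · rw [h] at hkd
      rcases hd12 with h' | h' <;> rw [h'] at hkd hdq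
      · omega
      · omega
  · exfalso
    have ho := orderOf_equiv_mk M e x hxM
    have hdv := alt_five_orderOf (e ⟨x, hxM⟩)
    rw [ho, hx] at hdv
    have hc60 : Nat.card M = 60 := by rw [Nat.card_congr e.toEquiv, card_alt_five]
    rcases hdv with h | h | h
    · have := Nat.le_of_dvd (by norm_num) h
      omega
    · have hk3' : k = 3 := by
        have := Nat.le_of_dvd (by norm_num) h
        omega
      have h5' := hq5 hk3'
      rw [← hq] at h5'
      exact hMne (by rw [hc60, psl2_card_five h5'])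
    · have hk5 : k = 5 := by
        rcases (Nat.dvd_prime Nat.prime_five).1 h with h' | h'
        · omega
        · exact h'
      rw [hk5] at hkd
      rcases hd12 with h' | h' <;> rw [h'] at hkd
      · have h4' : Fintype.card F = 4 := by rw [hq]; omega
        exact hMne (by rw [hc60, psl2_card_four h4'])
      · omega
  · exfalso
    have hm2 : 2 ≤ m := subfield_two_le M hM.1 K m (hm.trans hq.symm) hK
    have hK2 : 2 ≤ Fintype.card K := Fintype.one_lt_card
    exact subfield_plus_arith hK2 hm2 hm hkd hd12 hk3 (hxc.trans (card_dvd_of_subfield K hK))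

end Cfsg.Agent.Helper11.Dickson
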