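import Mathlib
import Cfsg.Agent.Lib.Helper11.DicksonMax3

set_option autoImplicit false
set_option linter.unusedVariables false
set_option linter.unusedSectionVars false
set_option linter.unusedSimpArgs false

/-! Existence of the dihedral maximal subgroups of order `2 (q + 1) / d` of `PSL₂(q)`. -/

namespace Cfsg.Agent.Helper11.Dickson

open Matrix Matrix.SpecialLinearGroup
open scoped MatrixGroups
open Cfsg.Agent.Helper2.SL2S
open Cfsg.Agent.Helper12 Cfsg.Agent.Helper4.DC Cfsg.Agent.Helper4.DSL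
open Cfsg.Agent.Helper11.Klein
open Cfsg.Agent.Helper2.PN (mkn mkn_surjective mkn_eq_iff)

section general

variable {G : Type*} [Group G] [Finite G] [IsSimpleGroup G]

/-- a maximal subgroup containing a given element -/
theorem exists_coatom_of_mem (hG : ∃ a b : G, a * b ≠ b * a) (x : G) :
    ∃ M : Subgroup G, IsCoatom M ∧ x ∈ M := by
  have hT : Subgroup.zpowers x ≠ ⊤ := by
    intro h
    obtain ⟨a, b, hab⟩ := hG
    have ha : a ∈ Subgroup.zpowers x := by rw [h]; trivial
    have hb : b ∈ Subgroup.zpowers x := by rw [h]; trivial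
    obtain ⟨i, rfl⟩ := Subgroup.mem_zpowers_iff.1 ha
    obtain ⟨j, rfl⟩ := Subgroup.mem_zpowers_iff.1 hb
    apply hab
    rw [← _root_.zpow_add, ← _root_.zpow_add, add_comm]
  obtain ⟨M, hM, hle⟩ := (eq_top_or_exists_le_coatom (Subgroup.zpowers x)).resolve_left hT
  exact ⟨M, hM, hle (Subgroup.mem_zpowers x)⟩

/-- a maximal subgroup containing a given element and an element inverting it -/
theorem exists_coatom_of_inverting (hG : ∃ a b : G, a * b ≠ b * a) (x t : G) (hx1 : x ≠ 1)
    (ht : t * x * t⁻¹ = x⁻¹) : ∃ M : Subgroup G, IsCoatom M ∧ x ∈ M ∧ t ∈ M := by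
  have hT : Subgroup.zpowers x ≠ ⊤ := by
    intro h
    obtain ⟨a, b, hab⟩ := hG
    have ha : a ∈ Subgroup.zpowers x := by rw [h]; trivial
    have hb : b ∈ Subgroup.zpowers x := by rw [h]; trivial
    obtain ⟨i, rfl⟩ := Subgroup.mem_zpowers_iff.1 ha
    obtain ⟨j, rfl⟩ := Subgroup.mem_zpowers_iff.1 hb
    apply hab
    rw [← _root_.zpow_add, ← _root_.zpow_add, add_comm]
  have hN : Subgroup.normalizer ((Subgroup.zpowers x : Subgroup G) : Set G) ≠ ⊤ := by
    intro h
    have hn : (Subgroup.zpowers x).Normal := Subgroup.normalizer_eq_top_iff.1 h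
    rcases hn.eq_bot_or_eq_top with h1 | h1
    · apply hx1
      have : x ∈ Subgroup.zpowers x := Subgroup.mem_zpowers x
      rw [h1, Subgroup.mem_bot] at this
      exact this
    · exact hT h1
  obtain ⟨M, hM, hle⟩ := (eq_top_or_exists_le_coatom _).resolve_left hN
  refine ⟨M, hM, hle (Subgroup.le_normalizer (Subgroup.mem_zpowers x)), hle ?_⟩
  apply Subgroup.mem_normalizer_fintype
  intro n hn
  obtain ⟨i, rfl⟩ := Subgroup.mem_zpowers_iff.1 hn
  rw [SetLike.mem_coe, ← conj_zpow, ht]
  exact Subgroup.zpow_mem _ (Subgroup.inv_mem _ (Subgroup.mem_zpowers x)) i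

end general

variable {F : Type*} [Field F] [Fintype F]

/-- an element of order three -/
def x3 (F : Type*) [Field F] : SL(2, F) := nn 1 * u (-1)

theorem x3_00 : (x3 F).1 0 0 = 0 := by
  simp only [x3, m00, nn00 one_ne_zero, nn01 one_ne_zero, u00, u10]; ring
theorem x3_01 : (x3 F).1 0 1 = -1 := by
  simp only [x3, m01, nn00 one_ne_zero, nn01 one_ne_zero, u01, u11]; simp
theorem x3_10 : (x3 F).1 1 0 = 1 := by
  simp only [x3, m10, nn10, nn11 one_ne_zero, u00, u10]; ring
theorem x3_11 : (x3 F).1 1 1 = -1 := by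
  simp only [x3, m11, nn10, nn11 one_ne_zero, u01, u11]; ring

theorem x3_pow : (x3 F) ^ 3 = 1 := by
  rw [pow_succ, pow_two]
  apply sl2_ext <;>
  simp only [m00, m01, m10, m11, x3_00, x3_01, x3_10, x3_11, Matrix.SpecialLinearGroup.coe_one,
    Matrix.one_apply_eq, Matrix.one_apply_ne, ne_eq, zero_ne_one, one_ne_zero,
    not_false_eq_true] <;> ring

theorem nn_conj_x3 {γ : F} (hγ : γ ^ 2 = -1) : nn γ * x3 F * (nn γ)⁻¹ = (x3 F)⁻¹ := by
  have h0 : γ ≠ 0 := by
    rintro rfl
    rw [zero_pow (by norm_num)] at hγ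
    have : (1 : F) = 0 := by linear_combination hγ
    exact one_ne_zero this
  apply sl2_ext <;>
  simp only [m00, m01, m10, m11, i00, i01, i10, i11, x3_00, x3_01, x3_10, x3_11,
    nn00 h0, nn01 h0, nn10, nn11 h0] <;> field_simp <;>
  first
    | linear_combination (-1 : F) * hγ
    | linear_combination (-2 : F) * hγ
    | linear_combination hγ
    | linear_combination (2 : F) * hγ
    | ring

theorem mkn_x3_ne_one : mkn (x3 F) ≠ 1 := by
  intro h
  rw [← map_one (mkn (ι := Fin 2) (F := F)), mkn_eq_iff] at h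
  obtain ⟨z, hz, hzx⟩ := h
  have h10 := congrFun (congrFun hzx 1) 0
  rw [Matrix.smul_apply, x3_10, smul_eq_mul, mul_one, Matrix.SpecialLinearGroup.coe_one,
    Matrix.one_apply_ne (by decide)] at h10
  rw [← h10, zero_pow (by simp)] at hz
  exact zero_ne_one hz

theorem orderOf_mkn_x3 : orderOf (mkn (x3 F)) = 3 := by
  have : Fact (Nat.Prime 3) := ⟨Nat.prime_three⟩
  apply orderOf_eq_prime
  · rw [← map_pow, x3_pow, map_one]
  · exact mkn_x3_ne_one

end Cfsg.Agent.Helper11.Dickson
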