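import Mathlib
import Cfsg.Agent.Lib.Helper11.DicksonMax4

set_option autoImplicit false
set_option linter.unusedVariables false
set_option linter.unusedSectionVars false
set_option linter.unusedSimpArgs false

/-! Existence of the dihedral maximal subgroups of order `2 (q + 1) / d` of `PSL₂(q)`. -/

namespace Cfsg.Agent.Helper11.Dickson

open Matrix Matrix.SpecialLinearGroup
open scoped MatrixGroups
open Cfsg.Agent.Helper2.SL2S
open Cfsg.Agent.Helper12 Cfsg.Agent.Helper4.DC Cfsg.Agent.Helper4.DSL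
open Cfsg.Agent.Helper11.Klein
open Cfsg.Agent.Helper2.PN (mkn mkn_surjective mkn_eq_iff)

variable {F : Type*} [Field F] [Fintype F]

theorem plus_case_three (p : ℕ) [Fact p.Prime] [CharP F p] (h3 : Fintype.card F = 3) :
    ∃ H : Subgroup (Matrix.ProjectiveSpecialLinearGroup (Fin 2) F),
      IsCoatom H ∧ Nonempty (H ≃* DihedralGroup 2) := by
  have hL : Nat.card (Matrix.ProjectiveSpecialLinearGroup (Fin 2) F) = 12 := by
    have hL := card_PSL2_mul (F := F)
    rw [h3] at hL
    have : Nat.gcd 2 (3 - 1) = 2 := by decide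
    rw [this] at hL
    omega
  haveI : Fact (Nat.Prime 2) := ⟨Nat.prime_two⟩
  obtain ⟨P, hP⟩ := Sylow.exists_subgroup_card_pow_prime 2 (n := 2)
    (G := Matrix.ProjectiveSpecialLinearGroup (Fin 2) F) (by rw [hL]; norm_num)
  have hP4 : Nat.card P = 4 := by rw [hP]; norm_num
  have hPtop : P ≠ ⊤ := by
    intro h
    rw [h, Subgroup.card_top, hL] at hP4
    omega
  refine ⟨P, ⟨hPtop, fun H hPH => ?_⟩, ?_⟩
  · have h1 : Nat.card P ∣ Nat.card H := Subgroup.card_dvd_of_le hPH.le
    have h2 : Nat.card H ∣ 12 := by rw [← hL]; exact Subgroup.card_subgroup_dvd_card H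
    have h3' : Nat.card H ≠ 4 := by
      intro h
      have := Subgroup.eq_of_le_of_card_ge hPH.le (by rw [h, hP4])
      exact hPH.ne this
    rw [hP4] at h1
    obtain ⟨c, hc⟩ := h1
    have hle := Nat.le_of_dvd (by norm_num) h2
    have hc3 : c = 3 := by
      have hc' : c ≤ 3 := by omega
      interval_cases c
      · rw [hc] at h2; omega
      · omega
      · rw [hc] at h2; omega
      · rfl
    apply Subgroup.eq_top_of_card_eq
    rw [hc, hc3, hL]
  · rcases dickson_refined h3 p P with ⟨k', hk', ⟨hc, hcard⟩ | ⟨⟨e⟩⟩⟩ | ⟨-, s, hs⟩ | ⟨⟨e⟩⟩ |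
      ⟨⟨e⟩⟩ | ⟨⟨e⟩⟩ | ⟨K, _, _, m, hm, hK⟩
    · exfalso
      have h21 : (3 + 1) / Nat.gcd 2 (3 - 1) = 2 := by decide
      have h22 : (3 - 1) / Nat.gcd 2 (3 - 1) = 1 := by decide
      rw [h21, h22] at hk'
      rw [hP4] at hcard
      rcases hk' with h | h
      · have := Nat.le_of_dvd (by norm_num) h; omega
      · have := Nat.le_of_dvd (by norm_num) h; omega
    · have hc : Nat.card P = 2 * k' := by
        rw [Nat.card_congr e.toEquiv, DihedralGroup.nat_card]
      obtain rfl : k' = 2 := by omega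
      exact ⟨e⟩
    · exfalso
      have h1 := card_mul_dvd_of_frame P s hs
      rw [h3, hP4] at h1
      have : Nat.gcd 2 (3 - 1) = 2 := by decide
      rw [this] at h1
      have := Nat.le_of_dvd (by norm_num) h1
      omega
    · exfalso
      rw [Nat.card_congr e.toEquiv, card_alt_four] at hP4
      omega
    · exfalso
      rw [Nat.card_congr e.toEquiv, card_perm_four] at hP4
      omega
    · exfalso
      rw [Nat.card_congr e.toEquiv, card_alt_five] at hP4
      omega
    · exfalso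
      have hm2 : 2 ≤ m := subfield_two_le P hPtop K m (hm.trans h3.symm) hK
      have hK2 : 2 ≤ Fintype.card K := Fintype.one_lt_card
      have : 2 ^ 2 ≤ Fintype.card K ^ m :=
        le_trans (Nat.pow_le_pow_left hK2 2) (Nat.pow_le_pow_right (by omega) hm2)
      omega

/-- for `q ∉ {2, 7, 9}`, `PSL₂(q)` has a maximal subgroup which is dihedral of order
`2 (q + 1) / d` -/
theorem exists_dihedral_plus {q : ℕ} (hF : Fintype.card F = q)
    (hq : q ∉ ({2, 7, 9} : Finset ℕ)) :
    ∃ H : Subgroup (Matrix.ProjectiveSpecialLinearGroup (Fin 2) F),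
      IsCoatom H ∧ Nonempty (H ≃* DihedralGroup ((q + 1) / Nat.gcd 2 (q - 1))) := by
  subst hF
  simp only [Finset.mem_insert, Finset.mem_singleton, not_or] at hq
  obtain ⟨h2, h7, h9⟩ := hq
  obtain ⟨p, hp⟩ := CharP.exists F
  haveI : Fact p.Prime := ⟨CharP.char_is_prime F p⟩
  have hq2 : 2 ≤ Fintype.card F := Fintype.one_lt_card
  by_cases h3 : Fintype.card F = 3
  · have : (3 + 1) / Nat.gcd 2 (3 - 1) = 2 := by decide
    rw [h3, this]
    exact plus_case_three p h3
  have h4 : 4 ≤ Fintype.card F := by omega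
  haveI : IsSimpleGroup (Matrix.ProjectiveSpecialLinearGroup (Fin 2) F) :=
    Matrix.ProjectiveSpecialLinearGroup.rank_two_simple
      (by rw [Nat.card_eq_fintype_card]; exact h4)
  by_cases h5 : Fintype.card F = 5
  · have hγ : (2 : F) ^ 2 = -1 := by
      have h0 : ((Fintype.card F : ℕ) : F) = 0 := Nat.cast_card_eq_zero F
      rw [h5] at h0
      push_cast at h0
      linear_combination h0
    have hconj : mkn (nn (2 : F)) * mkn (x3 F) * (mkn (nn (2 : F)))⁻¹ = (mkn (x3 F))⁻¹ := by
      rw [← map_inv, ← map_mul, ← map_mul, nn_conj_x3 hγ, map_inv]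
    obtain ⟨M, hM, hxM, htM⟩ := exists_coatom_of_inverting psl2_noncomm (mkn (x3 F))
      (mkn (nn (2 : F))) mkn_x3_ne_one hconj
    refine ⟨M, hM, plus_core p h4 h7 h9 M hM (mkn (x3 F)) hxM ?_ (fun _ => ⟨_, htM, hconj⟩)⟩
    rw [orderOf_mkn_x3, h5]
    decide
  · obtain ⟨x, hx⟩ := psl_exists_orderOf_nonsplit (F := F) p
    obtain ⟨M, hM, hxM⟩ := exists_coatom_of_mem psl2_noncomm x
    exact ⟨M, hM, plus_core p h4 h7 h9 M hM x hxM hx (fun h => absurd h h5)⟩

end Cfsg.Agent.Helper11.Dickson
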