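import Mathlib
import Cfsg.Agent.Lib.Helper11.DicksonMax5
import Cfsg.Agent.Lib.Lead.DihedralRecog

set_option autoImplicit false
set_option linter.unusedVariables false
set_option linter.unusedSectionVars false
set_option linter.unusedSimpArgs false

/-! The dihedral maximal subgroups of order `2 (q - 1) / d` of `PSL₂(q)`. -/

namespace Cfsg.Agent.Helper11.Dickson

open Matrix Matrix.SpecialLinearGroup
open scoped MatrixGroups
open Cfsg.Agent.Helper2.SL2S
open Cfsg.Agent.Helper12 Cfsg.Agent.Helper4.DC Cfsg.Agent.Helper4.DSL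
open Cfsg.Agent.Helper11.Klein

variable {F : Type*} [Field F] [Fintype F]

/-- recognition of a dihedral subgroup by its order -/
theorem dihedral_of_card {G : Type*} [Group G] (M : Subgroup G) (x t : G) (hxM : x ∈ M)
    (htM : t ∈ M) (k : ℕ) (hk3 : 3 ≤ k) (hx : orderOf x = k) (ht2 : t * t = 1)
    (htx : t * x * t⁻¹ = x⁻¹) (hcard : Nat.card M = 2 * k) :
    Nonempty (M ≃* DihedralGroup k) := by
  haveI : NeZero k := ⟨by omega⟩
  have htinv : t⁻¹ = t := inv_eq_of_mul_eq_one_right ht2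
  apply Cfsg.Agent.Lead.nonempty_mulEquiv_dihedral k (⟨x, hxM⟩ : M) ⟨t, htM⟩
  · rw [Subgroup.orderOf_mk]; exact hx
  · apply Subtype.ext; exact ht2
  · apply Subtype.ext
    simp only [Subgroup.coe_mul, Subgroup.coe_inv]
    rw [← htx, htinv]
  · intro hmem
    obtain ⟨i, hi⟩ := Subgroup.mem_zpowers_iff.1 hmem
    have hi' : x ^ i = t := by
      have := congrArg Subtype.val hi
      simpa using this
    have hcomm : t * x * t⁻¹ = x := by
      rw [← hi']
      group
    rw [htx] at hcomm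
    have hx2 : x ^ 2 = 1 := by
      rw [pow_two]
      nth_rewrite 1 [← hcomm]
      exact inv_mul_cancel x
    have := orderOf_dvd_of_pow_eq_one hx2
    rw [hx] at this
    have := Nat.le_of_dvd (by norm_num) this
    omega
  · exact hcard

/-- the arithmetic of the subfield case for `q - 1` -/
theorem subfield_minus_arith {k q q₀ m d p' n₁ g : ℕ} (hq₀ : 2 ≤ q₀) (hm : 2 ≤ m)
    (hq : q₀ ^ m = q) (hkd : k * d = q - 1) (hd : d = Nat.gcd 2 (q₀ - 1)) (hk3 : 3 ≤ k)
    (hp' : p'.Prime) (hpq : p' ∣ q₀) (hn : n₁ * g = k) (hg : g = 1 ∨ g = 2)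
    (hdvd : n₁ ∣ p' ∨ n₁ ∣ (q₀ - 1) / d ∨ n₁ ∣ (q₀ + 1) / d) (h9 : q ≠ 9) : q = 4 := by
  have hqpos : 4 ≤ q := by
    rw [← hq]
    calc 4 = 2 ^ 2 := by norm_num
      _ ≤ q₀ ^ 2 := Nat.pow_le_pow_left hq₀ 2
      _ ≤ q₀ ^ m := Nat.pow_le_pow_right (by omega) hm
  have hd12 : d = 1 ∨ d = 2 := by rw [hd]; exact gcd_two_cases _
  have hdq₀ : d ∣ q₀ - 1 := by rw [hd]; exact Nat.gcd_dvd_right _ _
  have hn1 : n₁ * d ≤ q₀ + 1 := by
    rcases hdvd with h | h | h
    · exfalso
      rcases (Nat.dvd_prime hp').1 h with h1 | h1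
      · rw [h1, one_mul] at hn
        omega
      · have h2 : p' ∣ q := by
          rw [← hq]; exact hpq.trans (dvd_pow_self q₀ (by omega))
        have h3 : p' ∣ q - 1 := by
          rw [← hkd, ← hn, h1]
          exact ⟨g * d, by ring⟩
        have h4 : p' ∣ 1 := by
          have : q = (q - 1) + 1 := by omega
          rw [this] at h2
          exact (Nat.dvd_add_right h3).1 h2
        have := hp'.two_le
        have := Nat.le_of_dvd (by norm_num) h4
        omega
    · have hpos : 0 < (q₀ - 1) / d := Nat.div_pos (Nat.le_of_dvd (by omega) hdq₀) (by omega)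
      have h1 := Nat.le_of_dvd hpos h
      have h2 : (q₀ - 1) / d * d ≤ q₀ - 1 := Nat.div_mul_le_self _ _
      have h3 : n₁ * d ≤ (q₀ - 1) / d * d := Nat.mul_le_mul_right d h1
      omega
    · have hpos : 0 < (q₀ + 1) / d := Nat.div_pos (by omega) (by omega)
      have h1 := Nat.le_of_dvd hpos h
      have h2 : (q₀ + 1) / d * d ≤ q₀ + 1 := Nat.div_mul_le_self _ _
      have h3 : n₁ * d ≤ (q₀ + 1) / d * d := Nat.mul_le_mul_right d h1
      omega
  have hq1 : q - 1 ≤ 2 * (q₀ + 1) := by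
    rw [← hkd, ← hn]
    calc n₁ * g * d = g * (n₁ * d) := by ring
      _ ≤ 2 * (n₁ * d) := Nat.mul_le_mul_right _ (by omega)
      _ ≤ 2 * (q₀ + 1) := Nat.mul_le_mul_left 2 hn1
  have hsq : q₀ ^ 2 ≤ q := by
    rw [← hq]; exact Nat.pow_le_pow_right (by omega) hm
  have hq₀3 : q₀ ≤ 3 := by
    by_contra hcon
    push Not at hcon
    have : 4 * q₀ ≤ q₀ ^ 2 := by
      rw [pow_two]; exact Nat.mul_le_mul_right _ hcon
    omega
  have hq₀' : q₀ = 2 ∨ q₀ = 3 := by omega
  have hm3 : m ≤ 3 := by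
    by_contra hcon
    push Not at hcon
    have h1 : q₀ ^ 4 ≤ q := by
      rw [← hq]; exact Nat.pow_le_pow_right (by omega) hcon
    have h2 : 2 ^ 4 ≤ q₀ ^ 4 := Nat.pow_le_pow_left hq₀ 4
    omega
  have hm' : m = 2 ∨ m = 3 := by omega
  rcases hq₀' with h | h <;> rcases hm' with h' | h' <;> rw [h, h'] at hq <;> omega

/-- a maximal subgroup containing the normalizer of a split torus is dihedral -/
theorem minus_core (p : ℕ) [Fact p.Prime] [CharP F p] (h4 : 4 ≤ Fintype.card F)
    (h5 : Fintype.card F ≠ 5) (h7 : Fintype.card F ≠ 7) (h9 : Fintype.card F ≠ 9)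
    (h11 : Fintype.card F ≠ 11)
    (M : Subgroup (Matrix.ProjectiveSpecialLinearGroup (Fin 2) F)) (hM : IsCoatom M)
    (x t : Matrix.ProjectiveSpecialLinearGroup (Fin 2) F) (hxM : x ∈ M) (htM : t ∈ M)
    (hx : orderOf x = (Fintype.card F - 1) / Nat.gcd 2 (Fintype.card F - 1))
    (ht2 : t * t = 1) (htx : t * x * t⁻¹ = x⁻¹)
    (hfr : ¬ ∃ s : SL(2, F), ∀ h ∈ preim M, (s * h * s⁻¹).1 1 0 = 0) :
    Nonempty (M ≃* DihedralGroup ((Fintype.card F - 1) / Nat.gcd 2 (Fintype.card F - 1))) := by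
  obtain ⟨q, hq⟩ : ∃ q, Fintype.card F = q := ⟨_, rfl⟩
  obtain ⟨d, hd⟩ : ∃ d, Nat.gcd 2 (q - 1) = d := ⟨_, rfl⟩
  obtain ⟨k, hk⟩ : ∃ k, (q - 1) / d = k := ⟨_, rfl⟩
  have hL := card_PSL2_mul (F := F)
  rw [hq] at h4 h5 h7 h9 h11 hx hL ⊢
  rw [hd] at hx hL ⊢
  rw [hk] at hx ⊢
  have hd12 : d = 1 ∨ d = 2 := by rw [← hd]; exact gcd_two_cases _
  have hdq : d ∣ q - 1 := by rw [← hd]; exact Nat.gcd_dvd_right _ _
  have hkd : k * d = q - 1 := by rw [← hk]; exact Nat.div_mul_cancel hdq
  have hk3 : 3 ≤ k := by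
    rcases hd12 with h | h
    · rw [h] at hkd; omega
    · rw [h] at hkd; omega
  haveI : IsSimpleGroup (Matrix.ProjectiveSpecialLinearGroup (Fin 2) F) :=
    Matrix.ProjectiveSpecialLinearGroup.rank_two_simple
      (by rw [Nat.card_eq_fintype_card, hq]; exact h4)
  have hxc : k ∣ Nat.card M := by rw [← hx]; exact Subgroup.orderOf_dvd_natCard M hxM
  have hMdvd : Nat.card M ∣ Nat.card (Matrix.ProjectiveSpecialLinearGroup (Fin 2) F) :=
    Subgroup.card_subgroup_dvd_card M
  have hMne : Nat.card M ≠ Nat.card (Matrix.ProjectiveSpecialLinearGroup (Fin 2) F) :=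
    fun h => hM.1 (Subgroup.eq_top_of_card_eq M h)
  have hq4 : k = 3 → q = 4 := by
    intro h3
    rw [h3] at hkd
    rcases hd12 with h | h <;> rw [h] at hkd <;> omega
  have hinv : ∀ {X : Type} [Group X] (e : M ≃* X),
      e ⟨t, htM⟩ * e ⟨x, hxM⟩ * (e ⟨t, htM⟩)⁻¹ = (e ⟨x, hxM⟩)⁻¹ := by
    intro X _ e
    rw [← map_inv, ← map_mul, ← map_mul, ← map_inv]
    congr 1
    exact Subtype.ext htx
  rcases dickson_refined hq p M with ⟨k', hk', ⟨hc, -⟩ | ⟨⟨e⟩⟩⟩ | ⟨-, s, hs⟩ | ⟨⟨e⟩⟩ | ⟨⟨e⟩⟩ |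
    ⟨⟨e⟩⟩ | ⟨K, _, _, m, hm, hK⟩
  · exact (not_comm_of_coatom psl2_noncomm M hM (comm_of_isCyclic M hc)).elim
  · rw [hd, hk] at hk'
    have hk'0 : k' ≠ 0 := by
      rintro rfl
      rcases hk' with h | h
      · rw [zero_dvd_iff] at h
        have : 0 < (q + 1) / d := Nat.div_pos (by omega) (by omega)
        omega
      · rw [zero_dvd_iff] at h; omega
    haveI : NeZero k' := ⟨hk'0⟩
    have ho := orderOf_equiv_mk M e x hxM
    have hdv : k ∣ k' := by
      rw [← hx, ← ho]
      exact dihedral_orderOf_dvd _ (by rw [ho, hx]; exact hk3)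
    rcases hk' with h | h
    · exfalso
      have h1 : k ∣ (q + 1) / d := hdv.trans h
      rcases hd12 with h' | h'
      · rw [h'] at h1 hkd
        have e1 : (q + 1) / 1 = k + 2 := by simp; omega
        rw [e1] at h1
        have h2 : k ∣ 2 := (Nat.dvd_add_right (dvd_refl k)).1 h1
        have := Nat.le_of_dvd (by norm_num) h2
        omega
      · rw [h'] at h1 hkd
        have e1 : (q + 1) / 2 = k + 1 := by omega
        rw [e1] at h1
        have h2 : k ∣ 1 := (Nat.dvd_add_right (dvd_refl k)).1 h1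
        have := Nat.le_of_dvd (by norm_num) h2
        omega
    · have : k' = k := Nat.dvd_antisymm h hdv
      rw [← this]; exact ⟨e⟩
  · exact (hfr ⟨s, hs⟩).elim
  · exfalso
    have ho := orderOf_equiv_mk M e x hxM
    have hle := alt_four_orderOf (e ⟨x, hxM⟩)
    rw [ho, hx] at hle
    have hk3' : k = 3 := by omega
    have h3 : (e ⟨x, hxM⟩) ^ 3 = 1 := by
      rw [← hk3', ← hx, ← ho]; exact pow_orderOf_eq_one _
    have h1 := alt_four_not_inverted _ _ h3 (hinv e)
    rw [h1, orderOf_one] at ho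
    omega
  · exfalso
    have ho := orderOf_equiv_mk M e x hxM
    have hle := perm_four_orderOf (e ⟨x, hxM⟩)
    rw [ho, hx] at hle
    have hc24 : Nat.card M = 24 := by rw [Nat.card_congr e.toEquiv, card_perm_four]
    have hk34 : k = 3 ∨ k = 4 := by omega
    rcases hk34 with h | h
    · have h4' := hq4 h
      rw [← hq] at h4'
      rw [hc24, psl2_card_four h4'] at hMdvd
      omega
    · rw [h] at hkd
      rcases hd12 with h' | h' <;> rw [h'] at hkd <;> omega
  · exfalso
    have ho := orderOf_equiv_mk M e x hxM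
    have hdv := alt_five_orderOf (e ⟨x, hxM⟩)
    rw [ho, hx] at hdv
    have hc60 : Nat.card M = 60 := by rw [Nat.card_congr e.toEquiv, card_alt_five]
    rcases hdv with h | h | h
    · have := Nat.le_of_dvd (by norm_num) h
      omega
    · have hk3' : k = 3 := by
        have := Nat.le_of_dvd (by norm_num) h
        omega
      have h4' := hq4 hk3'
      rw [← hq] at h4'
      exact hMne (by rw [hc60, psl2_card_four h4'])
    · have hk5 : k = 5 := by
        rcases (Nat.dvd_prime Nat.prime_five).1 h with h' | h'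
        · omega
        · exact h'
      rw [hk5] at hkd
      rcases hd12 with h' | h' <;> rw [h'] at hkd hL
      · have h6 : q = 6 := by omega
        rw [h6, one_mul] at hL
        rw [hc60, hL] at hMdvd
        omega
      · omega
  · -- subfield type
    have hm2 : 2 ≤ m := subfield_two_le M hM.1 K m (hm.trans hq.symm) hK
    have hK2 : 2 ≤ Fintype.card K := Fintype.one_lt_card
    obtain ⟨p', hp'⟩ := CharP.exists K
    haveI hp'f : Fact p'.Prime := ⟨CharP.char_is_prime K p'⟩
    have hp'q : p' ∣ Fintype.card K := by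
      obtain ⟨n, -, hn⟩ := FiniteField.card K p'
      rw [hn]; exact dvd_pow_self p' n.ne_zero
    have hd' : d = Nat.gcd 2 (Fintype.card K - 1) := by
      rw [← hd, ← hm]; exact gcd_two_pow_sub_one (by omega) (by omega)
    have key : ∃ n₁ g : ℕ, n₁ * g = k ∧ (g = 1 ∨ g = 2) ∧
        (n₁ ∣ p' ∨ n₁ ∣ (Fintype.card K - 1) / d ∨ n₁ ∣ (Fintype.card K + 1) / d) := by
      rcases hK with ⟨⟨e⟩⟩ | ⟨⟨e⟩⟩
      · have ho := orderOf_equiv_mk M e x hxM
        refine ⟨k, 1, mul_one k, Or.inl rfl, ?_⟩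
        have := psl_orderOf_dvd p' (e ⟨x, hxM⟩)
        rw [ho, hx, ← hd'] at this
        exact this
      · have ho := orderOf_equiv_mk M e x hxM
        obtain ⟨z, hz⟩ := pgl_sq_mem_range (e ⟨x, hxM⟩)
        have hoz : orderOf z = k / Nat.gcd k 2 := by
          rw [← orderOf_injective _ Matrix.ProjectiveSpecialLinearGroup.toPGL_injective z, ← hz,
            orderOf_pow' _ (by norm_num : (2 : ℕ) ≠ 0), ho, hx]
        refine ⟨k / Nat.gcd k 2, Nat.gcd k 2, Nat.div_mul_cancel (Nat.gcd_dvd_left k 2), ?_, ?_⟩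
        · have := gcd_two_cases k
          rw [Nat.gcd_comm] at this
          exact this
        · have := psl_orderOf_dvd p' z
          rw [hoz, ← hd'] at this
          exact this
    obtain ⟨n₁, g, hn, hg, hdvd⟩ := key
    have hq4' : q = 4 :=
      subfield_minus_arith hK2 hm2 hm hkd hd' hk3 hp'f.out hp'q hn hg hdvd h9
    -- now `M` has order six
    have hK2' : Fintype.card K = 2 := by
      rw [hq4'] at hm
      by_contra hne
      have h3 : 3 ≤ Fintype.card K := by omega
      have : 3 ^ 2 ≤ Fintype.card K ^ m :=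
        le_trans (Nat.pow_le_pow_left h3 2) (Nat.pow_le_pow_right (by omega) hm2)
      omega
    have hc6 : Nat.card M ∣ 6 := by
      have := card_dvd_of_subfield K hK (G := M)
      rw [hK2'] at this
      exact this
    have hk3' : k = 3 := by
      rw [hq4'] at hkd
      rcases hd12 with h' | h' <;> rw [h'] at hkd <;> omega
    have ht1 : t ≠ 1 := by
      rintro rfl
      rw [one_mul, inv_one, mul_one] at htx
      have hx2 : x ^ 2 = 1 := by
        rw [pow_two]
        nth_rewrite 1 [htx]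
        exact inv_mul_cancel x
      have := orderOf_dvd_of_pow_eq_one hx2
      rw [hx] at this
      have := Nat.le_of_dvd (by norm_num) this
      omega
    have ht2' : orderOf t = 2 := by
      have : Fact (Nat.Prime 2) := ⟨Nat.prime_two⟩
      exact orderOf_eq_prime (by rw [pow_two]; exact ht2) ht1
    have h2c : 2 ∣ Nat.card M := by
      have := Subgroup.orderOf_dvd_natCard M htM
      rwa [ht2'] at this
    have hcard : Nat.card M = 2 * k := by
      rw [hk3'] at hxc ⊢
      have h6 : 6 ∣ Nat.card M := Nat.Coprime.mul_dvd_of_dvd_of_dvd (by norm_num) h2c hxc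
      exact Nat.dvd_antisymm hc6 h6
    exact dihedral_of_card M x t hxM htM k hk3 hx ht2 htx hcard

end Cfsg.Agent.Helper11.Dickson
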