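import Mathlib
import Cfsg.Agent.Lib.Helper11.DicksonMax6

set_option autoImplicit false
set_option linter.unusedVariables false
set_option linter.unusedSectionVars false
set_option linter.unusedSimpArgs false

/-! Existence of the dihedral maximal subgroups of order `2 (q - 1) / d` of `PSL₂(q)`. -/

namespace Cfsg.Agent.Helper11.Dickson

open Matrix Matrix.SpecialLinearGroup
open scoped MatrixGroups
open Cfsg.Agent.Helper2.SL2S
open Cfsg.Agent.Helper12 Cfsg.Agent.Helper4.DC Cfsg.Agent.Helper4.DSL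
open Cfsg.Agent.Helper11.Klein
open Cfsg.Agent.Helper2.PN (mkn mkn_surjective mkn_eq_iff)

variable {F : Type*} [Field F]

theorem dd_one : dd (1 : F) = 1 := by
  apply sl2_ext <;>
  simp only [dd00 one_ne_zero, dd01 one_ne_zero, dd10 one_ne_zero, dd11 one_ne_zero,
    Matrix.SpecialLinearGroup.coe_one, Matrix.one_apply_eq, Matrix.one_apply_ne, ne_eq,
    zero_ne_one, one_ne_zero, not_false_eq_true, inv_one]

theorem dd_pow {t : F} (ht : t ≠ 0) (n : ℕ) : (dd t) ^ n = dd (t ^ n) := by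
  induction n with
  | zero => rw [pow_zero, pow_zero, dd_one]
  | succ n ih => rw [pow_succ, pow_succ, ih, dd_mul (pow_ne_zero n ht) ht]

theorem nn_one_mul_self : nn (1 : F) * nn 1 = negOneSL := by
  apply sl2_ext <;>
  simp only [m00, m01, m10, m11, nn00 one_ne_zero, nn01 one_ne_zero, nn10, nn11 one_ne_zero,
    neg00, neg01, neg10, neg11] <;> simp

theorem nn_one_conj_dd {t : F} (ht : t ≠ 0) : nn (1 : F) * dd t * (nn 1)⁻¹ = (dd t)⁻¹ := by
  apply sl2_ext <;>
  simp only [m00, m01, m10, m11, i00, i01, i10, i11, nn00 one_ne_zero, nn01 one_ne_zero, nn10,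
    nn11 one_ne_zero, dd00 ht, dd01 ht, dd10 ht, dd11 ht] <;> simp

/-- no frame makes both `dd t` and `nn 1` upper triangular when `t² ≠ 1` -/
theorem no_frame_dd_nn {t : F} (ht : t ≠ 0) (ht2 : t ^ 2 ≠ 1) (s : SL(2, F))
    (h1 : (s * dd t * s⁻¹).1 1 0 = 0) (h2 : (s * nn 1 * s⁻¹).1 1 0 = 0) : False := by
  simp only [m00, m01, m10, m11, i00, i01, i10, i11, dd00 ht, dd01 ht, dd10 ht, dd11 ht] at h1
  simp only [m00, m01, m10, m11, i00, i01, i10, i11, nn00 one_ne_zero, nn01 one_ne_zero, nn10,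
    nn11 one_ne_zero] at h2
  have hdet := sl2_det s
  have e1 : s.1 1 0 * s.1 1 1 * (t ^ 2 - 1) = 0 := by
    have : s.1 1 0 * s.1 1 1 * (t ^ 2 - 1) =
        t * ((s.1 1 0 * t + s.1 1 1 * 0) * s.1 1 1 + (s.1 1 0 * 0 + s.1 1 1 * t⁻¹) * -s.1 1 0) := by
      field_simp
      ring
    rw [this, h1, mul_zero]
  have e2 : s.1 1 0 * s.1 1 1 = 0 := by
    rcases mul_eq_zero.1 e1 with h | h
    · exact h
    · exact absurd (sub_eq_zero.1 h) ht2
  have e3 : s.1 1 0 ^ 2 + s.1 1 1 ^ 2 = 0 := by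
    have : s.1 1 0 ^ 2 + s.1 1 1 ^ 2 =
        (s.1 1 0 * 0 + s.1 1 1 * 1) * s.1 1 1 + (s.1 1 0 * -(1 : F)⁻¹ + s.1 1 1 * 0) * -s.1 1 0 := by
      rw [inv_one]; ring
    rw [this, h2]
  rcases mul_eq_zero.1 e2 with h | h
  · rw [h] at e3 hdet
    have h' : s.1 1 1 = 0 := by
      have : s.1 1 1 ^ 2 = 0 := by linear_combination e3
      exact pow_eq_zero_iff (two_ne_zero) |>.1 this
    rw [h'] at hdet
    simp at hdet
  · rw [h] at e3 hdet
    have h' : s.1 1 0 = 0 := by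
      have : s.1 1 0 ^ 2 = 0 := by linear_combination e3
      exact pow_eq_zero_iff (two_ne_zero) |>.1 this
    rw [h'] at hdet
    simp at hdet

variable [Fintype F]

/-- the order of the image of a diagonal matrix -/
theorem mkn_dd_pow_eq_one {t : F} (ht : t ≠ 0) (n : ℕ) :
    (mkn (dd t)) ^ n = 1 ↔ t ^ (2 * n) = 1 := by
  have h1 := psl_pow_eq_one_iff (dd t) n
  have e : (mkn (dd t)) ^ n = ((dd t : SL(2, F)) : Matrix.ProjectiveSpecialLinearGroup (Fin 2) F) ^ n :=
    rfl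
  rw [e, h1, ← Matrix.SpecialLinearGroup.coe_pow, dd_pow ht]
  have htn : t ^ n ≠ 0 := pow_ne_zero n ht
  constructor
  · rintro ⟨r, hr, hmat⟩
    have h00 := congrFun (congrFun hmat 0) 0
    rw [dd00 htn, Matrix.smul_apply, Matrix.one_apply_eq, smul_eq_mul, mul_one] at h00
    rw [mul_comm, pow_mul, h00, hr]
  · intro h
    have hsq : t ^ n * t ^ n = 1 := by rw [← pow_add, ← two_mul]; exact h
    refine ⟨t ^ n, by rw [pow_two]; exact hsq, ?_⟩
    ext i j
    fin_cases i <;> fin_cases j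
    · simp [dd00 htn]
    · simp [dd01 htn]
    · simp [dd10 htn]
    · simp only [Fin.mk_one, Fin.isValue, Matrix.smul_apply, Matrix.one_apply_eq, smul_eq_mul,
        mul_one]
      rw [dd11 htn]
      exact inv_eq_of_mul_eq_one_left hsq

theorem orderOf_mkn_dd {t : F} (ht : t ≠ 0) (hord : orderOf t = Fintype.card F - 1) :
    orderOf (mkn (dd t)) = (Fintype.card F - 1) / Nat.gcd 2 (Fintype.card F - 1) := by
  apply Nat.dvd_antisymm
  · apply orderOf_dvd_of_pow_eq_one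
    rw [mkn_dd_pow_eq_one ht]
    obtain ⟨c, hc⟩ := dvd_two_mul_div_gcd (Fintype.card F - 1)
    rw [hc, pow_mul, ← hord, pow_orderOf_eq_one, one_pow]
  · apply dvd_div_gcd_of_dvd_two_mul
    rw [← hord]
    apply orderOf_dvd_of_pow_eq_one
    rw [← mkn_dd_pow_eq_one ht]
    exact pow_orderOf_eq_one _

/-- for `q ∉ {2, 3, 5, 7, 9, 11}`, `PSL₂(q)` has a maximal subgroup which is dihedral of
order `2 (q - 1) / d` -/
theorem exists_dihedral_minus {q : ℕ} (hF : Fintype.card F = q)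
    (hq : q ∉ ({2, 3, 5, 7, 9, 11} : Finset ℕ)) :
    ∃ H : Subgroup (Matrix.ProjectiveSpecialLinearGroup (Fin 2) F),
      IsCoatom H ∧ Nonempty (H ≃* DihedralGroup ((q - 1) / Nat.gcd 2 (q - 1))) := by
  classical
  subst hF
  simp only [Finset.mem_insert, Finset.mem_singleton, not_or] at hq
  obtain ⟨h2, h3, h5, h7, h9, h11⟩ := hq
  obtain ⟨p, hp⟩ := CharP.exists F
  haveI : Fact p.Prime := ⟨CharP.char_is_prime F p⟩
  have hq2 : 2 ≤ Fintype.card F := Fintype.one_lt_card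
  have h4 : 4 ≤ Fintype.card F := by omega
  haveI : IsSimpleGroup (Matrix.ProjectiveSpecialLinearGroup (Fin 2) F) :=
    Matrix.ProjectiveSpecialLinearGroup.rank_two_simple
      (by rw [Nat.card_eq_fintype_card]; exact h4)
  obtain ⟨ζ, hζ⟩ := IsCyclic.exists_generator (α := Fˣ)
  have hζo : orderOf ζ = Fintype.card F - 1 := by
    rw [orderOf_eq_card_of_forall_mem_zpowers hζ, Nat.card_eq_fintype_card, Fintype.card_units]
  have hζo' : orderOf (ζ : F) = Fintype.card F - 1 := by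
    rw [← hζo]; exact orderOf_units
  have hζ0 : (ζ : F) ≠ 0 := ζ.ne_zero
  have hζ2 : (ζ : F) ^ 2 ≠ 1 := by
    intro h
    have := orderOf_dvd_of_pow_eq_one h
    rw [hζo'] at this
    have := Nat.le_of_dvd (by norm_num) this
    omega
  have hx := orderOf_mkn_dd hζ0 hζo'
  have hk3 : 3 ≤ (Fintype.card F - 1) / Nat.gcd 2 (Fintype.card F - 1) := by
    rcases gcd_two_cases (Fintype.card F - 1) with h | h
    · rw [h]; simp; omega
    · have hd : 2 ∣ Fintype.card F - 1 := by rw [← h]; exact Nat.gcd_dvd_right _ _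
      rw [h]
      obtain ⟨c, hc⟩ := hd
      omega
  have hx1 : mkn (dd (ζ : F)) ≠ 1 := by
    intro h
    rw [h, orderOf_one] at hx
    omega
  have htx : mkn (nn (1 : F)) * mkn (dd (ζ : F)) * (mkn (nn (1 : F)))⁻¹ =
      (mkn (dd (ζ : F)))⁻¹ := by
    rw [← map_inv, ← map_mul, ← map_mul, nn_one_conj_dd hζ0, map_inv]
  have ht2 : mkn (nn (1 : F)) * mkn (nn (1 : F)) = 1 := by
    rw [← map_mul, nn_one_mul_self]
    exact (QuotientGroup.eq_one_iff _).2 negOne_mem_center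
  obtain ⟨M, hM, hxM, htM⟩ := exists_coatom_of_inverting psl2_noncomm _ _ hx1 htx
  refine ⟨M, hM, minus_core p h4 h5 h7 h9 h11 M hM _ _ hxM htM hx ht2 htx ?_⟩
  rintro ⟨s, hs⟩
  exact no_frame_dd_nn hζ0 hζ2 s (hs _ hxM) (hs _ htM)

end Cfsg.Agent.Helper11.Dickson
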