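import Mathlib
import Cfsg.Agent.Lib.Helper11.DicksonMax7

set_option autoImplicit false
set_option linter.unusedVariables false
set_option linter.unusedSectionVars false
set_option linter.unusedSimpArgs false

/-! Subgroups of `SL₂(F)` in characteristic two: Sylow `2`-subgroups and the normalized
doubly transitive situation. -/

namespace Cfsg.Agent.Helper11.Dickson

open Matrix Matrix.SpecialLinearGroup
open scoped MatrixGroups
open Cfsg.Agent.Helper2.SL2S
open Cfsg.Agent.Helper12 Cfsg.Agent.Helper4.DC Cfsg.Agent.Helper4.DSL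
open Cfsg.Agent.Helper11.Klein
open Cfsg.Agent.Helper2.PN (mkn mkn_surjective mkn_eq_iff)

section abstract

variable {H : Type*} [Group H] [Finite H] {p : ℕ} [hp : Fact p.Prime]

/-- with trivial intersections, the number of Sylow subgroups is `1` modulo their order -/
theorem card_sylow_sub_one_of_TI (P : Sylow p H)
    (hTI : ∀ Q : Sylow p H, ∀ a : H, a ∈ P → a ∈ Q → a ≠ 1 → P = Q) :
    Nat.card (P : Subgroup H) ∣ Nat.card (Sylow p H) - 1 := by
  let T : SubMulAction (↥(P : Subgroup H)) (Sylow p H) :=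
    { carrier := {Q | Q ≠ P}
      smul_mem' := by
        intro v Q hQ hcon
        apply hQ
        have h1 : (v : H)⁻¹ • ((v : H) • Q) = (v : H)⁻¹ • P := by
          have : v • Q = (v : H) • Q := rfl
          rw [← this, hcon]
        rw [inv_smul_smul] at h1
        rw [h1]
        exact Sylow.smul_eq_iff_mem_normalizer.2
          (Subgroup.inv_mem _ (Subgroup.le_normalizer v.2)) }
  have hT : Nat.card T = Nat.card (Sylow p H) - 1 := card_ne_sylow P
  rw [← hT]
  apply Cfsg.Agent.Helper5.dvd_card_of_forall_card_stabilizer_dvd (P := ↥(P : Subgroup H)) 1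
    (Nat.card (P : Subgroup H)) (one_mul _)
  intro Q
  rw [Nat.dvd_one, Subgroup.card_eq_one, eq_bot_iff]
  intro v hv
  rw [MulAction.mem_stabilizer_iff] at hv
  have hv' : (v : H) • (Q : Sylow p H) = Q := by
    have := congrArg Subtype.val hv
    exact this
  have h2 : (v : H) ∈ (P : Subgroup H) ⊓
      Subgroup.normalizer (((Q : Sylow p H) : Subgroup H) : Set H) :=
    ⟨v.2, Sylow.smul_eq_iff_mem_normalizer.1 hv'⟩
  have h3 : (v : H) ∈ (P : Subgroup H) ⊓ ((Q : Sylow p H) : Subgroup H) := by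
    have e := P.2.inf_normalizer_sylow (Q : Sylow p H)
    rw [← e]; exact h2
  rw [Subgroup.mem_bot]
  by_contra hne
  have hne' : (v : H) ≠ 1 := fun h => hne (Subtype.ext h)
  exact Q.2 (hTI Q v h3.1 h3.2 hne').symm

/-- with trivial intersections, `P` is regular on the other Sylow subgroups when there are
`|P| + 1` of them -/
theorem exists_smul_eq_of_TI (P : Sylow p H)
    (hTI : ∀ Q : Sylow p H, ∀ a : H, a ∈ P → a ∈ Q → a ≠ 1 → P = Q)
    (hn : Nat.card (Sylow p H) = Nat.card (P : Subgroup H) + 1) (Q R : Sylow p H) (hQ : Q ≠ P)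
    (hR : R ≠ P) : ∃ a ∈ P, a • Q = R := by
  have hmove : ∀ a : H, a ∈ P → a ≠ 1 → a • Q ≠ Q := by
    intro a ha ha1 h
    rw [Sylow.smul_eq_iff_mem_normalizer] at h
    obtain ⟨k, hk⟩ := pow_eq_one_of_mem_sylow P ha
    have haQ := mem_sylow_of_mem_normalizer Q h k hk
    exact hQ (hTI Q a ha haQ ha1).symm
  let f : ↥(P : Subgroup H) → {R : Sylow p H // R ≠ P} := fun a =>
    ⟨(a : H) • Q, by
      intro h
      apply hQ
      have h2 : (a : H) • Q = (a : H) • P := by rw [h, smul_self_of_mem P a.2]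
      exact smul_left_cancel _ h2⟩
  have hinj : Function.Injective f := by
    intro a b hab
    have h1 : (a : H) • Q = (b : H) • Q := congrArg Subtype.val hab
    have h2 : ((b : H)⁻¹ * (a : H)) • Q = Q := by
      rw [mul_smul, h1, inv_smul_smul]
    by_contra hne
    have h3 : (b : H)⁻¹ * (a : H) ≠ 1 := by
      intro h
      apply hne
      apply Subtype.ext
      have : (a : H) = (b : H) * ((b : H)⁻¹ * (a : H)) := by group
      rw [this, h, mul_one]
    exact hmove _ (Subgroup.mul_mem _ (Subgroup.inv_mem _ b.2) a.2) h3 h2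
  have hcard : Nat.card {R : Sylow p H // R ≠ P} ≤ Nat.card ↥(P : Subgroup H) := by
    rw [card_ne_sylow, hn]; simp
  have hbij := hinj.bijective_of_nat_card_le hcard
  obtain ⟨a, ha⟩ := hbij.2 ⟨R, hR⟩
  exact ⟨a, a.2, congrArg Subtype.val ha⟩

end abstract

section two

variable {F : Type*} [Field F] [Fintype F] [h2p : Fact (Nat.Prime 2)] [CharP F 2]
  {Hs : Subgroup SL(2, F)}

/-- distinct Sylow `2`-subgroups intersect trivially -/
theorem sylow_TI_two (P Q : Sylow 2 ↥Hs) (a : ↥Hs) (haP : a ∈ P) (haQ : a ∈ Q) (ha1 : a ≠ 1) :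
    P = Q := by
  obtain ⟨k, hk⟩ := pow_eq_one_of_mem_sylow P haP
  have ha2 : (a : SL(2, F)) ^ 2 = 1 := sub_pow_p 2 a k hk
  obtain ⟨s, t, ht, hs⟩ := exists_conj_u 2 (a : SL(2, F)) ha2 (coe_ne_one ha1)
  apply Sylow.ext
  rw [sylow_eq_Uhat_two P a haP s t ht hs, sylow_eq_Uhat_two Q a haQ s t ht hs]

theorem v_pow_two (b : F) : (v b) ^ 2 = 1 := by
  rw [v_pow]
  have : ((2 : ℕ) : F) = 0 := CharP.cast_eq_zero F 2
  rw [this, zero_mul, v_zero]

theorem u_pow_two (b : F) : (u b) ^ 2 = 1 := by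
  rw [pow_two, u_mul_self_two]

/-- the normalized situation in characteristic two -/
theorem nrm_two (Hs : Subgroup SL(2, F)) (hu : u 1 ∈ Hs)
    (b : F) (hb : b ≠ 0) (hv : v b ∈ Hs) (P : Sylow 2 ↥Hs) (hP : (⟨u 1, hu⟩ : ↥Hs) ∈ P)
    (hn : Nat.card (Sylow 2 ↥Hs) = Nat.card (P : Subgroup ↥Hs) + 1) : Nrm Hs where
  neg := by rw [negOne_eq_one_two]; exact Hs.one_mem
  u1 := hu
  vb := ⟨b, hb, hv⟩
  R := by
    intro h hh h10
    have hs1 : (1 : SL(2, F)) * ((⟨u 1, hu⟩ : ↥Hs) : SL(2, F)) * 1⁻¹ = u 1 := by simp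
    have hPU := sylow_eq_Uhat_two P ⟨u 1, hu⟩ hP 1 1 one_ne_zero hs1
    have hNB := normalizer_eq_Bhat' 2 P ⟨u 1, hu⟩ hP 1 1 one_ne_zero hs1 hPU
    obtain ⟨Q, hyQ⟩ := exists_sylow_mem 2 (⟨v b, hv⟩ : ↥Hs) (by
      apply Subtype.ext
      simpa using v_pow_two b)
    have hQP : Q ≠ P := by
      rintro rfl
      have : (⟨v b, hv⟩ : ↥Hs) ∈ (Q : Subgroup ↥Hs) := hyQ
      rw [hPU, mem_Uhat] at this
      obtain ⟨t, ht⟩ := this
      have h2 := congrArg (fun y : SL(2, F) => y.1 1 0) ht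
      simp only [one_mul, inv_one, mul_one] at h2
      rw [v10, u10] at h2
      exact hb h2
    have hR : (⟨h, hh⟩ : ↥Hs) • P ≠ P := by
      intro h1
      rw [Sylow.smul_eq_iff_mem_normalizer] at h1
      have : (⟨h, hh⟩ : ↥Hs) ∈ Bhat Hs 1 := hNB ▸ h1
      rw [mem_Bhat] at this
      simp only [one_mul, inv_one, mul_one] at this
      exact h10 this
    obtain ⟨a, haP, haQ⟩ := exists_smul_eq_of_TI P
      (fun Q a haP haQ ha1 => sylow_TI_two P Q a haP haQ ha1) hn Q _ hQP hR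
    have haU : a ∈ Uhat Hs 1 := hPU ▸ haP
    obtain ⟨t, ht⟩ := mem_Uhat.1 haU
    simp only [one_mul, inv_one, mul_one] at ht
    refine ⟨t, ht ▸ a.2, ?_⟩
    set g : ↥Hs := a⁻¹ * ⟨h, hh⟩ with hg
    have hgP : g • P = Q := by
      rw [hg, mul_smul, ← haQ, inv_smul_smul]
    have hz : g * ⟨u 1, hu⟩ * g⁻¹ ∈ Q := by
      rw [← hgP, mem_sylow_smul_iff]
      have : g⁻¹ * (g * ⟨u 1, hu⟩ * g⁻¹) * g = ⟨u 1, hu⟩ := by group
      rw [this]; exact hP
    have hc := sub_pGroup_comm 2 (Q : Subgroup ↥Hs) Q.2 _ hz _ hyQ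
    have hc' : ((g : SL(2, F)) * u 1 * (g : SL(2, F))⁻¹) * v b =
        v b * ((g : SL(2, F)) * u 1 * (g : SL(2, F))⁻¹) := by
      have := congrArg (fun y : ↥Hs => (y : SL(2, F))) hc
      simpa using this
    have h01 := ((commute_v_iff hb _).1 hc').1
    rw [conj_u_coe] at h01
    simp at h01
    have hg00 : (g : SL(2, F)).1 0 0 = h.1 0 0 - t * h.1 1 0 := by
      have : (g : SL(2, F)) = (u t)⁻¹ * h := by
        rw [hg, Subgroup.coe_mul, Subgroup.coe_inv, ht]
      rw [this, m00, i00, i01, u11, u01]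
      ring
    rw [hg00] at h01
    linear_combination h01

end two

end Cfsg.Agent.Helper11.Dickson
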