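import Mathlib
import Cfsg.Agent.Lib.Helper11.DicksonEven1

set_option autoImplicit false
set_option linter.unusedVariables false
set_option linter.unusedSectionVars false
set_option linter.unusedSimpArgs false

/-! The normalized doubly transitive situation in characteristic two: the subfield and the
identification of the subgroup with `SL₂` of the subfield. -/

namespace Cfsg.Agent.Helper11.Dickson

open Matrix Matrix.SpecialLinearGroup
open scoped MatrixGroups
open Cfsg.Agent.Helper2.SL2S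
open Cfsg.Agent.Helper12

variable {F : Type*} [Field F] {Hs : Subgroup SL(2, F)}

namespace Nrm

variable (N : Nrm Hs)
include N

section generic

variable (K₀ : Subfield F) (hK₀ : ∀ a : F, a ∈ K₀ ↔ u a ∈ Hs)
include hK₀

/-- the structure of the elements of `Hs`, for an arbitrary description of the subfield -/
theorem exists_scalar' (h : SL(2, F)) (hh : h ∈ Hs) :
    ∃ l : F, l ≠ 0 ∧ dd l ∈ Hs ∧ ∀ i j, l * h.1 i j ∈ K₀ := by
  have key : ∀ h : SL(2, F), h ∈ Hs → h.1 1 0 ≠ 0 →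
      dd (h.1 1 0) ∈ Hs ∧ ∀ i j, h.1 1 0 * h.1 i j ∈ K₀ := by
    intro h hh h10
    obtain ⟨α, hα, h0⟩ := N.R h hh h10
    obtain ⟨δ, hδ, h1⟩ := N.R' h hh h10
    have hn := N.nn_mem h hh h10
    have hd := N.dd_of_nn hn
    have hsq : (h.1 1 0) ^ 2 ∈ K₀ := (hK₀ _).2 (N.sq_of_dd h10 hd)
    have hα' : α ∈ K₀ := (hK₀ _).2 hα
    have hδ' : δ ∈ K₀ := (hK₀ _).2 hδ
    have hdet := sl2_det h
    refine ⟨hd, ?_⟩
    have e00 : h.1 1 0 * h.1 0 0 = (h.1 1 0) ^ 2 * α := by rw [h0]; ring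
    have e11 : h.1 1 0 * h.1 1 1 = (h.1 1 0) ^ 2 * δ := by rw [h1]; ring
    have e10 : h.1 1 0 * h.1 1 0 = (h.1 1 0) ^ 2 := by ring
    have e01 : h.1 1 0 * h.1 0 1 = (h.1 1 0) ^ 2 * α * δ - 1 := by
      rw [h0, h1] at hdet
      linear_combination (-1 : F) * hdet
    intro i j
    fin_cases i <;> fin_cases j
    · change h.1 1 0 * h.1 0 0 ∈ K₀
      rw [e00]; exact mul_mem hsq hα'
    · change h.1 1 0 * h.1 0 1 ∈ K₀
      rw [e01]
      exact sub_mem (mul_mem (mul_mem hsq hα') hδ') (one_mem _)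
    · change h.1 1 0 * h.1 1 0 ∈ K₀
      rw [e10]; exact hsq
    · change h.1 1 0 * h.1 1 1 ∈ K₀
      rw [e11]; exact mul_mem hsq hδ'
  by_cases h10 : h.1 1 0 = 0
  · have hdet := sl2_det h
    rw [h10, mul_zero, sub_zero] at hdet
    have h11 : h.1 1 1 ≠ 0 := right_ne_zero_of_mul_eq_one hdet
    have hm : h * nn 1 ∈ Hs := Hs.mul_mem hh N.nn1
    have e10 : (h * nn 1).1 1 0 = h.1 1 1 := by
      rw [m10, nn10, nn00 one_ne_zero]; ring
    have e00 : (h * nn 1).1 0 0 = h.1 0 1 := by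
      rw [m00, nn10, nn00 one_ne_zero]; ring
    have e01 : (h * nn 1).1 0 1 = -h.1 0 0 := by
      rw [m01, nn01 one_ne_zero, nn11 one_ne_zero]; simp
    obtain ⟨hd, hk⟩ := key (h * nn 1) hm (by rw [e10]; exact h11)
    rw [e10] at hd hk
    refine ⟨h.1 1 1, h11, hd, ?_⟩
    intro i j
    fin_cases i <;> fin_cases j
    · change h.1 1 1 * h.1 0 0 ∈ K₀
      have := hk 0 1
      rw [e01] at this
      have h2 := neg_mem this
      have e : -(h.1 1 1 * -h.1 0 0) = h.1 1 1 * h.1 0 0 := by ring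
      rwa [e] at h2
    · change h.1 1 1 * h.1 0 1 ∈ K₀
      have := hk 0 0
      rwa [e00] at this
    · change h.1 1 1 * h.1 1 0 ∈ K₀
      rw [h10, mul_zero]; exact zero_mem _
    · change h.1 1 1 * h.1 1 1 ∈ K₀
      have := hk 1 0
      rwa [e10] at this
  · exact ⟨h.1 1 0, h10, (key h hh h10).1, (key h hh h10).2⟩

/-- matrices over the subfield lie in `Hs` -/
theorem mem_of_entries' (g : SL(2, F)) (hg : ∀ i j, g.1 i j ∈ K₀) : g ∈ Hs := by
  by_cases h10 : g.1 1 0 = 0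
  · rw [upper_eq g h10]
    have hdet := sl2_det g
    rw [h10, mul_zero, sub_zero] at hdet
    have h00 : g.1 0 0 ≠ 0 := left_ne_zero_of_mul_eq_one hdet
    exact Hs.mul_mem (N.dd_of_u h00 ((hK₀ _).1 (hg 0 0)))
      ((hK₀ _).1 (mul_mem (hg 0 1) (hg 1 1)))
  · have hi : (g.1 1 0)⁻¹ ∈ K₀ := inv_mem (hg 1 0)
    have e0 : g.1 0 0 = (g.1 0 0 * (g.1 1 0)⁻¹) * g.1 1 0 := by field_simp
    have e1 : g.1 1 1 = (g.1 1 1 * (g.1 1 0)⁻¹) * g.1 1 0 := by field_simp
    rw [decomp g _ _ h10 e0 e1]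
    have h1 : u (g.1 0 0 * (g.1 1 0)⁻¹) ∈ Hs := (hK₀ _).1 (mul_mem (hg 0 0) hi)
    have h2 : u (g.1 1 1 * (g.1 1 0)⁻¹) ∈ Hs := (hK₀ _).1 (mul_mem (hg 1 1) hi)
    exact Hs.mul_mem (Hs.mul_mem h1 (N.nn_of_u h10 ((hK₀ _).1 (hg 1 0)))) h2

end generic

section chartwo

variable [Fintype F] [CharP F 2]

omit N in
theorem two_eq_zero_two : (2 : F) = 0 := by
  have : ((2 : ℕ) : F) = 0 := CharP.cast_eq_zero F 2
  exact_mod_cast this

omit N in
theorem sq_injective_two {a b : F} (h : a ^ 2 = b ^ 2) : a = b := by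
  have h2 : (2 : F) = 0 := two_eq_zero_two
  have : (a - b) ^ 2 = 0 := by linear_combination h - (a * b - b ^ 2) * h2
  exact sub_eq_zero.1 (pow_eq_zero_iff (two_ne_zero) |>.1 this)

/-- the additive group of the unipotent elements is closed under square roots -/
theorem exists_sqrt_mem {a : F} (ha : u a ∈ Hs) : ∃ b : F, u b ∈ Hs ∧ b ^ 2 = a := by
  let f : {a : F // u a ∈ Hs} → {a : F // u a ∈ Hs} := fun x =>
    ⟨(x : F) ^ 2, by
      have := N.sq_mul_mem x.2 N.u1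
      rwa [mul_one] at this⟩
  have hinj : Function.Injective f := by
    intro x y hxy
    apply Subtype.ext
    exact sq_injective_two (congrArg Subtype.val hxy)
  have hsurj : Function.Surjective f := Finite.injective_iff_surjective.1 hinj
  obtain ⟨b, hb⟩ := hsurj ⟨a, ha⟩
  exact ⟨b, b.2, congrArg Subtype.val hb⟩

theorem mulA2 {a c : F} (ha : u a ∈ Hs) (hc : u c ∈ Hs) : u (a * c) ∈ Hs := by
  obtain ⟨b, hb, hba⟩ := N.exists_sqrt_mem ha
  rw [← hba]
  exact N.sq_mul_mem hb hc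

/-- the subfield, in characteristic two -/
def fld2 : Subfield F where
  carrier := {a | u a ∈ Hs}
  mul_mem' := fun ha hc => N.mulA2 ha hc
  one_mem' := N.u1
  add_mem' := fun ha hb => uA_add ha hb
  zero_mem' := uA_zero
  neg_mem' := fun ha => uA_neg ha
  inv_mem' := fun _ ha => N.invA ha

theorem mem_fld2 (a : F) : a ∈ N.fld2 ↔ u a ∈ Hs := Iff.rfl

theorem mem_fld2_of_dd {t : F} (h0 : t ≠ 0) (ht : dd t ∈ Hs) : t ∈ N.fld2 := by
  have h1 : u (t ^ 2) ∈ Hs := N.sq_of_dd h0 ht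
  obtain ⟨b, hb, hbt⟩ := N.exists_sqrt_mem h1
  have : b = t := sq_injective_two hbt
  rw [← this]
  exact hb

/-- in characteristic two, the subgroup consists of the matrices over the subfield -/
theorem mem_iff_entries (g : SL(2, F)) : g ∈ Hs ↔ ∀ i j, g.1 i j ∈ N.fld2 := by
  constructor
  · intro hg i j
    obtain ⟨l, hl0, hld, hl⟩ := N.exists_scalar' N.fld2 N.mem_fld2 g hg
    have hlK := N.mem_fld2_of_dd hl0 hld
    have e : g.1 i j = l⁻¹ * (l * g.1 i j) := by field_simp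
    rw [e]
    exact mul_mem (inv_mem hlK) (hl i j)
  · intro hg
    exact N.mem_of_entries' N.fld2 N.mem_fld2 g hg

end chartwo

end Nrm

end Cfsg.Agent.Helper11.Dickson
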