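import Mathlib
import Cfsg.Agent.Lib.Helper11.DicksonEven2

set_option autoImplicit false
set_option linter.unusedVariables false
set_option linter.unusedSectionVars false
set_option linter.unusedSimpArgs false

/-! Subgroups of `PSL₂(F)` in characteristic two of order `q₀ (q₀² - 1)` with several Sylow
`2`-subgroups: the normalized situation. -/

namespace Cfsg.Agent.Helper11.Dickson

open Matrix Matrix.SpecialLinearGroup
open scoped MatrixGroups
open Cfsg.Agent.Helper2.SL2S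
open Cfsg.Agent.Helper12 Cfsg.Agent.Helper4.DC Cfsg.Agent.Helper4.DSL
open Cfsg.Agent.Helper11.Klein
open Cfsg.Agent.Helper2.PN (mkn mkn_surjective mkn_eq_iff)
open Cfsg.Agent.Helper22.BSW (CIT IsInv Big)
open Cfsg.Agent.Helper2.PA (desc desc_mk)

theorem sylow_count_arith {n c q₀ e' : ℕ} (hq₀ : 2 ≤ q₀) (hn : n = 1 + c * q₀) (hc : 1 ≤ c)
    (h : n * e' = (q₀ - 1) * (q₀ + 1)) : n = q₀ + 1 := by
  obtain ⟨r, rfl⟩ : ∃ r, q₀ = r + 2 := ⟨q₀ - 2, by omega⟩
  have e1 : r + 2 - 1 = r + 1 := by omega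
  rw [e1] at h
  have hdvd : n ∣ (r + 1) * (r + 2 + 1) := Dvd.intro _ h
  have key : c * ((r + 1) * (r + 2 + 1)) + (r + 2 + c) = (r + 2) * n := by
    rw [hn]; ring
  have h2 : n ∣ r + 2 + c := by
    have h3 : n ∣ c * ((r + 1) * (r + 2 + 1)) + (r + 2 + c) := by
      rw [key]; exact Dvd.intro_left _ rfl
    exact (Nat.dvd_add_right (Dvd.dvd.mul_left hdvd c)).1 h3
  have h4 : n ≤ r + 2 + c := Nat.le_of_dvd (by omega) h2
  have hc1 : c = 1 := by
    by_contra hne
    obtain ⟨c', rfl⟩ : ∃ c', c = c' + 2 := ⟨c - 2, by omega⟩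
    rw [hn] at h4
    have e2 : (c' + 2) * (r + 2) = (c' + 1) * (r + 2) + (r + 2) := by ring
    have e3 : (c' + 1) * 2 ≤ (c' + 1) * (r + 2) := Nat.mul_le_mul_left _ (by omega)
    omega
  rw [hn, hc1]; ring

variable {F : Type*} [Field F] [Fintype F] [h2p : Fact (Nat.Prime 2)] [CharP F 2]

theorem card_preim_two (H : Subgroup (Matrix.ProjectiveSpecialLinearGroup (Fin 2) F)) :
    Nat.card (preim H) = Nat.card H := by
  obtain ⟨e⟩ := nonempty_equiv_preim_two H
  exact Nat.card_congr e.toEquiv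

/-- the normalized doubly transitive situation for a subgroup of order `q₀ (q₀² - 1)` with
several Sylow `2`-subgroups -/
theorem even_nrm (H : Subgroup (Matrix.ProjectiveSpecialLinearGroup (Fin 2) F))
    (hn : 1 < Nat.card (Sylow 2 ↥(preim H))) (q₀ e : ℕ) (hq₀ : q₀ = 2 ^ e)
    (hcard : Nat.card H = q₀ * (q₀ - 1) * (q₀ + 1)) :
    ∃ τ : MulAut SL(2, F), Nrm (preim (H.map (desc SL(2, F) τ).toMonoidHom)) := by
  have hq₀2 : 2 ≤ q₀ := by
    rcases Nat.eq_zero_or_pos e with h0 | h0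
    · exfalso
      rw [h0, pow_zero] at hq₀
      rw [hq₀] at hcard
      have : 0 < Nat.card H := Nat.card_pos
      omega
    · rw [hq₀]
      calc 2 = 2 ^ 1 := by norm_num
        _ ≤ 2 ^ e := Nat.pow_le_pow_right (by norm_num) h0
  have he1 : 1 ≤ e := by
    rcases Nat.eq_zero_or_pos e with h0 | h0
    · rw [h0, pow_zero] at hq₀; omega
    · exact h0
  have hodd : ¬ 2 ∣ (q₀ - 1) * (q₀ + 1) := by
    have h2 : 2 ∣ q₀ := by rw [hq₀]; exact dvd_pow_self 2 (by omega)
    intro h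
    rcases (Nat.Prime.dvd_mul Nat.prime_two).1 h with h' | h' <;> omega
  obtain ⟨P⟩ : Nonempty (Sylow 2 ↥(preim H)) := inferInstance
  have hPne := sylow_ne_bot_of_card P hn
  obtain ⟨⟨x, hx⟩, hxne⟩ := (Subgroup.ne_bot_iff_exists_ne_one).1 hPne
  have hx1 : x ≠ 1 := fun h => hxne (Subtype.ext h)
  obtain ⟨Q, hQ⟩ : ∃ Q : Sylow 2 ↥(preim H), Q ≠ P := by
    by_contra hall
    push Not at hall
    have : Subsingleton (Sylow 2 ↥(preim H)) := ⟨fun a b => (hall a).trans (hall b).symm⟩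
    have := Finite.card_le_one_iff_subsingleton.2 this
    omega
  have hQne := sylow_ne_bot_of_card Q hn
  obtain ⟨⟨y, hy⟩, hyne⟩ := (Subgroup.ne_bot_iff_exists_ne_one).1 hQne
  have hy1 : y ≠ 1 := fun h => hyne (Subtype.ext h)
  obtain ⟨k, hk⟩ := pow_eq_one_of_mem_sylow P hx
  have hxp : (x : SL(2, F)) ^ 2 = 1 := sub_pow_p 2 x k hk
  obtain ⟨k', hk'⟩ := pow_eq_one_of_mem_sylow Q hy
  have hyp : (y : SL(2, F)) ^ 2 = 1 := sub_pow_p 2 y k' hk'
  have hnc : x * y ≠ y * x := by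
    intro hc
    -- the centraliser of `y` is a `2`-group
    have hC : CIT ↥(preim H) := cit_two
    have hyinv : IsInv y := by
      refine ⟨hy1, ?_⟩
      apply Subtype.ext
      have := hyp
      rw [pow_two] at this
      simpa using this
    have hCy := hC y hyinv
    have hpg : IsPGroup 2 (Subgroup.centralizer ({y} : Set ↥(preim H))) := by
      rintro ⟨c, hc'⟩
      refine ⟨1, ?_⟩
      apply Subtype.ext
      rw [pow_one, pow_two]
      exact hCy.2 c hc'
    obtain ⟨R, hR⟩ := hpg.exists_le_sylow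
    have hxR : x ∈ R := hR (by
      rw [Subgroup.mem_centralizer_singleton_iff]; exact hc)
    have hyR : y ∈ R := hR (by
      rw [Subgroup.mem_centralizer_singleton_iff])
    have h1 := sylow_TI_two P R x hx hxR hx1
    have h2 := sylow_TI_two Q R y hy hyR hy1
    exact hQ (h2.trans h1.symm)
  have hnc' : (x : SL(2, F)) * y ≠ y * x := by
    intro h
    apply hnc
    apply Subtype.ext
    simpa only [Subgroup.coe_mul] using h
  obtain ⟨s, a, b, ha, hb, hxs, hys⟩ :=
    exists_conj_u_v 2 (x : SL(2, F)) y hxp (coe_ne_one hx1) hyp hnc'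
  set τ : MulAut SL(2, F) :=
    Cfsg.Agent.Helper2.PN.conjSL (diagGL a⁻¹ (inv_ne_zero ha)) * MulAut.conj s with hτ
  have hτx : τ (x : SL(2, F)) = u 1 := by
    rw [hτ, MulAut.mul_apply, MulAut.conj_apply, hxs, conj_diag_u, inv_mul_cancel₀ ha]
  have hτy : τ (y : SL(2, F)) = v (a * b) := by
    rw [hτ, MulAut.mul_apply, MulAut.conj_apply, hys, conj_diag_v, inv_inv]
  refine ⟨τ, ?_⟩
  set H' := H.map (desc SL(2, F) τ).toMonoidHom with hH'
  have eH : H ≃* H' := H.equivMapOfInjective _ (MulEquiv.injective _)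
  have hu : u 1 ∈ preim H' := hτx ▸ mem_preim_map H τ x.2
  have hv : v (a * b) ∈ preim H' := hτy ▸ mem_preim_map H τ y.2
  have hab : a * b ≠ 0 := mul_ne_zero ha hb
  obtain ⟨P', hP'⟩ := exists_sylow_mem 2 (⟨u 1, hu⟩ : ↥(preim H')) (by
    apply Subtype.ext
    simpa using u_pow_two (1 : F))
  obtain ⟨Q', hQ'⟩ := exists_sylow_mem 2 (⟨v (a * b), hv⟩ : ↥(preim H')) (by
    apply Subtype.ext
    simpa using v_pow_two (a * b))
  have hncuv : (⟨u 1, hu⟩ : ↥(preim H')) * ⟨v (a * b), hv⟩ ≠ ⟨v (a * b), hv⟩ * ⟨u 1, hu⟩ := by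
    intro hc
    have h1 : u (1 : F) * v (a * b) = v (a * b) * u 1 := by
      have := congrArg (fun y : ↥(preim H') => (y : SL(2, F))) hc
      simpa using this
    have h2 := ((commute_u_iff (one_ne_zero : (1 : F) ≠ 0) (v (a * b))).1 h1.symm).1
    rw [v10] at h2
    exact hab h2
  have hQP' : Q' ≠ P' := by
    rintro rfl
    exact hncuv (sub_pGroup_comm 2 (Q' : Subgroup ↥(preim H')) Q'.2 _ hP' _ hQ')
  have hn' : 1 < Nat.card (Sylow 2 ↥(preim H')) := by
    haveI : Nontrivial (Sylow 2 ↥(preim H')) := ⟨⟨Q', P', hQP'⟩⟩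
    exact Finite.one_lt_card
  -- the count of the Sylow subgroups
  have hcard' : Nat.card ↥(preim H') = 2 ^ e * ((q₀ - 1) * (q₀ + 1)) := by
    rw [card_preim_two, ← Nat.card_congr eH.toEquiv, hcard, hq₀]
    ring
  have hP'card : Nat.card (P' : Subgroup ↥(preim H')) = q₀ := by
    rw [hq₀]
    exact Cfsg.Agent.Helper2.sylow_card_of_card_eq P' hcard' hodd
  have hTI : ∀ Q : Sylow 2 ↥(preim H'), ∀ a : ↥(preim H'), a ∈ P' → a ∈ Q → a ≠ 1 → P' = Q :=
    fun Q a haP haQ ha1 => sylow_TI_two P' Q a haP haQ ha1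
  have hdv := card_sylow_sub_one_of_TI P' hTI
  rw [hP'card] at hdv
  obtain ⟨c, hc⟩ := hdv
  have hidx : Nat.card (Sylow 2 ↥(preim H')) =
      (Subgroup.normalizer ((P' : Subgroup ↥(preim H')) : Set ↥(preim H'))).index :=
    P'.card_eq_index_normalizer
  have hmul := Subgroup.card_mul_index
    (Subgroup.normalizer ((P' : Subgroup ↥(preim H')) : Set ↥(preim H')))
  have hPN : Nat.card (P' : Subgroup ↥(preim H')) ∣
      Nat.card (Subgroup.normalizer ((P' : Subgroup ↥(preim H')) : Set ↥(preim H'))) :=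
    Subgroup.card_dvd_of_le Subgroup.le_normalizer
  rw [hP'card] at hPN
  obtain ⟨e', he'⟩ := hPN
  rw [← hidx, he', hcard', ← hq₀] at hmul
  have hmul' : Nat.card (Sylow 2 ↥(preim H')) * e' = (q₀ - 1) * (q₀ + 1) := by
    have hpos : 0 < q₀ := by omega
    apply Nat.eq_of_mul_eq_mul_left hpos
    rw [← hmul]; ring
  have hc1 : 1 ≤ c := by
    rcases Nat.eq_zero_or_pos c with h0 | h0
    · rw [h0, mul_zero] at hc; omega
    · exact h0
  have hnn : Nat.card (Sylow 2 ↥(preim H')) = 1 + c * q₀ := by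
    have : 1 ≤ Nat.card (Sylow 2 ↥(preim H')) := by omega
    rw [mul_comm] at hc
    omega
  have hfinal := sylow_count_arith hq₀2 hnn hc1 hmul'
  exact nrm_two (preim H') hu (a * b) hab hv P' hP' (by rw [hfinal, hP'card])

end Cfsg.Agent.Helper11.Dickson
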