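import Mathlib
import Cfsg.Agent.Lib.Helper11.DicksonEven3

set_option autoImplicit false
set_option linter.unusedVariables false
set_option linter.unusedSectionVars false
set_option linter.unusedSimpArgs false

/-! Subfield subgroups of `SL₂(F)` and intermediate subfields in characteristic two. -/

namespace Cfsg.Agent.Helper11.Dickson

open Matrix Matrix.SpecialLinearGroup
open scoped MatrixGroups
open Cfsg.Agent.Helper2.SL2S
open Cfsg.Agent.Helper12 Cfsg.Agent.Helper4.DC Cfsg.Agent.Helper4.DSL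
open Cfsg.Agent.Helper11.Klein
open Cfsg.Agent.Helper2.PN (mkn mkn_surjective mkn_eq_iff)

section slsub

variable {F : Type*} [Field F]

/-- the special linear group of a subfield -/
def slSub (K₀ : Subfield F) : Subgroup SL(2, F) where
  carrier := {g | ∀ i j, g.1 i j ∈ K₀}
  mul_mem' := by
    intro a b ha hb i j
    rw [Matrix.SpecialLinearGroup.coe_mul, Matrix.mul_apply, Fin.sum_univ_two]
    exact add_mem (mul_mem (ha i 0) (hb 0 j)) (mul_mem (ha i 1) (hb 1 j))
  one_mem' := by
    intro i j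
    rw [Matrix.SpecialLinearGroup.coe_one]
    by_cases h : i = j
    · rw [h, Matrix.one_apply_eq]; exact one_mem _
    · rw [Matrix.one_apply_ne h]; exact zero_mem _
  inv_mem' := by
    intro a ha i j
    fin_cases i <;> fin_cases j
    · change (a⁻¹).1 0 0 ∈ K₀
      rw [i00]; exact ha 1 1
    · change (a⁻¹).1 0 1 ∈ K₀
      rw [i01]; exact neg_mem (ha 0 1)
    · change (a⁻¹).1 1 0 ∈ K₀
      rw [i10]; exact neg_mem (ha 1 0)
    · change (a⁻¹).1 1 1 ∈ K₀
      rw [i11]; exact ha 0 0

theorem mem_slSub {K₀ : Subfield F} {g : SL(2, F)} : g ∈ slSub K₀ ↔ ∀ i j, g.1 i j ∈ K₀ :=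
  Iff.rfl

theorem u_mem_slSub {K₀ : Subfield F} (a : F) : u a ∈ slSub K₀ ↔ a ∈ K₀ := by
  constructor
  · intro h
    have := h 0 1
    rwa [u01] at this
  · intro h i j
    fin_cases i <;> fin_cases j
    · change (u a).1 0 0 ∈ K₀
      rw [u00]; exact one_mem _
    · change (u a).1 0 1 ∈ K₀
      rw [u01]; exact h
    · change (u a).1 1 0 ∈ K₀
      rw [u10]; exact zero_mem _
    · change (u a).1 1 1 ∈ K₀
      rw [u11]; exact one_mem _

theorem slSub_mono {K₀ K₁ : Subfield F} (h : K₀ ≤ K₁) : slSub K₀ ≤ slSub K₁ :=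
  fun g hg i j => h (hg i j)

end slsub

section two

variable {F : Type*} [Field F] [Fintype F] [h2p : Fact (Nat.Prime 2)] [CharP F 2]

theorem mkn_injective_two : Function.Injective (mkn (ι := Fin 2) (F := F)) := by
  intro x y hxy
  rw [mkn_eq_iff] at hxy
  obtain ⟨z, hz, hzx⟩ := hxy
  rw [Fintype.card_fin] at hz
  have hz1 : z = 1 := Nrm.sq_injective_two (by rw [hz, one_pow])
  rw [hz1, one_smul] at hzx
  exact (Subtype.ext hzx).symm

/-- a maximal subgroup whose preimage is the special linear group of a subfield: there is no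
intermediate subfield -/
theorem subfield_of_coatom (H : Subgroup (Matrix.ProjectiveSpecialLinearGroup (Fin 2) F))
    (hH : IsCoatom H) (K₀ : Subfield F) (hK₀ : preim H = slSub K₀) (K₁ : Subfield F)
    (h01 : K₀ ≤ K₁) : K₁ = K₀ ∨ K₁ = ⊤ := by
  have hle : H ≤ (slSub K₁).map (mkn (ι := Fin 2) (F := F)) := by
    intro x hx
    obtain ⟨g, rfl⟩ := mkn_surjective x
    have hg : g ∈ preim H := hx
    rw [hK₀] at hg
    exact ⟨g, slSub_mono h01 hg, rfl⟩
  rcases hH.le_iff.1 hle with h | h
  · right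
    rw [eq_top_iff]
    intro a _
    have h1 : mkn (u a) ∈ (slSub K₁).map (mkn (ι := Fin 2) (F := F)) := by rw [h]; trivial
    obtain ⟨g, hg, hga⟩ := h1
    rw [mkn_injective_two hga] at hg
    exact (u_mem_slSub a).1 hg
  · left
    apply le_antisymm _ h01
    intro a ha
    have h1 : mkn (u a) ∈ (slSub K₁).map (mkn (ι := Fin 2) (F := F)) :=
      ⟨u a, (u_mem_slSub a).2 ha, rfl⟩
    rw [h] at h1
    have h2 : u a ∈ preim H := h1
    rw [hK₀] at h2
    exact (u_mem_slSub a).1 h2

end two

end Cfsg.Agent.Helper11.Dickson
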