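import Mathlib
import Cfsg.Agent.Lib.Helper11.DicksonEven4

set_option autoImplicit false
set_option linter.unusedVariables false
set_option linter.unusedSectionVars false
set_option linter.unusedSimpArgs false

/-! Intermediate subfields of finite fields of characteristic two. -/

namespace Cfsg.Agent.Helper11.Dickson

variable {F : Type*} [Field F] [Fintype F] [h2p : Fact (Nat.Prime 2)] [CharP F 2]

theorem pow_pow_eq_self {x : F} {n : ℕ} (h : x ^ n = x) (a : ℕ) : x ^ (n ^ a) = x := by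
  induction a with
  | zero => rw [pow_zero, pow_one]
  | succ a ih => rw [pow_succ, pow_mul, ih, h]

theorem pow_sub_one_eq_one {x : F} (hx : x ≠ 0) {n : ℕ} (hn : 1 ≤ n) (h : x ^ n = x) :
    x ^ (n - 1) = 1 := by
  have e : x ^ n = x ^ (n - 1) * x := by
    rw [← pow_succ]; congr 1; omega
  rw [e] at h
  have : x ^ (n - 1) * x = 1 * x := by rw [h, one_mul]
  exact mul_right_cancel₀ hx this

/-- a subfield of a finite field of characteristic two without intermediate subfields has
prime index -/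
theorem exists_prime_of_no_intermediate (K₀ : Subfield F) (hne : K₀ ≠ ⊤)
    (h : ∀ K₁ : Subfield F, K₀ ≤ K₁ → K₁ = K₀ ∨ K₁ = ⊤) :
    ∃ r : ℕ, r.Prime ∧ Fintype.card F = (Nat.card K₀) ^ r := by
  classical
  haveI : Fintype K₀ := Fintype.ofFinite _
  haveI : CharP K₀ 2 := (RingHom.charP_iff K₀.subtype K₀.subtype.injective 2).2 inferInstance
  have hcardF : Fintype.card F = Fintype.card K₀ ^ Module.finrank K₀ F :=
    Module.card_eq_pow_finrank (K := K₀) (V := F)
  set m := Module.finrank K₀ F with hm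
  obtain ⟨e, -, he⟩ := FiniteField.card K₀ 2
  have he1 : 1 ≤ (e : ℕ) := e.pos
  have hK2 : 2 ≤ Fintype.card K₀ := Fintype.one_lt_card
  refine ⟨m, ?_, by rw [hcardF, Nat.card_eq_fintype_card]⟩
  -- the degree is at least two
  have hm2 : 2 ≤ m := by
    by_contra hlt
    push Not at hlt
    have hm01 : m = 0 ∨ m = 1 := by omega
    rcases hm01 with h0 | h1
    · rw [h0, pow_zero] at hcardF
      have : 2 ≤ Fintype.card F := Fintype.one_lt_card
      omega
    · rw [h1, pow_one] at hcardF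
      apply hne
      have h2 : K₀.toSubring.toAddSubgroup = ⊤ := by
        apply AddSubgroup.eq_top_of_card_eq
        rw [Nat.card_eq_fintype_card, Nat.card_eq_fintype_card, hcardF]
        rfl
      rw [eq_top_iff]
      intro x _
      have : x ∈ K₀.toSubring.toAddSubgroup := by rw [h2]; trivial
      exact this
  by_contra hnp
  obtain ⟨a, ⟨b, hab⟩, ha2, ham⟩ := Nat.exists_dvd_of_not_prime2 hm2 hnp
  have hb2 : 2 ≤ b := by
    by_contra hb
    push Not at hb
    have : b = 0 ∨ b = 1 := by omega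
    rcases this with h0 | h0 <;> rw [h0] at hab <;> omega
  -- the orders
  set k := (e : ℕ) * a with hk
  have hq : Fintype.card F = 2 ^ (k * b) := by
    rw [hcardF, he, hab, hk, ← pow_mul, mul_assoc]
  have hqk : 2 ^ k < 2 ^ (k * b) := by
    apply Nat.pow_lt_pow_right (by norm_num)
    have hk1 : 1 ≤ k := Nat.mul_pos he1 (by omega)
    calc k = k * 1 := (mul_one k).symm
      _ < k * b := Nat.mul_lt_mul_of_pos_left (by omega) hk1
  have hk2 : 2 ≤ 2 ^ k := by
    have hk1 : 1 ≤ k := Nat.mul_pos he1 (by omega)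
    calc 2 = 2 ^ 1 := by norm_num
      _ ≤ 2 ^ k := Nat.pow_le_pow_right (by norm_num) hk1
  have hek : 2 ^ (e : ℕ) < 2 ^ k := by
    apply Nat.pow_lt_pow_right (by norm_num)
    calc (e : ℕ) = e * 1 := (mul_one _).symm
      _ < e * a := Nat.mul_lt_mul_of_pos_left (by omega) he1
  -- the intermediate subfield
  set K₁ : Subfield F := (iterateFrobenius F 2 k).eqLocusField (RingHom.id F) with hK₁
  have hmem : ∀ x : F, x ∈ K₁ ↔ x ^ 2 ^ k = x := by
    intro x
    rw [hK₁, RingHom.mem_eqLocusField, iterateFrobenius_def, RingHom.id_apply]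
  have hK₀pow : ∀ x : F, x ∈ K₀ → x ^ 2 ^ (e : ℕ) = x := by
    intro x hx
    have h1 := FiniteField.pow_card (⟨x, hx⟩ : K₀)
    rw [he] at h1
    have := congrArg Subtype.val h1
    simpa using this
  have h01 : K₀ ≤ K₁ := by
    intro x hx
    rw [hmem, hk, pow_mul]
    exact pow_pow_eq_self (hK₀pow x hx) a
  -- a generator of the multiplicative group
  obtain ⟨ζ, hζ⟩ := IsCyclic.exists_generator (α := Fˣ)
  have hζo : orderOf (ζ : F) = Fintype.card F - 1 := by
    rw [orderOf_units, orderOf_eq_card_of_forall_mem_zpowers hζ, Nat.card_eq_fintype_card,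
      Fintype.card_units]
  have hζ0 : (ζ : F) ≠ 0 := ζ.ne_zero
  rcases h K₁ h01 with h1 | h1
  · -- `K₁ = K₀`
    have hdvd : 2 ^ k - 1 ∣ 2 ^ (k * b) - 1 := by
      have := Nat.sub_dvd_pow_sub_pow (2 ^ k) 1 b
      rwa [one_pow, ← pow_mul] at this
    obtain ⟨c, hc⟩ := hdvd
    have hcpos : 0 < c := by
      rcases Nat.eq_zero_or_pos c with h0 | h0
      · rw [h0, mul_zero] at hc; omega
      · exact h0
    set ζ₁ : F := (ζ : F) ^ c with hζ₁
    have hζ₁0 : ζ₁ ≠ 0 := pow_ne_zero c hζ0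
    have h2 : ζ₁ ^ (2 ^ k - 1) = 1 := by
      rw [hζ₁, ← pow_mul, mul_comm, ← hc, ← hq, ← hζo]
      exact pow_orderOf_eq_one _
    have h3 : ζ₁ ∈ K₁ := by
      rw [hmem]
      have e1 : 2 ^ k = (2 ^ k - 1) + 1 := by omega
      rw [e1, pow_succ, h2, one_mul]
    rw [h1] at h3
    have h4 := pow_sub_one_eq_one hζ₁0 (by omega) (hK₀pow ζ₁ h3)
    rw [hζ₁, ← pow_mul] at h4
    have h5 := orderOf_dvd_of_pow_eq_one h4
    rw [hζo, hq, hc] at h5
    have h6 : 2 ^ k - 1 ∣ 2 ^ (e : ℕ) - 1 := by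
      rw [mul_comm] at h5
      exact Nat.dvd_of_mul_dvd_mul_left hcpos h5
    have h7 := Nat.le_of_dvd (by
      have : 2 ≤ 2 ^ (e : ℕ) := by
        calc 2 = 2 ^ 1 := by norm_num
          _ ≤ 2 ^ (e : ℕ) := Nat.pow_le_pow_right (by norm_num) he1
      omega) h6
    omega
  · -- `K₁ = ⊤`
    have h2 : (ζ : F) ∈ K₁ := by rw [h1]; trivial
    rw [hmem] at h2
    have h3 := pow_sub_one_eq_one hζ0 (by omega) h2
    have h4 := orderOf_dvd_of_pow_eq_one h3
    rw [hζo, hq] at h4
    have h5 := Nat.le_of_dvd (by omega) h4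
    omega

end Cfsg.Agent.Helper11.Dickson
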