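import Mathlib
import Cfsg.Agent.Lib.Helper11.DicksonEven5
import Cfsg.Agent.Lib.Helper11.DicksonMax7

set_option autoImplicit false
set_option linter.unusedVariables false
set_option linter.unusedSectionVars false
set_option linter.unusedSimpArgs false

/-! Maximal subgroups normalizing a subgroup of odd prime order contain a full torus. -/

namespace Cfsg.Agent.Helper11.Dickson

open Matrix Matrix.SpecialLinearGroup
open scoped MatrixGroups
open Cfsg.Agent.Helper2.SL2S
open Cfsg.Agent.Helper12 Cfsg.Agent.Helper4.DC Cfsg.Agent.Helper4.DSL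
open Cfsg.Agent.Helper11.Klein
open Cfsg.Agent.Helper2.PN (mkn mkn_surjective mkn_eq_iff)

section general

variable {G : Type*} [Group G] [Finite G] [IsSimpleGroup G]

/-- a maximal subgroup normalizing a subgroup of prime order `r` contains a conjugate of every
element whose order carries the full `r`-part of the group order -/
theorem exists_conj_mem_of_normalized (hG : ∃ a b : G, a * b ≠ b * a) (M : Subgroup G)
    (hM : IsCoatom M) (r : ℕ) [hrf : Fact r.Prime] (c : G) (hc : orderOf c = r)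
    (hn : ∀ m ∈ M, m * c * m⁻¹ ∈ Subgroup.zpowers c)
    (x₀ : G) (a : ℕ) (ha : r ^ a ∣ orderOf x₀) (ha' : ¬ r ^ (a + 1) ∣ Nat.card G) :
    ∃ x ∈ M, orderOf x = orderOf x₀ ∧ c ∈ Subgroup.zpowers x := by
  classical
  have hr : r.Prime := hrf.out
  have hc1 : c ≠ 1 := by
    rintro rfl
    rw [orderOf_one] at hc
    exact hr.one_lt.ne hc
  have hnpos : 0 < orderOf x₀ := orderOf_pos x₀
  obtain ⟨k, hk⟩ := ha
  have hk0 : k ≠ 0 := by
    rintro rfl
    rw [mul_zero] at hk
    omega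
  set y := x₀ ^ k with hy
  have hyo : orderOf y = r ^ a := by
    rw [hy, orderOf_pow_of_dvd hk0 ⟨r ^ a, by rw [hk, mul_comm]⟩, hk,
      Nat.mul_div_cancel _ (Nat.pos_of_ne_zero hk0)]
  have hR : IsPGroup r (Subgroup.zpowers y) :=
    IsPGroup.of_card (n := a) (by rw [Nat.card_zpowers, hyo])
  obtain ⟨S, hS⟩ := hR.exists_le_sylow
  have hScard : Nat.card S = r ^ a := by
    obtain ⟨b, hb⟩ := IsPGroup.iff_card.1 S.2
    have h1 : r ^ a ∣ r ^ b := by
      rw [← hb, ← hyo, ← Nat.card_zpowers]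
      exact Subgroup.card_dvd_of_le hS
    have h2 : a ≤ b := (Nat.pow_dvd_pow_iff_le_right hr.one_lt).1 h1
    have h3 : r ^ b ∣ Nat.card G := hb ▸ Subgroup.card_subgroup_dvd_card _
    have h4 : b ≤ a := by
      by_contra hlt
      push Not at hlt
      exact ha' (dvd_trans (pow_dvd_pow r hlt) h3)
    rw [hb, le_antisymm h4 h2]
  have hSeq : Subgroup.zpowers y = (S : Subgroup G) := by
    apply Subgroup.eq_of_le_of_card_ge hS
    rw [hScard, Nat.card_zpowers, hyo]
  have hC : IsPGroup r (Subgroup.zpowers c) :=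
    IsPGroup.of_card (n := 1) (by rw [Nat.card_zpowers, hc, pow_one])
  obtain ⟨S', hS'⟩ := hC.exists_le_sylow
  obtain ⟨g, hg⟩ := MulAction.exists_smul_eq G S S'
  have hcS' : c ∈ (S' : Subgroup G) := hS' (Subgroup.mem_zpowers c)
  rw [← hg, Sylow.coe_subgroup_smul, Subgroup.mem_pointwise_smul_iff_inv_smul_mem,
    ← hSeq] at hcS'
  obtain ⟨i, hi⟩ := Subgroup.mem_zpowers_iff.1 hcS'
  rw [MulAut.smul_def, ← map_inv, MulAut.conj_apply, inv_inv] at hi
  -- `c` is a power of the conjugate of `x₀`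
  set x := g * x₀ * g⁻¹ with hx
  have hxo : orderOf x = orderOf x₀ := (MulAut.conj g).orderOf_eq x₀
  have hcx : c = x ^ ((k : ℤ) * i) := by
    rw [hx, conj_zpow, _root_.zpow_mul, zpow_natCast, ← hy, hi]
    group
  have hcz : c ∈ Subgroup.zpowers x := by
    rw [hcx]
    exact Subgroup.zpow_mem _ (Subgroup.mem_zpowers x) _
  refine ⟨x, ?_, hxo, hcz⟩
  -- the normalizer
  have hT : Subgroup.zpowers c ≠ ⊤ := by
    intro h
    obtain ⟨a', b', hab⟩ := hG
    have ha : a' ∈ Subgroup.zpowers c := by rw [h]; trivial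
    have hb : b' ∈ Subgroup.zpowers c := by rw [h]; trivial
    obtain ⟨i, rfl⟩ := Subgroup.mem_zpowers_iff.1 ha
    obtain ⟨j, rfl⟩ := Subgroup.mem_zpowers_iff.1 hb
    apply hab
    rw [← _root_.zpow_add, ← _root_.zpow_add, add_comm]
  have hN : Subgroup.normalizer ((Subgroup.zpowers c : Subgroup G) : Set G) ≠ ⊤ := by
    intro h
    have hn' : (Subgroup.zpowers c).Normal := Subgroup.normalizer_eq_top_iff.1 h
    rcases hn'.eq_bot_or_eq_top with h1 | h1
    · apply hc1
      have : c ∈ Subgroup.zpowers c := Subgroup.mem_zpowers c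
      rw [h1, Subgroup.mem_bot] at this
      exact this
    · exact hT h1
  have hle : M ≤ Subgroup.normalizer ((Subgroup.zpowers c : Subgroup G) : Set G) := by
    intro m hm
    apply Subgroup.mem_normalizer_fintype
    intro n hn'
    obtain ⟨i, rfl⟩ := Subgroup.mem_zpowers_iff.1 hn'
    rw [SetLike.mem_coe, ← conj_zpow]
    exact Subgroup.zpow_mem _ (hn m hm) i
  have hMN : M = Subgroup.normalizer ((Subgroup.zpowers c : Subgroup G) : Set G) := by
    rcases hM.le_iff.1 hle with h | h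
    · exact absurd h hN
    · exact h.symm
  rw [hMN]
  apply Subgroup.mem_normalizer_fintype
  intro n hn'
  obtain ⟨j, rfl⟩ := Subgroup.mem_zpowers_iff.1 hn'
  rw [SetLike.mem_coe]
  have : x * c ^ j * x⁻¹ = c ^ j := by
    rw [hcx, ← _root_.zpow_mul]
    have h1 : x * x ^ ((k : ℤ) * i * j) = x ^ ((k : ℤ) * i * j) * x := by
      rw [← _root_.zpow_one_add, ← _root_.zpow_add_one, add_comm]
    rw [h1, mul_assoc, mul_inv_cancel, mul_one]
  rw [this]
  exact Subgroup.zpow_mem _ (Subgroup.mem_zpowers c) j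

end general

variable {F : Type*} [Field F] [Fintype F]

/-- a maximal subgroup of `PSL₂(q)` normalizing a subgroup of odd prime order different from
the characteristic contains a cyclic subgroup of order `(q - 1) / d` or `(q + 1) / d` through
it -/
theorem exists_torus_elt (p : ℕ) [hpf : Fact p.Prime] [CharP F p] (h4 : 4 ≤ Fintype.card F)
    (M : Subgroup (Matrix.ProjectiveSpecialLinearGroup (Fin 2) F)) (hM : IsCoatom M)
    (r : ℕ) (hr : r.Prime) (hr2 : r ≠ 2) (hrp : r ≠ p)
    (c : Matrix.ProjectiveSpecialLinearGroup (Fin 2) F) (hc : orderOf c = r)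
    (hn : ∀ m ∈ M, m * c * m⁻¹ ∈ Subgroup.zpowers c) :
    ∃ x ∈ M, c ∈ Subgroup.zpowers x ∧
      (orderOf x = (Fintype.card F - 1) / Nat.gcd 2 (Fintype.card F - 1) ∨
        orderOf x = (Fintype.card F + 1) / Nat.gcd 2 (Fintype.card F - 1)) := by
  classical
  haveI : Fact r.Prime := ⟨hr⟩
  haveI : IsSimpleGroup (Matrix.ProjectiveSpecialLinearGroup (Fin 2) F) :=
    Matrix.ProjectiveSpecialLinearGroup.rank_two_simple
      (by rw [Nat.card_eq_fintype_card]; exact h4)
  set q := Fintype.card F with hq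
  set d := Nat.gcd 2 (q - 1) with hd
  have hcard : d * Nat.card (Matrix.ProjectiveSpecialLinearGroup (Fin 2) F) =
      q * (q - 1) * (q + 1) := card_PSL2_mul (F := F)
  have hrG : r ∣ Nat.card (Matrix.ProjectiveSpecialLinearGroup (Fin 2) F) :=
    hc ▸ orderOf_dvd_natCard c
  obtain ⟨n, -, hn'⟩ := FiniteField.card F p
  have hrq : ¬ r ∣ q := by
    intro h
    rw [hq, hn'] at h
    exact hrp ((Nat.prime_dvd_prime_iff_eq hr hpf.out).1 (hr.dvd_of_dvd_pow h))
  have hdd : d ∣ 2 := Nat.gcd_dvd_left _ _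
  have hd1 : d ∣ q - 1 := Nat.gcd_dvd_right _ _
  have hd2 : d ∣ q + 1 := by
    have : q + 1 = (q - 1) + 2 := by omega
    rw [this]
    exact dvd_add hd1 hdd
  have hr2' : ¬ r ∣ 2 := by
    intro h
    exact hr2 ((Nat.prime_dvd_prime_iff_eq hr Nat.prime_two).1 h)
  have hrd : Nat.Coprime r d := by
    rw [Nat.Prime.coprime_iff_not_dvd hr]
    intro h
    exact hr2' (dvd_trans h hdd)
  have key : ∀ (t t' : ℕ) (x₀ : Matrix.ProjectiveSpecialLinearGroup (Fin 2) F),
      d * Nat.card (Matrix.ProjectiveSpecialLinearGroup (Fin 2) F) = q * t' * t → 0 < t →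
      r ∣ t → d ∣ t → orderOf x₀ = t / d → ¬ r ∣ t' →
      ∃ x ∈ M, c ∈ Subgroup.zpowers x ∧ orderOf x = t / d := by
    intro t t' x₀ hG ht0 hrt hdt hx₀ hrt'
    obtain ⟨a, t₀, ht₀, hta⟩ := Nat.exists_eq_pow_mul_and_not_dvd ht0.ne' r hr.ne_one
    have h1 : r ^ a ∣ orderOf x₀ := by
      rw [hx₀]
      have h2 : r ^ a ∣ d * (t / d) := by
        rw [Nat.mul_div_cancel' hdt, hta]
        exact Dvd.intro _ rfl
      exact Nat.Coprime.dvd_of_dvd_mul_left (Nat.Coprime.pow_left a hrd) h2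
    have h2 : ¬ r ^ (a + 1) ∣ Nat.card (Matrix.ProjectiveSpecialLinearGroup (Fin 2) F) := by
      intro h
      have h3 : r ^ (a + 1) ∣ q * t' * t := by
        rw [← hG]
        exact Dvd.dvd.mul_left h d
      have hcq : Nat.Coprime (r ^ (a + 1)) (q * t') := by
        apply Nat.Coprime.pow_left
        apply Nat.Coprime.mul_right
        · exact (Nat.Prime.coprime_iff_not_dvd hr).2 hrq
        · exact (Nat.Prime.coprime_iff_not_dvd hr).2 hrt'
      have h4 : r ^ (a + 1) ∣ t := Nat.Coprime.dvd_of_dvd_mul_left hcq h3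
      rw [hta, pow_succ] at h4
      exact ht₀ (Nat.dvd_of_mul_dvd_mul_left (pow_pos hr.pos a) h4)
    obtain ⟨x, hxM, hxo, hcx⟩ :=
      exists_conj_mem_of_normalized psl2_noncomm M hM r c hc hn x₀ a h1 h2
    exact ⟨x, hxM, hcx, by rw [hxo, hx₀]⟩
  have hq2 : 2 ≤ q := by omega
  have hrmul : r ∣ (q - 1) * (q + 1) := by
    have h1 : r ∣ q * ((q - 1) * (q + 1)) := by
      rw [← mul_assoc, ← hcard]
      exact Dvd.dvd.mul_left hrG d
    exact ((Nat.Prime.dvd_mul hr).1 h1).resolve_left hrq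
  rcases (Nat.Prime.dvd_mul hr).1 hrmul with h | h
  · obtain ⟨x₀, hx₀⟩ := psl_exists_orderOf_split (F := F)
    have hrt' : ¬ r ∣ q + 1 := by
      intro h'
      have : r ∣ (q + 1) - (q - 1) := Nat.dvd_sub h' h
      have e : (q + 1) - (q - 1) = 2 := by omega
      rw [e] at this
      exact hr2' this
    obtain ⟨x, hxM, hcx, hxo⟩ := key (q - 1) (q + 1) x₀ (by rw [hcard]; ring) (by omega) h hd1
      hx₀ hrt'
    exact ⟨x, hxM, hcx, Or.inl hxo⟩
  · obtain ⟨x₀, hx₀⟩ := psl_exists_orderOf_nonsplit (F := F) p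
    have hrt' : ¬ r ∣ q - 1 := by
      intro h'
      have : r ∣ (q + 1) - (q - 1) := Nat.dvd_sub h h'
      have e : (q + 1) - (q - 1) = 2 := by omega
      rw [e] at this
      exact hr2' this
    obtain ⟨x, hxM, hcx, hxo⟩ := key (q + 1) (q - 1) x₀ hcard (by omega) h hd2 hx₀ hrt'
    exact ⟨x, hxM, hcx, Or.inr hxo⟩

end Cfsg.Agent.Helper11.Dickson
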