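import Mathlib
import Cfsg.Agent.Lib.Helper11.DicksonEven6

set_option autoImplicit false
set_option linter.unusedVariables false
set_option linter.unusedSectionVars false
set_option linter.unusedSimpArgs false

/-! Maximal subgroups of `PSL₂(q)`, `q` even: the Borel, dihedral and subfield cases. -/

namespace Cfsg.Agent.Helper11.Dickson

open Matrix Matrix.SpecialLinearGroup
open scoped MatrixGroups
open Cfsg.Agent.Helper2.SL2S
open Cfsg.Agent.Helper12 Cfsg.Agent.Helper4.DC Cfsg.Agent.Helper4.DSL
open Cfsg.Agent.Helper11.Klein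
open Cfsg.Agent.Helper28.SubfieldPSL2
open Cfsg.Agent.Helper2.PN (mkn mkn_surjective mkn_eq_iff)

variable {F : Type*} [Field F] [Fintype F] [h2p : Fact (Nat.Prime 2)] [CharP F 2]

/-- the special linear group of a subfield as an abstract group -/
theorem slSub_map_equiv (K₀ : Subfield F) :
    ∃ (K : Type) (_ : Field K) (_ : Fintype K), Fintype.card K = Nat.card K₀ ∧
      Nonempty (↥((slSub K₀).map (mkn (ι := Fin 2) (F := F))) ≃*
        Matrix.ProjectiveSpecialLinearGroup (Fin 2) K) := by
  classical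
  obtain ⟨K, iK, iF, m, ι, hm, hι⟩ := exists_small_field 2 K₀
  refine ⟨K, iK, iF, ?_, ?_⟩
  · rw [← Nat.card_eq_fintype_card]
    apply Nat.card_congr
    refine Equiv.ofBijective (fun y => ⟨ι y, (hι _).2 ⟨y, rfl⟩⟩) ⟨?_, ?_⟩
    · intro a b hab
      exact ι.injective (congrArg Subtype.val hab)
    · rintro ⟨x, hx⟩
      obtain ⟨y, hy⟩ := (hι x).1 hx
      exact ⟨y, Subtype.ext hy⟩
  · have hrange : (slSub K₀).map (mkn (ι := Fin 2) (F := F)) = (slToPSL ι).range := by
      ext x
      constructor
      · rintro ⟨h, hh, rfl⟩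
        have hent : ∀ i j, ∃ y : K, ι y = h.1 i j := fun i j => (hι _).1 (mem_slSub.1 hh i j)
        obtain ⟨g, hg⟩ := exists_map_eq ι h hent
        exact ⟨g, by rw [← hg]; rfl⟩
      · rintro ⟨g, rfl⟩
        refine ⟨Matrix.SpecialLinearGroup.map ι g, ?_, rfl⟩
        rw [SetLike.mem_coe, mem_slSub]
        intro i j
        rw [map_entry]
        exact (hι _).2 ⟨_, rfl⟩
    rw [hrange]
    exact ⟨((QuotientGroup.quotientMulEquivOfEq (ker_slToPSL ι)).symm.trans
      (QuotientGroup.quotientKerEquivRange (slToPSL ι))).symm⟩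

/-- in characteristic two, `q` is even -/
theorem even_card_two : Even (Fintype.card F) := by
  obtain ⟨n, -, hn⟩ := FiniteField.card F 2
  rw [hn]
  exact (Nat.even_pow.2 ⟨even_two, n.ne_zero⟩)

theorem gcd_two_card_two : Nat.gcd 2 (Fintype.card F - 1) = 1 := by
  obtain ⟨k, hk⟩ := even_card_two (F := F)
  have h2 : 2 ≤ Fintype.card F := Fintype.one_lt_card
  have : Fintype.card F - 1 = 2 * (k - 1) + 1 := by omega
  rw [this]
  simp

/-- a maximal subgroup of Borel type has order `q (q - 1)` -/
theorem card_of_frame_coatom_two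
    (M : Subgroup (Matrix.ProjectiveSpecialLinearGroup (Fin 2) F)) (hM : IsCoatom M)
    (s : SL(2, F)) (hs : ∀ h ∈ preim M, (s * h * s⁻¹).1 1 0 = 0) :
    Nat.card M = Fintype.card F * (Fintype.card F - 1) := by
  classical
  set X : Subgroup (Matrix.ProjectiveSpecialLinearGroup (Fin 2) F) :=
    ((borelSL2 F).map (MulAut.conj s⁻¹).toMonoidHom).map (mkn (ι := Fin 2) (F := F)) with hX
  have hcardX : Nat.card X = Fintype.card F * (Fintype.card F - 1) := by
    rw [hX, Subgroup.card_map_of_injective mkn_injective_two,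
      Subgroup.card_map_of_injective (MulEquiv.injective _), card_borelSL2]
  have hle : M ≤ X := by
    intro x hx
    obtain ⟨g, rfl⟩ := mkn_surjective x
    have hg : g ∈ preim M := hx
    refine ⟨g, ⟨s * g * s⁻¹, (mem_borelSL2_iff _).2 (hs g hg), ?_⟩, rfl⟩
    change s⁻¹ * (s * g * s⁻¹) * s⁻¹⁻¹ = g
    group
  have hXtop : X ≠ ⊤ := by
    intro h
    have h1 := card_PSL2_mul (F := F)
    rw [gcd_two_card_two, one_mul, ← Subgroup.card_top, ← h, hcardX] at h1
    have h2 : 2 ≤ Fintype.card F := Fintype.one_lt_card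
    have h3 : 0 < Fintype.card F * (Fintype.card F - 1) := Nat.mul_pos (by omega) (by omega)
    have h4 : Fintype.card F * (Fintype.card F - 1) * 1 =
        Fintype.card F * (Fintype.card F - 1) * (Fintype.card F + 1) := by rw [mul_one]; exact h1
    have := Nat.eq_of_mul_eq_mul_left h3 h4
    omega
  rcases hM.le_iff.1 hle with h | h
  · exact absurd h hXtop
  · rw [← h, hcardX]

end Cfsg.Agent.Helper11.Dickson
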