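import Mathlib
import Cfsg.Agent.Lib.Helper11.DicksonEven7

set_option autoImplicit false
set_option linter.unusedVariables false
set_option linter.unusedSectionVars false
set_option linter.unusedSimpArgs false

/-! Maximal subgroups of `PSL₂(q)`, `q` even: the dihedral case. -/

namespace Cfsg.Agent.Helper11.Dickson

open Matrix Matrix.SpecialLinearGroup
open scoped MatrixGroups
open Cfsg.Agent.Helper2.SL2S
open Cfsg.Agent.Helper12 Cfsg.Agent.Helper4.DC Cfsg.Agent.Helper4.DSL
open Cfsg.Agent.Helper11.Klein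
open Cfsg.Agent.Helper2.PN (mkn mkn_surjective mkn_eq_iff)

/-- rotations of a dihedral group are normalized up to inversion -/
theorem dihedral_conj_r {k : ℕ} (g : DihedralGroup k) (i : ZMod k) :
    g * DihedralGroup.r i * g⁻¹ = DihedralGroup.r i ∨
      g * DihedralGroup.r i * g⁻¹ = (DihedralGroup.r i)⁻¹ := by
  rcases g with j | j
  · left
    rw [DihedralGroup.inv_r, DihedralGroup.r_mul_r, DihedralGroup.r_mul_r]
    congr 1
    ring
  · right
    rw [DihedralGroup.inv_sr, DihedralGroup.sr_mul_r, DihedralGroup.sr_mul_sr,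
      DihedralGroup.inv_r]
    congr 1
    ring

theorem dihedral_one_comm : ∀ a b : DihedralGroup 1, a * b = b * a := by decide

variable {F : Type*} [Field F] [Fintype F] [h2p : Fact (Nat.Prime 2)] [CharP F 2]

/-- a dihedral maximal subgroup of `PSL₂(q)`, `q` even, has order `2 (q - 1)` or `2 (q + 1)` -/
theorem dihedral_coatom_two (h4 : 4 ≤ Fintype.card F)
    (M : Subgroup (Matrix.ProjectiveSpecialLinearGroup (Fin 2) F)) (hM : IsCoatom M) (k : ℕ)
    (hk : k ∣ Fintype.card F + 1 ∨ k ∣ Fintype.card F - 1) (e : M ≃* DihedralGroup k) :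
    Nonempty (M ≃* DihedralGroup (Fintype.card F - 1)) ∨
      Nonempty (M ≃* DihedralGroup (Fintype.card F + 1)) := by
  classical
  haveI : IsSimpleGroup (Matrix.ProjectiveSpecialLinearGroup (Fin 2) F) :=
    Matrix.ProjectiveSpecialLinearGroup.rank_two_simple
      (by rw [Nat.card_eq_fintype_card]; exact h4)
  set q := Fintype.card F with hq
  obtain ⟨j, hj⟩ := even_card_two (F := F)
  have hk0 : k ≠ 0 := by
    rintro rfl
    rcases hk with h | h
    · rw [zero_dvd_iff] at h; omega
    · rw [zero_dvd_iff] at h; omega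
  haveI : NeZero k := ⟨hk0⟩
  have hkodd : ¬ 2 ∣ k := by
    intro h
    rcases hk with h' | h'
    · have := dvd_trans h h'; omega
    · have := dvd_trans h h'; omega
  have hk1 : k ≠ 1 := by
    rintro rfl
    apply not_comm_of_coatom psl2_noncomm M hM
    intro a ha b hb
    have := dihedral_one_comm (e ⟨a, ha⟩) (e ⟨b, hb⟩)
    rw [← map_mul, ← map_mul] at this
    have := congrArg Subtype.val (e.injective this)
    simpa using this
  -- an odd prime divisor
  set r := Nat.minFac k with hr
  have hrp : r.Prime := Nat.minFac_prime hk1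
  have hrk : r ∣ k := Nat.minFac_dvd k
  have hr2 : r ≠ 2 := by
    intro h
    rw [h] at hrk
    exact hkodd hrk
  -- the element of order `r`
  set cD : DihedralGroup k := (DihedralGroup.r 1) ^ (k / r) with hcD
  have hkr0 : k / r ≠ 0 := by
    intro h
    rw [Nat.div_eq_zero_iff] at h
    rcases h with h | h
    · exact hrp.ne_zero h
    · exact absurd (Nat.le_of_dvd (Nat.pos_of_ne_zero hk0) hrk) (by omega)
  have hcDo : orderOf cD = r := by
    rw [hcD, orderOf_pow_of_dvd hkr0 (by rw [DihedralGroup.orderOf_r_one]; exact Nat.div_dvd_of_dvd hrk),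
      DihedralGroup.orderOf_r_one, Nat.div_div_self hrk hk0]
  have hcDr : cD = DihedralGroup.r ((k / r : ℕ) : ZMod k) := by
    rw [hcD, DihedralGroup.r_one_pow]
  have hcDn : ∀ g : DihedralGroup k, ∃ i : ℤ, g * cD * g⁻¹ = cD ^ i := by
    intro g
    rw [hcDr]
    rcases dihedral_conj_r g ((k / r : ℕ) : ZMod k) with h | h
    · exact ⟨1, by rw [h, zpow_one]⟩
    · exact ⟨-1, by rw [h, _root_.zpow_neg_one]⟩
  set c : Matrix.ProjectiveSpecialLinearGroup (Fin 2) F := ((e.symm cD : M) : Matrix.ProjectiveSpecialLinearGroup (Fin 2) F) with hc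
  have hco : orderOf c = r := by
    rw [hc, Subgroup.orderOf_coe, MulEquiv.orderOf_eq, hcDo]
  have hcn : ∀ m ∈ M, m * c * m⁻¹ ∈ Subgroup.zpowers c := by
    intro m hm
    obtain ⟨i, hi⟩ := hcDn (e ⟨m, hm⟩)
    have h1 : (⟨m, hm⟩ : M) * e.symm cD * (⟨m, hm⟩ : M)⁻¹ = (e.symm cD) ^ i := by
      apply e.injective
      rw [map_mul, map_mul, map_inv, map_zpow, e.apply_symm_apply, hi]
    have h2 := congrArg Subtype.val h1
    rw [Subgroup.coe_mul, Subgroup.coe_mul, Subgroup.coe_inv, Subgroup.coe_zpow] at h2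
    rw [hc]
    change m * ((e.symm cD : M) : Matrix.ProjectiveSpecialLinearGroup (Fin 2) F) * m⁻¹ ∈ _
    rw [h2]
    exact Subgroup.zpow_mem _ (Subgroup.mem_zpowers _) i
  obtain ⟨x, hxM, -, hxo⟩ := exists_torus_elt 2 h4 M hM r hrp hr2 hr2 c hco hcn
  rw [gcd_two_card_two, Nat.div_one, Nat.div_one] at hxo
  have hxe : orderOf (e ⟨x, hxM⟩) = orderOf x := by
    rw [MulEquiv.orderOf_eq, Subgroup.orderOf_mk]
  have hx3 : 3 ≤ orderOf x := by
    rcases hxo with h | h <;> rw [h] <;> omega
  have hdvd : orderOf x ∣ k := by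
    rw [← hxe]
    apply dihedral_orderOf_dvd
    rw [hxe]
    exact hx3
  rcases hk with hk | hk <;> rcases hxo with h | h
  · exfalso
    rw [h] at hdvd
    have h1 : q - 1 ∣ q + 1 := dvd_trans hdvd hk
    have h2 : q - 1 ∣ (q + 1) - (q - 1) := Nat.dvd_sub h1 (dvd_refl _)
    have e2 : (q + 1) - (q - 1) = 2 := by omega
    rw [e2] at h2
    have := Nat.le_of_dvd (by norm_num) h2
    omega
  · right
    rw [h] at hdvd
    have : k = q + 1 := Nat.dvd_antisymm hk hdvd
    subst this
    exact ⟨e⟩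
  · left
    rw [h] at hdvd
    have : k = q - 1 := Nat.dvd_antisymm hk hdvd
    subst this
    exact ⟨e⟩
  · exfalso
    rw [h] at hdvd
    have h1 : q + 1 ∣ q - 1 := dvd_trans hdvd hk
    have := Nat.le_of_dvd (by omega) h1
    omega

end Cfsg.Agent.Helper11.Dickson
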