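import Mathlib
import Cfsg.Agent.Lib.Helper11.DicksonEven8

set_option autoImplicit false
set_option linter.unusedVariables false
set_option linter.unusedSectionVars false
set_option linter.unusedSimpArgs false

/-! Maximal subgroups of `PSL₂(q)`, `q` even: the subfield case and the main theorem. -/

namespace Cfsg.Agent.Helper11.Dickson

open Matrix Matrix.SpecialLinearGroup
open scoped MatrixGroups
open Cfsg.Agent.Helper2.SL2S
open Cfsg.Agent.Helper12 Cfsg.Agent.Helper4.DC Cfsg.Agent.Helper4.DSL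
open Cfsg.Agent.Helper11.Klein
open Cfsg.Agent.Helper2.PN (mkn mkn_surjective mkn_eq_iff)
open Cfsg.Agent.Helper2.PA (desc desc_mk)

variable {F : Type*} [Field F] [Fintype F] [h2p : Fact (Nat.Prime 2)] [CharP F 2]

/-- the image of a maximal subgroup under an isomorphism is maximal -/
theorem isCoatom_map_equiv {G G' : Type*} [Group G] [Group G'] (f : G ≃* G') (M : Subgroup G)
    (hM : IsCoatom M) : IsCoatom (M.map f.toMonoidHom) :=
  (f.mapSubgroup.isCoatom_iff M).2 hM

/-- a maximal subgroup with noncyclic non-normal Sylow `2`-subgroups is the group of a subfield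
of prime index -/
theorem subfield_coatom_two
    (M : Subgroup (Matrix.ProjectiveSpecialLinearGroup (Fin 2) F)) (hM : IsCoatom M)
    (T : Sylow 2 ↥(preim M)) (hnc : ¬ IsCyclic (T : Subgroup ↥(preim M)))
    (hnn : ¬ (T : Subgroup ↥(preim M)).Normal) :
    ∃ (F₀ : Type) (_ : Field F₀) (_ : Fintype F₀) (r : ℕ), r.Prime ∧ Fintype.card F₀ ≠ 2 ∧
      Fintype.card F = Fintype.card F₀ ^ r ∧
      Nonempty (M ≃* Matrix.ProjectiveSpecialLinearGroup (Fin 2) F₀) := by
  classical
  obtain ⟨K, iK, iF, m, hm, ⟨e₀⟩⟩ := two_noncyclic T hnc hnn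
  set q₀ := Fintype.card K with hq₀
  obtain ⟨n, -, hn⟩ := FiniteField.card F 2
  have hm0 : m ≠ 0 := by
    rintro rfl
    rw [pow_zero] at hm
    have : 2 ≤ Fintype.card F := Fintype.one_lt_card
    omega
  have hdvd : q₀ ∣ 2 ^ (n : ℕ) := by
    rw [← hn, ← hm]
    exact dvd_pow_self _ hm0
  obtain ⟨e, -, he⟩ := (Nat.dvd_prime_pow Nat.prime_two).1 hdvd
  have hq₀2 : 2 ≤ q₀ := Fintype.one_lt_card
  have he1 : 1 ≤ e := by
    rcases Nat.eq_zero_or_pos e with h0 | h0
    · rw [h0, pow_zero] at he; omega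
    · exact h0
  have hgcd : Nat.gcd 2 (q₀ - 1) = 1 := by
    obtain ⟨j, rfl⟩ : ∃ j, e = j + 1 := ⟨e - 1, by omega⟩
    have : q₀ - 1 = 2 * (2 ^ j - 1) + 1 := by
      have : 1 ≤ 2 ^ j := Nat.one_le_two_pow
      rw [he, pow_succ]; omega
    rw [this]
    simp
  have hcard : Nat.card M = q₀ * (q₀ - 1) * (q₀ + 1) := by
    rw [← card_preim_two, Nat.card_congr e₀.toEquiv]
    have h1 := card_PSL2_mul (F := K)
    rw [hgcd, one_mul] at h1
    exact h1
  have hq₀ne : q₀ ≠ 2 := by
    intro h
    rw [h] at hcard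
    apply hnc
    obtain ⟨b, hb⟩ := IsPGroup.iff_card.1 T.2
    have h1 : Nat.card (T : Subgroup ↥(preim M)) ∣ 6 := by
      have := Subgroup.card_subgroup_dvd_card (T : Subgroup ↥(preim M))
      rw [card_preim_two, hcard] at this
      exact this
    rw [hb] at h1
    have hb1 : b ≤ 1 := by
      by_contra hlt
      push Not at hlt
      have : 2 ^ 2 ∣ 6 := dvd_trans (pow_dvd_pow 2 hlt) h1
      omega
    interval_cases b
    · haveI : Subsingleton (T : Subgroup ↥(preim M)) :=
        (Nat.card_eq_one_iff_unique.mp (by rw [hb, pow_zero])).1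
      exact isCyclic_of_subsingleton
    · exact isCyclic_of_prime_card (p := 2) (by rw [hb, pow_one])
  have hq₀4 : 4 ≤ q₀ := by
    have he2 : 2 ≤ e := by
      by_contra hlt
      push Not at hlt
      have : e = 1 := by omega
      rw [this, pow_one] at he
      exact hq₀ne he
    rw [he]
    calc 4 = 2 ^ 2 := by norm_num
      _ ≤ 2 ^ e := Nat.pow_le_pow_right (by norm_num) he2
  have hn1 : 1 < Nat.card (Sylow 2 ↥(preim M)) := by
    by_contra hle
    push Not at hle
    have hs : Subsingleton (Sylow 2 ↥(preim M)) := Finite.card_le_one_iff_subsingleton.1 hle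
    exact hnn (Sylow.normal_of_subsingleton T)
  obtain ⟨τ, N⟩ := even_nrm M hn1 q₀ e he hcard
  set M' := M.map (desc SL(2, F) τ).toMonoidHom with hM'
  have eM : M ≃* M' := M.equivMapOfInjective _ (MulEquiv.injective _)
  have hM'c : IsCoatom M' := isCoatom_map_equiv _ M hM
  set K₀ := N.fld2 with hK₀
  have hpre : preim M' = slSub K₀ := by
    ext g
    rw [N.mem_iff_entries, mem_slSub]
  have hne : K₀ ≠ ⊤ := by
    intro h
    apply hM'c.1
    rw [eq_top_iff]
    intro x _
    obtain ⟨g, rfl⟩ := mkn_surjective x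
    have : g ∈ preim M' := by
      rw [hpre, mem_slSub, h]
      intro i j
      trivial
    exact this
  obtain ⟨r, hr, hcardF⟩ := exists_prime_of_no_intermediate K₀ hne
    (fun K₁ h01 => subfield_of_coatom M' hM'c K₀ hpre K₁ h01)
  obtain ⟨K', iK', iF', hK'card, ⟨e'⟩⟩ := slSub_map_equiv K₀
  have hmap : (slSub K₀).map (mkn (ι := Fin 2) (F := F)) = M' := by
    rw [← hpre]
    exact map_preim M'
  have eF : M ≃* Matrix.ProjectiveSpecialLinearGroup (Fin 2) K' :=
    eM.trans ((MulEquiv.subgroupCongr hmap).symm.trans e')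
  refine ⟨K', iK', iF', r, hr, ?_, by rw [hK'card]; exact hcardF, ⟨eF⟩⟩
  intro h2
  have h1 := card_PSL2_le K'
  rw [h2, ← Nat.card_congr eF.toEquiv, hcard] at h1
  have h3 : 4 * 3 * 5 ≤ q₀ * (q₀ - 1) * (q₀ + 1) :=
    Nat.mul_le_mul (Nat.mul_le_mul hq₀4 (by omega)) (by omega)
  omega

/-- **the maximal subgroups of `PSL₂(q)`, `q ≥ 4` even** -/
theorem coatom_even (h4 : 4 ≤ Fintype.card F)
    (M : Subgroup (Matrix.ProjectiveSpecialLinearGroup (Fin 2) F)) (hM : IsCoatom M) :
    Nat.card M = Fintype.card F * (Fintype.card F - 1) ∨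
    Nonempty (M ≃* DihedralGroup (Fintype.card F - 1)) ∨
    Nonempty (M ≃* DihedralGroup (Fintype.card F + 1)) ∨
    (∃ (F₀ : Type) (_ : Field F₀) (_ : Fintype F₀) (r : ℕ), r.Prime ∧ Fintype.card F₀ ≠ 2 ∧
      Fintype.card F = Fintype.card F₀ ^ r ∧
      Nonempty (M ≃* Matrix.ProjectiveSpecialLinearGroup (Fin 2) F₀)) := by
  classical
  haveI : IsSimpleGroup (Matrix.ProjectiveSpecialLinearGroup (Fin 2) F) :=
    Matrix.ProjectiveSpecialLinearGroup.rank_two_simple
      (by rw [Nat.card_eq_fintype_card]; exact h4)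
  have hdih : ∀ k : ℕ, (k ∣ (Fintype.card F + 1) / Nat.gcd 2 (Fintype.card F - 1) ∨
      k ∣ (Fintype.card F - 1) / Nat.gcd 2 (Fintype.card F - 1)) →
      Nonempty (M ≃* DihedralGroup k) →
      Nonempty (M ≃* DihedralGroup (Fintype.card F - 1)) ∨
        Nonempty (M ≃* DihedralGroup (Fintype.card F + 1)) := by
    rintro k hk ⟨e⟩
    rw [gcd_two_card_two, Nat.div_one, Nat.div_one] at hk
    exact dihedral_coatom_two h4 M hM k hk e
  by_cases hcop : 2 ∣ Nat.card M
  swap
  · rcases klein_psl2 2 rfl M hcop with ⟨k, hk, h | h⟩ | ⟨⟨e⟩⟩ | ⟨⟨e⟩⟩ | ⟨⟨e⟩⟩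
    · exfalso
      exact not_comm_of_coatom psl2_noncomm M hM (comm_of_isCyclic M h.1)
    · rcases hdih k hk h with h' | h'
      · right; left; exact h'
      · right; right; left; exact h'
    · exfalso
      apply hcop
      rw [Nat.card_congr e.toEquiv, card_alt_four]
      norm_num
    · exfalso
      apply hcop
      rw [Nat.card_congr e.toEquiv, card_perm_four]
      norm_num
    · exfalso
      apply hcop
      rw [Nat.card_congr e.toEquiv, card_alt_five]
      norm_num
  have hdvd : 2 ∣ Nat.card ↥(preim M) := by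
    rw [card_preim_two]
    exact hcop
  by_cases hn : Nat.card (Sylow 2 ↥(preim M)) = 1
  · obtain ⟨Q⟩ : Nonempty (Sylow 2 ↥(preim M)) := inferInstance
    haveI : Subsingleton (Sylow 2 ↥(preim M)) := (Nat.card_eq_one_iff_unique.1 hn).1
    have hQn : (Q : Subgroup ↥(preim M)).Normal := Sylow.normal_of_subsingleton Q
    have hQ1 : (Q : Subgroup ↥(preim M)) ≠ ⊥ := Sylow.ne_bot_of_dvd_card Q hdvd
    obtain ⟨s, hs⟩ := exists_frame_of_normal 2 (preim M) Q hQn hQ1
    left
    exact card_of_frame_coatom_two M hM s hs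
  · obtain ⟨T⟩ : Nonempty (Sylow 2 ↥(preim M)) := inferInstance
    have hnn : ¬ (T : Subgroup ↥(preim M)).Normal := by
      intro h
      haveI : Unique (Sylow 2 ↥(preim M)) := Sylow.unique_of_normal T h
      have hs : Subsingleton (Sylow 2 ↥(preim M)) := inferInstance
      have h1 := Finite.card_le_one_iff_subsingleton.2 hs
      have hpos : 0 < Nat.card (Sylow 2 ↥(preim M)) := Nat.card_pos
      omega
    by_cases hcyc : IsCyclic (T : Subgroup ↥(preim M))
    · obtain ⟨k, hk, e⟩ := two_cyclic rfl M T hcyc hnn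
      rcases hdih k hk e with h' | h'
      · right; left; exact h'
      · right; right; left; exact h'
    · right; right; right
      exact subfield_coatom_two M hM T hcyc hnn

end Cfsg.Agent.Helper11.Dickson
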