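import Mathlib
import Cfsg.Agent.Lib.Helper11.DicksonEven9
import Cfsg.Agent.Lib.Helper11.DicksonMin5

set_option autoImplicit false
set_option linter.unusedVariables false
set_option linter.unusedSectionVars false
set_option linter.unusedSimpArgs false

/-! Solvable two-generator subgroups of `PSL₂(2^p)`: general tools. -/

namespace Cfsg.Agent.Helper11.Dickson

open Matrix Matrix.SpecialLinearGroup
open scoped MatrixGroups
open Cfsg.Agent.Helper2.SL2S
open Cfsg.Agent.Helper12 Cfsg.Agent.Helper4.DC Cfsg.Agent.Helper4.DSL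
open Cfsg.Agent.Helper11.Klein
open Cfsg.Agent.Helper2.PN (mkn mkn_surjective mkn_eq_iff)

section general

variable {G : Type*} [Group G]

open DihedralGroup in
/-- a homomorphism from a dihedral group -/
theorem exists_dihedral_hom [Finite G] (a s : G) (hs : s * s = 1) (hsa : s * a * s = a⁻¹) :
    ∃ f : DihedralGroup (orderOf a) →* G, f (r 1) = a ∧ f (sr 0) = s := by
  set n := orderOf a with hn
  haveI : NeZero n := ⟨(orderOf_pos a).ne'⟩
  have hsinv : s⁻¹ = s := inv_eq_of_mul_eq_one_right hs
  let ρ : ZMod n → G := fun i => a ^ i.val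
  have hρadd : ∀ i j : ZMod n, ρ (i + j) = ρ i * ρ j := by
    intro i j
    show a ^ (i + j).val = a ^ i.val * a ^ j.val
    have hmod : ∀ k, a ^ (k % n) = a ^ k := fun k => pow_mod_orderOf a k
    rw [ZMod.val_add, ← pow_add, hmod]
  have hρcomm : ∀ i j : ZMod n, ρ i * ρ j = ρ j * ρ i := by
    intro i j
    show a ^ i.val * a ^ j.val = a ^ j.val * a ^ i.val
    rw [← pow_add, ← pow_add, add_comm]
  have hρsub : ∀ i j : ZMod n, ρ (j - i) = (ρ i)⁻¹ * ρ j := by
    intro i j
    have := hρadd (j - i) i
    rw [sub_add_cancel] at this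
    rw [this, hρcomm, inv_mul_cancel_left]
  have has : ∀ k : ℕ, a ^ k * s = s * (a ^ k)⁻¹ := by
    intro k
    induction k with
    | zero => simp
    | succ k ih =>
      have h1 : a * s = s * a⁻¹ := by
        rw [← hsa]
        calc a * s = (s * s) * a * s := by rw [hs, one_mul]
          _ = s * (s * a * s) := by group
      calc a ^ (k + 1) * s = a ^ k * (a * s) := by rw [pow_succ, mul_assoc]
        _ = a ^ k * (s * a⁻¹) := by rw [h1]
        _ = (a ^ k * s) * a⁻¹ := by rw [mul_assoc]
        _ = s * (a ^ k)⁻¹ * a⁻¹ := by rw [ih]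
        _ = s * (a ^ (k + 1))⁻¹ := by
          rw [pow_succ', _root_.mul_inv_rev, mul_assoc]
  have hρs : ∀ i : ZMod n, ρ i * s = s * (ρ i)⁻¹ := fun i => has i.val
  let f : DihedralGroup n → G := fun x =>
    match x with
    | r i => ρ i
    | sr i => s * ρ i
  have hfr : ∀ i, f (r i) = ρ i := fun _ => rfl
  have hfsr : ∀ i, f (sr i) = s * ρ i := fun _ => rfl
  have hmul : ∀ x y : DihedralGroup n, f (x * y) = f x * f y := by
    intro x y
    rcases x with i | i <;> rcases y with j | j
    · rw [r_mul_r, hfr, hfr, hfr, hρadd]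
    · rw [r_mul_sr, hfr, hfsr, hfsr, hρsub]
      calc s * ((ρ i)⁻¹ * ρ j) = s * (ρ i)⁻¹ * ρ j := by rw [mul_assoc]
        _ = (ρ i * s) * ρ j := by rw [hρs]
        _ = ρ i * (s * ρ j) := by rw [mul_assoc]
    · rw [sr_mul_r, hfsr, hfsr, hfr, hρadd, mul_assoc]
    · rw [sr_mul_sr, hfr, hfsr, hfsr, hρsub]
      calc (ρ i)⁻¹ * ρ j = (s * s) * (ρ i)⁻¹ * ρ j := by rw [hs, one_mul]
        _ = s * (s * (ρ i)⁻¹) * ρ j := by group
        _ = s * (ρ i * s) * ρ j := by rw [hρs]
        _ = s * ρ i * (s * ρ j) := by group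
  refine ⟨MonoidHom.mk' f hmul, ?_, ?_⟩
  · show a ^ (1 : ZMod n).val = a
    rw [ZMod.val_one_eq_one_mod, pow_mod_orderOf, pow_one]
  · show s * a ^ (0 : ZMod n).val = s
    rw [ZMod.val_zero, pow_zero, mul_one]

/-- two elements of order at most two generate a solvable group -/
theorem isSolvable_closure_pair [Finite G] (x y : G) (hx : x * x = 1) (hy : y * y = 1) :
    Group.IsSolvable (Subgroup.closure ({x, y} : Set G)) := by
  have hxinv : x⁻¹ = x := inv_eq_of_mul_eq_one_right hx
  have hyinv : y⁻¹ = y := inv_eq_of_mul_eq_one_right hy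
  obtain ⟨f, hf1, hf2⟩ := exists_dihedral_hom (x * y) x hx (by
    rw [_root_.mul_inv_rev, hxinv, hyinv, ← mul_assoc, hx, one_mul])
  have hle : Subgroup.closure ({x, y} : Set G) ≤ f.range := by
    rw [Subgroup.closure_le]
    intro z hz
    rcases hz with rfl | hz
    · exact ⟨DihedralGroup.sr 0, hf2⟩
    · rw [Set.mem_singleton_iff] at hz
      subst hz
      exact ⟨DihedralGroup.sr 0 * DihedralGroup.r 1, by
        rw [map_mul, hf1, hf2, ← mul_assoc, hx, one_mul]⟩
  haveI : Group.IsSolvable (DihedralGroup (orderOf (x * y))) := isSolvable_dihedral _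
  haveI : Group.IsSolvable f.range := Group.isSolvable_of_surjective f.rangeRestrict_surjective
  exact Group.isSolvable_of_isSolvable_injective (Subgroup.inclusion_injective hle)

/-- a proper subgroup generated by two elements lies in a maximal subgroup -/
theorem exists_coatom_pair [Finite G] (x y : G)
    (h : Subgroup.closure ({x, y} : Set G) ≠ ⊤) :
    ∃ M : Subgroup G, IsCoatom M ∧ x ∈ M ∧ y ∈ M := by
  obtain ⟨M, hM, hle⟩ := (eq_top_or_exists_le_coatom _).resolve_left h
  exact ⟨M, hM, hle (Subgroup.subset_closure (by simp)), hle (Subgroup.subset_closure (by simp))⟩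

/-- a subgroup generated by two elements of a solvable subgroup is solvable -/
theorem isSolvable_closure_of_mem (M : Subgroup G) (hM : Group.IsSolvable M) (x y : G)
    (hx : x ∈ M) (hy : y ∈ M) : Group.IsSolvable (Subgroup.closure ({x, y} : Set G)) := by
  have hle : Subgroup.closure ({x, y} : Set G) ≤ M := by
    rw [Subgroup.closure_le]
    intro z hz
    rcases hz with rfl | hz
    · exact hx
    · rw [Set.mem_singleton_iff] at hz
      subst hz
      exact hy
  exact Group.isSolvable_of_isSolvable_injective (Subgroup.inclusion_injective hle)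

/-- conjugation invariance of the solubilizer -/
theorem card_sol_conj (g x : G) :
    Nat.card {y : G // Group.IsSolvable (Subgroup.closure ({g * x * g⁻¹, y} : Set G))} =
      Nat.card {y : G // Group.IsSolvable (Subgroup.closure ({x, y} : Set G))} := by
  have key : ∀ y : G, Subgroup.closure ({g * x * g⁻¹, g * y * g⁻¹} : Set G) =
      (Subgroup.closure ({x, y} : Set G)).map (MulAut.conj g).toMonoidHom := by
    intro y
    rw [MonoidHom.map_closure]
    congr 1
    ext z
    simp only [Set.mem_insert_iff, Set.mem_singleton_iff, Set.image_insert_eq, Set.image_singleton,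
      MulEquiv.coe_toMonoidHom, MulAut.conj_apply]
  symm
  apply Nat.card_congr
  refine ⟨fun y => ⟨g * y.1 * g⁻¹, ?_⟩, fun y => ⟨g⁻¹ * y.1 * g, ?_⟩, ?_, ?_⟩
  · rw [key]
    have := y.2
    exact Group.isSolvable_of_surjective
      (f := ((MulAut.conj g).toMonoidHom.subgroupMap (Subgroup.closure ({x, y.1} : Set G))))
      (MonoidHom.subgroupMap_surjective _ _)
  · have h1 : y.1 = g * (g⁻¹ * y.1 * g) * g⁻¹ := by group
    have h2 := y.2
    rw [h1, key] at h2
    have := h2
    exact Group.isSolvable_of_isSolvable_injective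
      (f := (((Subgroup.closure ({x, g⁻¹ * y.1 * g} : Set G)).equivMapOfInjective
        (MulAut.conj g).toMonoidHom (MulAut.conj g).injective).toMonoidHom))
      (MulEquiv.injective _)
  · intro y
    apply Subtype.ext
    show g⁻¹ * (g * y.1 * g⁻¹) * g = y.1
    group
  · intro y
    apply Subtype.ext
    show g * (g⁻¹ * y.1 * g) * g⁻¹ = y.1
    group

end general

end Cfsg.Agent.Helper11.Dickson
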