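import Mathlib
import Cfsg.Agent.Lib.Helper11.DicksonSol1

set_option autoImplicit false
set_option linter.unusedVariables false
set_option linter.unusedSectionVars false
set_option linter.unusedSimpArgs false

/-! Maximal subgroups of `PSL₂(2^p)` in structured form. -/

namespace Cfsg.Agent.Helper11.Dickson

open Matrix Matrix.SpecialLinearGroup
open scoped MatrixGroups
open Cfsg.Agent.Helper2.SL2S
open Cfsg.Agent.Helper12 Cfsg.Agent.Helper4.DC Cfsg.Agent.Helper4.DSL
open Cfsg.Agent.Helper11.Klein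
open Cfsg.Agent.Helper2.PN (mkn mkn_surjective mkn_eq_iff)

variable {F : Type*} [Field F] [Fintype F] [h2p : Fact (Nat.Prime 2)] [CharP F 2]

/-- the maximal subgroups of `PSL₂(q)`, `q ≥ 4` even, with the data of each case -/
theorem coatom_even_cases (h4 : 4 ≤ Fintype.card F)
    (M : Subgroup (Matrix.ProjectiveSpecialLinearGroup (Fin 2) F)) (hM : IsCoatom M) :
    (∃ s : SL(2, F), ∀ h ∈ preim M, (s * h * s⁻¹).1 1 0 = 0) ∨
    (∃ k : ℕ, (k ∣ Fintype.card F + 1 ∨ k ∣ Fintype.card F - 1) ∧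
      Nonempty (M ≃* DihedralGroup k)) ∨
    (∃ (F₀ : Type) (_ : Field F₀) (_ : Fintype F₀) (r : ℕ), r.Prime ∧ Fintype.card F₀ ≠ 2 ∧
      Fintype.card F = Fintype.card F₀ ^ r ∧
      Nonempty (M ≃* Matrix.ProjectiveSpecialLinearGroup (Fin 2) F₀)) := by
  classical
  haveI : IsSimpleGroup (Matrix.ProjectiveSpecialLinearGroup (Fin 2) F) :=
    Matrix.ProjectiveSpecialLinearGroup.rank_two_simple
      (by rw [Nat.card_eq_fintype_card]; exact h4)
  have hdih : ∀ k : ℕ, (k ∣ (Fintype.card F + 1) / Nat.gcd 2 (Fintype.card F - 1) ∨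
      k ∣ (Fintype.card F - 1) / Nat.gcd 2 (Fintype.card F - 1)) →
      (k ∣ Fintype.card F + 1 ∨ k ∣ Fintype.card F - 1) := by
    intro k hk
    rw [gcd_two_card_two, Nat.div_one, Nat.div_one] at hk
    exact hk
  by_cases hcop : 2 ∣ Nat.card M
  swap
  · rcases klein_psl2 2 rfl M hcop with ⟨k, hk, h | h⟩ | ⟨⟨e⟩⟩ | ⟨⟨e⟩⟩ | ⟨⟨e⟩⟩
    · exfalso
      exact not_comm_of_coatom psl2_noncomm M hM (comm_of_isCyclic M h.1)
    · right; left
      exact ⟨k, hdih k hk, h⟩
    · exfalso
      apply hcop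
      rw [Nat.card_congr e.toEquiv, card_alt_four]
      norm_num
    · exfalso
      apply hcop
      rw [Nat.card_congr e.toEquiv, card_perm_four]
      norm_num
    · exfalso
      apply hcop
      rw [Nat.card_congr e.toEquiv, card_alt_five]
      norm_num
  have hdvd : 2 ∣ Nat.card ↥(preim M) := by
    rw [card_preim_two]
    exact hcop
  by_cases hn : Nat.card (Sylow 2 ↥(preim M)) = 1
  · obtain ⟨Q⟩ : Nonempty (Sylow 2 ↥(preim M)) := inferInstance
    haveI : Subsingleton (Sylow 2 ↥(preim M)) := (Nat.card_eq_one_iff_unique.1 hn).1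
    have hQn : (Q : Subgroup ↥(preim M)).Normal := Sylow.normal_of_subsingleton Q
    have hQ1 : (Q : Subgroup ↥(preim M)) ≠ ⊥ := Sylow.ne_bot_of_dvd_card Q hdvd
    left
    exact exists_frame_of_normal 2 (preim M) Q hQn hQ1
  · obtain ⟨T⟩ : Nonempty (Sylow 2 ↥(preim M)) := inferInstance
    have hnn : ¬ (T : Subgroup ↥(preim M)).Normal := by
      intro h
      haveI : Unique (Sylow 2 ↥(preim M)) := Sylow.unique_of_normal T h
      have hs : Subsingleton (Sylow 2 ↥(preim M)) := inferInstance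
      have h1 := Finite.card_le_one_iff_subsingleton.2 hs
      have hpos : 0 < Nat.card (Sylow 2 ↥(preim M)) := Nat.card_pos
      omega
    by_cases hcyc : IsCyclic (T : Subgroup ↥(preim M))
    · obtain ⟨k, hk, e⟩ := two_cyclic rfl M T hcyc hnn
      right; left
      exact ⟨k, hdih k hk, e⟩
    · right; right
      exact subfield_coatom_two M hM T hcyc hnn

/-- the maximal subgroups of `PSL₂(2^p)`, `p` prime -/
theorem coatom_prime_cases (p : ℕ) (hp : p.Prime) (hF : Fintype.card F = 2 ^ p)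
    (M : Subgroup (Matrix.ProjectiveSpecialLinearGroup (Fin 2) F)) (hM : IsCoatom M) :
    (∃ s : SL(2, F), ∀ h ∈ preim M, (s * h * s⁻¹).1 1 0 = 0) ∨
    (∃ k : ℕ, (k ∣ Fintype.card F + 1 ∨ k ∣ Fintype.card F - 1) ∧
      Nonempty (M ≃* DihedralGroup k)) := by
  have hml : MinList (Fintype.card F) := Or.inl ⟨p, hp, hF⟩
  rcases coatom_even_cases hml.four_le M hM with h | h | ⟨F₀, i1, i2, r, hr, h2, hc, -⟩
  · exact Or.inl h
  · exact Or.inr h
  · exfalso
    have h3 : 2 ≤ Fintype.card F₀ := Fintype.one_lt_card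
    have h4 := hml.subfield h3 hr.two_le hc.symm
    have h5 : Fintype.card F₀ = 3 := by omega
    rw [h5, hF] at hc
    have h6 : Even (2 ^ p) := (Nat.even_pow.2 ⟨even_two, hp.ne_zero⟩)
    have h7 : Odd (3 ^ r) := Odd.pow (by decide)
    rw [hc] at h6
    exact (Nat.not_even_iff_odd.2 h7) h6

end Cfsg.Agent.Helper11.Dickson
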