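import Mathlib
import Cfsg.Agent.Lib.Helper11.DicksonSol2

set_option autoImplicit false
set_option linter.unusedVariables false
set_option linter.unusedSectionVars false
set_option linter.unusedSimpArgs false

/-! Solvable two-generator subgroups of `PSL₂(2^p)`: criteria in terms of matrix entries. -/

namespace Cfsg.Agent.Helper11.Dickson

open Matrix Matrix.SpecialLinearGroup
open scoped MatrixGroups
open Cfsg.Agent.Helper2.SL2S
open Cfsg.Agent.Helper12 Cfsg.Agent.Helper4.DC Cfsg.Agent.Helper4.DSL
open Cfsg.Agent.Helper11.Klein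
open Cfsg.Agent.Helper2.PN (mkn mkn_surjective mkn_eq_iff)

section dihedral

/-- in a dihedral group of odd degree, an involution and any element: the element or the
product is of order at most two -/
theorem dihedral_odd_invol {k : ℕ} (hk : Odd k) (a b : DihedralGroup k) (ha : a * a = 1)
    (ha1 : a ≠ 1) : b * b = 1 ∨ (a * b) * (a * b) = 1 := by
  rcases a with i | i
  · exfalso
    apply ha1
    rw [DihedralGroup.r_mul_r, DihedralGroup.one_def] at ha
    have h1 : i + i = 0 := by
      have := DihedralGroup.r.inj ha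
      exact this
    obtain ⟨m, hm⟩ := hk
    have h2 : ((m + 1 : ℕ) : ZMod k) * (i + i) = i := by
      have e1 : ((m + 1 : ℕ) : ZMod k) * (i + i) = ((2 * m + 1 : ℕ) : ZMod k) * i + i := by
        push_cast; ring
      rw [e1, ← hm, ZMod.natCast_self, zero_mul, zero_add]
    rw [h1, mul_zero] at h2
    rw [← h2, DihedralGroup.one_def]
  · rcases b with j | j
    · right
      rw [DihedralGroup.sr_mul_r, DihedralGroup.sr_mul_sr, sub_self, DihedralGroup.one_def]
    · left
      rw [DihedralGroup.sr_mul_sr, sub_self, DihedralGroup.one_def]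

/-- in a dihedral group an element which is not of order at most two is centralized or
inverted by every element -/
theorem dihedral_rot_cases {k : ℕ} (a b : DihedralGroup k) (ha : a * a ≠ 1) :
    a * b = b * a ∨ b * a * b⁻¹ = a⁻¹ := by
  rcases a with i | i
  · rcases dihedral_conj_r b i with h | h
    · left
      have h' : b * DihedralGroup.r i = DihedralGroup.r i * b := by
        calc b * DihedralGroup.r i = (b * DihedralGroup.r i * b⁻¹) * b := by group
          _ = DihedralGroup.r i * b := by rw [h]
      exact h'.symm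
    · right
      exact h
  · exfalso
    apply ha
    rw [DihedralGroup.sr_mul_sr, sub_self, DihedralGroup.one_def]

end dihedral

variable {F : Type*} [Field F] [Fintype F] [h2p : Fact (Nat.Prime 2)] [CharP F 2]

/-- elements of order at most two in characteristic two have trace zero -/
theorem sq_eq_one_iff_two (g : SL(2, F)) : g * g = 1 ↔ g.1 0 0 = g.1 1 1 := by
  have h2 : (2 : F) = 0 := Nrm.two_eq_zero_two
  have hdet := sl2_det g
  constructor
  · intro h
    have h00 := congrArg (fun x : SL(2, F) => x.1 0 0) h
    have h11 := congrArg (fun x : SL(2, F) => x.1 1 1) h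
    simp only [m00, m11, Matrix.SpecialLinearGroup.coe_one, Matrix.one_apply_eq] at h00 h11
    apply Nrm.sq_injective_two
    linear_combination h00 - h11
  · intro h
    apply sl2_ext
    · rw [m00, Matrix.SpecialLinearGroup.coe_one, Matrix.one_apply_eq]
      linear_combination hdet + (g.1 0 0) * h + (g.1 0 1 * g.1 1 0) * h2
    · rw [m01, Matrix.SpecialLinearGroup.coe_one, Matrix.one_apply_ne (by decide)]
      linear_combination (g.1 0 1) * h + (g.1 0 1 * g.1 1 1) * h2
    · rw [m10, Matrix.SpecialLinearGroup.coe_one, Matrix.one_apply_ne (by decide)]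
      linear_combination (g.1 1 0) * h + (g.1 1 0 * g.1 1 1) * h2
    · rw [m11, Matrix.SpecialLinearGroup.coe_one, Matrix.one_apply_eq]
      linear_combination hdet - (g.1 1 1) * h + (g.1 0 1 * g.1 1 0) * h2

theorem mkn_sq_eq_one_iff (g : SL(2, F)) :
    mkn g * mkn g = (1 : Matrix.ProjectiveSpecialLinearGroup (Fin 2) F) ↔
      g.1 0 0 = g.1 1 1 := by
  rw [← sq_eq_one_iff_two, ← map_mul, ← map_one (mkn (ι := Fin 2) (F := F))]
  exact ⟨fun h => mkn_injective_two h, fun h => by rw [h]⟩

/-- a frame for a unipotent element is upper triangular -/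
theorem frame_u (s : SL(2, F)) {a : F} (ha : a ≠ 0) (h : (s * u a * s⁻¹).1 1 0 = 0) :
    s.1 1 0 = 0 := by
  simp only [m10, m00, m11, m01, i00, i10, u00, u01, u10, u11] at h
  have : a * s.1 1 0 ^ 2 = 0 := by linear_combination -h
  rcases mul_eq_zero.1 this with h1 | h1
  · exact absurd h1 ha
  · exact pow_eq_zero_iff (two_ne_zero) |>.1 h1

/-- an element which is upper triangular in an upper triangular frame is upper triangular -/
theorem frame_upper (s y : SL(2, F)) (hs : s.1 1 0 = 0) (h : (s * y * s⁻¹).1 1 0 = 0) :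
    y.1 1 0 = 0 := by
  simp only [m10, m00, m11, m01, i00, i10, hs] at h
  have hdet := sl2_det s
  rw [hs] at hdet
  have h11 : s.1 1 1 ≠ 0 := by
    intro h0
    rw [h0] at hdet
    simp at hdet
  have : s.1 1 1 ^ 2 * y.1 1 0 = 0 := by linear_combination h
  rcases mul_eq_zero.1 this with h1 | h1
  · exact absurd (pow_eq_zero_iff (two_ne_zero) |>.1 h1) h11
  · exact h1

/-- an element which is upper triangular in an antitriangular frame is lower triangular -/
theorem frame_lower (s y : SL(2, F)) (hs : s.1 1 1 = 0) (h : (s * y * s⁻¹).1 1 0 = 0) :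
    y.1 0 1 = 0 := by
  simp only [m10, m00, m11, m01, i00, i10, hs] at h
  have hdet := sl2_det s
  rw [hs] at hdet
  have h10 : s.1 1 0 ≠ 0 := by
    intro h0
    rw [h0] at hdet
    simp at hdet
  have : s.1 1 0 ^ 2 * y.1 0 1 = 0 := by linear_combination -h
  rcases mul_eq_zero.1 this with h1 | h1
  · exact absurd (pow_eq_zero_iff (two_ne_zero) |>.1 h1) h10
  · exact h1

/-- a frame for a diagonal element with distinct eigenvalues is triangular or antitriangular -/
theorem frame_diag (s d : SL(2, F)) (hd : IsSplitReg d) (h : (s * d * s⁻¹).1 1 0 = 0) :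
    s.1 1 0 = 0 ∨ s.1 1 1 = 0 := by
  simp only [m10, m00, m11, m01, i00, i10, hd.h01, hd.h10] at h
  have hne := hd.entry_ne
  have : s.1 1 0 * s.1 1 1 * (d.1 0 0 - d.1 1 1) = 0 := by linear_combination h
  rcases mul_eq_zero.1 this with h1 | h1
  · exact mul_eq_zero.1 h1
  · exact absurd (sub_eq_zero.1 h1) hne

/-- two elements which are upper triangular in a common frame generate a solvable group -/
theorem isSolvable_closure_of_frame (s x y : SL(2, F)) (hx : (s * x * s⁻¹).1 1 0 = 0)
    (hy : (s * y * s⁻¹).1 1 0 = 0) :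
    Group.IsSolvable (Subgroup.closure
      ({mkn x, mkn y} : Set (Matrix.ProjectiveSpecialLinearGroup (Fin 2) F))) := by
  set K : Subgroup SL(2, F) := (borelSL2 F).comap (MulAut.conj s).toMonoidHom with hK
  have hmemK : ∀ h : SL(2, F), h ∈ K ↔ (s * h * s⁻¹).1 1 0 = 0 := by
    intro h
    rw [hK, Subgroup.mem_comap]
    exact mem_borelSL2_iff _
  set B := K.map (mkn (ι := Fin 2) (F := F)) with hB
  have hsol : Group.IsSolvable B := by
    apply isSolvable_of_frame B s
    intro h hh
    obtain ⟨k, hk, hkh⟩ := (show mkn h ∈ B from hh)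
    rw [← mkn_injective_two hkh]
    exact (hmemK k).1 hk
  exact isSolvable_closure_of_mem B hsol _ _ ⟨x, (hmemK x).2 hx, rfl⟩ ⟨y, (hmemK y).2 hy, rfl⟩

end Cfsg.Agent.Helper11.Dickson
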