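import Mathlib
import Cfsg.Agent.Lib.Helper11.DicksonSol3

set_option autoImplicit false
set_option linter.unusedVariables false
set_option linter.unusedSectionVars false
set_option linter.unusedSimpArgs false

/-! Solvable two-generator subgroups of `PSL₂(2^p)`: the criteria. -/

namespace Cfsg.Agent.Helper11.Dickson

open Matrix Matrix.SpecialLinearGroup
open scoped MatrixGroups
open Cfsg.Agent.Helper2.SL2S
open Cfsg.Agent.Helper12 Cfsg.Agent.Helper4.DC Cfsg.Agent.Helper4.DSL
open Cfsg.Agent.Helper11.Klein
open Cfsg.Agent.Helper2.PN (mkn mkn_surjective mkn_eq_iff)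

variable {F : Type*} [Field F] [Fintype F] [h2p : Fact (Nat.Prime 2)] [CharP F 2]

/-- a solvable two-generator subgroup lies in a maximal subgroup -/
theorem exists_coatom_of_solvable (h4 : 4 ≤ Fintype.card F)
    (x y : Matrix.ProjectiveSpecialLinearGroup (Fin 2) F)
    (hs : Group.IsSolvable (Subgroup.closure
      ({x, y} : Set (Matrix.ProjectiveSpecialLinearGroup (Fin 2) F)))) :
    ∃ M : Subgroup (Matrix.ProjectiveSpecialLinearGroup (Fin 2) F), IsCoatom M ∧ x ∈ M ∧ y ∈ M := by
  haveI : IsSimpleGroup (Matrix.ProjectiveSpecialLinearGroup (Fin 2) F) :=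
    Matrix.ProjectiveSpecialLinearGroup.rank_two_simple
      (by rw [Nat.card_eq_fintype_card]; exact h4)
  apply exists_coatom_pair
  intro h
  exact not_solvable_of_equiv ((MulEquiv.subgroupCongr h).trans Subgroup.topEquiv)
    psl2_noncomm hs

variable (p : ℕ) (hp : p.Prime) (hF : Fintype.card F = 2 ^ p)

include hp hF in
theorem four_le_of_prime : 4 ≤ Fintype.card F :=
  MinList.four_le (Or.inl ⟨p, hp, hF⟩)

include hF in
theorem odd_of_dvd_prime {k : ℕ} (hp0 : p ≠ 0)
    (hk : k ∣ Fintype.card F + 1 ∨ k ∣ Fintype.card F - 1) : Odd k := by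
  have h1 : Even (2 ^ p) := (Nat.even_pow.2 ⟨even_two, hp0⟩)
  have h2 : 1 ≤ 2 ^ p := Nat.one_le_two_pow
  rw [hF] at hk
  have ho1 : Odd (2 ^ p + 1) := h1.add_one
  have ho2 : Odd (2 ^ p - 1) := by
    obtain ⟨j, hj⟩ := h1
    exact ⟨j - 1, by omega⟩
  rcases hk with h | h
  · exact Odd.of_dvd_nat ho1 h
  · exact Odd.of_dvd_nat ho2 h

include hp hF in
/-- the solubilizer of an involution -/
theorem sol_iff_unip {a : F} (ha : a ≠ 0) (y : SL(2, F)) :
    Group.IsSolvable (Subgroup.closure
      ({mkn (u a), mkn y} : Set (Matrix.ProjectiveSpecialLinearGroup (Fin 2) F))) ↔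
      (y.1 1 0 = 0 ∨ y.1 0 0 = y.1 1 1 ∨ a * y.1 1 0 = y.1 0 0 + y.1 1 1) := by
  have h2 : (2 : F) = 0 := Nrm.two_eq_zero_two
  have h4 := four_le_of_prime p hp hF
  have hux : mkn (u a) * mkn (u a) = (1 : Matrix.ProjectiveSpecialLinearGroup (Fin 2) F) := by
    rw [mkn_sq_eq_one_iff, u00, u11]
  constructor
  · intro hs
    obtain ⟨M, hM, hxM, hyM⟩ := exists_coatom_of_solvable h4 _ _ hs
    rcases coatom_prime_cases p hp hF M hM with ⟨s, hsf⟩ | ⟨k, hk, ⟨e⟩⟩
    · left
      have h1 := frame_u s ha (hsf (u a) hxM)
      exact frame_upper s y h1 (hsf y hyM)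
    · right
      have hkodd := odd_of_dvd_prime p hF hp.ne_zero hk
      have ha1 : e ⟨mkn (u a), hxM⟩ ≠ 1 := by
        intro h
        have h' : (⟨mkn (u a), hxM⟩ : M) = 1 := e.injective (h.trans (map_one e).symm)
        have h'' : mkn (u a) = (1 : Matrix.ProjectiveSpecialLinearGroup (Fin 2) F) :=
          congrArg Subtype.val h'
        rw [← map_one (mkn (ι := Fin 2) (F := F))] at h''
        have h3 := mkn_injective_two h''
        have h4 := congrArg (fun x : SL(2, F) => x.1 0 1) h3
        simp only [u01, Matrix.SpecialLinearGroup.coe_one] at h4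
        rw [Matrix.one_apply_ne (by decide)] at h4
        exact ha h4
      have haa : e ⟨mkn (u a), hxM⟩ * e ⟨mkn (u a), hxM⟩ = 1 := by
        rw [← map_mul, ← map_one e]
        congr 1
        exact Subtype.ext hux
      rcases dihedral_odd_invol hkodd (e ⟨mkn (u a), hxM⟩) (e ⟨mkn y, hyM⟩) haa ha1 with h | h
      · left
        rw [← map_mul, ← map_one e] at h
        have h' := congrArg Subtype.val (e.injective h)
        exact (mkn_sq_eq_one_iff y).1 h'
      · right
        rw [← map_mul, ← map_mul, ← map_one e] at h
        have h' := congrArg Subtype.val (e.injective h)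
        have h'' : mkn (u a * y) * mkn (u a * y) =
            (1 : Matrix.ProjectiveSpecialLinearGroup (Fin 2) F) := by
          rw [map_mul]
          exact h'
        have h3 := (mkn_sq_eq_one_iff (u a * y)).1 h''
        simp only [m00, m11, u00, u01, u10, u11] at h3
        linear_combination h3 - (y.1 0 0) * h2
  · rintro (h | h | h)
    · apply isSolvable_closure_of_frame 1 (u a) y
      · simp only [one_mul, inv_one, mul_one, u10]
      · simp only [one_mul, inv_one, mul_one]
        exact h
    · exact isSolvable_closure_pair _ _ hux ((mkn_sq_eq_one_iff y).2 h)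
    · have hz : mkn (u a * y) * mkn (u a * y) =
          (1 : Matrix.ProjectiveSpecialLinearGroup (Fin 2) F) := by
        rw [mkn_sq_eq_one_iff]
        simp only [m00, m11, u00, u01, u10, u11]
        linear_combination h + (y.1 0 0) * h2
      have hsol := isSolvable_closure_pair _ _ hux hz
      have hle : Subgroup.closure
          ({mkn (u a), mkn y} : Set (Matrix.ProjectiveSpecialLinearGroup (Fin 2) F)) ≤
          Subgroup.closure
          ({mkn (u a), mkn (u a * y)} : Set (Matrix.ProjectiveSpecialLinearGroup (Fin 2) F)) := by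
        rw [Subgroup.closure_le]
        intro z hz'
        rcases hz' with rfl | hz'
        · exact Subgroup.subset_closure (by simp)
        · rw [Set.mem_singleton_iff] at hz'
          subst hz'
          have e1 : mkn y = (mkn (u a))⁻¹ * mkn (u a * y) := by
            rw [map_mul, inv_mul_cancel_left]
          rw [e1]
          exact Subgroup.mul_mem _ (Subgroup.inv_mem _ (Subgroup.subset_closure (by simp)))
            (Subgroup.subset_closure (by simp))
      exact Group.isSolvable_of_isSolvable_injective (Subgroup.inclusion_injective hle)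

include hp hF in
/-- the solubilizer of a split semisimple element -/
theorem sol_iff_split (d : SL(2, F)) (hd : IsSplitReg d) (y : SL(2, F)) :
    Group.IsSolvable (Subgroup.closure
      ({mkn d, mkn y} : Set (Matrix.ProjectiveSpecialLinearGroup (Fin 2) F))) ↔
      (y.1 1 0 = 0 ∨ y.1 0 1 = 0 ∨ (y.1 0 0 = 0 ∧ y.1 1 1 = 0)) := by
  have h2 : (2 : F) = 0 := Nrm.two_eq_zero_two
  have h4 := four_le_of_prime p hp hF
  have hne := hd.entry_ne
  constructor
  · intro hs
    obtain ⟨M, hM, hxM, hyM⟩ := exists_coatom_of_solvable h4 _ _ hs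
    rcases coatom_prime_cases p hp hF M hM with ⟨s, hsf⟩ | ⟨k, hk, ⟨e⟩⟩
    · rcases frame_diag s d hd (hsf d hxM) with h1 | h1
      · left
        exact frame_upper s y h1 (hsf y hyM)
      · right; left
        exact frame_lower s y h1 (hsf y hyM)
    · have haa : e ⟨mkn d, hxM⟩ * e ⟨mkn d, hxM⟩ ≠ 1 := by
        intro h
        rw [← map_mul, ← map_one e] at h
        have h' := congrArg Subtype.val (e.injective h)
        have h'' := (mkn_sq_eq_one_iff d).1 h'
        exact hne h''
      rcases dihedral_rot_cases (e ⟨mkn d, hxM⟩) (e ⟨mkn y, hyM⟩) haa with h | h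
      · right; left
        rw [← map_mul, ← map_mul] at h
        have h' := congrArg Subtype.val (e.injective h)
        have h'' : mkn (d * y) = mkn (y * d) := by
          rw [map_mul, map_mul]
          exact h'
        have h3 := mkn_injective_two h''
        have h5 := congrArg (fun x : SL(2, F) => x.1 0 1) h3
        simp only [m01, hd.h01, hd.h10] at h5
        have : y.1 0 1 * (d.1 0 0 - d.1 1 1) = 0 := by linear_combination h5
        rcases mul_eq_zero.1 this with h6 | h6
        · exact h6
        · exact absurd (sub_eq_zero.1 h6) hne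
      · right; right
        have h0 : e ⟨mkn y, hyM⟩ * e ⟨mkn d, hxM⟩ = (e ⟨mkn d, hxM⟩)⁻¹ * e ⟨mkn y, hyM⟩ := by
          rw [← h]
          group
        rw [← map_inv, ← map_mul, ← map_mul] at h0
        have h' := congrArg Subtype.val (e.injective h0)
        have h'' : mkn (y * d) = mkn (d⁻¹ * y) := by
          rw [map_mul, map_mul, map_inv]
          exact h'
        have h3 := mkn_injective_two h''
        have h5 := congrArg (fun x : SL(2, F) => x.1 0 0) h3
        have h6 := congrArg (fun x : SL(2, F) => x.1 1 1) h3
        simp only [m00, m11, i00, i01, i10, i11, hd.h01, hd.h10] at h5 h6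
        constructor
        · have : y.1 0 0 * (d.1 0 0 - d.1 1 1) = 0 := by linear_combination h5
          rcases mul_eq_zero.1 this with h7 | h7
          · exact h7
          · exact absurd (sub_eq_zero.1 h7) hne
        · have : y.1 1 1 * (d.1 1 1 - d.1 0 0) = 0 := by linear_combination h6
          rcases mul_eq_zero.1 this with h7 | h7
          · exact h7
          · exact absurd (sub_eq_zero.1 h7).symm hne
  · rintro (h | h | ⟨h, h'⟩)
    · apply isSolvable_closure_of_frame 1 d y
      · simp only [one_mul, inv_one, mul_one]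
        exact hd.h10
      · simp only [one_mul, inv_one, mul_one]
        exact h
    · apply isSolvable_closure_of_frame (nn 1) d y
      · simp only [m10, m00, m11, m01, i00, i10, nn00 one_ne_zero, nn01 one_ne_zero, nn10,
          nn11 one_ne_zero, hd.h01, hd.h10]
        ring
      · simp only [m10, m00, m11, m01, i00, i10, nn00 one_ne_zero, nn01 one_ne_zero, nn10,
          nn11 one_ne_zero, h]
        ring
    · have hy : mkn y * mkn y = (1 : Matrix.ProjectiveSpecialLinearGroup (Fin 2) F) := by
        rw [mkn_sq_eq_one_iff, h, h']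
      have hz : mkn (d * y) * mkn (d * y) =
          (1 : Matrix.ProjectiveSpecialLinearGroup (Fin 2) F) := by
        rw [mkn_sq_eq_one_iff]
        simp only [m00, m11, hd.h01, hd.h10, h, h']
        ring
      have hsol := isSolvable_closure_pair _ _ hz hy
      have hle : Subgroup.closure
          ({mkn d, mkn y} : Set (Matrix.ProjectiveSpecialLinearGroup (Fin 2) F)) ≤
          Subgroup.closure
          ({mkn (d * y), mkn y} : Set (Matrix.ProjectiveSpecialLinearGroup (Fin 2) F)) := by
        rw [Subgroup.closure_le]
        intro z hz'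
        rcases hz' with rfl | hz'
        · have e1 : mkn d = mkn (d * y) * (mkn y)⁻¹ := by
            rw [map_mul, mul_inv_cancel_right]
          rw [e1]
          exact Subgroup.mul_mem _ (Subgroup.subset_closure (by simp))
            (Subgroup.inv_mem _ (Subgroup.subset_closure (by simp)))
        · rw [Set.mem_singleton_iff] at hz'
          subst hz'
          exact Subgroup.subset_closure (by simp)
      exact Group.isSolvable_of_isSolvable_injective (Subgroup.inclusion_injective hle)

end Cfsg.Agent.Helper11.Dickson
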