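import Mathlib
import Cfsg.Agent.Lib.Helper11.DicksonSol4

set_option autoImplicit false
set_option linter.unusedVariables false
set_option linter.unusedSectionVars false
set_option linter.unusedSimpArgs false

/-! Counting matrices of `SL₂(F)` with prescribed entry relations. -/

namespace Cfsg.Agent.Helper11.Dickson

open Matrix Matrix.SpecialLinearGroup
open scoped MatrixGroups
open Cfsg.Agent.Helper2.SL2S
open Cfsg.Agent.Helper12 Cfsg.Agent.Helper4.DC Cfsg.Agent.Helper4.DSL
open Cfsg.Agent.Helper11.Klein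
open Cfsg.Agent.Helper2.PN (mkn mkn_surjective mkn_eq_iff)

variable {F : Type*} [Field F]

/-- a matrix of the big cell given by three of its entries -/
def cellSL (α γ δ : F) (hγ : γ ≠ 0) : SL(2, F) :=
  ⟨!![α, (α * δ - 1) / γ; γ, δ], by
    rw [Matrix.det_fin_two_of]
    field_simp
    ring⟩

theorem cellSL_00 (α γ δ : F) (hγ : γ ≠ 0) : (cellSL α γ δ hγ).1 0 0 = α := rfl
theorem cellSL_01 (α γ δ : F) (hγ : γ ≠ 0) : (cellSL α γ δ hγ).1 0 1 = (α * δ - 1) / γ := rfl
theorem cellSL_10 (α γ δ : F) (hγ : γ ≠ 0) : (cellSL α γ δ hγ).1 1 0 = γ := rfl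
theorem cellSL_11 (α γ δ : F) (hγ : γ ≠ 0) : (cellSL α γ δ hγ).1 1 1 = δ := rfl

theorem eq_cellSL (y : SL(2, F)) (hγ : y.1 1 0 ≠ 0) :
    y = cellSL (y.1 0 0) (y.1 1 0) (y.1 1 1) hγ := by
  have hdet := sl2_det y
  apply sl2_ext
  · rfl
  · rw [cellSL_01]
    field_simp
    linear_combination -hdet
  · rfl
  · rfl

variable [Fintype F]

theorem card_F_units : Nat.card (F × Fˣ) = Fintype.card F * (Fintype.card F - 1) := by
  classical
  rw [Nat.card_prod, Nat.card_eq_fintype_card, Nat.card_eq_fintype_card, Fintype.card_units]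

theorem card_units_units : Nat.card (Fˣ × Fˣ) = (Fintype.card F - 1) * (Fintype.card F - 1) := by
  classical
  rw [Nat.card_prod, Nat.card_eq_fintype_card, Fintype.card_units]

theorem ncard_borel :
    ({y : SL(2, F) | y.1 1 0 = 0} : Set SL(2, F)).ncard =
      Fintype.card F * (Fintype.card F - 1) := by
  rw [← card_borelSL2 (F := F), ← _root_.Nat.card_coe_set_eq]
  apply Nat.card_congr
  exact Equiv.subtypeEquivRight (fun y => (mem_borelSL2_iff y).symm)

/-- the number of `y` with `γ ≠ 0` and `δ = f α γ` -/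
theorem ncard_graph (f : F → F → F) :
    ({y : SL(2, F) | y.1 1 0 ≠ 0 ∧ y.1 1 1 = f (y.1 0 0) (y.1 1 0)} : Set SL(2, F)).ncard =
      Fintype.card F * (Fintype.card F - 1) := by
  classical
  let φ : F × Fˣ → SL(2, F) := fun t => cellSL t.1 t.2 (f t.1 t.2) t.2.ne_zero
  have hφ : Function.Injective φ := by
    intro t t' h
    have h0 := congrArg (fun y : SL(2, F) => y.1 0 0) h
    have h1 := congrArg (fun y : SL(2, F) => y.1 1 0) h
    simp only [φ, cellSL_00, cellSL_10] at h0 h1
    exact Prod.ext h0 (Units.ext h1)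
  have hrange : Set.range φ =
      {y : SL(2, F) | y.1 1 0 ≠ 0 ∧ y.1 1 1 = f (y.1 0 0) (y.1 1 0)} := by
    ext y
    constructor
    · rintro ⟨t, rfl⟩
      exact ⟨t.2.ne_zero, rfl⟩
    · rintro ⟨h1, h2⟩
      refine ⟨(y.1 0 0, Units.mk0 _ h1), ?_⟩
      have e1 := eq_cellSL y h1
      show cellSL (y.1 0 0) (y.1 1 0) (f (y.1 0 0) (y.1 1 0)) _ = y
      apply sl2_ext
      · rfl
      · show (y.1 0 0 * f (y.1 0 0) (y.1 1 0) - 1) / y.1 1 0 = y.1 0 1
        rw [← h2]
        have hdet := sl2_det y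
        field_simp
        linear_combination hdet
      · rfl
      · show f (y.1 0 0) (y.1 1 0) = y.1 1 1
        exact h2.symm
  rw [← hrange, ← Set.image_univ, Set.ncard_image_of_injective _ hφ, Set.ncard_univ, card_F_units]

section chartwo

variable [h2p : Fact (Nat.Prime 2)] [CharP F 2]

/-- the count for an involution -/
theorem ncard_unip {a : F} (ha : a ≠ 0) :
    ({y : SL(2, F) | y.1 1 0 = 0 ∨ y.1 0 0 = y.1 1 1 ∨ a * y.1 1 0 = y.1 0 0 + y.1 1 1} :
      Set SL(2, F)).ncard = 3 * Fintype.card F * (Fintype.card F - 1) := by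
  have h2 : (2 : F) = 0 := Nrm.two_eq_zero_two
  set B : Set SL(2, F) := {y : SL(2, F) | y.1 1 0 = 0} with hB
  set A1 : Set SL(2, F) :=
    {y : SL(2, F) | y.1 1 0 ≠ 0 ∧ y.1 1 1 = (fun α γ : F => α) (y.1 0 0) (y.1 1 0)} with hA1
  set A2 : Set SL(2, F) :=
    {y : SL(2, F) | y.1 1 0 ≠ 0 ∧ y.1 1 1 = (fun α γ : F => α + a * γ) (y.1 0 0) (y.1 1 0)}
    with hA2
  have hset : {y : SL(2, F) | y.1 1 0 = 0 ∨ y.1 0 0 = y.1 1 1 ∨
      a * y.1 1 0 = y.1 0 0 + y.1 1 1} = B ∪ A1 ∪ A2 := by
    ext y
    simp only [Set.mem_setOf_eq, Set.mem_union, hB, hA1, hA2]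
    constructor
    · rintro (h | h | h)
      · left; left; exact h
      · by_cases h0 : y.1 1 0 = 0
        · left; left; exact h0
        · left; right; exact ⟨h0, h.symm⟩
      · by_cases h0 : y.1 1 0 = 0
        · left; left; exact h0
        · right
          exact ⟨h0, by linear_combination (-1 : F) * h - (y.1 0 0) * h2⟩
    · rintro ((h | ⟨-, h⟩) | ⟨-, h⟩)
      · left; exact h
      · right; left; exact h.symm
      · right; right
        linear_combination (-1 : F) * h - (y.1 0 0) * h2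
  have hd1 : Disjoint B A1 := by
    rw [Set.disjoint_left]
    intro y hy hy'
    exact hy'.1 hy
  have hd2 : Disjoint (B ∪ A1) A2 := by
    rw [Set.disjoint_left]
    intro y hy hy'
    rcases hy with hy | hy
    · exact hy'.1 hy
    · have h1 := hy.2
      have h3 := hy'.2
      simp only at h1 h3
      rw [h1] at h3
      have : a * y.1 1 0 = 0 := by linear_combination -h3
      rcases mul_eq_zero.1 this with h4 | h4
      · exact ha h4
      · exact hy.1 h4
  have hBn : B.ncard = Fintype.card F * (Fintype.card F - 1) := ncard_borel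
  have hA1n : A1.ncard = Fintype.card F * (Fintype.card F - 1) := ncard_graph (fun α γ : F => α)
  have hA2n : A2.ncard = Fintype.card F * (Fintype.card F - 1) :=
    ncard_graph (fun α γ : F => α + a * γ)
  rw [hset, Set.ncard_union_eq hd2 (Set.toFinite _) (Set.toFinite _),
    Set.ncard_union_eq hd1 (Set.toFinite _) (Set.toFinite _), hBn, hA1n, hA2n]
  ring

/-- the count for a split semisimple element -/
theorem ncard_split :
    ({y : SL(2, F) | y.1 1 0 = 0 ∨ y.1 0 1 = 0 ∨ (y.1 0 0 = 0 ∧ y.1 1 1 = 0)} :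
      Set SL(2, F)).ncard = 2 * Fintype.card F * (Fintype.card F - 1) := by
  set B : Set SL(2, F) := {y : SL(2, F) | y.1 1 0 = 0} with hB
  set A1 : Set SL(2, F) :=
    {y : SL(2, F) | y.1 1 0 ≠ 0 ∧ y.1 1 1 = (fun α γ : F => α⁻¹) (y.1 0 0) (y.1 1 0)} with hA1
  have hset : {y : SL(2, F) | y.1 1 0 = 0 ∨ y.1 0 1 = 0 ∨ (y.1 0 0 = 0 ∧ y.1 1 1 = 0)} =
      B ∪ A1 := by
    ext y
    have hdet := sl2_det y
    simp only [Set.mem_setOf_eq, Set.mem_union, hB, hA1]
    constructor
    · rintro (h | h | ⟨h, h'⟩)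
      · left; exact h
      · by_cases h0 : y.1 1 0 = 0
        · left; exact h0
        · right
          refine ⟨h0, ?_⟩
          rw [h] at hdet
          have h1 : y.1 0 0 * y.1 1 1 = 1 := by linear_combination hdet
          exact eq_inv_of_mul_eq_one_right h1
      · by_cases h0 : y.1 1 0 = 0
        · left; exact h0
        · right
          refine ⟨h0, ?_⟩
          rw [h, h', _root_.inv_zero]
    · rintro (h | ⟨h0, h⟩)
      · left; exact h
      · right
        by_cases h00 : y.1 0 0 = 0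
        · right
          rw [h00, _root_.inv_zero] at h
          exact ⟨h00, h⟩
        · left
          rw [h, mul_inv_cancel₀ h00] at hdet
          have h1 : y.1 0 1 * y.1 1 0 = 0 := by linear_combination -hdet
          exact (mul_eq_zero.1 h1).resolve_right h0
  have hd1 : Disjoint B A1 := by
    rw [Set.disjoint_left]
    intro y hy hy'
    exact hy'.1 hy
  have hBn : B.ncard = Fintype.card F * (Fintype.card F - 1) := ncard_borel
  have hA1n : A1.ncard = Fintype.card F * (Fintype.card F - 1) :=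
    ncard_graph (fun α γ : F => α⁻¹)
  rw [hset, Set.ncard_union_eq hd1 (Set.toFinite _) (Set.toFinite _), hBn, hA1n]
  ring

end chartwo

end Cfsg.Agent.Helper11.Dickson
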