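import Mathlib
import Cfsg.Agent.Lib.Helper11.DicksonSol5

set_option autoImplicit false
set_option linter.unusedVariables false
set_option linter.unusedSectionVars false
set_option linter.unusedSimpArgs false

/-! The sizes of the solubilizers in `PSL₂(2^p)`. -/

namespace Cfsg.Agent.Helper11.Dickson

open Matrix Matrix.SpecialLinearGroup
open scoped MatrixGroups
open Cfsg.Agent.Helper2.SL2S
open Cfsg.Agent.Helper12 Cfsg.Agent.Helper4.DC Cfsg.Agent.Helper4.DSL
open Cfsg.Agent.Helper11.Klein
open Cfsg.Agent.Helper2.PN (mkn mkn_surjective mkn_eq_iff)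

variable {F : Type*} [Field F] [Fintype F] [h2p : Fact (Nat.Prime 2)] [CharP F 2]

/-- transfer of a count from `PSL₂` to `SL₂` in characteristic two -/
theorem card_sol_eq_ncard (x : Matrix.ProjectiveSpecialLinearGroup (Fin 2) F)
    (S : Set SL(2, F))
    (hS : ∀ y : SL(2, F), Group.IsSolvable (Subgroup.closure
      ({x, mkn y} : Set (Matrix.ProjectiveSpecialLinearGroup (Fin 2) F))) ↔ y ∈ S) :
    Nat.card {y : Matrix.ProjectiveSpecialLinearGroup (Fin 2) F // Group.IsSolvable
      (Subgroup.closure ({x, y} : Set (Matrix.ProjectiveSpecialLinearGroup (Fin 2) F)))} =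
      S.ncard := by
  rw [← _root_.Nat.card_coe_set_eq]
  symm
  apply Nat.card_congr
  let E : SL(2, F) ≃ Matrix.ProjectiveSpecialLinearGroup (Fin 2) F :=
    Equiv.ofBijective (mkn (ι := Fin 2) (F := F)) ⟨mkn_injective_two, mkn_surjective⟩
  exact Equiv.subtypeEquiv E (fun y => (hS y).symm)

variable (p : ℕ) (hp : p.Prime) (hF : Fintype.card F = 2 ^ p)

include hp hF in
/-- the solubilizer of an involution has `3 q (q - 1)` elements -/
theorem card_sol_invol (x : Matrix.ProjectiveSpecialLinearGroup (Fin 2) F) (hx : orderOf x = 2) :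
    Nat.card {y : Matrix.ProjectiveSpecialLinearGroup (Fin 2) F // Group.IsSolvable
      (Subgroup.closure ({x, y} : Set (Matrix.ProjectiveSpecialLinearGroup (Fin 2) F)))} =
      3 * Fintype.card F * (Fintype.card F - 1) := by
  obtain ⟨g, rfl⟩ := mkn_surjective x
  have hg2 : g ^ 2 = 1 := by
    apply mkn_injective_two
    rw [map_pow, map_one]
    have := pow_orderOf_eq_one (mkn g : Matrix.ProjectiveSpecialLinearGroup (Fin 2) F)
    rwa [hx] at this
  have hg1 : g ≠ 1 := by
    rintro rfl
    rw [map_one, orderOf_one] at hx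
    omega
  obtain ⟨s, a, ha, hs⟩ := exists_conj_u 2 g hg2 hg1
  have e1 : mkn g = mkn s⁻¹ * mkn (u a) * (mkn s⁻¹)⁻¹ := by
    rw [← hs]
    simp only [map_mul, map_inv]
    group
  rw [e1, card_sol_conj, card_sol_eq_ncard (mkn (u a)) _ (fun y => sol_iff_unip p hp hF ha y)]
  exact ncard_unip ha

include hp hF in
/-- the solubilizer of a nontrivial element of order dividing `q - 1` has `2 q (q - 1)`
elements -/
theorem card_sol_split (x : Matrix.ProjectiveSpecialLinearGroup (Fin 2) F) (hx1 : x ≠ 1)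
    (hx : orderOf x ∣ Fintype.card F - 1) :
    Nat.card {y : Matrix.ProjectiveSpecialLinearGroup (Fin 2) F // Group.IsSolvable
      (Subgroup.closure ({x, y} : Set (Matrix.ProjectiveSpecialLinearGroup (Fin 2) F)))} =
      2 * Fintype.card F * (Fintype.card F - 1) := by
  have h4 := four_le_of_prime p hp hF
  obtain ⟨j, hj⟩ := even_card_two (F := F)
  have hodd1 : Odd (Fintype.card F - 1) := ⟨j - 1, by omega⟩
  have hodd2 : Odd (Fintype.card F + 1) := ⟨j, by omega⟩
  obtain ⟨g, rfl⟩ := mkn_surjective x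
  have hord1 : orderOf (mkn g : Matrix.ProjectiveSpecialLinearGroup (Fin 2) F) ≠ 1 := by
    intro h
    exact hx1 (orderOf_eq_one_iff.1 h)
  set M := (g : Matrix (Fin 2) (Fin 2) F) with hM
  have hdet : M.det = 1 := g.2
  -- the eigenvalue
  have hroot : ∃ l : F, l ^ 2 - M.trace * l + 1 = 0 ∧ l ^ 2 ≠ 1 := by
    by_cases hr : ∃ l : F, l ^ 2 - M.trace * l + 1 = 0
    · obtain ⟨l, hl⟩ := hr
      refine ⟨l, hl, ?_⟩
      intro hl1
      apply hord1
      have h2 : (mkn g : Matrix.ProjectiveSpecialLinearGroup (Fin 2) F) ^ 2 = 1 := by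
        change ((g : Matrix.ProjectiveSpecialLinearGroup (Fin 2) F)) ^ 2 = 1
        rw [psl_pow_eq_one_iff]
        exact ⟨l ^ 2, by rw [hl1, one_pow], pow_char_eq_smul_of_root M hdet l hl hl1 2⟩
      have h3 : orderOf (mkn g : Matrix.ProjectiveSpecialLinearGroup (Fin 2) F) ∣ 2 :=
        orderOf_dvd_of_pow_eq_one h2
      have h5 : orderOf (mkn g : Matrix.ProjectiveSpecialLinearGroup (Fin 2) F) ∣
          Nat.gcd 2 (Fintype.card F - 1) := Nat.dvd_gcd h3 hx
      rw [gcd_two_card_two] at h5
      exact Nat.dvd_one.1 h5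
    · exfalso
      push Not at hr
      apply hord1
      have h2 : (mkn g : Matrix.ProjectiveSpecialLinearGroup (Fin 2) F) ^
          ((Fintype.card F + 1) / Nat.gcd 2 (Fintype.card F - 1)) = 1 := by
        change ((g : Matrix.ProjectiveSpecialLinearGroup (Fin 2) F)) ^ _ = 1
        rw [psl_pow_eq_one_iff]
        exact pow_eq_smul_of_no_root M hdet hr
      rw [gcd_two_card_two, Nat.div_one] at h2
      have h3 := orderOf_dvd_of_pow_eq_one h2
      have h5 : orderOf (mkn g : Matrix.ProjectiveSpecialLinearGroup (Fin 2) F) ∣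
          Nat.gcd (Fintype.card F + 1) (Fintype.card F - 1) := Nat.dvd_gcd h3 hx
      have h6 : Nat.gcd (Fintype.card F + 1) (Fintype.card F - 1) = 1 := by
        have h7 : Nat.gcd (Fintype.card F + 1) (Fintype.card F - 1) ∣ 2 := by
          have e2 : (Fintype.card F + 1) - (Fintype.card F - 1) = 2 := by omega
          rw [← e2]
          exact Nat.dvd_sub (Nat.gcd_dvd_left _ _) (Nat.gcd_dvd_right _ _)
        have h8 : Odd (Nat.gcd (Fintype.card F + 1) (Fintype.card F - 1)) :=
          Odd.of_dvd_nat hodd2 (Nat.gcd_dvd_left _ _)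
        rcases (Nat.dvd_prime Nat.prime_two).1 h7 with h9 | h9
        · exact h9
        · rw [h9] at h8
          exact absurd h8 (by decide)
      rw [h6] at h5
      exact Nat.dvd_one.1 h5
  obtain ⟨l, hl, hl1⟩ := hroot
  obtain ⟨s, d, hd, hgd⟩ := exists_conj_split g l hl hl1
  have e1 : mkn g = mkn s * mkn d * (mkn s)⁻¹ := by
    rw [hgd]
    simp only [map_mul, map_inv]
  rw [e1, card_sol_conj, card_sol_eq_ncard (mkn d) _ (fun y => sol_iff_split p hp hF d hd y)]
  exact ncard_split

end Cfsg.Agent.Helper11.Dickson
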