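import Mathlib
import Cfsg.Agent.Lib.Helper11.DicksonSol6

set_option autoImplicit false
set_option linter.unusedVariables false
set_option linter.unusedSectionVars false
set_option linter.unusedSimpArgs false

/-! The solubilizer of an element of order dividing `q + 1` in `PSL₂(2^p)`. -/

namespace Cfsg.Agent.Helper11.Dickson

open Matrix Matrix.SpecialLinearGroup
open scoped MatrixGroups
open Cfsg.Agent.Helper2.SL2S
open Cfsg.Agent.Helper12 Cfsg.Agent.Helper4.DC Cfsg.Agent.Helper4.DSL
open Cfsg.Agent.Helper11.Klein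
open Cfsg.Agent.Helper2.PN (mkn mkn_surjective mkn_eq_iff)

variable {F : Type*} [Field F] [Fintype F] [h2p : Fact (Nat.Prime 2)] [CharP F 2]

theorem coprime_succ_arith {q : ℕ} (hq : Even q) (hq2 : 2 ≤ q) :
    Nat.Coprime (q + 1) (q * (q - 1)) ∧ Nat.Coprime (q + 1) (2 * (q - 1)) := by
  obtain ⟨j, hj⟩ := hq
  have hodd2 : Odd (q + 1) := ⟨j, by omega⟩
  have h1 : Nat.Coprime (q + 1) q := by
    rw [Nat.coprime_comm]
    exact Nat.coprime_self_add_right.2 (Nat.coprime_one_right q) |> fun h => by
      simpa using (Nat.coprime_add_self_right.2 (Nat.coprime_one_right q))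
  have h2 : Nat.Coprime (q + 1) 2 := Nat.coprime_two_right.2 hodd2
  have h3 : Nat.Coprime (q + 1) (q - 1) := by
    have h7 : Nat.gcd (q + 1) (q - 1) ∣ 2 := by
      have e2 : (q + 1) - (q - 1) = 2 := by omega
      rw [← e2]
      exact Nat.dvd_sub (Nat.gcd_dvd_left _ _) (Nat.gcd_dvd_right _ _)
    have h8 : Odd (Nat.gcd (q + 1) (q - 1)) := Odd.of_dvd_nat hodd2 (Nat.gcd_dvd_left _ _)
    rcases (Nat.dvd_prime Nat.prime_two).1 h7 with h9 | h9
    · exact h9
    · rw [h9] at h8
      exact absurd h8 (by decide)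
  exact ⟨Nat.Coprime.mul_right h1 h3, Nat.Coprime.mul_right h2 h3⟩

variable (p : ℕ) (hp : p.Prime) (hF : Fintype.card F = 2 ^ p)

include hp hF in
/-- the maximal subgroups containing a nontrivial element of order dividing `q + 1` -/
theorem coatom_of_nonsplit (x : Matrix.ProjectiveSpecialLinearGroup (Fin 2) F) (hx1 : x ≠ 1)
    (hx : orderOf x ∣ Fintype.card F + 1)
    (M : Subgroup (Matrix.ProjectiveSpecialLinearGroup (Fin 2) F)) (hM : IsCoatom M)
    (hxM : x ∈ M) :
    M = Subgroup.normalizer ((Subgroup.zpowers x :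
      Subgroup (Matrix.ProjectiveSpecialLinearGroup (Fin 2) F)) :
        Set (Matrix.ProjectiveSpecialLinearGroup (Fin 2) F)) ∧
      Nat.card M = 2 * (Fintype.card F + 1) ∧ Group.IsSolvable M := by
  classical
  have h4 := four_le_of_prime p hp hF
  haveI : IsSimpleGroup (Matrix.ProjectiveSpecialLinearGroup (Fin 2) F) :=
    Matrix.ProjectiveSpecialLinearGroup.rank_two_simple
      (by rw [Nat.card_eq_fintype_card]; exact h4)
  obtain ⟨hc1, hc2⟩ := coprime_succ_arith (even_card_two (F := F)) (by omega)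
  have hord1 : orderOf x ≠ 1 := fun h => hx1 (orderOf_eq_one_iff.1 h)
  have hxcard : orderOf x ∣ Nat.card M := Subgroup.orderOf_dvd_natCard M hxM
  have hkill : ∀ n : ℕ, Nat.card M = n → Nat.Coprime (Fintype.card F + 1) n → False := by
    intro n hn hcop
    rw [hn] at hxcard
    have := Nat.Coprime.eq_one_of_dvd (Nat.Coprime.coprime_dvd_left hx hcop) hxcard
    exact hord1 this
  -- the structure of `M`
  have hD : Nonempty (M ≃* DihedralGroup (Fintype.card F + 1)) := by
    rcases coatom_prime_cases p hp hF M hM with ⟨s, hsf⟩ | ⟨k, hk, ⟨e⟩⟩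
    · exact (hkill _ (card_of_frame_coatom_two M hM s hsf) hc1).elim
    · rcases dihedral_coatom_two h4 M hM k hk e with ⟨⟨e'⟩⟩ | h
      · exfalso
        apply hkill _ _ hc2
        rw [Nat.card_congr e'.toEquiv, DihedralGroup.nat_card]
      · exact h
  obtain ⟨e⟩ := hD
  have hsol : Group.IsSolvable M := by
    have := isSolvable_dihedral (Fintype.card F + 1)
    exact Group.isSolvable_of_isSolvable_injective (f := e.toMonoidHom) e.injective
  refine ⟨?_, by rw [Nat.card_congr e.toEquiv, DihedralGroup.nat_card], hsol⟩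
  -- the normalizer
  have hxx : e ⟨x, hxM⟩ * e ⟨x, hxM⟩ ≠ 1 := by
    intro h
    rw [← map_mul, ← map_one e] at h
    have h' : x * x = 1 := congrArg Subtype.val (e.injective h)
    have h2 : orderOf x ∣ 2 := orderOf_dvd_of_pow_eq_one (by rw [pow_two]; exact h')
    have hcop : Nat.Coprime (Fintype.card F + 1) 2 := by
      obtain ⟨j, hj⟩ := even_card_two (F := F)
      exact Nat.coprime_two_right.2 ⟨j, by omega⟩
    exact hord1 (Nat.Coprime.eq_one_of_dvd (Nat.Coprime.coprime_dvd_left hx hcop) h2)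
  have hle : M ≤ Subgroup.normalizer ((Subgroup.zpowers x :
      Subgroup (Matrix.ProjectiveSpecialLinearGroup (Fin 2) F)) :
        Set (Matrix.ProjectiveSpecialLinearGroup (Fin 2) F)) := by
    intro m hm
    have hmx : m * x * m⁻¹ ∈ Subgroup.zpowers x := by
      rcases dihedral_rot_cases (e ⟨x, hxM⟩) (e ⟨m, hm⟩) hxx with h | h
      · rw [← map_mul, ← map_mul] at h
        have h' : x * m = m * x := congrArg Subtype.val (e.injective h)
        rw [← h', mul_inv_cancel_right]
        exact Subgroup.mem_zpowers x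
      · rw [← map_inv, ← map_mul, ← map_inv, ← map_mul] at h
        have h' : m * x * m⁻¹ = x⁻¹ := congrArg Subtype.val (e.injective h)
        rw [h']
        exact Subgroup.inv_mem _ (Subgroup.mem_zpowers x)
    apply Subgroup.mem_normalizer_fintype
    intro n hn
    obtain ⟨i, rfl⟩ := Subgroup.mem_zpowers_iff.1 hn
    rw [SetLike.mem_coe, ← conj_zpow]
    exact Subgroup.zpow_mem _ hmx i
  have hT : Subgroup.zpowers x ≠ ⊤ := by
    intro h
    obtain ⟨a', b', hab⟩ := psl2_noncomm (K := F)
    have ha : a' ∈ Subgroup.zpowers x := by rw [h]; trivial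
    have hb : b' ∈ Subgroup.zpowers x := by rw [h]; trivial
    obtain ⟨i, rfl⟩ := Subgroup.mem_zpowers_iff.1 ha
    obtain ⟨j, rfl⟩ := Subgroup.mem_zpowers_iff.1 hb
    apply hab
    rw [← _root_.zpow_add, ← _root_.zpow_add, add_comm]
  have hN : Subgroup.normalizer ((Subgroup.zpowers x :
      Subgroup (Matrix.ProjectiveSpecialLinearGroup (Fin 2) F)) :
        Set (Matrix.ProjectiveSpecialLinearGroup (Fin 2) F)) ≠ ⊤ := by
    intro h
    have hn' : (Subgroup.zpowers x).Normal := Subgroup.normalizer_eq_top_iff.1 h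
    rcases hn'.eq_bot_or_eq_top with h1 | h1
    · apply hx1
      have : x ∈ Subgroup.zpowers x := Subgroup.mem_zpowers x
      rw [h1, Subgroup.mem_bot] at this
      exact this
    · exact hT h1
  rcases hM.le_iff.1 hle with h | h
  · exact absurd h hN
  · exact h.symm

include hp hF in
/-- the solubilizer of a nontrivial element of order dividing `q + 1` has `2 (q + 1)`
elements -/
theorem card_sol_nonsplit (x : Matrix.ProjectiveSpecialLinearGroup (Fin 2) F) (hx1 : x ≠ 1)
    (hx : orderOf x ∣ Fintype.card F + 1) :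
    Nat.card {y : Matrix.ProjectiveSpecialLinearGroup (Fin 2) F // Group.IsSolvable
      (Subgroup.closure ({x, y} : Set (Matrix.ProjectiveSpecialLinearGroup (Fin 2) F)))} =
      2 * (Fintype.card F + 1) := by
  have h4 := four_le_of_prime p hp hF
  haveI : IsSimpleGroup (Matrix.ProjectiveSpecialLinearGroup (Fin 2) F) :=
    Matrix.ProjectiveSpecialLinearGroup.rank_two_simple
      (by rw [Nat.card_eq_fintype_card]; exact h4)
  obtain ⟨M, hM, hxM⟩ := exists_coatom_of_mem psl2_noncomm x
  obtain ⟨hMN, hMc, hMs⟩ := coatom_of_nonsplit p hp hF x hx1 hx M hM hxM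
  rw [← hMc]
  apply Nat.card_congr
  refine Equiv.subtypeEquivRight (fun y => ?_)
  constructor
  · intro hs
    obtain ⟨M', hM', hxM', hyM'⟩ := exists_coatom_of_solvable h4 _ _ hs
    obtain ⟨hMN', -, -⟩ := coatom_of_nonsplit p hp hF x hx1 hx M' hM' hxM'
    rw [hMN, ← hMN']
    exact hyM'
  · intro hy
    exact isSolvable_closure_of_mem M hMs x y hxM hy

end Cfsg.Agent.Helper11.Dickson
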