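import Mathlib
import Cfsg.Agent.Lib.Helper20.E8TDefs
import Cfsg.Agent.Lib.Helper18.E8TFINORD

/-!
# S2375 piece WEYLM (helper11): every word in the fundamental reflections of `E₈` acts on the roots as an integral
isometry of the root lattice (no table of Weyl group elements, only the `8` simple reflections)
-/

set_option autoImplicit false
set_option linter.unusedSectionVars false
set_option linter.unusedVariables false

namespace Cfsg.Agent.Helper20.E8T

open Cfsg Cfsg.Lie Cfsg.Agent.Lead.Chev Cfsg.Agent.Lead.Tw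

/-- the matrix of the `i`-th fundamental reflection in the basis of the simple roots -/
def e8tweylm_sRefl (i : Fin 8) : Matrix (Fin 8) (Fin 8) ℤ :=
  fun k j => (if k = j then 1 else 0) - (if k = i then C8 i j else 0)

theorem e8tweylm_table : ∀ i : Fin 8, ∀ v : Fin 240, chevE8.reflectRoot i.val v.val < 240 ∧
    rc (chevE8.reflectRoot i.val v.val) = (e8tweylm_sRefl i).mulVec (rc v.val) := by
  decide +kernel

theorem e8tweylm_isom : ∀ i : Fin 8, (e8tweylm_sRefl i).transpose * C8 * e8tweylm_sRefl i = C8 := by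
  decide +kernel

theorem e8tweylm_isw (i : Fin 8) : IsW (e8tweylm_sRefl i) := by
  refine ⟨e8tweylm_isom i, fun v hv => ?_⟩
  obtain ⟨h1, h2⟩ := e8tweylm_table i ⟨v, hv⟩
  exact ⟨_, h1, h2.symm⟩

/-- the index of the first root with coordinate vector `y` -/
def e8tweylm_idx (y : Fin 8 → ℤ) : ℕ := (List.range 240).findIdx fun v => decide (rc v = y)

theorem e8tweylm_idx_rc : ∀ v : Fin 240, e8tweylm_idx (rc v.val) = v.val := by
  decide +kernel

theorem e8tweylm_rc_injective (v : ℕ) (hv : v < 240) (v' : ℕ) (hv' : v' < 240) (h : rc v = rc v') : v = v' := by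
  have h1 := e8tweylm_idx_rc ⟨v, hv⟩
  have h2 := e8tweylm_idx_rc ⟨v', hv'⟩
  simp only at h1 h2
  rw [← h1, ← h2, h]

theorem acts_cases (w : List ℕ) (hw : ∀ i ∈ w, i < 8) : ∃ M : Matrix (Fin 8) (Fin 8) ℤ, IsW M ∧ ActsM w M := by
  induction w with
  | nil =>
    refine ⟨1, isw_one, fun v hv => ⟨hv, ?_⟩⟩
    rw [Matrix.one_mulVec]
    rfl
  | cons i w ih =>
    have hw' : ∀ j ∈ w, j < 8 := fun j hj => hw j (List.mem_cons_of_mem _ hj)
    have hi : i < 8 := hw i List.mem_cons_self
    obtain ⟨M, hM, hact⟩ := ih hw'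
    refine ⟨e8tweylm_sRefl ⟨i, hi⟩ * M, isw_mul (e8tweylm_isw ⟨i, hi⟩) hM, fun v hv => ?_⟩
    obtain ⟨h1, h2⟩ := hact v hv
    obtain ⟨h3, h4⟩ := e8tweylm_table ⟨i, hi⟩ ⟨reflWord chevE8 w v, h1⟩
    show chevE8.reflectRoot i (reflWord chevE8 w v) < 240 ∧
      rc (chevE8.reflectRoot i (reflWord chevE8 w v)) = _
    refine ⟨h3, ?_⟩
    rw [h4, ← Matrix.mulVec_mulVec]
    simp only
    rw [h2]

theorem acts_id_pos (w : List ℕ) (hw : ∀ i ∈ w, i < 8) (h : ActsM w 1) :
    (∀ r, chevE8.IsPosRoot r → chevE8.IsPosRoot (reflWord chevE8 w r)) ∧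
      (∀ r, chevE8.IsPosRoot r → chevE8.IsPosRoot (reflWord chevE8 w.reverse r)) := by
  have hfix : ∀ r < 240, reflWord chevE8 w r = r := by
    intro r hr
    obtain ⟨h1, h2⟩ := h r hr
    rw [Matrix.one_mulVec] at h2
    exact e8tweylm_rc_injective _ h1 _ hr h2
  have hfa : ∀ i < chevE8.rank, NXFacts chevE8 (etaOf chevE8 i) i := fun i hi => (e8F ℚ).facts i hi
  have hfix' : ∀ r < 240, reflWord chevE8 w.reverse r = r := by
    intro r hr
    have h1 := reflWord_reverse_cancel' chevE8 (etaOf chevE8) hfa w hw r hr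
    rwa [hfix r hr] at h1
  constructor
  · intro r hr
    have hr240 : r < 240 := hr.1
    rw [hfix r hr240]
    exact hr
  · intro r hr
    have hr240 : r < 240 := hr.1
    rw [hfix' r hr240]
    exact hr

end Cfsg.Agent.Helper20.E8T
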