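import Mathlib

set_option autoImplicit false
set_option linter.unusedVariables false
set_option linter.unusedSectionVars false

/-! Extraspecial Sylow subgroups of order `p³` with one class of elements of order `p`:
elementary `2 × 2` matrix lemmas. -/

namespace Cfsg.Agent.Helper11.ES3

open Matrix

variable {K : Type*} [Field K]

/-- eigen-data: `M v = a⁻¹ v` and `det M = a` -/
def Good (a : Kˣ) (v : Fin 2 → K) (M : GL (Fin 2) K) : Prop :=
  (M : Matrix (Fin 2) (Fin 2) K) *ᵥ v = ((a⁻¹ : Kˣ) : K) • v ∧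
    (M : Matrix (Fin 2) (Fin 2) K).det = (a : K)

theorem mulVec_pow_of_eigen (M : Matrix (Fin 2) (Fin 2) K) (v : Fin 2 → K) (c : K)
    (h : M *ᵥ v = c • v) (k : ℕ) : (M ^ k) *ᵥ v = c ^ k • v := by
  induction k with
  | zero => simp
  | succ k ih =>
    rw [pow_succ, ← Matrix.mulVec_mulVec, h, Matrix.mulVec_smul, ih, smul_smul, pow_succ, mul_comm]

theorem exists_ne_zero_of_ne_zero {v : Fin 2 → K} (hv : v ≠ 0) : ∃ i, v i ≠ 0 := by
  by_contra h
  push Not at h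
  exact hv (funext h)

theorem Good.pow_central {a : Kˣ} {v : Fin 2 → K} {M : GL (Fin 2) K} (hG : Good a v M)
    (hv : v ≠ 0) (k : ℕ) (hk : M ^ k ∈ Subgroup.center (GL (Fin 2) K)) : a ^ (3 * k) = 1 := by
  rw [Matrix.GeneralLinearGroup.center_eq_range_scalar, MonoidHom.mem_range] at hk
  obtain ⟨u, hu⟩ := hk
  have hmat : ((M : Matrix (Fin 2) (Fin 2) K)) ^ k = Matrix.scalar (Fin 2) (u : K) := by
    have := congrArg (fun g : GL (Fin 2) K => (g : Matrix (Fin 2) (Fin 2) K)) hu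
    simpa [Matrix.GeneralLinearGroup.scalar] using this.symm
  have h1 := mulVec_pow_of_eigen _ v _ hG.1 k
  rw [hmat] at h1
  obtain ⟨i, hi⟩ := exists_ne_zero_of_ne_zero hv
  have h2 := congrFun h1 i
  have hu1 : (u : K) = ((a⁻¹ : Kˣ) : K) ^ k := by
    have : (u : K) * v i = ((a⁻¹ : Kˣ) : K) ^ k * v i := by
      simpa [Matrix.mulVec, dotProduct, Matrix.scalar_apply, Matrix.diagonal_apply,
        Fin.sum_univ_two] using h2
    exact mul_right_cancel₀ hi this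
  have hdet : ((M : Matrix (Fin 2) (Fin 2) K) ^ k).det = (a : K) ^ k := by
    rw [Matrix.det_pow, hG.2]
  rw [hmat] at hdet
  have hdet' : (u : K) ^ 2 = (a : K) ^ k := by
    simpa [Matrix.det_fin_two, Matrix.scalar_apply] using hdet
  apply Units.ext
  push_cast
  rw [hu1] at hdet'
  have ha : (a : K) ≠ 0 := a.ne_zero
  have hinv : ((a⁻¹ : Kˣ) : K) = (a : K)⁻¹ := by simp
  rw [hinv, inv_pow] at hdet'
  have hak : (a : K) ^ k ≠ 0 := pow_ne_zero _ ha
  have h3 : (a : K) ^ (3 * k) = ((a : K) ^ k) ^ 3 := by ring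
  rw [h3]
  generalize (a : K) ^ k = b at hdet' hak
  field_simp at hdet'
  linear_combination -hdet'

theorem eigen_of_central_comm {a : Kˣ} {v : Fin 2 → K} {M : GL (Fin 2) K} (hG : Good a v M)
    (hv : v ≠ 0) (M' : GL (Fin 2) K)
    (hc : M * M' * M⁻¹ * M'⁻¹ ∈ Subgroup.center (GL (Fin 2) K)) (h6 : a ^ 6 ≠ 1) :
    ∃ t : K, (M' : Matrix (Fin 2) (Fin 2) K) *ᵥ v = t • v := by
  rw [Matrix.GeneralLinearGroup.center_eq_range_scalar, MonoidHom.mem_range] at hc
  obtain ⟨u, hu⟩ := hc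
  have hgrp : M * M' = Matrix.GeneralLinearGroup.scalar (Fin 2) u * (M' * M) := by
    rw [hu]; group
  have hmat : (M : Matrix (Fin 2) (Fin 2) K) * (M' : Matrix (Fin 2) (Fin 2) K) =
      (u : K) • ((M' : Matrix (Fin 2) (Fin 2) K) * (M : Matrix (Fin 2) (Fin 2) K)) := by
    have := congrArg (fun g : GL (Fin 2) K => (g : Matrix (Fin 2) (Fin 2) K)) hgrp
    simpa [Matrix.GeneralLinearGroup.scalar, Matrix.smul_eq_diagonal_mul] using this
  have hdM : (M : Matrix (Fin 2) (Fin 2) K).det ≠ 0 := Matrix.GeneralLinearGroup.det_ne_zero M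
  have hdM' : (M' : Matrix (Fin 2) (Fin 2) K).det ≠ 0 := Matrix.GeneralLinearGroup.det_ne_zero M'
  have hu2 : (u : K) * (u : K) = 1 := by
    have := congrArg Matrix.det hmat
    rw [Matrix.det_mul, Matrix.det_smul, Matrix.det_mul, Fintype.card_fin] at this
    have h3 : (M : Matrix (Fin 2) (Fin 2) K).det * (M' : Matrix (Fin 2) (Fin 2) K).det ≠ 0 :=
      mul_ne_zero hdM hdM'
    have : ((u : K) * (u : K) - 1) * ((M : Matrix (Fin 2) (Fin 2) K).det *
        (M' : Matrix (Fin 2) (Fin 2) K).det) = 0 := by linear_combination -this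
    rcases mul_eq_zero.1 this with h | h
    · linear_combination h
    · exact absurd h h3
  set w := (M' : Matrix (Fin 2) (Fin 2) K) *ᵥ v with hw
  have hMw : (M : Matrix (Fin 2) (Fin 2) K) *ᵥ w = ((u : K) * ((a⁻¹ : Kˣ) : K)) • w := by
    rw [hw, Matrix.mulVec_mulVec, hmat, Matrix.smul_mulVec, ← Matrix.mulVec_mulVec, hG.1,
      Matrix.mulVec_smul, smul_smul]
  -- coordinates
  have e0 := congrFun hG.1 0
  have e1 := congrFun hG.1 1
  have f0 := congrFun hMw 0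
  have f1 := congrFun hMw 1
  simp only [Matrix.mulVec, dotProduct, Fin.sum_univ_two, Pi.smul_apply, smul_eq_mul] at e0 e1 f0 f1
  have hdet := hG.2
  rw [Matrix.det_fin_two] at hdet
  have hinv : ((a⁻¹ : Kˣ) : K) = (a : K)⁻¹ := by simp
  have ha : (a : K) ≠ 0 := a.ne_zero
  have hD : v 0 * w 1 - v 1 * w 0 = 0 := by
    by_contra hD
    have key : ((a : K) - ((a⁻¹ : Kˣ) : K) * ((u : K) * ((a⁻¹ : Kˣ) : K))) *
        (v 0 * w 1 - v 1 * w 0) = 0 := by
      linear_combination (-(v 0 * w 1 - v 1 * w 0)) * hdet +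
        ((M : Matrix (Fin 2) (Fin 2) K) 1 0 * w 0 + (M : Matrix (Fin 2) (Fin 2) K) 1 1 * w 1) * e0 +
        (((a⁻¹ : Kˣ) : K) * v 0) * f1 -
        ((M : Matrix (Fin 2) (Fin 2) K) 0 0 * w 0 + (M : Matrix (Fin 2) (Fin 2) K) 0 1 * w 1) * e1 -
        (((a⁻¹ : Kˣ) : K) * v 1) * f0
    have h3 : (a : K) - ((a⁻¹ : Kˣ) : K) * ((u : K) * ((a⁻¹ : Kˣ) : K)) = 0 :=
      (mul_eq_zero.1 key).resolve_right hD
    rw [hinv] at h3
    have h4 : (a : K) ^ 3 = (u : K) := by
      field_simp at h3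
      linear_combination h3
    apply h6
    apply Units.ext
    push_cast
    have : (a : K) ^ 6 = ((a : K) ^ 3) * ((a : K) ^ 3) := by ring
    rw [this, h4, hu2]
  by_cases hv0 : v 0 = 0
  · have hv1 : v 1 ≠ 0 := by
      intro hv1
      apply hv
      funext i
      fin_cases i
      · exact hv0
      · exact hv1
    refine ⟨w 1 / v 1, ?_⟩
    funext i
    fin_cases i
    · simp only [Fin.zero_eta, Pi.smul_apply, smul_eq_mul]
      rw [hv0, zero_mul, zero_sub, neg_eq_zero] at hD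
      rw [hv0, mul_zero]
      exact (mul_eq_zero.1 hD).resolve_left hv1
    · simp only [Fin.mk_one, Pi.smul_apply, smul_eq_mul]
      field_simp
  · refine ⟨w 0 / v 0, ?_⟩
    funext i
    fin_cases i
    · simp only [Fin.zero_eta, Pi.smul_apply, smul_eq_mul]
      field_simp
    · simp only [Fin.mk_one, Pi.smul_apply, smul_eq_mul]
      field_simp
      linear_combination hD

theorem three_eigen (M : Matrix (Fin 2) (Fin 2) K) (t₁ t₂ t₃ : K) (h12 : t₁ ≠ t₂) (h13 : t₁ ≠ t₃)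
    (h23 : t₂ ≠ t₃) (h₁ : ∃ c : K, M *ᵥ ![1, t₁] = c • ![1, t₁])
    (h₂ : ∃ c : K, M *ᵥ ![1, t₂] = c • ![1, t₂]) (h₃ : ∃ c : K, M *ᵥ ![1, t₃] = c • ![1, t₃]) :
    M 0 1 = 0 ∧ M 1 0 = 0 ∧ M 0 0 = M 1 1 := by
  have quad : ∀ t : K, (∃ c : K, M *ᵥ ![1, t] = c • ![1, t]) →
      M 1 0 + M 1 1 * t = (M 0 0 + M 0 1 * t) * t := by
    rintro t ⟨c, hc⟩
    have e0 := congrFun hc 0
    have e1 := congrFun hc 1
    simp only [Matrix.mulVec, dotProduct, Fin.sum_univ_two, Pi.smul_apply, smul_eq_mul,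
      Matrix.cons_val_zero, Matrix.cons_val_one, mul_one] at e0 e1
    rw [e0, e1]
  have q₁ := quad t₁ h₁
  have q₂ := quad t₂ h₂
  have q₃ := quad t₃ h₃
  have e12 : M 1 1 - M 0 0 = M 0 1 * (t₁ + t₂) := by
    have : (t₁ - t₂) * (M 1 1 - M 0 0 - M 0 1 * (t₁ + t₂)) = 0 := by
      linear_combination q₁ - q₂
    rcases mul_eq_zero.1 this with h | h
    · exact absurd (sub_eq_zero.1 h) h12
    · linear_combination h
  have e13 : M 1 1 - M 0 0 = M 0 1 * (t₁ + t₃) := by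
    have : (t₁ - t₃) * (M 1 1 - M 0 0 - M 0 1 * (t₁ + t₃)) = 0 := by
      linear_combination q₁ - q₃
    rcases mul_eq_zero.1 this with h | h
    · exact absurd (sub_eq_zero.1 h) h13
    · linear_combination h
  have h01 : M 0 1 = 0 := by
    have : M 0 1 * (t₂ - t₃) = 0 := by linear_combination e13 - e12
    rcases mul_eq_zero.1 this with h | h
    · exact h
    · exact absurd (sub_eq_zero.1 h) h23
  have h00 : M 0 0 = M 1 1 := by
    rw [h01, zero_mul] at e12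
    linear_combination -e12
  refine ⟨h01, ?_, h00⟩
  rw [h01, h00] at q₁
  linear_combination q₁

theorem Good.false_of_three {a : Kˣ} {t₁ t₂ t₃ : K} {M : GL (Fin 2) K} (hG : Good a ![1, t₁] M)
    (h12 : t₁ ≠ t₂) (h13 : t₁ ≠ t₃) (h23 : t₂ ≠ t₃)
    (h₂ : ∃ c : K, (M : Matrix (Fin 2) (Fin 2) K) *ᵥ ![1, t₂] = c • ![1, t₂])
    (h₃ : ∃ c : K, (M : Matrix (Fin 2) (Fin 2) K) *ᵥ ![1, t₃] = c • ![1, t₃])
    (ha3 : a ^ 3 ≠ 1) : False := by
  obtain ⟨h01, h10, h00⟩ := three_eigen _ t₁ t₂ t₃ h12 h13 h23 ⟨_, hG.1⟩ h₂ h₃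
  have e0 := congrFun hG.1 0
  simp only [Matrix.mulVec, dotProduct, Fin.sum_univ_two, Pi.smul_apply, smul_eq_mul,
    Matrix.cons_val_zero, Matrix.cons_val_one, mul_one] at e0
  rw [h01, zero_mul, add_zero] at e0
  have hdet := hG.2
  rw [Matrix.det_fin_two, h01, h10, ← h00, e0, mul_zero, sub_zero] at hdet
  apply ha3
  apply Units.ext
  push_cast
  have hinv : ((a⁻¹ : Kˣ) : K) = (a : K)⁻¹ := by simp
  rw [hinv] at hdet
  have ha : (a : K) ≠ 0 := a.ne_zero
  field_simp at hdet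
  linear_combination -hdet

end Cfsg.Agent.Helper11.ES3
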