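import Mathlib
import Cfsg.Agent.Lib.Helper11.ES3A
import Cfsg.Agent.Lib.Helper11.KleinPSL2
import Cfsg.Agent.Lib.Helper12.PGLInfB

set_option autoImplicit false
set_option linter.unusedVariables false
set_option linter.unusedSectionVars false
set_option linter.style.haveILetI false

/-! Extraspecial Sylow subgroups of order `p³` with one class of elements of order `p`:
a subgroup of `GL₂(p)` of order prime to `p` cannot contain, for every line and every unit `a`,
an element of determinant `a` with eigenvalue `a⁻¹` on the line, when `p ≥ 11`. -/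

namespace Cfsg.Agent.Helper11.ES3

open Matrix
open Cfsg.Agent.Helper28.SubfieldPSL2

theorem exists_generator (p : ℕ) [hp : Fact p.Prime] : ∃ a : (ZMod p)ˣ, orderOf a = p - 1 := by
  obtain ⟨a, ha⟩ := IsCyclic.exists_generator (α := (ZMod p)ˣ)
  refine ⟨a, ?_⟩
  rw [orderOf_eq_card_of_forall_mem_zpowers ha, Nat.card_eq_fintype_card, ZMod.card_units]

theorem dihedral_comm (k : ℕ) (x y : DihedralGroup k) (hx : x ^ 2 ≠ 1) (hy : y ^ 2 ≠ 1) :
    x * y = y * x := by
  have key : ∀ i : ZMod k, (DihedralGroup.sr i) ^ 2 = 1 := by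
    intro i
    rw [pow_two, DihedralGroup.sr_mul_self]
  cases x with
  | sr i => exact absurd (key i) hx
  | r i =>
    cases y with
    | sr j => exact absurd (key j) hy
    | r j => rw [DihedralGroup.r_mul_r, DihedralGroup.r_mul_r, add_comm]

theorem card_order_four :
    (Finset.univ.filter (fun y : Equiv.Perm (Fin 4) => y ^ 4 = 1 ∧ y ^ 2 ≠ 1)).card = 6 := by
  decide

theorem vec_ne_zero {K : Type*} [Field K] (t : K) : (![1, t] : Fin 2 → K) ≠ 0 := by
  intro h
  have := congrFun h 0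
  simp at this

theorem no_config (p : ℕ) [hp : Fact p.Prime] (hp11 : 11 ≤ p)
    (W : Subgroup (GL (Fin 2) (ZMod p))) (hW : ¬ p ∣ Nat.card W)
    (h : ∀ v : Fin 2 → ZMod p, v ≠ 0 → ∀ a : (ZMod p)ˣ, ∃ M ∈ W, Good a v M) : False := by
  classical
  obtain ⟨a, ha⟩ := exists_generator p
  have hodd : Odd p := hp.out.odd_of_ne_two (by omega)
  obtain ⟨E, _, _, j, hE⟩ := Cfsg.Agent.Helper12.PGLMax.exists_quadratic_ext (F := ZMod p) p
  have hoddE : Odd (Fintype.card E) := by
    rw [hE, ZMod.card]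
    exact hodd.pow
  have hsq : ∀ x : ZMod p, x ≠ 0 → IsSquare (j x) := isSquare_of_even j hoddE even_two hE.symm
  haveI : CharP E p := charP_of_injective_ringHom j.injective p
  set φ := glToPSL j hsq with hφ
  have hker : φ.ker = Subgroup.center (GL (Fin 2) (ZMod p)) := ker_glToPSL j hsq
  set H := W.map φ with hHdef
  have hH : ¬ p ∣ Nat.card H := fun hd => hW (hd.trans (Subgroup.card_map_dvd W φ))
  choose Mf hMfW hMfG using fun t : ZMod p => h ![1, t] (vec_ne_zero t) a
  have hmem : ∀ t, φ (Mf t) ∈ H := fun t => Subgroup.mem_map_of_mem φ (hMfW t)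
  have hapow : ∀ n : ℕ, a ^ n = 1 → (p - 1) ∣ n := by
    intro n hn
    rw [← ha]
    exact orderOf_dvd_of_pow_eq_one hn
  have hord : ∀ t (k : ℕ), φ (Mf t) ^ k = 1 → (p - 1) ∣ 3 * k := by
    intro t k hk
    apply hapow
    apply (hMfG t).pow_central (vec_ne_zero t) k
    rw [← hker, MonoidHom.mem_ker, map_pow]
    exact hk
  have ha6 : a ^ 6 ≠ 1 := by
    intro h6
    have := Nat.le_of_dvd (by norm_num) (hapow 6 h6)
    omega
  have ha3 : a ^ 3 ≠ 1 := by
    intro h3
    have := Nat.le_of_dvd (by norm_num) (hapow 3 h3)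
    omega
  have hcomm : ∀ t t', φ (Mf t) * φ (Mf t') = φ (Mf t') * φ (Mf t) →
      ∃ c : ZMod p, (Mf t : Matrix (Fin 2) (Fin 2) (ZMod p)) *ᵥ ![1, t'] = c • ![1, t'] := by
    intro t t' hc
    apply eigen_of_central_comm (hMfG t') (vec_ne_zero t') (Mf t) _ ha6
    rw [← hker, MonoidHom.mem_ker, map_mul, map_mul, map_mul, map_inv, map_inv, ← hc]
    group
  -- three distinct parameters
  have h01 : (0 : ZMod p) ≠ 1 := zero_ne_one
  have hcast : ∀ n : ℕ, n < p → n ≠ 0 → ((n : ℕ) : ZMod p) ≠ 0 := by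
    intro n hn hn0 h0
    rw [ZMod.natCast_eq_zero_iff] at h0
    exact hn0 (Nat.eq_zero_of_dvd_of_lt h0 hn)
  have h02 : (0 : ZMod p) ≠ 2 := by
    have := hcast 2 (by omega) (by norm_num)
    intro h; apply this; push_cast; exact h.symm
  have h12 : (1 : ZMod p) ≠ 2 := by
    have := hcast 1 (by omega) (by norm_num)
    intro h; apply this
    have : (2 : ZMod p) - 1 = 1 := by ring
    rw [← h] at this
    simpa using this.symm
  have hallcomm : (∀ t t', φ (Mf t) * φ (Mf t') = φ (Mf t') * φ (Mf t)) → False := by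
    intro hall
    exact (hMfG 0).false_of_three h01 h02 h12 (hcomm 0 1 (hall 0 1)) (hcomm 0 2 (hall 0 2)) ha3
  have hsq2 : ∀ t, φ (Mf t) ^ 2 ≠ 1 := by
    intro t h2
    have := Nat.le_of_dvd (by norm_num) (hord t 2 h2)
    omega
  rcases Cfsg.Agent.Helper11.Klein.klein_psl2 p (q := Fintype.card E) rfl H hH with
    ⟨k, -, ⟨hcyc, -⟩ | ⟨⟨e⟩⟩⟩ | ⟨⟨e⟩⟩ | ⟨⟨e⟩⟩ | ⟨⟨e⟩⟩
  · -- cyclic
    apply hallcomm
    intro t t'
    haveI := hcyc
    have := (isMulCommutative_iff.1 (IsCyclic.commutative (α := H))) ⟨_, hmem t⟩ ⟨_, hmem t'⟩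
    exact congrArg Subtype.val this
  · -- dihedral
    apply hallcomm
    intro t t'
    have hx : e ⟨_, hmem t⟩ ^ 2 ≠ 1 := by
      intro h2
      exact hsq2 t (Cfsg.Agent.Helper12.MaxSub.pow_eq_one_of_equiv H e _ (hmem t) 2 h2)
    have hy : e ⟨_, hmem t'⟩ ^ 2 ≠ 1 := by
      intro h2
      exact hsq2 t' (Cfsg.Agent.Helper12.MaxSub.pow_eq_one_of_equiv H e _ (hmem t') 2 h2)
    have h3 := dihedral_comm k _ _ hx hy
    rw [← map_mul, ← map_mul] at h3
    exact congrArg Subtype.val (e.injective h3)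
  · -- A4
    rcases Cfsg.Agent.Helper12.MaxSub.ordCond_A4 (e ⟨_, hmem 0⟩) with h2 | h2
    · have h3 := Cfsg.Agent.Helper12.MaxSub.pow_eq_one_of_equiv H e _ (hmem 0) 2 h2
      have := Nat.le_of_dvd (by norm_num) (hord 0 2 h3)
      omega
    · have h3 := Cfsg.Agent.Helper12.MaxSub.pow_eq_one_of_equiv H e _ (hmem 0) 3 h2
      have := Nat.le_of_dvd (by norm_num) (hord 0 3 h3)
      omega
  · -- S4
    have hpow4 : ∀ t, e ⟨_, hmem t⟩ ^ 4 = 1 ∧ e ⟨_, hmem t⟩ ^ 2 ≠ 1 := by
      intro t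
      refine ⟨?_, ?_⟩
      · rcases (Cfsg.Agent.Helper12.MaxSub.ordCond_S4 (e ⟨_, hmem t⟩)).2 with h2 | h2 | h2
        · exact absurd (Cfsg.Agent.Helper12.MaxSub.pow_eq_one_of_equiv H e _ (hmem t) 2 h2)
            (hsq2 t)
        · have h3 := Cfsg.Agent.Helper12.MaxSub.pow_eq_one_of_equiv H e _ (hmem t) 3 h2
          have := Nat.le_of_dvd (by norm_num) (hord t 3 h3)
          omega
        · exact h2
      · intro h2
        exact hsq2 t (Cfsg.Agent.Helper12.MaxSub.pow_eq_one_of_equiv H e _ (hmem t) 2 h2)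
    have hp13 : p = 13 := by
      have h3 := Cfsg.Agent.Helper12.MaxSub.pow_eq_one_of_equiv H e _ (hmem 0) 4 (hpow4 0).1
      obtain ⟨c, hc⟩ := hord 0 4 h3
      have hc12 : (p - 1) * c = 12 := by omega
      have hcpos : 0 < c := by
        rcases Nat.eq_zero_or_pos c with h | h
        · rw [h] at hc12; omega
        · exact h
      have hc1 : c = 1 := by
        by_contra hne
        have : 2 ≤ c := by omega
        have : (p - 1) * 2 ≤ (p - 1) * c := Nat.mul_le_mul_left _ this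
        omega
      rw [hc1] at hc12
      omega
    let f : ZMod p → Equiv.Perm (Fin 4) := fun t => e ⟨_, hmem t⟩
    have hmaps : ∀ t ∈ (Finset.univ : Finset (ZMod p)),
        f t ∈ Finset.univ.filter (fun y : Equiv.Perm (Fin 4) => y ^ 4 = 1 ∧ y ^ 2 ≠ 1) := by
      intro t _
      rw [Finset.mem_filter]
      exact ⟨Finset.mem_univ _, hpow4 t⟩
    have hfib : ∀ y ∈ Finset.univ.filter (fun y : Equiv.Perm (Fin 4) => y ^ 4 = 1 ∧ y ^ 2 ≠ 1),
        ((Finset.univ : Finset (ZMod p)).filter (fun t => f t = y)).card ≤ 2 := by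
      intro y _
      by_contra hgt
      push Not at hgt
      obtain ⟨t₁, ht₁, t₂, ht₂, t₃, ht₃, n12, n13, n23⟩ := Finset.two_lt_card.1 hgt
      rw [Finset.mem_filter] at ht₁ ht₂ ht₃
      have heq : ∀ t t', f t = y → f t' = y → φ (Mf t) = φ (Mf t') := by
        intro t t' h1 h2
        have := e.injective (h1.trans h2.symm)
        exact congrArg Subtype.val this
      have c12 := hcomm t₁ t₂ (by rw [heq t₁ t₂ ht₁.2 ht₂.2])
      have c13 := hcomm t₁ t₃ (by rw [heq t₁ t₃ ht₁.2 ht₃.2])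
      exact (hMfG t₁).false_of_three n12 n13 n23 c12 c13 ha3
    have hle := Finset.card_le_mul_card_image_of_maps_to hmaps 2 hfib
    rw [card_order_four, Finset.card_univ, ZMod.card, hp13] at hle
    omega
  · -- A5
    rcases Cfsg.Agent.Helper12.MaxSub.ordCond_A5 (e ⟨_, hmem 0⟩) with h2 | h2 | h2
    · have h3 := Cfsg.Agent.Helper12.MaxSub.pow_eq_one_of_equiv H e _ (hmem 0) 2 h2
      have := Nat.le_of_dvd (by norm_num) (hord 0 2 h3)
      omega
    · have h3 := Cfsg.Agent.Helper12.MaxSub.pow_eq_one_of_equiv H e _ (hmem 0) 3 h2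
      have := Nat.le_of_dvd (by norm_num) (hord 0 3 h3)
      omega
    · have h3 := Cfsg.Agent.Helper12.MaxSub.pow_eq_one_of_equiv H e _ (hmem 0) 5 h2
      obtain ⟨c, hc⟩ := hord 0 5 h3
      have hc15 : (p - 1) * c = 15 := by omega
      have hcpos : 0 < c := by
        rcases Nat.eq_zero_or_pos c with h | h
        · rw [h] at hc15; omega
        · exact h
      have hc1 : c = 1 := by
        by_contra hne
        have : 2 ≤ c := by omega
        have : (p - 1) * 2 ≤ (p - 1) * c := Nat.mul_le_mul_left _ this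
        omega
      rw [hc1] at hc15
      have hp16 : p = 16 := by omega
      have := hp.out
      rw [hp16] at this
      norm_num at this

end Cfsg.Agent.Helper11.ES3
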