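import Mathlib

set_option autoImplicit false
set_option linter.unusedVariables false
set_option linter.unusedSectionVars false

/-! Powers by elements of `ZMod p`, and the action on a pair of commuting elements of order `p`
by `2 × 2` matrices. -/

namespace Cfsg.Agent.Helper11.ES3

open Matrix

variable {G : Type*} [Group G] {p : ℕ} [hp : Fact p.Prime]

/-- power by an element of `ZMod p` -/
def zp (u : G) (k : ZMod p) : G := u ^ k.val

theorem zp_zero (u : G) : zp u (0 : ZMod p) = 1 := by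
  rw [zp, ZMod.val_zero, pow_zero]

theorem zp_one (u : G) : zp u (1 : ZMod p) = u := by
  haveI : Fact (1 < p) := ⟨hp.out.one_lt⟩
  rw [zp, ZMod.val_one, pow_one]

theorem one_zp (k : ZMod p) : zp (1 : G) k = 1 := by
  rw [zp, one_pow]

theorem zp_add {u : G} (hu : u ^ p = 1) (k l : ZMod p) : zp u (k + l) = zp u k * zp u l := by
  rw [zp, zp, zp, ZMod.val_add, ← pow_add, ← pow_eq_pow_mod _ hu]

theorem zp_mul {u : G} (hu : u ^ p = 1) (k l : ZMod p) : zp u (k * l) = zp (zp u k) l := by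
  rw [zp, zp, zp, ZMod.val_mul, ← pow_mul, ← pow_eq_pow_mod _ hu]

theorem zp_pow_p {u : G} (hu : u ^ p = 1) (k : ZMod p) : (zp u k : G) ^ p = 1 := by
  rw [zp, ← pow_mul, mul_comm, pow_mul, hu, one_pow]

theorem zp_neg {u : G} (hu : u ^ p = 1) (k : ZMod p) : zp u (-k) = (zp u k)⁻¹ := by
  rw [eq_inv_iff_mul_eq_one, ← zp_add hu, neg_add_cancel, zp_zero]

theorem zp_natCast {u : G} (hu : u ^ p = 1) (n : ℕ) : zp u ((n : ℕ) : ZMod p) = u ^ n := by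
  rw [zp, ZMod.val_natCast, ← pow_eq_pow_mod _ hu]

theorem zp_conj (g u : G) (k : ZMod p) : g * zp u k * g⁻¹ = zp (g * u * g⁻¹) k := by
  rw [zp, zp, conj_pow]

theorem zp_mul_distrib {u v : G} (h : Commute u v) (k : ZMod p) :
    zp (u * v) k = zp u k * zp v k := by
  rw [zp, zp, zp, h.mul_pow]

theorem zp_mem {H : Subgroup G} {u : G} (hu : u ∈ H) (k : ZMod p) : zp u k ∈ H :=
  H.pow_mem hu _

theorem zp_commute {u v : G} (h : Commute u v) (k l : ZMod p) : Commute (zp u k) (zp v l) :=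
  (h.pow_left _).pow_right _

theorem zp_inj {u : G} (hu : u ^ p = 1) (hu1 : u ≠ 1) {k l : ZMod p} (h : zp u k = zp u l) :
    k = l := by
  have ho : orderOf u = p := orderOf_eq_prime hu hu1
  rw [zp, zp] at h
  have h1 := pow_injOn_Iio_orderOf (x := u) (by rw [ho]; exact ZMod.val_lt k)
    (by rw [ho]; exact ZMod.val_lt l) h
  exact ZMod.val_injective p h1

theorem zp_zpow {u : G} (hu : u ^ p = 1) (i : ℤ) : zp u ((i : ℤ) : ZMod p) = u ^ i := by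
  have ho : orderOf u ∣ p := orderOf_dvd_of_pow_eq_one hu
  rw [zp, ← zpow_natCast, ZMod.val_intCast]
  have h1 : u ^ (i % (p : ℤ)) = u ^ i := by
    have := Int.emod_add_mul_ediv i p
    conv_rhs => rw [← this]
    rw [_root_.zpow_add, _root_.zpow_mul, zpow_natCast, hu, _root_.one_zpow, mul_one]
  exact h1

/-- the element with given coordinates -/
def fr (u₁ u₂ : G) (v : Fin 2 → ZMod p) : G := zp u₁ (v 0) * zp u₂ (v 1)

/-- a pair of commuting elements of order dividing `p` -/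
structure Frame (p : ℕ) (u₁ u₂ : G) : Prop where
  comm : Commute u₁ u₂
  h₁ : u₁ ^ p = 1
  h₂ : u₂ ^ p = 1

theorem Frame.fr_add {u₁ u₂ : G} (F : Frame p u₁ u₂) (v w : Fin 2 → ZMod p) :
    fr u₁ u₂ (v + w) = fr u₁ u₂ v * fr u₁ u₂ w := by
  unfold fr
  rw [Pi.add_apply, Pi.add_apply, zp_add F.h₁, zp_add F.h₂]
  have h : Commute (zp u₁ (w 0)) (zp u₂ (v 1)) := zp_commute F.comm (w 0) (v 1)
  simp only [mul_assoc]
  rw [← mul_assoc (zp u₁ (w 0)) (zp u₂ (v 1)), h.eq]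
  simp only [mul_assoc]

theorem Frame.fr_commute {u₁ u₂ : G} (F : Frame p u₁ u₂) (v w : Fin 2 → ZMod p) :
    Commute (fr u₁ u₂ v) (fr u₁ u₂ w) := by
  unfold Commute SemiconjBy
  rw [← F.fr_add, ← F.fr_add, add_comm]

theorem Frame.fr_pow_p {u₁ u₂ : G} (F : Frame p u₁ u₂) (v : Fin 2 → ZMod p) :
    (fr u₁ u₂ v) ^ p = 1 := by
  unfold fr
  rw [(zp_commute F.comm _ _).mul_pow, zp_pow_p F.h₁, zp_pow_p F.h₂, one_mul]

theorem Frame.zp_fr {u₁ u₂ : G} (F : Frame p u₁ u₂) (v : Fin 2 → ZMod p) (k : ZMod p) :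
    zp (fr u₁ u₂ v) k = fr u₁ u₂ (k • v) := by
  unfold fr
  rw [zp_mul_distrib (zp_commute F.comm _ _), ← zp_mul F.h₁, ← zp_mul F.h₂, Pi.smul_apply,
    Pi.smul_apply, smul_eq_mul, smul_eq_mul, mul_comm k, mul_comm k]

theorem fr_conj (g u₁ u₂ : G) (v : Fin 2 → ZMod p) :
    g * fr u₁ u₂ v * g⁻¹ = fr (g * u₁ * g⁻¹) (g * u₂ * g⁻¹) v := by
  unfold fr
  rw [← zp_conj, ← zp_conj]
  group

theorem fr_e₁ (u₁ u₂ : G) : fr u₁ u₂ (![1, 0] : Fin 2 → ZMod p) = u₁ := by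
  unfold fr
  simp [zp_one, zp_zero]

theorem fr_e₂ (u₁ u₂ : G) : fr u₁ u₂ (![0, 1] : Fin 2 → ZMod p) = u₂ := by
  unfold fr
  simp [zp_one, zp_zero]

/-- `g` acts on the frame by the matrix `M` -/
def Act (u₁ u₂ : G) (g : G) (M : Matrix (Fin 2) (Fin 2) (ZMod p)) : Prop :=
  ∀ v : Fin 2 → ZMod p, g * fr u₁ u₂ v * g⁻¹ = fr u₁ u₂ (M *ᵥ v)

theorem Act.one (u₁ u₂ : G) : Act (p := p) u₁ u₂ 1 1 := by
  intro v
  simp

theorem Act.mul {u₁ u₂ g h : G} {M N : Matrix (Fin 2) (Fin 2) (ZMod p)}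
    (hg : Act u₁ u₂ g M) (hh : Act u₁ u₂ h N) : Act u₁ u₂ (g * h) (M * N) := by
  intro v
  have : g * h * fr u₁ u₂ v * (g * h)⁻¹ = g * (h * fr u₁ u₂ v * h⁻¹) * g⁻¹ := by group
  rw [this, hh v, hg, Matrix.mulVec_mulVec]

theorem Act.inv {u₁ u₂ g : G} {M N : Matrix (Fin 2) (Fin 2) (ZMod p)}
    (hg : Act u₁ u₂ g M) (hMN : M * N = 1) : Act u₁ u₂ g⁻¹ N := by
  intro v
  have h1 := hg (N *ᵥ v)
  rw [Matrix.mulVec_mulVec, hMN, Matrix.one_mulVec] at h1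
  rw [← h1]
  group

theorem Frame.act_of_gens {u₁ u₂ : G} (F : Frame p u₁ u₂) {g : G}
    {M : Matrix (Fin 2) (Fin 2) (ZMod p)}
    (h1 : g * u₁ * g⁻¹ = zp u₁ (M 0 0) * zp u₂ (M 1 0))
    (h2 : g * u₂ * g⁻¹ = zp u₁ (M 0 1) * zp u₂ (M 1 1)) : Act u₁ u₂ g M := by
  intro v
  rw [fr_conj, h1, h2]
  have e1 : zp u₁ (M 0 0) * zp u₂ (M 1 0) = fr u₁ u₂ ![M 0 0, M 1 0] := by
    unfold fr; simp
  have e2 : zp u₁ (M 0 1) * zp u₂ (M 1 1) = fr u₁ u₂ ![M 0 1, M 1 1] := by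
    unfold fr; simp
  rw [e1, e2]
  have e3 : fr (fr u₁ u₂ ![M 0 0, M 1 0]) (fr u₁ u₂ ![M 0 1, M 1 1]) v =
      zp (fr u₁ u₂ ![M 0 0, M 1 0]) (v 0) * zp (fr u₁ u₂ ![M 0 1, M 1 1]) (v 1) := rfl
  rw [e3, F.zp_fr, F.zp_fr, ← F.fr_add]
  congr 1
  funext i
  fin_cases i <;>
    simp [Matrix.mulVec, dotProduct, Fin.sum_univ_two] <;> ring

theorem Act.apply₁ {u₁ u₂ g : G} {M : Matrix (Fin 2) (Fin 2) (ZMod p)}
    (hg : Act u₁ u₂ g M) : g * u₁ * g⁻¹ = zp u₁ (M 0 0) * zp u₂ (M 1 0) := by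
  have := hg ![1, 0]
  rw [fr_e₁] at this
  rw [this]
  unfold fr
  simp [Matrix.mulVec, dotProduct, Fin.sum_univ_two]

theorem Act.apply₂ {u₁ u₂ g : G} {M : Matrix (Fin 2) (Fin 2) (ZMod p)}
    (hg : Act u₁ u₂ g M) : g * u₂ * g⁻¹ = zp u₁ (M 0 1) * zp u₂ (M 1 1) := by
  have := hg ![0, 1]
  rw [fr_e₂] at this
  rw [this]
  unfold fr
  simp [Matrix.mulVec, dotProduct, Fin.sum_univ_two]

end Cfsg.Agent.Helper11.ES3
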