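import Mathlib
import Cfsg.Agent.Lib.Helper11.ES3C

set_option autoImplicit false
set_option linter.unusedVariables false
set_option linter.unusedSectionVars false

/-! Extraspecial groups of order `p³` and exponent `p` inside a group: the commutator pairing. -/

namespace Cfsg.Agent.Helper11.ES3

variable {G : Type*} [Group G] {p : ℕ} [hp : Fact p.Prime]

/-- `P` is extraspecial of order `p³` and exponent `p` with centre `Z`, generated by `z` -/
structure ESz (p : ℕ) (P Z : Subgroup G) (z : G) : Prop where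
  ZleP : Z ≤ P
  central : ∀ g ∈ P, ∀ ζ ∈ Z, g * ζ = ζ * g
  comm : ∀ g ∈ P, ∀ h ∈ P, g * h * g⁻¹ * h⁻¹ ∈ Z
  cardP : Nat.card P = p ^ 3
  cardZ : Nat.card Z = p
  exp : ∀ g ∈ P, g ^ p = 1
  center : ∀ g ∈ P, (∀ h ∈ P, g * h = h * g) → g ∈ Z
  hz : z ∈ Z
  hz1 : z ≠ 1

variable {P Z : Subgroup G} {z : G}

theorem ESz.zP (E : ESz p P Z z) : z ∈ P := E.ZleP E.hz

theorem ESz.zpow (E : ESz p P Z z) : z ^ p = 1 := E.exp z E.zP

theorem ESz.conj_central (E : ESz p P Z z) {g ζ : G} (hg : g ∈ P) (hζ : ζ ∈ Z) :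
    g * ζ * g⁻¹ = ζ := by
  rw [E.central g hg ζ hζ]; group

theorem ESz.exists_zp (E : ESz p P Z z) {ζ : G} (hζ : ζ ∈ Z) : ∃ k : ZMod p, ζ = zp z k := by
  have ho : orderOf z = p := orderOf_eq_prime E.zpow E.hz1
  haveI : Finite Z := Nat.finite_of_card_ne_zero (by rw [E.cardZ]; exact hp.out.ne_zero)
  have hle : Subgroup.zpowers z ≤ Z := by
    rw [Subgroup.zpowers_le]; exact E.hz
  have heq : Subgroup.zpowers z = Z := by
    apply Subgroup.eq_of_le_of_card_ge hle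
    rw [Nat.card_zpowers, ho, E.cardZ]
  rw [← heq, Subgroup.mem_zpowers_iff] at hζ
  obtain ⟨i, rfl⟩ := hζ
  exact ⟨(i : ZMod p), (zp_zpow E.zpow i).symm⟩

/-- logarithm to the base `z` -/
noncomputable def lg (z ζ : G) : ZMod p :=
  open Classical in if h : ∃ k : ZMod p, ζ = zp z k then h.choose else 0

theorem lg_spec {z ζ : G} (h : ∃ k : ZMod p, ζ = zp z k) : zp z (lg (p := p) z ζ) = ζ := by
  unfold lg
  rw [dif_pos h]
  exact h.choose_spec.symm

theorem ESz.lg_spec (E : ESz p P Z z) {ζ : G} (hζ : ζ ∈ Z) : zp z (lg (p := p) z ζ) = ζ :=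
  Cfsg.Agent.Helper11.ES3.lg_spec (E.exists_zp hζ)

theorem ESz.lg_zp (E : ESz p P Z z) (k : ZMod p) : lg z (zp z k) = k :=
  zp_inj E.zpow E.hz1 (Cfsg.Agent.Helper11.ES3.lg_spec ⟨k, rfl⟩)

theorem ESz.lg_mul (E : ESz p P Z z) {ζ ζ' : G} (hζ : ζ ∈ Z) (hζ' : ζ' ∈ Z) :
    lg (p := p) z (ζ * ζ') = lg z ζ + lg z ζ' := by
  obtain ⟨k, rfl⟩ := E.exists_zp hζ
  obtain ⟨l, rfl⟩ := E.exists_zp hζ'
  rw [← zp_add E.zpow, E.lg_zp, E.lg_zp, E.lg_zp]

theorem ESz.lg_one (E : ESz p P Z z) : lg (p := p) z 1 = 0 := by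
  have := E.lg_zp 0
  rwa [zp_zero] at this

theorem ESz.lg_inv (E : ESz p P Z z) {ζ : G} (hζ : ζ ∈ Z) :
    lg (p := p) z ζ⁻¹ = - lg z ζ := by
  have h := E.lg_mul hζ (Z.inv_mem hζ)
  rw [mul_inv_cancel, E.lg_one] at h
  exact eq_neg_of_add_eq_zero_right h.symm

/-- the commutator pairing -/
noncomputable def bt (z g h : G) : ZMod p := lg z (g * h * g⁻¹ * h⁻¹)

theorem ESz.bt_spec (E : ESz p P Z z) {g h : G} (hg : g ∈ P) (hh : h ∈ P) :
    g * h * g⁻¹ * h⁻¹ = zp z (bt (p := p) z g h) :=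
  (E.lg_spec (E.comm g hg h hh)).symm

theorem ESz.conj_eq (E : ESz p P Z z) {g h : G} (hg : g ∈ P) (hh : h ∈ P) :
    g * h * g⁻¹ = zp z (bt (p := p) z g h) * h := by
  rw [← E.bt_spec hg hh]; group

theorem ESz.bt_mul_left (E : ESz p P Z z) {g g' h : G} (hg : g ∈ P) (hg' : g' ∈ P) (hh : h ∈ P) :
    bt (p := p) z (g * g') h = bt z g h + bt z g' h := by
  unfold bt
  have key : g * g' * h * (g * g')⁻¹ * h⁻¹ =
      (g * (g' * h * g'⁻¹ * h⁻¹) * g⁻¹) * (g * h * g⁻¹ * h⁻¹) := by group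
  rw [key, E.conj_central hg (E.comm g' hg' h hh), E.lg_mul (E.comm g' hg' h hh) (E.comm g hg h hh),
    add_comm]

theorem ESz.bt_mul_right (E : ESz p P Z z) {g h h' : G} (hg : g ∈ P) (hh : h ∈ P) (hh' : h' ∈ P) :
    bt (p := p) z g (h * h') = bt z g h + bt z g h' := by
  unfold bt
  have key : g * (h * h') * g⁻¹ * (h * h')⁻¹ =
      (g * h * g⁻¹ * h⁻¹) * (h * (g * h' * g⁻¹ * h'⁻¹) * h⁻¹) := by group
  rw [key, E.conj_central hh (E.comm g hg h' hh'), E.lg_mul (E.comm g hg h hh) (E.comm g hg h' hh')]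

theorem ESz.bt_self (E : ESz p P Z z) (g : G) : bt (p := p) z g g = 0 := by
  unfold bt
  have : g * g * g⁻¹ * g⁻¹ = 1 := by group
  rw [this, E.lg_one]

theorem ESz.bt_swap (E : ESz p P Z z) {g h : G} (hg : g ∈ P) (hh : h ∈ P) :
    bt (p := p) z h g = - bt z g h := by
  unfold bt
  have : h * g * h⁻¹ * g⁻¹ = (g * h * g⁻¹ * h⁻¹)⁻¹ := by group
  rw [this, E.lg_inv (E.comm g hg h hh)]

theorem ESz.bt_of_commute (E : ESz p P Z z) {g h : G} (hc : g * h = h * g) :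
    bt (p := p) z g h = 0 := by
  unfold bt
  have : g * h * g⁻¹ * h⁻¹ = 1 := by rw [hc]; group
  rw [this, E.lg_one]

theorem ESz.bt_central_left (E : ESz p P Z z) {ζ h : G} (hζ : ζ ∈ Z) (hh : h ∈ P) :
    bt (p := p) z ζ h = 0 :=
  E.bt_of_commute (E.central h hh ζ hζ).symm

theorem ESz.bt_central_right (E : ESz p P Z z) {ζ h : G} (hζ : ζ ∈ Z) (hh : h ∈ P) :
    bt (p := p) z h ζ = 0 :=
  E.bt_of_commute (E.central h hh ζ hζ)

theorem ESz.bt_one_left (E : ESz p P Z z) (h : G) : bt (p := p) z 1 h = 0 :=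
  E.bt_of_commute (by simp)

theorem ESz.bt_one_right (E : ESz p P Z z) (h : G) : bt (p := p) z h 1 = 0 :=
  E.bt_of_commute (by simp)

theorem ESz.bt_pow_left (E : ESz p P Z z) {g h : G} (hg : g ∈ P) (hh : h ∈ P) (n : ℕ) :
    bt (p := p) z (g ^ n) h = (n : ZMod p) * bt z g h := by
  induction n with
  | zero => rw [pow_zero, E.bt_one_left, Nat.cast_zero, zero_mul]
  | succ n ih =>
    rw [pow_succ, E.bt_mul_left (P.pow_mem hg n) hg hh, ih]
    push_cast
    ring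

theorem ESz.bt_zp_left (E : ESz p P Z z) {g h : G} (hg : g ∈ P) (hh : h ∈ P) (k : ZMod p) :
    bt (p := p) z (zp g k) h = k * bt z g h := by
  unfold zp
  rw [E.bt_pow_left hg hh, ZMod.natCast_zmod_val]

theorem ESz.bt_zp_right (E : ESz p P Z z) {g h : G} (hg : g ∈ P) (hh : h ∈ P) (k : ZMod p) :
    bt (p := p) z g (zp h k) = k * bt z g h := by
  rw [E.bt_swap (zp_mem hh k) hg, E.bt_zp_left hh hg, E.bt_swap hg hh]
  ring

theorem ESz.bt_eq_zero_iff (E : ESz p P Z z) {g h : G} (hg : g ∈ P) (hh : h ∈ P) :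
    bt (p := p) z g h = 0 ↔ g * h = h * g := by
  constructor
  · intro h0
    have := E.bt_spec hg hh
    rw [h0, zp_zero] at this
    calc g * h = (g * h * g⁻¹ * h⁻¹) * (h * g) := by group
      _ = h * g := by rw [this, one_mul]
  · exact E.bt_of_commute

/-- every value of the pairing with a non-central element occurs -/
theorem ESz.exists_bt_eq (E : ESz p P Z z) {x : G} (hx : x ∈ P) (hxZ : x ∉ Z) (c : ZMod p) :
    ∃ y ∈ P, bt (p := p) z y x = c := by
  have : ∃ h ∈ P, x * h ≠ h * x := by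
    by_contra hcon
    push Not at hcon
    exact hxZ (E.center x hx hcon)
  obtain ⟨h, hh, hne⟩ := this
  have hb : bt (p := p) z h x ≠ 0 := by
    intro h0
    exact hne ((E.bt_eq_zero_iff hh hx).1 h0).symm
  refine ⟨zp h (c / bt z h x), zp_mem hh _, ?_⟩
  rw [E.bt_zp_left hh hx]
  field_simp

/-- conjugation by suitable elements of `P` multiplies a non-central element by any central one -/
theorem ESz.exists_conj (E : ESz p P Z z) {x : G} (hx : x ∈ P) (hxZ : x ∉ Z) (c : ZMod p) :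
    ∃ y ∈ P, y * x * y⁻¹ = zp z c * x := by
  obtain ⟨y, hy, hyc⟩ := E.exists_bt_eq hx hxZ c
  exact ⟨y, hy, by rw [E.conj_eq hy hx, hyc]⟩

theorem ESz.exists_not_mem (E : ESz p P Z z) : ∃ x ∈ P, x ∉ Z := by
  by_contra hcon
  push Not at hcon
  have hle : P ≤ Z := hcon
  have heq : P = Z := le_antisymm hle E.ZleP
  have h1 := E.cardP
  rw [heq, E.cardZ] at h1
  have h2 : 1 < p := hp.out.one_lt
  have : p ^ 1 < p ^ 3 := Nat.pow_lt_pow_right h2 (by norm_num)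
  rw [pow_one] at this
  omega

end Cfsg.Agent.Helper11.ES3
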