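import Mathlib
import Cfsg.Agent.Lib.Helper11.ES3D
import Cfsg.Agent.Lib.Helper11.CIZStar

set_option autoImplicit false
set_option linter.unusedVariables false
set_option linter.unusedSectionVars false

/-! Extraspecial Sylow subgroups of order `p³` with one class of elements of order `p`:
fusion arguments producing torus elements in the normalizer. -/

namespace Cfsg.Agent.Helper11.ES3

open Matrix
open Cfsg.Agent.Helper11.CIZStar (mem_smul_sylow exists_conj_mem_of_le)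

variable {G : Type*} [Group G] {p : ℕ} [hp : Fact p.Prime]

theorem exists_smul_eq_of_le [Finite G] (K : Subgroup G) (Q S : Sylow p G)
    (hQ : (Q : Subgroup G) ≤ K) (hS : (S : Subgroup G) ≤ K) : ∃ k ∈ K, k • Q = S := by
  obtain ⟨k, hk⟩ := MulAction.exists_smul_eq ↥K (Q.subtype hQ) (S.subtype hS)
  refine ⟨k, k.2, ?_⟩
  rw [Sylow.smul_subtype] at hk
  exact Sylow.subtype_injective hk

/-- upper unitriangular matrix -/
def Umat (c : ZMod p) : Matrix (Fin 2) (Fin 2) (ZMod p) := !![1, c; 0, 1]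

/-- lower unitriangular matrix -/
def Lmat (d : ZMod p) : Matrix (Fin 2) (Fin 2) (ZMod p) := !![1, 0; d, 1]

/-- diagonal matrix -/
def Dmat (a b : ZMod p) : Matrix (Fin 2) (Fin 2) (ZMod p) := !![a, 0; 0, b]

theorem Umat_zero : Umat (0 : ZMod p) = 1 := by
  ext i j; fin_cases i <;> fin_cases j <;> simp [Umat]

theorem Umat_mul (c d : ZMod p) : Umat c * Umat d = Umat (c + d) := by
  ext i j; fin_cases i <;> fin_cases j <;> simp [Umat, Matrix.mul_apply, Fin.sum_univ_two, add_comm]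

theorem Dmat_conj {a b : ZMod p} (ha : a ≠ 0) (hb : b ≠ 0) (c : ZMod p) :
    Dmat a b * Umat c * Dmat a⁻¹ b⁻¹ = Umat (a * c * b⁻¹) := by
  ext i j; fin_cases i <;> fin_cases j <;>
    simp [Umat, Dmat, Matrix.mul_apply, Fin.sum_univ_two, ha, hb]

theorem Dmat_mul_inv {a b : ZMod p} (ha : a ≠ 0) (hb : b ≠ 0) :
    Dmat a b * Dmat a⁻¹ b⁻¹ = 1 := by
  ext i j; fin_cases i <;> fin_cases j <;>
    simp [Dmat, Matrix.mul_apply, Fin.sum_univ_two, ha, hb]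

theorem torus_word {a : ZMod p} (ha : a ≠ 0) :
    Umat a * Lmat (-a⁻¹) * Umat (a - 1) * Lmat 1 * Umat (-1) = Dmat a a⁻¹ := by
  ext i j; fin_cases i <;> fin_cases j <;>
    simp [Umat, Lmat, Dmat, Matrix.mul_apply, Fin.sum_univ_two] <;> field_simp <;> ring

section fusion

variable [Finite G] (S : Sylow p G) {Z : Subgroup G} {z : G}
  (E : ESz p (S : Subgroup G) Z z)
  (hconj : ∀ x ∈ (S : Subgroup G), ∀ y ∈ (S : Subgroup G), x ≠ 1 → y ≠ 1 →
    ∃ g : G, g * x * g⁻¹ = y)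

include E

theorem frame {x : G} (hx : x ∈ (S : Subgroup G)) : Frame p z x where
  comm := (E.central x hx z E.hz).symm
  h₁ := E.zpow
  h₂ := E.exp x hx

theorem act_U {x y : G} (hx : x ∈ (S : Subgroup G)) (hy : y ∈ (S : Subgroup G)) :
    Act z x y (Umat (bt (p := p) z y x)) := by
  apply (frame S E hx).act_of_gens
  · have : Umat (bt (p := p) z y x) 0 0 = 1 := by simp [Umat]
    rw [this]
    have : Umat (bt (p := p) z y x) 1 0 = 0 := by simp [Umat]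
    rw [this, zp_one, zp_zero, mul_one]
    exact E.conj_central hy E.hz
  · have : Umat (bt (p := p) z y x) 0 1 = bt (p := p) z y x := by simp [Umat]
    rw [this]
    have : Umat (bt (p := p) z y x) 1 1 = 1 := by simp [Umat]
    rw [this, zp_one]
    exact E.conj_eq hy hx

include hconj

theorem exists_fuse {x : G} (hx : x ∈ (S : Subgroup G)) (hxZ : x ∉ Z) :
    ∃ g : G, g * z * g⁻¹ = x ∧ g⁻¹ * z * g ∈ (S : Subgroup G) ∧ g⁻¹ * z * g ∉ Z := by
  have hx1 : x ≠ 1 := by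
    rintro rfl
    exact hxZ Z.one_mem
  obtain ⟨g₀, hg₀⟩ := hconj z E.zP x hx E.hz1 hx1
  have hT : ((g₀ • S : Sylow p G) : Subgroup G) ≤ Subgroup.centralizer {x} := by
    intro t ht
    have ht' : g₀⁻¹ * t * g₀ ∈ S := (mem_smul_sylow S g₀ t).1 ht
    rw [Subgroup.mem_centralizer_singleton_iff]
    have hc := E.central _ ht' z E.hz
    have e1 : t = g₀ * (g₀⁻¹ * t * g₀) * g₀⁻¹ := by group
    rw [e1, ← hg₀]
    calc g₀ * (g₀⁻¹ * t * g₀) * g₀⁻¹ * (g₀ * z * g₀⁻¹)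
        = g₀ * ((g₀⁻¹ * t * g₀) * z) * g₀⁻¹ := by group
      _ = g₀ * (z * (g₀⁻¹ * t * g₀)) * g₀⁻¹ := by rw [hc]
      _ = g₀ * z * g₀⁻¹ * (g₀ * (g₀⁻¹ * t * g₀) * g₀⁻¹) := by group
  have hzC : z ∈ Subgroup.centralizer {x} := by
    rw [Subgroup.mem_centralizer_singleton_iff]
    exact (E.central x hx z E.hz).symm
  obtain ⟨k, hk, hkT⟩ := exists_conj_mem_of_le (Subgroup.centralizer {x}) (g₀ • S) hT z hzC 1
    (by rw [pow_one]; exact E.zpow)
  have hkx : k * x = x * k := Subgroup.mem_centralizer_singleton_iff.1 hk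
  have hu : g₀⁻¹ * (k * z * k⁻¹) * g₀ ∈ S := (mem_smul_sylow S g₀ _).1 hkT
  refine ⟨k⁻¹ * g₀, ?_, ?_, ?_⟩
  · calc k⁻¹ * g₀ * z * (k⁻¹ * g₀)⁻¹ = k⁻¹ * (g₀ * z * g₀⁻¹) * k := by group
      _ = k⁻¹ * x * k := by rw [hg₀]
      _ = k⁻¹ * (x * k) := by group
      _ = x := by rw [← hkx]; group
  · have : (k⁻¹ * g₀)⁻¹ * z * (k⁻¹ * g₀) = g₀⁻¹ * (k * z * k⁻¹) * g₀ := by group
    rw [this]
    exact hu
  · intro hZ
    have e2 : (k⁻¹ * g₀)⁻¹ * z * (k⁻¹ * g₀) = g₀⁻¹ * (k * z * k⁻¹) * g₀ := by group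
    rw [e2] at hZ
    obtain ⟨c, hc⟩ := E.exists_zp hZ
    -- `k z k⁻¹ = x ^ c`
    have e3 : k * z * k⁻¹ = zp x c := by
      have : k * z * k⁻¹ = g₀ * (g₀⁻¹ * (k * z * k⁻¹) * g₀) * g₀⁻¹ := by group
      rw [this, hc, zp_conj, hg₀]
    have e4 : z = zp x c := by
      have : z = k⁻¹ * (k * z * k⁻¹) * k := by group
      rw [this, e3]
      have h5 : k⁻¹ * zp x c * k = k⁻¹ * zp x c * k⁻¹⁻¹ := by rw [inv_inv]
      rw [h5, zp_conj]
      have : k⁻¹ * x * k⁻¹⁻¹ = x := by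
        rw [inv_inv]
        calc k⁻¹ * x * k = k⁻¹ * (x * k) := by group
          _ = x := by rw [← hkx]; group
      rw [this]
    have hc0 : c ≠ 0 := by
      rintro rfl
      rw [zp_zero] at e4
      exact E.hz1 e4
    apply hxZ
    have : x = zp z c⁻¹ := by
      rw [e4, ← zp_mul (E.exp x hx), mul_inv_cancel₀ hc0, zp_one]
    rw [this]
    exact zp_mem E.hz _

theorem exists_L {x : G} (hx : x ∈ (S : Subgroup G)) (hxZ : x ∉ Z) (d : ZMod p) :
    ∃ r : G, Act z x r (Lmat d) := by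
  obtain ⟨g, hg1, hg2, hg3⟩ := exists_fuse S E hconj hx hxZ
  obtain ⟨y, hy, hyu⟩ := E.exists_conj hg2 hg3 d
  have hgx : g⁻¹ * x * g = z := by rw [← hg1]; group
  refine ⟨g * y * g⁻¹, ?_⟩
  apply (frame S E hx).act_of_gens
  · have : Lmat d 0 0 = 1 := by simp [Lmat]
    rw [this]
    have : Lmat d 1 0 = d := by simp [Lmat]
    rw [this, zp_one]
    calc g * y * g⁻¹ * z * (g * y * g⁻¹)⁻¹ = g * (y * (g⁻¹ * z * g) * y⁻¹) * g⁻¹ := by group
      _ = g * (zp z d * (g⁻¹ * z * g)) * g⁻¹ := by rw [hyu]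
      _ = (g * zp z d * g⁻¹) * z := by group
      _ = zp x d * z := by rw [zp_conj, hg1]
      _ = z * zp x d := ((frame S E hx).comm.symm.pow_left _).eq
  · have : Lmat d 0 1 = 0 := by simp [Lmat]
    rw [this]
    have : Lmat d 1 1 = 1 := by simp [Lmat]
    rw [this, zp_one, zp_zero, one_mul]
    calc g * y * g⁻¹ * x * (g * y * g⁻¹)⁻¹ = g * (y * (g⁻¹ * x * g) * y⁻¹) * g⁻¹ := by group
      _ = g * z * g⁻¹ := by rw [hgx, E.conj_central hy E.hz]
      _ = x := hg1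

theorem exists_torus {x : G} (hx : x ∈ (S : Subgroup G)) (hxZ : x ∉ Z) {a : ZMod p}
    (ha : a ≠ 0) : ∃ n : G, Act z x n (Dmat a a⁻¹) := by
  have hU : ∀ c : ZMod p, ∃ y : G, Act z x y (Umat c) := by
    intro c
    obtain ⟨y, hy, hyc⟩ := E.exists_bt_eq hx hxZ c
    exact ⟨y, hyc ▸ act_U S E hx hy⟩
  obtain ⟨y₁, h₁⟩ := hU a
  obtain ⟨r₁, h₂⟩ := exists_L S E hconj hx hxZ (-a⁻¹)
  obtain ⟨y₂, h₃⟩ := hU (a - 1)
  obtain ⟨r₂, h₄⟩ := exists_L S E hconj hx hxZ 1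
  obtain ⟨y₃, h₅⟩ := hU (-1)
  refine ⟨y₁ * r₁ * y₂ * r₂ * y₃, ?_⟩
  rw [← torus_word ha]
  exact (((h₁.mul h₂).mul h₃).mul h₄).mul h₅

omit hconj in
theorem exists_normalizer {x : G} (hx : x ∈ (S : Subgroup G)) (hxZ : x ∉ Z) {a b : ZMod p}
    (ha : a ≠ 0) (hb : b ≠ 0) {n : G} (hn : Act z x n (Dmat a b)) :
    ∃ m ∈ Subgroup.normalizer ((S : Subgroup G) : Set G), Act z x m (Dmat a b) := by
  let K : Subgroup G :=
    { carrier := {k | ∃ c : ZMod p, Act z x k (Umat c)}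
      one_mem' := ⟨0, by rw [Umat_zero]; exact Act.one z x⟩
      mul_mem' := by
        rintro k k' ⟨c, hc⟩ ⟨c', hc'⟩
        exact ⟨c + c', by rw [← Umat_mul]; exact hc.mul hc'⟩
      inv_mem' := by
        rintro k ⟨c, hc⟩
        exact ⟨-c, hc.inv (by rw [Umat_mul, add_neg_cancel, Umat_zero])⟩ }
  have hSK : (S : Subgroup G) ≤ K := fun y hy => ⟨_, act_U S E hx hy⟩
  have hninv : Act z x n⁻¹ (Dmat a⁻¹ b⁻¹) := hn.inv (Dmat_mul_inv ha hb)
  have hQK : ((n • S : Sylow p G) : Subgroup G) ≤ K := by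
    intro q hq
    have hq' : n⁻¹ * q * n ∈ S := (mem_smul_sylow S n q).1 hq
    obtain ⟨c, hc⟩ := hSK hq'
    refine ⟨a * c * b⁻¹, ?_⟩
    have e : q = n * (n⁻¹ * q * n) * n⁻¹ := by group
    rw [e, ← Dmat_conj ha hb]
    exact (hn.mul hc).mul hninv
  obtain ⟨k, hkK, hk⟩ := exists_smul_eq_of_le K (n • S) S hQK hSK
  obtain ⟨c₀, hc₀⟩ := hkK
  obtain ⟨y₀, hy₀, hyc⟩ := E.exists_bt_eq hx hxZ (-c₀)
  have h1 : k * n ∈ Subgroup.normalizer ((S : Subgroup G) : Set G) := by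
    have h3 : (k * n) • S = S := by rw [mul_smul]; exact hk
    exact Sylow.smul_eq_iff_mem_normalizer.1 h3
  refine ⟨y₀ * (k * n), Subgroup.mul_mem _ (Subgroup.le_normalizer hy₀) h1, ?_⟩
  have h2 := (act_U S E hx hy₀).mul (hc₀.mul hn)
  rw [hyc, ← Matrix.mul_assoc, Umat_mul, neg_add_cancel, Umat_zero, Matrix.one_mul] at h2
  exact h2

end fusion

end Cfsg.Agent.Helper11.ES3
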