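import Mathlib
import Cfsg.Agent.Lib.Helper11.ES3D

set_option autoImplicit false
set_option linter.unusedVariables false
set_option linter.unusedSectionVars false

/-! Extraspecial groups of order `p³` and exponent `p`: coordinates on `P / Z` and the
representation of the normalizer. -/

namespace Cfsg.Agent.Helper11.ES3

open Matrix

variable {G : Type*} [Group G] {p : ℕ} [hp : Fact p.Prime]

/-- basis data: `[x, y] = z` -/
structure ESb (p : ℕ) [Fact p.Prime] (P Z : Subgroup G) (z x y : G) : Prop extends ESz p P Z z where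
  hx : x ∈ P
  hy : y ∈ P
  hxy : bt (p := p) z x y = 1

/-- coordinates of an element of `P` modulo `Z` -/
noncomputable def cv (z x y g : G) : Fin 2 → ZMod p := ![bt z g y, bt z x g]

variable {P Z : Subgroup G} {z x y : G}

theorem ESb.cv_mul (B : ESb p P Z z x y) {g h : G} (hg : g ∈ P) (hh : h ∈ P) :
    cv (p := p) z x y (g * h) = cv z x y g + cv z x y h := by
  unfold cv
  rw [B.toESz.bt_mul_left hg hh B.hy, B.toESz.bt_mul_right B.hx hg hh]
  funext i
  fin_cases i <;> simp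

theorem ESb.cv_x (B : ESb p P Z z x y) : cv (p := p) z x y x = ![1, 0] := by
  unfold cv
  rw [B.hxy, B.toESz.bt_self]

theorem ESb.cv_y (B : ESb p P Z z x y) : cv (p := p) z x y y = ![0, 1] := by
  unfold cv
  rw [B.hxy, B.toESz.bt_self]

theorem ESb.cv_central (B : ESb p P Z z x y) {ζ : G} (hζ : ζ ∈ Z) :
    cv (p := p) z x y ζ = 0 := by
  unfold cv
  rw [B.toESz.bt_central_left hζ B.hy, B.toESz.bt_central_right hζ B.hx]
  funext i
  fin_cases i <;> simp

theorem ESb.cv_zp (B : ESb p P Z z x y) {g : G} (hg : g ∈ P) (k : ZMod p) :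
    cv (p := p) z x y (zp g k) = k • cv z x y g := by
  unfold cv
  rw [B.toESz.bt_zp_left hg B.hy, B.toESz.bt_zp_right B.hx hg]
  funext i
  fin_cases i <;> simp

theorem ESb.cv_conj (B : ESb p P Z z x y) {g h : G} (hg : g ∈ P) (hh : h ∈ P) :
    cv (p := p) z x y (h * g * h⁻¹) = cv z x y g := by
  rw [B.toESz.conj_eq hh hg, B.cv_mul (zp_mem B.toESz.zP _) hg,
    B.cv_central (zp_mem B.toESz.hz _), zero_add]

theorem ESb.elt_mem (B : ESb p P Z z x y) (i j k : ZMod p) :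
    zp x i * zp y j * zp z k ∈ P :=
  P.mul_mem (P.mul_mem (zp_mem B.hx _) (zp_mem B.hy _)) (zp_mem B.toESz.zP _)

theorem ESb.cv_elt (B : ESb p P Z z x y) (i j k : ZMod p) :
    cv (p := p) z x y (zp x i * zp y j * zp z k) = ![i, j] := by
  rw [B.cv_mul (P.mul_mem (zp_mem B.hx _) (zp_mem B.hy _)) (zp_mem B.toESz.zP _),
    B.cv_mul (zp_mem B.hx _) (zp_mem B.hy _), B.cv_zp B.hx, B.cv_zp B.hy,
    B.cv_central (zp_mem B.toESz.hz _), B.cv_x, B.cv_y]
  funext a
  fin_cases a <;> simp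

/-- every element of `P` is `x ^ i * y ^ j * z ^ k` -/
theorem ESb.exists_elt (B : ESb p P Z z x y) {g : G} (hg : g ∈ P) :
    ∃ i j k : ZMod p, g = zp x i * zp y j * zp z k := by
  haveI : Finite P := Nat.finite_of_card_ne_zero (by
    rw [B.toESz.cardP]; exact pow_ne_zero _ hp.out.ne_zero)
  let f : ZMod p × ZMod p × ZMod p → P := fun t =>
    ⟨zp x t.1 * zp y t.2.1 * zp z t.2.2, B.elt_mem _ _ _⟩
  have hinj : Function.Injective f := by
    rintro ⟨i, j, k⟩ ⟨i', j', k'⟩ h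
    have h1 : zp x i * zp y j * zp z k = zp x i' * zp y j' * zp z k' :=
      congrArg Subtype.val h
    have h2 := congrArg (cv (p := p) z x y) h1
    rw [B.cv_elt, B.cv_elt] at h2
    have hi : i = i' := by simpa using congrFun h2 0
    have hj : j = j' := by simpa using congrFun h2 1
    subst hi hj
    have hk : k = k' := zp_inj B.toESz.zpow B.toESz.hz1 (mul_left_cancel h1)
    rw [hk]
  have hcard : Nat.card P ≤ Nat.card (ZMod p × ZMod p × ZMod p) := by
    rw [B.toESz.cardP, Nat.card_prod, Nat.card_prod, Nat.card_zmod]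
    apply le_of_eq
    ring
  obtain ⟨⟨i, j, k⟩, ht⟩ := (hinj.bijective_of_nat_card_le hcard).2 ⟨g, hg⟩
  exact ⟨i, j, k, (congrArg Subtype.val ht).symm⟩

theorem ESb.mem_Z_of_cv (B : ESb p P Z z x y) {g : G} (hg : g ∈ P)
    (h0 : cv (p := p) z x y g = 0) : g ∈ Z := by
  obtain ⟨i, j, k, rfl⟩ := B.exists_elt hg
  rw [B.cv_elt] at h0
  have hi : i = 0 := by simpa using congrFun h0 0
  have hj : j = 0 := by simpa using congrFun h0 1
  rw [hi, hj, zp_zero, zp_zero, one_mul, one_mul]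
  exact zp_mem B.toESz.hz _

/-- the commutator pairing is the determinant of the coordinates -/
theorem ESb.bt_formula (B : ESb p P Z z x y) {g h : G} (hg : g ∈ P) (hh : h ∈ P) :
    bt (p := p) z g h = bt z g y * bt z x h - bt z x g * bt z h y := by
  have E := B.toESz
  obtain ⟨i, j, k, rfl⟩ := B.exists_elt hg
  have hc := B.cv_elt i j k
  have h1 : bt (p := p) z (zp x i * zp y j * zp z k) y = i := by
    simpa [cv] using congrFun hc 0
  have h2 : bt (p := p) z x (zp x i * zp y j * zp z k) = j := by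
    simpa [cv] using congrFun hc 1
  rw [h1, h2, E.bt_mul_left (P.mul_mem (zp_mem B.hx _) (zp_mem B.hy _)) (zp_mem E.zP _) hh,
    E.bt_mul_left (zp_mem B.hx _) (zp_mem B.hy _) hh, E.bt_zp_left B.hx hh, E.bt_zp_left B.hy hh,
    E.bt_central_left (zp_mem E.hz _) hh, E.bt_swap B.hy hh]
  ring

section normalizer

variable {n : G}

theorem conj_mem_of_normalizer (hn : n ∈ Subgroup.normalizer (P : Set G)) {g : G} (hg : g ∈ P) :
    n * g * n⁻¹ ∈ P :=
  (Subgroup.mem_normalizer_iff.1 hn g).1 hg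

theorem ESz.conj_mem_Z (E : ESz p P Z z) (hn : n ∈ Subgroup.normalizer (P : Set G)) {ζ : G}
    (hζ : ζ ∈ Z) : n * ζ * n⁻¹ ∈ Z := by
  apply E.center _ (conj_mem_of_normalizer hn (E.ZleP hζ))
  intro h hh
  have hh' : n⁻¹ * h * n ∈ P := by
    apply (Subgroup.mem_normalizer_iff.1 hn _).2
    have : n * (n⁻¹ * h * n) * n⁻¹ = h := by group
    rw [this]; exact hh
  have hc := E.central _ hh' ζ hζ
  calc n * ζ * n⁻¹ * h = n * (ζ * (n⁻¹ * h * n)) * n⁻¹ := by group
    _ = n * ((n⁻¹ * h * n) * ζ) * n⁻¹ := by rw [hc]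
    _ = h * (n * ζ * n⁻¹) := by group

/-- the matrix of `n` acting on `P / Z` -/
noncomputable def Mn (z x y n : G) : Matrix (Fin 2) (Fin 2) (ZMod p) :=
  !![bt z (n * x * n⁻¹) y, bt z (n * y * n⁻¹) y; bt z x (n * x * n⁻¹), bt z x (n * y * n⁻¹)]

theorem ESb.rep (B : ESb p P Z z x y) (hn : n ∈ Subgroup.normalizer (P : Set G)) {g : G}
    (hg : g ∈ P) : cv (p := p) z x y (n * g * n⁻¹) = Mn z x y n *ᵥ cv z x y g := by
  have E := B.toESz
  obtain ⟨i, j, k, rfl⟩ := B.exists_elt hg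
  have hx' := conj_mem_of_normalizer hn B.hx
  have hy' := conj_mem_of_normalizer hn B.hy
  have hz' := E.conj_mem_Z hn E.hz
  have e : n * (zp x i * zp y j * zp z k) * n⁻¹ =
      zp (n * x * n⁻¹) i * zp (n * y * n⁻¹) j * zp (n * z * n⁻¹) k := by
    rw [← zp_conj, ← zp_conj, ← zp_conj]; group
  rw [e, B.cv_elt, B.cv_mul (P.mul_mem (zp_mem hx' _) (zp_mem hy' _)) (zp_mem (E.ZleP hz') _),
    B.cv_mul (zp_mem hx' _) (zp_mem hy' _), B.cv_zp hx', B.cv_zp hy',
    B.cv_central (zp_mem hz' _)]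
  funext a
  fin_cases a <;>
    simp [cv, Mn, Matrix.mulVec, dotProduct, Fin.sum_univ_two] <;> ring

theorem ESb.det_rep (B : ESb p P Z z x y) (hn : n ∈ Subgroup.normalizer (P : Set G)) :
    n * z * n⁻¹ = zp z (Mn (p := p) z x y n).det := by
  have E := B.toESz
  have hx' := conj_mem_of_normalizer hn B.hx
  have hy' := conj_mem_of_normalizer hn B.hy
  have hz : z = x * y * x⁻¹ * y⁻¹ := by
    rw [E.bt_spec B.hx B.hy, B.hxy, zp_one]
  have e : n * z * n⁻¹ = (n * x * n⁻¹) * (n * y * n⁻¹) * (n * x * n⁻¹)⁻¹ * (n * y * n⁻¹)⁻¹ := by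
    conv_lhs => rw [hz]
    group
  rw [e, E.bt_spec hx' hy', B.bt_formula hx' hy', Matrix.det_fin_two]
  congr 1
  simp [Mn]
  ring

end normalizer

/-- the image of the normalizer in `GL₂(p)` -/
noncomputable def Wsub (P : Subgroup G) (z x y : G) : Subgroup (GL (Fin 2) (ZMod p)) where
  carrier := {M | ∃ n ∈ Subgroup.normalizer (P : Set G), ∀ g ∈ P,
    cv (p := p) z x y (n * g * n⁻¹) = (M : Matrix (Fin 2) (Fin 2) (ZMod p)) *ᵥ cv z x y g}
  one_mem' := ⟨1, Subgroup.one_mem _, by intro g hg; simp⟩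
  mul_mem' := by
    rintro M M' ⟨n, hn, h⟩ ⟨n', hn', h'⟩
    refine ⟨n * n', Subgroup.mul_mem _ hn hn', ?_⟩
    intro g hg
    have e : n * n' * g * (n * n')⁻¹ = n * (n' * g * n'⁻¹) * n⁻¹ := by group
    rw [e, h _ (conj_mem_of_normalizer hn' hg), h' g hg, Matrix.mulVec_mulVec]
    rfl
  inv_mem' := by
    rintro M ⟨n, hn, h⟩
    refine ⟨n⁻¹, Subgroup.inv_mem _ hn, ?_⟩
    intro g hg
    have hg' : n⁻¹ * g * n⁻¹⁻¹ ∈ P := conj_mem_of_normalizer (Subgroup.inv_mem _ hn) hg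
    have h1 := h _ hg'
    have e : n * (n⁻¹ * g * n⁻¹⁻¹) * n⁻¹ = g := by group
    rw [e] at h1
    rw [h1, Matrix.mulVec_mulVec]
    have : ((M⁻¹ : GL (Fin 2) (ZMod p)) : Matrix (Fin 2) (Fin 2) (ZMod p)) *
        (M : Matrix (Fin 2) (Fin 2) (ZMod p)) = 1 := by
      rw [← Matrix.GeneralLinearGroup.coe_mul, inv_mul_cancel]; rfl
    rw [this, Matrix.one_mulVec]

theorem mem_Wsub {P : Subgroup G} {z x y : G} {M : GL (Fin 2) (ZMod p)} :
    M ∈ Wsub (p := p) P z x y ↔ ∃ n ∈ Subgroup.normalizer (P : Set G), ∀ g ∈ P,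
      cv (p := p) z x y (n * g * n⁻¹) = (M : Matrix (Fin 2) (Fin 2) (ZMod p)) *ᵥ cv z x y g :=
  Iff.rfl

end Cfsg.Agent.Helper11.ES3
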