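import Mathlib
import Cfsg.Agent.Lib.Helper11.ES3B
import Cfsg.Agent.Lib.Helper11.ES3E
import Cfsg.Agent.Lib.Helper11.ES3F

set_option autoImplicit false
set_option linter.unusedVariables false
set_option linter.unusedSectionVars false

/-! Extraspecial Sylow subgroups of order `p³` and exponent `p` with one class of elements of
order `p`: the bound `p ≤ 7`. -/

namespace Cfsg.Agent.Helper11.ES3

open Matrix

variable {G : Type*} [Group G] {p : ℕ} [hp : Fact p.Prime]

theorem pow_mem_sylow [Finite G] (S : Sylow p G) {n : G}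
    (hn : n ∈ Subgroup.normalizer ((S : Subgroup G) : Set G)) :
    ∃ t : ℕ, ¬ p ∣ t ∧ n ^ t ∈ (S : Subgroup G) := by
  set N := Subgroup.normalizer ((S : Subgroup G) : Set G) with hN
  set H := (S : Subgroup G).subgroupOf N with hH
  haveI : H.Normal := Subgroup.normal_in_normalizer
  refine ⟨H.index, ?_, ?_⟩
  · intro hd
    have h1 : (S : Subgroup G).relIndex N * N.index = (S : Subgroup G).index :=
      Subgroup.relIndex_mul_index Subgroup.le_normalizer
    have h2 : H.index ∣ (S : Subgroup G).index := Dvd.intro _ h1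
    exact S.not_dvd_index (hd.trans h2)
  · have := Subgroup.pow_index_mem H (⟨n, hn⟩ : N)
    rw [hH, Subgroup.mem_subgroupOf] at this
    simpa using this

section

variable [Finite G] (S : Sylow p G) {Z : Subgroup G} {z x y : G}
  (B : ESb p (S : Subgroup G) Z z x y)

include B

theorem not_dvd_card_Wsub : ¬ p ∣ Nat.card (Wsub (p := p) (S : Subgroup G) z x y) := by
  intro hd
  obtain ⟨⟨M, hMW⟩, hM⟩ := exists_prime_orderOf_dvd_card' p hd
  obtain ⟨n, hn, h⟩ := hMW
  obtain ⟨t, hpt, hnt⟩ := pow_mem_sylow S hn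
  have hpow : ∀ j : ℕ, ∀ g ∈ (S : Subgroup G), cv (p := p) z x y (n ^ j * g * (n ^ j)⁻¹) =
      ((M : Matrix (Fin 2) (Fin 2) (ZMod p)) ^ j) *ᵥ cv z x y g := by
    intro j
    induction j with
    | zero => intro g hg; simp
    | succ j ih =>
      intro g hg
      have e : n ^ (j + 1) * g * (n ^ (j + 1))⁻¹ = n ^ j * (n * g * n⁻¹) * (n ^ j)⁻¹ := by
        rw [pow_succ]; group
      rw [e, ih _ (conj_mem_of_normalizer hn hg), h g hg, Matrix.mulVec_mulVec, ← pow_succ]
  have hMt : (M : Matrix (Fin 2) (Fin 2) (ZMod p)) ^ t = 1 := by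
    have h1 := hpow t x B.hx
    rw [B.cv_conj B.hx hnt, B.cv_x] at h1
    have h2 := hpow t y B.hy
    rw [B.cv_conj B.hy hnt, B.cv_y] at h2
    ext i j
    fin_cases i <;> fin_cases j
    · have := congrFun h1 0
      simpa [Matrix.mulVec, dotProduct, Fin.sum_univ_two] using this.symm
    · have := congrFun h2 0
      simpa [Matrix.mulVec, dotProduct, Fin.sum_univ_two] using this.symm
    · have := congrFun h1 1
      simpa [Matrix.mulVec, dotProduct, Fin.sum_univ_two] using this.symm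
    · have := congrFun h2 1
      simpa [Matrix.mulVec, dotProduct, Fin.sum_univ_two] using this.symm
  have hMt' : (⟨M, ⟨n, hn, h⟩⟩ : Wsub (p := p) (S : Subgroup G) z x y) ^ t = 1 := by
    apply Subtype.ext
    apply Units.ext
    simpa using hMt
  have := orderOf_dvd_of_pow_eq_one hMt'
  rw [hM] at this
  exact hpt this

end

/-- **the bound** -/
theorem prime_le_seven [Finite G] (S : Sylow p G) {Z : Subgroup G} {z : G}
    (E : ESz p (S : Subgroup G) Z z)
    (hconj : ∀ x ∈ (S : Subgroup G), ∀ y ∈ (S : Subgroup G), x ≠ 1 → y ≠ 1 →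
      ∃ g : G, g * x * g⁻¹ = y) : p ≤ 7 := by
  by_contra hlt
  push Not at hlt
  have hp11 : 11 ≤ p := by
    by_contra h11
    push Not at h11
    have hpr := hp.out
    interval_cases p <;> norm_num at hpr
  obtain ⟨x, hx, hxZ⟩ := E.exists_not_mem
  obtain ⟨y, hy, hyx⟩ := E.exists_bt_eq hx hxZ (-1)
  have B : ESb p (S : Subgroup G) Z z x y :=
    { E with
      hx := hx
      hy := hy
      hxy := by rw [E.bt_swap hy hx, hyx, neg_neg] }
  apply no_config p hp11 (Wsub (p := p) (S : Subgroup G) z x y) (not_dvd_card_Wsub S B)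
  intro v hv a
  -- an element with coordinates `v`
  have hg₀ : zp x (v 0) * zp y (v 1) * zp z (0 : ZMod p) ∈ (S : Subgroup G) := B.elt_mem _ _ _
  have hcv : cv (p := p) z x y (zp x (v 0) * zp y (v 1) * zp z (0 : ZMod p)) = v := by
    rw [B.cv_elt]
    funext i
    fin_cases i <;> simp
  set g₀ := zp x (v 0) * zp y (v 1) * zp z (0 : ZMod p) with hg₀def
  have hg₀Z : g₀ ∉ Z := by
    intro hZ
    apply hv
    rw [← hcv, B.cv_central hZ]
  have ha0 : (a : ZMod p) ≠ 0 := a.ne_zero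
  obtain ⟨n, hn⟩ := exists_torus S E hconj hg₀ hg₀Z ha0
  obtain ⟨m, hmN, hm⟩ := exists_normalizer S E hg₀ hg₀Z ha0 (inv_ne_zero ha0) hn
  have e00 : Dmat (a : ZMod p) (a : ZMod p)⁻¹ 0 0 = (a : ZMod p) := rfl
  have e10 : Dmat (a : ZMod p) (a : ZMod p)⁻¹ 1 0 = 0 := rfl
  have e01 : Dmat (a : ZMod p) (a : ZMod p)⁻¹ 0 1 = 0 := rfl
  have e11 : Dmat (a : ZMod p) (a : ZMod p)⁻¹ 1 1 = (a : ZMod p)⁻¹ := rfl
  have h1 : m * z * m⁻¹ = zp z (a : ZMod p) := by
    rw [hm.apply₁, e00, e10, zp_zero, mul_one]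
  have h2 : m * g₀ * m⁻¹ = zp g₀ ((a : ZMod p)⁻¹) := by
    rw [hm.apply₂, e01, e11, zp_zero, one_mul]
  have hdet : (Mn (p := p) z x y m).det = (a : ZMod p) := by
    have := B.det_rep hmN
    rw [h1] at this
    exact (zp_inj E.zpow E.hz1 this).symm
  have hdet0 : (Mn (p := p) z x y m).det ≠ 0 := by rw [hdet]; exact ha0
  refine ⟨Matrix.GeneralLinearGroup.mkOfDetNeZero (Mn (p := p) z x y m) hdet0,
    ⟨m, hmN, fun g hg => B.rep hmN hg⟩, ?_, hdet⟩
  change Mn (p := p) z x y m *ᵥ v = _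
  rw [← hcv, ← B.rep hmN hg₀, h2, B.cv_zp hg₀, Units.val_inv_eq_inv_val]

end Cfsg.Agent.Helper11.ES3
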