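import Mathlib
import Cfsg.Agent.Lib.Helper11.ES3B

set_option autoImplicit false
set_option linter.unusedVariables false
set_option linter.unusedSectionVars false
set_option linter.style.haveILetI false

/-! Three lines: a subgroup of `GL₂(p)` of order prime to `p` cannot contain, for three distinct
lines and every unit `a`, an element of determinant `a` with eigenvalue `a⁻¹` on the line, when
`p ≥ 17`. -/

namespace Cfsg.Agent.Helper11.ES3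

open Matrix
open Cfsg.Agent.Helper28.SubfieldPSL2

section field

variable {K : Type*} [Field K]

theorem three_eigen' (M : Matrix (Fin 2) (Fin 2) K) (v₁ v₂ v₃ : Fin 2 → K)
    (h12 : v₁ 0 * v₂ 1 - v₂ 0 * v₁ 1 ≠ 0) (h13 : v₁ 0 * v₃ 1 - v₃ 0 * v₁ 1 ≠ 0)
    (h23 : v₂ 0 * v₃ 1 - v₃ 0 * v₂ 1 ≠ 0)
    (e₁ : ∃ c : K, M *ᵥ v₁ = c • v₁) (e₂ : ∃ c : K, M *ᵥ v₂ = c • v₂)
    (e₃ : ∃ c : K, M *ᵥ v₃ = c • v₃) :
    M 0 1 = 0 ∧ M 1 0 = 0 ∧ M 0 0 = M 1 1 := by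
  have quad : ∀ v : Fin 2 → K, (∃ c : K, M *ᵥ v = c • v) →
      M 1 0 * v 0 * v 0 + (M 1 1 - M 0 0) * v 0 * v 1 + (-(M 0 1)) * v 1 * v 1 = 0 := by
    rintro v ⟨c, hc⟩
    have e0 := congrFun hc 0
    have e1 := congrFun hc 1
    simp only [Matrix.mulVec, dotProduct, Fin.sum_univ_two, Pi.smul_apply, smul_eq_mul] at e0 e1
    linear_combination v 0 * e1 - v 1 * e0
  have q₁ := quad v₁ e₁
  have q₂ := quad v₂ e₂
  have q₃ := quad v₃ e₃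
  have hΔ : (v₁ 0 * v₂ 1 - v₂ 0 * v₁ 1) * (v₁ 0 * v₃ 1 - v₃ 0 * v₁ 1) *
      (v₂ 0 * v₃ 1 - v₃ 0 * v₂ 1) ≠ 0 := mul_ne_zero (mul_ne_zero h12 h13) h23
  have hA : M 1 0 = 0 := by
    have : M 1 0 * ((v₁ 0 * v₂ 1 - v₂ 0 * v₁ 1) * (v₁ 0 * v₃ 1 - v₃ 0 * v₁ 1) *
        (v₂ 0 * v₃ 1 - v₃ 0 * v₂ 1)) = 0 := by
      linear_combination (v₂ 1 * v₃ 1 * (v₂ 0 * v₃ 1 - v₃ 0 * v₂ 1)) * q₁ -
        (v₁ 1 * v₃ 1 * (v₁ 0 * v₃ 1 - v₃ 0 * v₁ 1)) * q₂ +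
        (v₁ 1 * v₂ 1 * (v₁ 0 * v₂ 1 - v₂ 0 * v₁ 1)) * q₃
    exact (mul_eq_zero.1 this).resolve_right hΔ
  have hB : M 1 1 - M 0 0 = 0 := by
    have : (M 1 1 - M 0 0) * ((v₁ 0 * v₂ 1 - v₂ 0 * v₁ 1) * (v₁ 0 * v₃ 1 - v₃ 0 * v₁ 1) *
        (v₂ 0 * v₃ 1 - v₃ 0 * v₂ 1)) = 0 := by
      linear_combination
        (-((v₂ 0 * v₃ 1 - v₃ 0 * v₂ 1) * (v₂ 0 * v₃ 1 + v₃ 0 * v₂ 1))) * q₁ +
        ((v₁ 0 * v₃ 1 - v₃ 0 * v₁ 1) * (v₁ 0 * v₃ 1 + v₃ 0 * v₁ 1)) * q₂ -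
        ((v₁ 0 * v₂ 1 - v₂ 0 * v₁ 1) * (v₁ 0 * v₂ 1 + v₂ 0 * v₁ 1)) * q₃
    exact (mul_eq_zero.1 this).resolve_right hΔ
  have hC : -(M 0 1) = 0 := by
    have : (-(M 0 1)) * ((v₁ 0 * v₂ 1 - v₂ 0 * v₁ 1) * (v₁ 0 * v₃ 1 - v₃ 0 * v₁ 1) *
        (v₂ 0 * v₃ 1 - v₃ 0 * v₂ 1)) = 0 := by
      linear_combination (v₂ 0 * v₃ 0 * (v₂ 0 * v₃ 1 - v₃ 0 * v₂ 1)) * q₁ -
        (v₁ 0 * v₃ 0 * (v₁ 0 * v₃ 1 - v₃ 0 * v₁ 1)) * q₂ +
        (v₁ 0 * v₂ 0 * (v₁ 0 * v₂ 1 - v₂ 0 * v₁ 1)) * q₃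
    exact (mul_eq_zero.1 this).resolve_right hΔ
  refine ⟨neg_eq_zero.1 hC, hA, ?_⟩
  linear_combination -hB

theorem Good.false_of_three' {a : Kˣ} {v₁ v₂ v₃ : Fin 2 → K} {M : GL (Fin 2) K}
    (hG : Good a v₁ M)
    (h12 : v₁ 0 * v₂ 1 - v₂ 0 * v₁ 1 ≠ 0) (h13 : v₁ 0 * v₃ 1 - v₃ 0 * v₁ 1 ≠ 0)
    (h23 : v₂ 0 * v₃ 1 - v₃ 0 * v₂ 1 ≠ 0)
    (e₂ : ∃ c : K, (M : Matrix (Fin 2) (Fin 2) K) *ᵥ v₂ = c • v₂)
    (e₃ : ∃ c : K, (M : Matrix (Fin 2) (Fin 2) K) *ᵥ v₃ = c • v₃)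
    (ha3 : a ^ 3 ≠ 1) : False := by
  obtain ⟨h01, h10, h00⟩ := three_eigen' _ v₁ v₂ v₃ h12 h13 h23 ⟨_, hG.1⟩ e₂ e₃
  have hv : v₁ ≠ 0 := by
    rintro rfl
    apply h12
    simp
  obtain ⟨i, hi⟩ := exists_ne_zero_of_ne_zero hv
  have e := congrFun hG.1 i
  have hs : (M : Matrix (Fin 2) (Fin 2) K) 0 0 = ((a⁻¹ : Kˣ) : K) := by
    fin_cases i
    · simp only [Matrix.mulVec, dotProduct, Fin.sum_univ_two, Pi.smul_apply, smul_eq_mul,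
        Fin.zero_eta] at e hi
      rw [h01, zero_mul, add_zero] at e
      exact mul_right_cancel₀ hi e
    · simp only [Matrix.mulVec, dotProduct, Fin.sum_univ_two, Pi.smul_apply, smul_eq_mul,
        Fin.mk_one] at e hi
      rw [h10, zero_mul, zero_add, ← h00] at e
      exact mul_right_cancel₀ hi e
  have hdet := hG.2
  rw [Matrix.det_fin_two, h01, h10, ← h00, hs, mul_zero, sub_zero] at hdet
  apply ha3
  apply Units.ext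
  push_cast
  have hinv : ((a⁻¹ : Kˣ) : K) = (a : K)⁻¹ := by simp
  rw [hinv] at hdet
  have ha : (a : K) ≠ 0 := a.ne_zero
  field_simp at hdet
  linear_combination -hdet

end field

theorem no_config3 (p : ℕ) [hp : Fact p.Prime] (hp17 : 17 ≤ p)
    (W : Subgroup (GL (Fin 2) (ZMod p))) (hW : ¬ p ∣ Nat.card W)
    (v₁ v₂ v₃ : Fin 2 → ZMod p)
    (h12 : v₁ 0 * v₂ 1 - v₂ 0 * v₁ 1 ≠ 0) (h13 : v₁ 0 * v₃ 1 - v₃ 0 * v₁ 1 ≠ 0)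
    (h23 : v₂ 0 * v₃ 1 - v₃ 0 * v₂ 1 ≠ 0)
    (h₁ : ∀ a : (ZMod p)ˣ, ∃ M ∈ W, Good a v₁ M) (h₂ : ∀ a : (ZMod p)ˣ, ∃ M ∈ W, Good a v₂ M)
    (h₃ : ∀ a : (ZMod p)ˣ, ∃ M ∈ W, Good a v₃ M) : False := by
  classical
  obtain ⟨a, ha⟩ := exists_generator p
  have hodd : Odd p := hp.out.odd_of_ne_two (by omega)
  obtain ⟨E, _, _, j, hE⟩ := Cfsg.Agent.Helper12.PGLMax.exists_quadratic_ext (F := ZMod p) p
  have hoddE : Odd (Fintype.card E) := by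
    rw [hE, ZMod.card]
    exact hodd.pow
  have hsq : ∀ x : ZMod p, x ≠ 0 → IsSquare (j x) := isSquare_of_even j hoddE even_two hE.symm
  haveI : CharP E p := charP_of_injective_ringHom j.injective p
  set φ := glToPSL j hsq with hφ
  have hker : φ.ker = Subgroup.center (GL (Fin 2) (ZMod p)) := ker_glToPSL j hsq
  set H := W.map φ with hHdef
  have hH : ¬ p ∣ Nat.card H := fun hd => hW (hd.trans (Subgroup.card_map_dvd W φ))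
  have hv₁ : v₁ ≠ 0 := by rintro rfl; apply h12; simp
  have hv₂ : v₂ ≠ 0 := by rintro rfl; apply h12; simp
  have hv₃ : v₃ ≠ 0 := by rintro rfl; apply h13; simp
  obtain ⟨M₁, hM₁W, hG₁⟩ := h₁ a
  obtain ⟨M₂, hM₂W, hG₂⟩ := h₂ a
  obtain ⟨M₃, hM₃W, hG₃⟩ := h₃ a
  have hapow : ∀ n : ℕ, a ^ n = 1 → (p - 1) ∣ n := by
    intro n hn
    rw [← ha]
    exact orderOf_dvd_of_pow_eq_one hn
  have hord : ∀ (k : ℕ), φ M₁ ^ k = 1 → (p - 1) ∣ 3 * k := by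
    intro k hk
    apply hapow
    apply hG₁.pow_central hv₁ k
    rw [← hker, MonoidHom.mem_ker, map_pow]
    exact hk
  have hord₂ : ∀ (k : ℕ), φ M₂ ^ k = 1 → (p - 1) ∣ 3 * k := by
    intro k hk
    apply hapow
    apply hG₂.pow_central hv₂ k
    rw [← hker, MonoidHom.mem_ker, map_pow]
    exact hk
  have hord₃ : ∀ (k : ℕ), φ M₃ ^ k = 1 → (p - 1) ∣ 3 * k := by
    intro k hk
    apply hapow
    apply hG₃.pow_central hv₃ k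
    rw [← hker, MonoidHom.mem_ker, map_pow]
    exact hk
  have ha6 : a ^ 6 ≠ 1 := by
    intro h6
    have := Nat.le_of_dvd (by norm_num) (hapow 6 h6)
    omega
  have ha3 : a ^ 3 ≠ 1 := by
    intro h3
    have := Nat.le_of_dvd (by norm_num) (hapow 3 h3)
    omega
  have hcomm : ∀ {v v' : Fin 2 → ZMod p} {M M' : GL (Fin 2) (ZMod p)}, Good a v' M' → v' ≠ 0 →
      φ M * φ M' = φ M' * φ M →
      ∃ c : ZMod p, (M : Matrix (Fin 2) (Fin 2) (ZMod p)) *ᵥ v' = c • v' := by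
    intro v v' M M' hG' hv' hc
    apply eigen_of_central_comm hG' hv' M _ ha6
    rw [← hker, MonoidHom.mem_ker, map_mul, map_mul, map_mul, map_inv, map_inv, ← hc]
    group
  have hm₁ : φ M₁ ∈ H := Subgroup.mem_map_of_mem φ hM₁W
  have hm₂ : φ M₂ ∈ H := Subgroup.mem_map_of_mem φ hM₂W
  have hm₃ : φ M₃ ∈ H := Subgroup.mem_map_of_mem φ hM₃W
  have hallcomm : φ M₁ * φ M₂ = φ M₂ * φ M₁ → φ M₁ * φ M₃ = φ M₃ * φ M₁ → False := by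
    intro c12 c13
    exact hG₁.false_of_three' h12 h13 h23 (hcomm (v := v₁) hG₂ hv₂ c12)
      (hcomm (v := v₁) hG₃ hv₃ c13) ha3
  have small : ∀ k : ℕ, k ≤ 5 → 0 < k → φ M₁ ^ k = 1 → False := by
    intro k hk5 hk0 hk
    have := Nat.le_of_dvd (by omega) (hord k hk)
    omega
  have hsq2 : ∀ (M : GL (Fin 2) (ZMod p)), (∀ (k : ℕ), φ M ^ k = 1 → (p - 1) ∣ 3 * k) →
      φ M ^ 2 ≠ 1 := by
    intro M hM h2
    have := Nat.le_of_dvd (by norm_num) (hM 2 h2)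
    omega
  rcases Cfsg.Agent.Helper11.Klein.klein_psl2 p (q := Fintype.card E) rfl H hH with
    ⟨k, -, ⟨hcyc, -⟩ | ⟨⟨e⟩⟩⟩ | ⟨⟨e⟩⟩ | ⟨⟨e⟩⟩ | ⟨⟨e⟩⟩
  · -- cyclic
    haveI := hcyc
    have hc := isMulCommutative_iff.1 (IsCyclic.commutative (α := H))
    exact hallcomm (congrArg Subtype.val (hc ⟨_, hm₁⟩ ⟨_, hm₂⟩))
      (congrArg Subtype.val (hc ⟨_, hm₁⟩ ⟨_, hm₃⟩))
  · -- dihedral
    have hx : ∀ (M : GL (Fin 2) (ZMod p)) (hm : φ M ∈ H),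
        (∀ (k : ℕ), φ M ^ k = 1 → (p - 1) ∣ 3 * k) → e ⟨_, hm⟩ ^ 2 ≠ 1 := by
      intro M hm hM h2
      exact hsq2 M hM (Cfsg.Agent.Helper12.MaxSub.pow_eq_one_of_equiv H e _ hm 2 h2)
    have c12 := dihedral_comm k _ _ (hx M₁ hm₁ hord) (hx M₂ hm₂ hord₂)
    have c13 := dihedral_comm k _ _ (hx M₁ hm₁ hord) (hx M₃ hm₃ hord₃)
    rw [← map_mul, ← map_mul] at c12 c13
    exact hallcomm (congrArg Subtype.val (e.injective c12))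
      (congrArg Subtype.val (e.injective c13))
  · -- A4
    rcases Cfsg.Agent.Helper12.MaxSub.ordCond_A4 (e ⟨_, hm₁⟩) with h2 | h2
    · exact small 2 (by norm_num) (by norm_num)
        (Cfsg.Agent.Helper12.MaxSub.pow_eq_one_of_equiv H e _ hm₁ 2 h2)
    · exact small 3 (by norm_num) (by norm_num)
        (Cfsg.Agent.Helper12.MaxSub.pow_eq_one_of_equiv H e _ hm₁ 3 h2)
  · -- S4
    rcases (Cfsg.Agent.Helper12.MaxSub.ordCond_S4 (e ⟨_, hm₁⟩)).2 with h2 | h2 | h2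
    · exact small 2 (by norm_num) (by norm_num)
        (Cfsg.Agent.Helper12.MaxSub.pow_eq_one_of_equiv H e _ hm₁ 2 h2)
    · exact small 3 (by norm_num) (by norm_num)
        (Cfsg.Agent.Helper12.MaxSub.pow_eq_one_of_equiv H e _ hm₁ 3 h2)
    · exact small 4 (by norm_num) (by norm_num)
        (Cfsg.Agent.Helper12.MaxSub.pow_eq_one_of_equiv H e _ hm₁ 4 h2)
  · -- A5
    rcases Cfsg.Agent.Helper12.MaxSub.ordCond_A5 (e ⟨_, hm₁⟩) with h2 | h2 | h2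
    · exact small 2 (by norm_num) (by norm_num)
        (Cfsg.Agent.Helper12.MaxSub.pow_eq_one_of_equiv H e _ hm₁ 2 h2)
    · exact small 3 (by norm_num) (by norm_num)
        (Cfsg.Agent.Helper12.MaxSub.pow_eq_one_of_equiv H e _ hm₁ 3 h2)
    · exact small 5 (by norm_num) (by norm_num)
        (Cfsg.Agent.Helper12.MaxSub.pow_eq_one_of_equiv H e _ hm₁ 5 h2)

end Cfsg.Agent.Helper11.ES3
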