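import Mathlib
import Cfsg.Agent.Lib.Helper11.ES3E
import Cfsg.Agent.Lib.Helper11.ES3F

set_option autoImplicit false
set_option linter.unusedVariables false
set_option linter.unusedSectionVars false

/-! Subgroups of order `p²` of an extraspecial group of order `p³` and exponent `p`, and
automorphisms of them induced by conjugation. -/

namespace Cfsg.Agent.Helper11.ES3

open Matrix

variable {G : Type*} [Group G] {p : ℕ} [hp : Fact p.Prime]

theorem Lmat_mul (c d : ZMod p) : Lmat c * Lmat d = Lmat (c + d) := by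
  ext i j; fin_cases i <;> fin_cases j <;> simp [Lmat, Matrix.mul_apply, Fin.sum_univ_two]

theorem Lmat_zero : Lmat (0 : ZMod p) = 1 := by
  ext i j; fin_cases i <;> fin_cases j <;> simp [Lmat]

/-- the automorphism of `(ZMod p)²` given by a lower unitriangular matrix -/
def Laut (d : ZMod p) : MulAut (Multiplicative (Fin 2 → ZMod p)) where
  toFun v := Multiplicative.ofAdd (Lmat d *ᵥ Multiplicative.toAdd v)
  invFun v := Multiplicative.ofAdd (Lmat (-d) *ᵥ Multiplicative.toAdd v)
  left_inv v := by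
    simp only [toAdd_ofAdd, Matrix.mulVec_mulVec, Lmat_mul, neg_add_cancel, Lmat_zero,
      Matrix.one_mulVec, ofAdd_toAdd]
  right_inv v := by
    simp only [toAdd_ofAdd, Matrix.mulVec_mulVec, Lmat_mul, add_neg_cancel, Lmat_zero,
      Matrix.one_mulVec, ofAdd_toAdd]
  map_mul' v w := by
    simp only [toAdd_mul, Matrix.mulVec_add, ofAdd_add]

theorem Laut_apply (d : ZMod p) (v : Fin 2 → ZMod p) :
    Laut d (Multiplicative.ofAdd v) = Multiplicative.ofAdd (Lmat d *ᵥ v) := rfl

section

variable {P Z : Subgroup G} {z x y : G}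

/-- elements of `P` commuting with `x` lie in `⟨z, x⟩` -/
theorem ESb.mem_range_fr (B : ESb p P Z z x y) {g : G} (hg : g ∈ P) (hc : x * g = g * x) :
    g ∈ Set.range (fr (p := p) z x) := by
  have E := B.toESz
  obtain ⟨i, j, k, rfl⟩ := B.exists_elt hg
  have h0 : bt (p := p) z x (zp x i * zp y j * zp z k) = 0 := E.bt_of_commute hc
  have hcv := B.cv_elt i j k
  have hj : j = 0 := by
    have := congrFun hcv 1
    simp only [cv, Matrix.cons_val_one, Matrix.cons_val_zero] at this
    rw [← this]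
    exact h0
  refine ⟨![k, i], ?_⟩
  unfold fr
  simp only [Matrix.cons_val_zero, Matrix.cons_val_one]
  rw [hj, zp_zero, mul_one]
  exact ((zp_commute (E.central x B.hx z E.hz) i k).eq).symm

end

/-- a subgroup of order `p²` containing the non-central `x` is `⟨z, x⟩` -/
theorem coe_eq_range_fr [Finite G] (S : Sylow p G) {Z : Subgroup G} {z : G}
    (E : ESz p (S : Subgroup G) Z z) (A : Subgroup G) (hAP : A ≤ (S : Subgroup G))
    (hAcard : Nat.card A = p ^ 2) {x : G} (hxA : x ∈ A) (hxZ : x ∉ Z) :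
    (A : Set G) = Set.range (fr (p := p) z x) := by
  have hx : x ∈ (S : Subgroup G) := hAP hxA
  obtain ⟨y, hy, hyx⟩ := E.exists_bt_eq hx hxZ (-1)
  have B : ESb p (S : Subgroup G) Z z x y :=
    { E with
      hx := hx
      hy := hy
      hxy := by rw [E.bt_swap hy hx, hyx, neg_neg] }
  have hAcomm : ∀ a b : ↥A, a * b = b * a :=
    isMulCommutative_iff.1 (IsPGroup.isMulCommutative_of_card_eq_prime_sq hAcard)
  have hsub : (A : Set G) ⊆ Set.range (fr (p := p) z x) := by
    intro g hg
    apply B.mem_range_fr (hAP hg)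
    exact congrArg Subtype.val (hAcomm ⟨x, hxA⟩ ⟨g, hg⟩)
  have hfin : (Set.range (fr (p := p) z x)).Finite := Set.finite_range _
  apply Set.eq_of_subset_of_ncard_le hsub _ hfin
  rw [← Nat.card_coe_set_eq, ← Nat.card_coe_set_eq]
  have h1 := Finite.card_range_le (fr (p := p) z x)
  have h2 : Nat.card (Fin 2 → ZMod p) = p ^ 2 := by
    rw [Nat.card_fun, Nat.card_zmod, Nat.card_fin]
  rw [h2] at h1
  have h3 : Nat.card ↥(A : Set G) = p ^ 2 := hAcard
  rw [h3]
  exact h1

/-- elements of the Sylow subgroup commuting with `x` lie in `A` -/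
theorem mem_of_commute [Finite G] (S : Sylow p G) {Z : Subgroup G} {z : G}
    (E : ESz p (S : Subgroup G) Z z) (A : Subgroup G) (hAP : A ≤ (S : Subgroup G))
    (hAcard : Nat.card A = p ^ 2) {x : G} (hxA : x ∈ A) (hxZ : x ∉ Z) {g : G}
    (hg : g ∈ (S : Subgroup G)) (hc : x * g = g * x) : g ∈ A := by
  have hx : x ∈ (S : Subgroup G) := hAP hxA
  obtain ⟨y, hy, hyx⟩ := E.exists_bt_eq hx hxZ (-1)
  have B : ESb p (S : Subgroup G) Z z x y :=
    { E with
      hx := hx
      hy := hy
      hxy := by rw [E.bt_swap hy hx, hyx, neg_neg] }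
  have h1 := B.mem_range_fr hg hc
  rw [← coe_eq_range_fr S E A hAP hAcard hxA hxZ] at h1
  exact h1

/-- an automorphism of `A` of order `p` realised by `G` gives a lower unitriangular action -/
theorem exists_L_of_aut [Finite G] (S : Sylow p G) {Z : Subgroup G} {z : G}
    (E : ESz p (S : Subgroup G) Z z) (A : Subgroup G) (hAP : A ≤ (S : Subgroup G))
    (hAcard : Nat.card A = p ^ 2)
    (hSL : ∀ φ : MulAut ↥A, orderOf φ = p → ∃ g : G, ∀ a : ↥A, (φ a : G) = g * (a : G) * g⁻¹)
    {x : G} (hxA : x ∈ A) (hxZ : x ∉ Z) {d : ZMod p} (hd : d ≠ 0) :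
    ∃ r : G, Act z x r (Lmat d) := by
  classical
  have hx : x ∈ (S : Subgroup G) := hAP hxA
  obtain ⟨y, hy, hyx⟩ := E.exists_bt_eq hx hxZ (-1)
  have B : ESb p (S : Subgroup G) Z z x y :=
    { E with
      hx := hx
      hy := hy
      hxy := by rw [E.bt_swap hy hx, hyx, neg_neg] }
  have F : Frame p z x := frame S E hx
  -- `A` is abelian
  have hAcomm : ∀ a b : ↥A, a * b = b * a :=
    isMulCommutative_iff.1 (IsPGroup.isMulCommutative_of_card_eq_prime_sq hAcard)
  have hsub : (A : Set G) ⊆ Set.range (fr (p := p) z x) := by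
    intro g hg
    apply B.mem_range_fr (hAP hg)
    exact congrArg Subtype.val (hAcomm ⟨x, hxA⟩ ⟨g, hg⟩)
  have hfin : (Set.range (fr (p := p) z x)).Finite := Set.finite_range _
  have heq : (A : Set G) = Set.range (fr (p := p) z x) := by
    apply Set.eq_of_subset_of_ncard_le hsub _ hfin
    rw [← Nat.card_coe_set_eq, ← Nat.card_coe_set_eq]
    have h1 := Finite.card_range_le (fr (p := p) z x)
    have h2 : Nat.card (Fin 2 → ZMod p) = p ^ 2 := by
      rw [Nat.card_fun, Nat.card_zmod, Nat.card_fin]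
    rw [h2] at h1
    have h3 : Nat.card ↥(A : Set G) = p ^ 2 := hAcard
    rw [h3]
    exact h1
  have hmem : ∀ v : Fin 2 → ZMod p, fr z x v ∈ A := by
    intro v
    have : fr z x v ∈ (A : Set G) := by rw [heq]; exact ⟨v, rfl⟩
    exact this
  -- the parametrisation
  let f : Multiplicative (Fin 2 → ZMod p) →* ↥A :=
    MonoidHom.mk' (fun v => ⟨fr z x (Multiplicative.toAdd v), hmem _⟩) (by
      intro v w
      apply Subtype.ext
      simp only [toAdd_mul, Subgroup.coe_mul]
      exact F.fr_add _ _)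
  have hfsurj : Function.Surjective f := by
    rintro ⟨g, hg⟩
    obtain ⟨v, hv⟩ := hsub hg
    exact ⟨Multiplicative.ofAdd v, Subtype.ext hv⟩
  haveI : Finite ↥A := Nat.finite_of_card_ne_zero (by
    rw [hAcard]; exact pow_ne_zero _ hp.out.ne_zero)
  have hfbij : Function.Bijective f := by
    apply hfsurj.bijective_of_nat_card_le
    rw [hAcard]
    apply le_of_eq
    show Nat.card (Fin 2 → ZMod p) = p ^ 2
    rw [Nat.card_fun, Nat.card_zmod, Nat.card_fin]
  let ee : Multiplicative (Fin 2 → ZMod p) ≃* ↥A := MulEquiv.ofBijective f hfbij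
  have hee : ∀ v : Fin 2 → ZMod p, ((ee (Multiplicative.ofAdd v) : ↥A) : G) = fr z x v :=
    fun v => rfl
  let φ : MulAut ↥A := ee.symm.trans ((Laut d).trans ee)
  have hφ : ∀ v : Fin 2 → ZMod p,
      φ (ee (Multiplicative.ofAdd v)) = ee (Multiplicative.ofAdd (Lmat d *ᵥ v)) := by
    intro v
    show ee (Laut d (ee.symm (ee (Multiplicative.ofAdd v)))) = _
    rw [MulEquiv.symm_apply_apply, Laut_apply]
  have hφpow : ∀ (k : ℕ) (v : Fin 2 → ZMod p),
      (φ ^ k) (ee (Multiplicative.ofAdd v)) =
        ee (Multiplicative.ofAdd (Lmat ((k : ZMod p) * d) *ᵥ v)) := by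
    intro k
    induction k with
    | zero =>
      intro v
      rw [pow_zero, Nat.cast_zero, zero_mul, Lmat_zero, Matrix.one_mulVec]
      rfl
    | succ k ih =>
      intro v
      rw [pow_succ, MulAut.mul_apply, hφ, ih, Matrix.mulVec_mulVec, Lmat_mul]
      congr 4
      push_cast
      ring
  have hord : orderOf φ = p := by
    apply orderOf_eq_prime
    · ext a
      obtain ⟨v, rfl⟩ := ee.surjective a
      have := hφpow p (Multiplicative.toAdd v)
      rw [ofAdd_toAdd, ZMod.natCast_self, zero_mul, Lmat_zero, Matrix.one_mulVec,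
        ofAdd_toAdd] at this
      rw [this]
      rfl
    · intro h1
      have h2 := hφ ![1, 0]
      rw [h1, MulAut.one_apply] at h2
      have h3 := ee.injective h2
      have h4 : (![1, 0] : Fin 2 → ZMod p) = Lmat d *ᵥ ![1, 0] := Multiplicative.ofAdd.injective h3
      have h5 := congrFun h4 1
      simp [Lmat, Matrix.mulVec, dotProduct, Fin.sum_univ_two] at h5
      exact hd h5.symm
  obtain ⟨r, hr⟩ := hSL φ hord
  refine ⟨r, ?_⟩
  intro v
  have := hr (ee (Multiplicative.ofAdd v))
  rw [hφ, hee, hee] at this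
  exact this.symm

end Cfsg.Agent.Helper11.ES3
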