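import Mathlib
import Cfsg.Agent.Lib.Helper11.ES3G
import Cfsg.Agent.Lib.Helper11.ES3H
import Cfsg.Agent.Lib.Helper11.ES3I

set_option autoImplicit false
set_option linter.unusedVariables false
set_option linter.unusedSectionVars false

/-! Extraspecial Sylow subgroups of order `p³` and exponent `p` with three subgroups of order `p²`
whose automizer contains `SL₂(p)`: the bound `p ≤ 13`. -/

namespace Cfsg.Agent.Helper11.ES3

open Matrix

variable {G : Type*} [Group G] {p : ℕ} [hp : Fact p.Prime]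

/-- torus elements from both families of transvections -/
theorem exists_torus' [Finite G] (S : Sylow p G) {Z : Subgroup G} {z : G}
    (E : ESz p (S : Subgroup G) Z z) {x : G} (hx : x ∈ (S : Subgroup G)) (hxZ : x ∉ Z)
    (hL : ∀ d : ZMod p, d ≠ 0 → ∃ r : G, Act z x r (Lmat d)) {a : ZMod p}
    (ha : a ≠ 0) : ∃ n : G, Act z x n (Dmat a a⁻¹) := by
  have hU : ∀ c : ZMod p, ∃ y : G, Act z x y (Umat c) := by
    intro c
    obtain ⟨y, hy, hyc⟩ := E.exists_bt_eq hx hxZ c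
    exact ⟨y, hyc ▸ act_U S E hx hy⟩
  obtain ⟨y₁, h₁⟩ := hU a
  obtain ⟨r₁, h₂⟩ := hL (-a⁻¹) (neg_ne_zero.2 (inv_ne_zero ha))
  obtain ⟨y₂, h₃⟩ := hU (a - 1)
  obtain ⟨r₂, h₄⟩ := hL 1 one_ne_zero
  obtain ⟨y₃, h₅⟩ := hU (-1)
  refine ⟨y₁ * r₁ * y₂ * r₂ * y₃, ?_⟩
  rw [← torus_word ha]
  exact (((h₁.mul h₂).mul h₃).mul h₄).mul h₅

/-- a torus element acting on `⟨z, g₀⟩` gives an element of the image of the normalizer with the
right eigenvalue and determinant -/
theorem exists_good [Finite G] (S : Sylow p G) {Z : Subgroup G} {z x y : G}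
    (B : ESb p (S : Subgroup G) Z z x y) {g₀ : G} (hg₀ : g₀ ∈ (S : Subgroup G)) (hg₀Z : g₀ ∉ Z)
    (a : (ZMod p)ˣ) (hn : ∃ n : G, Act z g₀ n (Dmat (a : ZMod p) (a : ZMod p)⁻¹)) :
    ∃ M ∈ Wsub (p := p) (S : Subgroup G) z x y, Good a (cv (p := p) z x y g₀) M := by
  have E := B.toESz
  have ha0 : (a : ZMod p) ≠ 0 := a.ne_zero
  obtain ⟨n, hn⟩ := hn
  obtain ⟨m, hmN, hm⟩ := exists_normalizer S E hg₀ hg₀Z ha0 (inv_ne_zero ha0) hn
  have e00 : Dmat (a : ZMod p) (a : ZMod p)⁻¹ 0 0 = (a : ZMod p) := rfl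
  have e10 : Dmat (a : ZMod p) (a : ZMod p)⁻¹ 1 0 = 0 := rfl
  have e01 : Dmat (a : ZMod p) (a : ZMod p)⁻¹ 0 1 = 0 := rfl
  have e11 : Dmat (a : ZMod p) (a : ZMod p)⁻¹ 1 1 = (a : ZMod p)⁻¹ := rfl
  have h1 : m * z * m⁻¹ = zp z (a : ZMod p) := by
    rw [hm.apply₁, e00, e10, zp_zero, mul_one]
  have h2 : m * g₀ * m⁻¹ = zp g₀ ((a : ZMod p)⁻¹) := by
    rw [hm.apply₂, e01, e11, zp_zero, one_mul]
  have hdet : (Mn (p := p) z x y m).det = (a : ZMod p) := by
    have := B.det_rep hmN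
    rw [h1] at this
    exact (zp_inj E.zpow E.hz1 this).symm
  have hdet0 : (Mn (p := p) z x y m).det ≠ 0 := by rw [hdet]; exact ha0
  refine ⟨Matrix.GeneralLinearGroup.mkOfDetNeZero (Mn (p := p) z x y m) hdet0,
    ⟨m, hmN, fun g hg => B.rep hmN hg⟩, ?_, hdet⟩
  change Mn (p := p) z x y m *ᵥ _ = _
  rw [← B.rep hmN hg₀, h2, B.cv_zp hg₀, Units.val_inv_eq_inv_val]

/-- **the bound for three subgroups** -/
theorem prime_le_thirteen [Finite G] (S : Sylow p G) {Z : Subgroup G} {z : G}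
    (E : ESz p (S : Subgroup G) Z z)
    (A : Fin 3 → Subgroup G) (hA : Function.Injective A) (hAP : ∀ i, A i ≤ (S : Subgroup G))
    (hAcard : ∀ i, Nat.card ↥(A i) = p ^ 2)
    (hSL : ∀ i, ∀ φ : MulAut ↥(A i), orderOf φ = p →
      ∃ g : G, ∀ a : ↥(A i), (φ a : G) = g * (a : G) * g⁻¹) : p ≤ 13 := by
  by_contra hlt
  push Not at hlt
  have hp17 : 17 ≤ p := by
    by_contra h17
    push Not at h17
    have hpr := hp.out
    interval_cases p <;> norm_num at hpr
  haveI : Finite Z := Nat.finite_of_card_ne_zero (by rw [E.cardZ]; exact hp.out.ne_zero)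
  -- non-central elements of the `A i`
  have hex : ∀ i, ∃ u, u ∈ A i ∧ u ∉ Z := by
    intro i
    by_contra hcon
    push Not at hcon
    have hle : A i ≤ Z := hcon
    have h1 := Subgroup.card_le_of_le hle
    rw [hAcard, E.cardZ] at h1
    have h2 : p ^ 1 < p ^ 2 := Nat.pow_lt_pow_right hp.out.one_lt (by norm_num)
    rw [pow_one] at h2
    omega
  choose xs hxsA hxsZ using hex
  have hxsS : ∀ i, xs i ∈ (S : Subgroup G) := fun i => hAP i (hxsA i)
  obtain ⟨y, hy, hyx⟩ := E.exists_bt_eq (hxsS 0) (hxsZ 0) (-1)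
  have B : ESb p (S : Subgroup G) Z z (xs 0) y :=
    { E with
      hx := hxsS 0
      hy := hy
      hxy := by rw [E.bt_swap hy (hxsS 0), hyx, neg_neg] }
  -- independence
  have hind : ∀ i j, i ≠ j →
      cv (p := p) z (xs 0) y (xs i) 0 * cv (p := p) z (xs 0) y (xs j) 1 -
        cv (p := p) z (xs 0) y (xs j) 0 * cv (p := p) z (xs 0) y (xs i) 1 ≠ 0 := by
    intro i j hij h0
    have h1 : bt (p := p) z (xs i) (xs j) = 0 := by
      rw [B.bt_formula (hxsS i) (hxsS j)]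
      simp only [cv, Matrix.cons_val_zero, Matrix.cons_val_one] at h0
      linear_combination h0
    have hc : xs i * xs j = xs j * xs i := (E.bt_eq_zero_iff (hxsS i) (hxsS j)).1 h1
    have hji : xs j ∈ A i :=
      mem_of_commute S E (A i) (hAP i) (hAcard i) (hxsA i) (hxsZ i) (hxsS j) hc
    have hij' : xs i ∈ A j :=
      mem_of_commute S E (A j) (hAP j) (hAcard j) (hxsA j) (hxsZ j) (hxsS i) hc.symm
    have hci : ∀ a b : ↥(A i), a * b = b * a :=
      isMulCommutative_iff.1 (IsPGroup.isMulCommutative_of_card_eq_prime_sq (hAcard i))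
    have hcj : ∀ a b : ↥(A j), a * b = b * a :=
      isMulCommutative_iff.1 (IsPGroup.isMulCommutative_of_card_eq_prime_sq (hAcard j))
    apply hij
    apply hA
    apply le_antisymm
    · intro g hg
      apply mem_of_commute S E (A j) (hAP j) (hAcard j) (hxsA j) (hxsZ j) (hAP i hg)
      exact congrArg Subtype.val (hci ⟨xs j, hji⟩ ⟨g, hg⟩)
    · intro g hg
      apply mem_of_commute S E (A i) (hAP i) (hAcard i) (hxsA i) (hxsZ i) (hAP j hg)
      exact congrArg Subtype.val (hcj ⟨xs i, hij'⟩ ⟨g, hg⟩)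
  have hgood : ∀ i, ∀ a : (ZMod p)ˣ, ∃ M ∈ Wsub (p := p) (S : Subgroup G) z (xs 0) y,
      Good a (cv (p := p) z (xs 0) y (xs i)) M := by
    intro i a
    apply exists_good S B (hxsS i) (hxsZ i) a
    apply exists_torus' S E (hxsS i) (hxsZ i) _ a.ne_zero
    intro d hd
    exact exists_L_of_aut S E (A i) (hAP i) (hAcard i) (hSL i) (hxsA i) (hxsZ i) hd
  exact no_config3 p hp17 (Wsub (p := p) (S : Subgroup G) z (xs 0) y) (not_dvd_card_Wsub S B)
    _ _ _ (hind 0 1 (by decide)) (hind 0 2 (by decide)) (hind 1 2 (by decide))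
    (hgood 0) (hgood 1) (hgood 2)

end Cfsg.Agent.Helper11.ES3
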