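import Mathlib
import Cfsg.Agent.Lib.Helper11.F4IMem

/-!
# `²F₄(q)`: conjugacy `CJ` in `²F₄(q)`; the conjugation steps on the normal form; the Weyl elements on the forms
with all `t_even = 0`.  PARTLY GENERATED.
-/

set_option autoImplicit false
set_option linter.unusedSectionVars false
set_option linter.unusedSimpArgs false
set_option linter.unusedVariables false
set_option maxHeartbeats 16000000

namespace Cfsg.Agent.Helper11.F4I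

open Cfsg Cfsg.Lie Cfsg.Agent.Lead.Chev Cfsg.Agent.Lead.Tw

section cj

variable {K : Type*} [Field K]

/-- conjugacy in `²F₄` (generated with `θ = (·)^e`) of elements of the ambient general linear group -/
def CJ (e : ℕ) (u v : GL chevF4.Idx K) : Prop := ∃ g ∈ twistedF4 K e, g * u * g⁻¹ = v

theorem CJ.refl (e : ℕ) (u : GL chevF4.Idx K) : CJ e u u := ⟨1, one_mem _, by group⟩

theorem CJ.trans {e : ℕ} {u v w : GL chevF4.Idx K} (h1 : CJ e u v) (h2 : CJ e v w) : CJ e u w := by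
  obtain ⟨g, hg, e1⟩ := h1
  obtain ⟨k, hk, e2⟩ := h2
  refine ⟨k * g, mul_mem hk hg, ?_⟩
  rw [← e2, ← e1]
  group

theorem CJ.symm {e : ℕ} {u v : GL chevF4.Idx K} (h : CJ e u v) : CJ e v u := by
  obtain ⟨g, hg, e1⟩ := h
  refine ⟨g⁻¹, inv_mem hg, ?_⟩
  rw [← e1]
  group

theorem CJ.of_eq {e : ℕ} {u v : GL chevF4.Idx K} (h : u = v) : CJ e u v := h ▸ CJ.refl e u

theorem CJ.sq_eq_one {e : ℕ} {u v : GL chevF4.Idx K} (h : CJ e u v) (hu : u * u = 1) : v * v = 1 := by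
  obtain ⟨g, -, rfl⟩ := h
  calc g * u * g⁻¹ * (g * u * g⁻¹) = g * (u * u) * g⁻¹ := by group
    _ = 1 := by rw [hu]; group

theorem CJ.ne_one {e : ℕ} {u v : GL chevF4.Idx K} (h : CJ e u v) (hu : u ≠ 1) : v ≠ 1 := by
  obtain ⟨g, -, rfl⟩ := h
  intro h1
  apply hu
  calc u = g⁻¹ * (g * u * g⁻¹) * g := by group
    _ = 1 := by rw [h1]; group

theorem conj_mul7 (n a b c d e g h : GL chevF4.Idx K) :
    n * (a * (b * (c * (d * (e * (g * h)))))) * n⁻¹ = (n * a * n⁻¹) * ((n * b * n⁻¹) * ((n * c * n⁻¹) * ((n * d * n⁻¹) *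
      ((n * e * n⁻¹) * ((n * g * n⁻¹) * (n * h * n⁻¹)))))) := by
  simp only [mul_assoc, inv_mul_cancel_left]

end cj

section desc

variable {K : Type*} [Field K] [CharP K 2] (f : K ≃+* K) (hff : ∀ x : K, (f (f x)) ^ 2 = x)
include hff


/-- a descending product of central elements `U_even 0 ·` and of `U_odd ·`, sorted -/
theorem desc_a (a2 a3 a4 a5 a6 a7 a8 : K) :
    U8 f 0 a8 * (U7 f a7 * (U6 f 0 a6 * (U5 f a5 * (U4 f 0 a4 * (U3 f a3 * U2 f 0 a2))))) =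
      NF f 0 0 a2 a3 0 ((f a2) ^ 2 * a8 + a2 * f a7 + a4) ((f a2) ^ 2 * (f a8) ^ 2 + a5) 0 (a2 * (f a8) ^ 2 + a6 + f a3 * a8) a7 0 a8 := by
  have hff_a2 := hff a2
  have hff_a3 := hff a3
  have hff_a4 := hff a4
  have hff_a5 := hff a5
  have hff_a6 := hff a6
  have hff_a7 := hff a7
  have hff_a8 := hff a8
  rw [← NF_U8 f 0 a8]
  simp only [← mul_assoc]
  rw [rmul_7 f hff, rmul_6 f hff, rmul_5 f hff, rmul_4 f hff, rmul_3 f hff, rmul_2 f hff]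
  refine NF_congr f ?_ ?_ ?_ ?_ ?_ ?_ ?_ ?_ ?_ ?_ ?_ ?_ <;>
    first | rfl | grind | (simp only [map_add, map_mul, map_pow, map_zero]; grind)

theorem desc_b (a1 a2 a3 a4 a5 a6 a7 : K) :
    U7 f a7 * (U6 f 0 a6 * (U5 f a5 * (U4 f 0 a4 * (U3 f a3 * (U2 f 0 a2 * U1 f a1))))) =
      NF f a1 0 a2 ((f a1) ^ 2 * a7 + a3) 0 (a2 * f a7 + a4 + f a1 * a6) (a1 * (f a7) ^ 2 + a5) 0 a6 a7 0 0 := by
  have hff_a1 := hff a1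
  have hff_a2 := hff a2
  have hff_a3 := hff a3
  have hff_a4 := hff a4
  have hff_a5 := hff a5
  have hff_a6 := hff a6
  have hff_a7 := hff a7
  rw [← NF_U7 f a7]
  simp only [← mul_assoc]
  rw [rmul_6 f hff, rmul_5 f hff, rmul_4 f hff, rmul_3 f hff, rmul_2 f hff, rmul_1 f hff]
  refine NF_congr f ?_ ?_ ?_ ?_ ?_ ?_ ?_ ?_ ?_ ?_ ?_ ?_ <;>
    first | rfl | grind | (simp only [map_add, map_mul, map_pow, map_zero]; grind)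

end desc

section fin

variable {K : Type*} [Field K] [Fintype K] [CharP K 2] {m : ℕ} (hK : Fintype.card K = 2 ^ (2 * m + 1))
  (hperf : ∀ x : K, ∃ y : K, y ^ 2 = x) (f : K ≃+* K) (hf : ∀ t, f t = t ^ (2 ^ m))
include hK hperf hf

theorem NF_mem (t1 t2 u2 t3 t4 u4 t5 t6 u6 t7 t8 u8 : K) :
    NF f t1 t2 u2 t3 t4 u4 t5 t6 u6 t7 t8 u8 ∈ chevF4.posUnipotent K ⊓ twistedF4 K (2 ^ m) := by
  refine Subgroup.mem_inf.2 ⟨NF_posU f _ _ _ _ _ _ _ _ _ _ _ _, ?_⟩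
  exact mul_mem (U1_mem f hf _) (mul_mem (U2_mem hK hperf f hf _ _) (mul_mem (U3_mem hK hperf f hf _)
    (mul_mem (U4_mem hK hperf f hf _ _) (mul_mem (U5_mem hK hperf f hf _) (mul_mem (U6_mem hK hperf f hf _ _)
    (mul_mem (U7_mem hK hperf f hf _) (U8_mem f hf _ _)))))))

theorem CJ_na (u : GL chevF4.Idx K) : CJ (2 ^ m) u (na * u * na⁻¹) := ⟨na, na_mem hK hperf f hf, rfl⟩

theorem CJ_nb (u : GL chevF4.Idx K) : CJ (2 ^ m) u (nb * u * nb⁻¹) := ⟨nb, nb_mem hK hperf f hf, rfl⟩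

theorem CJ_U1 (s : K) (u : GL chevF4.Idx K) : CJ (2 ^ m) u (U1 f s * u * U1 f s) :=
  ⟨U1 f s, U1_mem f hf s, by rw [U1_inv f (hff hK f hf)]⟩

theorem CJ_U2 (s v : K) (u : GL chevF4.Idx K) : CJ (2 ^ m) u (U2 f s v * u * U2 f s (s * f s + v)) :=
  ⟨U2 f s v, U2_mem hK hperf f hf s v, by rw [U2_inv f (hff hK f hf)]⟩

theorem CJ_U3 (s : K) (u : GL chevF4.Idx K) : CJ (2 ^ m) u (U3 f s * u * U3 f s) :=
  ⟨U3 f s, U3_mem hK hperf f hf s, by rw [U3_inv f (hff hK f hf)]⟩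

theorem CJ_U4 (s v : K) (u : GL chevF4.Idx K) : CJ (2 ^ m) u (U4 f s v * u * U4 f s (s * f s + v)) :=
  ⟨U4 f s v, U4_mem hK hperf f hf s v, by rw [U4_inv f (hff hK f hf)]⟩

theorem CJ_U5 (s : K) (u : GL chevF4.Idx K) : CJ (2 ^ m) u (U5 f s * u * U5 f s) :=
  ⟨U5 f s, U5_mem hK hperf f hf s, by rw [U5_inv f (hff hK f hf)]⟩

theorem CJ_U6 (s v : K) (u : GL chevF4.Idx K) : CJ (2 ^ m) u (U6 f s v * u * U6 f s (s * f s + v)) :=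
  ⟨U6 f s v, U6_mem hK hperf f hf s v, by rw [U6_inv f (hff hK f hf)]⟩

theorem CJ_U7 (s : K) (u : GL chevF4.Idx K) : CJ (2 ^ m) u (U7 f s * u * U7 f s) :=
  ⟨U7 f s, U7_mem hK hperf f hf s, by rw [U7_inv f (hff hK f hf)]⟩

theorem CJ_U8 (s v : K) (u : GL chevF4.Idx K) : CJ (2 ^ m) u (U8 f s v * u * U8 f s (s * f s + v)) :=
  ⟨U8 f s v, U8_mem f hf s v, by rw [U8_inv f (hff hK f hf)]⟩

/-- conjugation of the normal form by `U1 f s` -/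
theorem step_1 (t1 t2 u2 t3 t4 u4 t5 t6 u6 t7 t8 u8 s : K) :
    CJ (2 ^ m) (NF f t1 t2 u2 t3 t4 u4 t5 t6 u6 t7 t8 u8)
      (NF f t1 (s * t8 + t2) (f s * f t4 + s * f s * u8 + s * f t2 * t8 + s * f t6 + u2) ((f s) ^ 2 * t7 + s * (f s) ^ 2 * t8 * (f u8) ^ 2 + s * (f s) ^ 2 * t8 ^ 2 * (f t8) ^ 2 + s * (f s) ^ 2 * u8 ^ 2 + s * (f t6) ^ 2 + s * t4 * t8 + t3) ((f s) ^ 2 * (f u8) ^ 2 + t4) ((f s) ^ 2 * f t4 * (f u8) ^ 2 + (f s) ^ 2 * t7 * f t8 + f s * f t5 * f t8 + f s * u6 + s * (f s) ^ 2 * f t8 * u8 ^ 2 + s * (f s) ^ 2 * t8 * f t8 * (f u8) ^ 2 + s * (f s) ^ 2 * t8 ^ 2 * (f t8) ^ 3 + s * (f s) ^ 2 * u8 * (f u8) ^ 2 + s * f s * f t6 * (f u8) ^ 2 + s * f s * f t6 * f t8 * u8 + s * f s * f t6 * t8 * (f t8) ^ 2 + s * f s * f t7 * t8 * f t8 + s * f s * f t7 * u8 + s * f t6 * f t7 + u4) ((f s) ^ 2 * t6 * (f u8) ^ 2 +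 (f s) ^ 2 * t7 * (f t8) ^ 2 + s * (f s) ^ 2 * (f t8) ^ 2 * u8 ^ 2 + s * (f s) ^ 2 * (f u8) ^ 4 + s * (f s) ^ 2 * t8 ^ 2 * (f t8) ^ 4 + s * (f t7) ^ 2 + t5) (s * (f u8) ^ 2 + s * t8 * (f t8) ^ 2 + t6) (f s * t7 * f t8 + s * f s * f t8 * u8 ^ 2 + s * f s * t8 * f t8 * (f u8) ^ 2 + s * f s * t8 ^ 2 * (f t8) ^ 3 + s * f t6 * (f u8) ^ 2 + s * f t6 * t8 * (f t8) ^ 2 + s * f t7 * u8 + u6) (s * t8 * (f u8) ^ 2 + s * t8 ^ 2 * (f t8) ^ 2 + s * u8 ^ 2 + t7) t8 u8) := by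
  have k := CJ_U1 hK hperf f hf s (NF f t1 t2 u2 t3 t4 u4 t5 t6 u6 t7 t8 u8)
  rwa [cj_1 f (hff hK f hf)] at k

/-- conjugation of the normal form by `U2 f s v` -/
theorem step_2 (t1 t2 u2 t3 t4 u4 t5 t6 u6 t7 t8 u8 s v : K) :
    CJ (2 ^ m) (NF f t1 t2 u2 t3 t4 u4 t5 t6 u6 t7 t8 u8)
      (NF f t1 t2 (f s * t2 + s * f t2 + u2) (s * t4 + t3 + t8 * (f v) ^ 2) ((f s) ^ 2 * t8 + t4) ((f s) ^ 2 * f t4 * t8 + f s * f t5 + f s * t8 * f t8 * v + f s * u8 * v + f t6 * f t8 * v + f t7 * v + s * (f s) ^ 2 * u8 + u4 + u8 * (f v) ^ 2) ((f s) ^ 2 * t6 * t8 + (f s) ^ 2 * t7 + (f u8) ^ 2 * (f v) ^ 2 + s * (f s) ^ 2 * (f u8) ^ 2 + s * (f s) ^ 2 * t8 * (f t8) ^ 2 + t5 + t8 * (f t8) ^ 2 * (f v) ^ 2) (s * (f t8) ^ 2 + t6) ((f u8) ^ 2 * v + f s * t7 + f t8 * u8 * v + s * f s * f t8 * u8 + s * f s * t8 * (f t8) ^ 2 + s * f t6 *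 (f t8) ^ 2 + s * f t7 * f t8 + t8 * (f t8) ^ 2 * v + u6) (s * (f u8) ^ 2 + t7) t8 u8) := by
  have k := CJ_U2 hK hperf f hf s v (NF f t1 t2 u2 t3 t4 u4 t5 t6 u6 t7 t8 u8)
  rwa [cj_2 f (hff hK f hf)] at k

/-- conjugation of the normal form by `U3 f s` -/
theorem step_3 (t1 t2 u2 t3 t4 u4 t5 t6 u6 t7 t8 u8 s : K) :
    CJ (2 ^ m) (NF f t1 t2 u2 t3 t4 u4 t5 t6 u6 t7 t8 u8)
      (NF f t1 t2 u2 t3 t4 (f s * f t6 + s * f t8 + u4) (s * (f t8) ^ 2 + t5) t6 (f s * u8 + u6) t7 t8 u8) := by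
  have k := CJ_U3 hK hperf f hf s (NF f t1 t2 u2 t3 t4 u4 t5 t6 u6 t7 t8 u8)
  rwa [cj_3 f (hff hK f hf)] at k

/-- conjugation of the normal form by `U4 f s v` -/
theorem step_4 (t1 t2 u2 t3 t4 u4 t5 t6 u6 t7 t8 u8 s v : K) :
    CJ (2 ^ m) (NF f t1 t2 u2 t3 t4 u4 t5 t6 u6 t7 t8 u8)
      (NF f t1 t2 (f s * f t1 + u2) (s * t2 + t3) t4 (f s * t4 + s * f t4 + u4) (s * t6 + t5) t6 (f s * f t7 + u6) t7 t8 u8) := by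
  have k := CJ_U4 hK hperf f hf s v (NF f t1 t2 u2 t3 t4 u4 t5 t6 u6 t7 t8 u8)
  rwa [cj_4 f (hff hK f hf)] at k

/-- conjugation of the normal form by `U5 f s` -/
theorem step_5 (t1 t2 u2 t3 t4 u4 t5 t6 u6 t7 t8 u8 s : K) :
    CJ (2 ^ m) (NF f t1 t2 u2 t3 t4 u4 t5 t6 u6 t7 t8 u8)
      (NF f t1 t2 u2 t3 t4 (f s * f t2 + u4) t5 t6 (f s * f t8 + u6) t7 t8 u8) := by
  have k := CJ_U5 hK hperf f hf s (NF f t1 t2 u2 t3 t4 u4 t5 t6 u6 t7 t8 u8)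
  rwa [cj_5 f (hff hK f hf)] at k

/-- conjugation of the normal form by `U6 f s v` -/
theorem step_6 (t1 t2 u2 t3 t4 u4 t5 t6 u6 t7 t8 u8 s v : K) :
    CJ (2 ^ m) (NF f t1 t2 u2 t3 t4 u4 t5 t6 u6 t7 t8 u8)
      (NF f t1 t2 (f s * t1 + u2) ((f s) ^ 2 * t1 + t3) t4 (f s * f t3 + f t1 * v + u4) (s * t4 + t5) t6 (f s * t6 + s * f t6 + u6) (s * t8 + t7) t8 u8) := by
  have k := CJ_U6 hK hperf f hf s v (NF f t1 t2 u2 t3 t4 u4 t5 t6 u6 t7 t8 u8)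
  rwa [cj_6 f (hff hK f hf)] at k

/-- conjugation of the normal form by `U7 f s` -/
theorem step_7 (t1 t2 u2 t3 t4 u4 t5 t6 u6 t7 t8 u8 s : K) :
    CJ (2 ^ m) (NF f t1 t2 u2 t3 t4 u4 t5 t6 u6 t7 t8 u8)
      (NF f t1 t2 u2 (s * (f t1) ^ 2 + t3) t4 (f s * t2 * f t2 + f s * u2 + s * f t1 * f t2 + u4) ((f s) ^ 2 * t1 + s * (f t2) ^ 2 + t5) t6 (f s * f t4 + s * f t2 + u6) t7 t8 u8) := by
  have k := CJ_U7 hK hperf f hf s (NF f t1 t2 u2 t3 t4 u4 t5 t6 u6 t7 t8 u8)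
  rwa [cj_7 f (hff hK f hf)] at k

/-- conjugation of the normal form by `U8 f s v` -/
theorem step_8 (t1 t2 u2 t3 t4 u4 t5 t6 u6 t7 t8 u8 s v : K) :
    CJ (2 ^ m) (NF f t1 t2 u2 t3 t4 u4 t5 t6 u6 t7 t8 u8)
      (NF f t1 (s * t1 + t2) (f s * f t1 * t2 + t1 * f t1 * v + u2) ((f t1) ^ 2 * t2 * (f v) ^ 2 + s * (f u2) ^ 2 + s * t1 * (f t1) ^ 2 * (f v) ^ 2 + s * t2 * (f t2) ^ 2 + s ^ 2 * (f s) ^ 2 * t1 * (f t1) ^ 2 + t1 * (f t1) ^ 2 * v ^ 2 + t3) ((f t1) ^ 2 * (f v) ^ 2 + s * (f t2) ^ 2 + t4) ((f u2) ^ 2 * v + f s * t1 * (f t1) ^ 2 * v ^ 2 + f s * t2 * t4 + f s * t3 + f t1 * f t3 * v + f t1 * t2 * f t2 * (f v) ^ 2 + f t1 * u2 * (f v) ^ 2 + f t2 * u2 * v + s * f s * f t1 * f t3 + s * f s * f t2 * u2 + s * f s * t1 * (f t1) ^ 2 * (f v) ^ 2 + s * f s * t2 * (f t2) ^ 2 + s * f t2 * f t3 + s * t1 * (f t2) ^ 2 * v +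 s * t1 * f t1 * f t2 * (f v) ^ 2 + s ^ 2 * (f s) ^ 2 * t1 * f t1 * f t2 + s ^ 2 * (f s) ^ 3 * t1 * (f t1) ^ 2 + t1 * (f t1) ^ 2 * v * (f v) ^ 2 + t1 * f t1 * f t2 * v ^ 2 + t1 * t4 * v + t2 * (f t2) ^ 2 * v + u4) ((f s) ^ 2 * t1 * (f t1) ^ 2 * v ^ 2 + (f s) ^ 2 * t2 * t4 + (f s) ^ 2 * t3 + (f u2) ^ 2 * (f v) ^ 2 + s * (f s) ^ 2 * (f u2) ^ 2 + s * (f s) ^ 2 * t1 * t4 + s ^ 2 * (f s) ^ 4 * t1 * (f t1) ^ 2 + t1 * (f t1) ^ 2 * (f v) ^ 4 + t1 * (f t2) ^ 2 * v ^ 2 + t1 * t4 * (f v) ^ 2 + t5) ((f s) ^ 2 * t2 + s * (f s) ^ 2 * t1 + t1 * (f v) ^ 2 + t6) (f s * f t1 * f t4 * v + f s * f t1 * t2 * (f v) ^ 2 + f s * f t5 + f s * t1 * f t1 * v ^ 2 + f s * u2 * v + f t1 * f t4 * (f v) ^ 2 + f t1 * t6 * v + f t2 * f t4 * v + f t3 * v + s * (f s) ^ 2 * f t1 * f t4 + s * (f s) ^ 2 * u2 + s * f s * f t1 * t6 + s * f s * t1 *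 f t1 * (f v) ^ 2 + s * f t2 * t6 + s * t1 * f t2 * (f v) ^ 2 + s ^ 2 * (f s) ^ 2 * t1 * f t2 + s ^ 2 * (f s) ^ 3 * t1 * f t1 + t1 * f t2 * v ^ 2 + t2 * f t2 * (f v) ^ 2 + u2 * (f v) ^ 2 + u6) (s * t1 * (f v) ^ 2 + s * t6 + s ^ 2 * (f s) ^ 2 * t1 + t1 * v ^ 2 + t2 * (f v) ^ 2 + t7) t8 (f s * t8 + s * f t8 + u8)) := by
  have k := CJ_U8 hK hperf f hf s v (NF f t1 t2 u2 t3 t4 u4 t5 t6 u6 t7 t8 u8)
  rwa [cj_8 f (hff hK f hf)] at k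

omit hK hperf hf [Fintype K] in
theorem na_NF (t2 u2 t3 t4 u4 t5 t6 u6 t7 t8 u8 : K) :
    na * NF f 0 t2 u2 t3 t4 u4 t5 t6 u6 t7 t8 u8 * na⁻¹ =
      U8 f t2 u2 * (U7 f t3 * (U6 f t4 u4 * (U5 f t5 * (U4 f t6 u6 * (U3 f t7 * U2 f t8 u8))))) := by
  rw [NF, U1_zero, one_mul, conj_mul7, na_U2, na_U3, na_U4, na_U5, na_U6, na_U7, na_U8]

omit hK hperf hf [Fintype K] in
theorem nb_NF (t1 t2 u2 t3 t4 u4 t5 t6 u6 t7 : K) :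
    nb * NF f t1 t2 u2 t3 t4 u4 t5 t6 u6 t7 0 0 * nb⁻¹ =
      U7 f t1 * (U6 f t2 u2 * (U5 f t3 * (U4 f t4 u4 * (U3 f t5 * (U2 f t6 u6 * U1 f t7))))) := by
  rw [NF, U8_zero, mul_one, conj_mul7, nb_U1, nb_U2, nb_U3, nb_U4, nb_U5, nb_U6, nb_U7]

/-- the Weyl element `n_a` on the normal forms with `t1 = 0` and all `t_even = 0` -/
theorem na_Z (u2 t3 u4 t5 u6 t7 u8 : K) :
    CJ (2 ^ m) (NF f 0 0 u2 t3 0 u4 t5 0 u6 t7 0 u8)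
      (NF f 0 0 u8 t7 0 ((f u8) ^ 2 * u2 + u8 * f t3 + u6) ((f u8) ^ 2 * (f u2) ^ 2 + t5) 0 (u8 * (f u2) ^ 2 + u4 + f t7 * u2) t3 0 u2) := by
  have k := CJ_na hK hperf f hf (NF f 0 0 u2 t3 0 u4 t5 0 u6 t7 0 u8)
  rw [na_NF, desc_a f (hff hK f hf)] at k
  exact k

/-- the Weyl element `n_b` on the normal forms with `t8 = u8 = 0` and all `t_even = 0` -/
theorem nb_Z (t1 u2 t3 u4 t5 u6 t7 : K) :
    CJ (2 ^ m) (NF f t1 0 u2 t3 0 u4 t5 0 u6 t7 0 0)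
      (NF f t7 0 u6 ((f t7) ^ 2 * t1 + t5) 0 (u6 * f t1 + u4 + f t7 * u2) (t7 * (f t1) ^ 2 + t3) 0 u2 t1 0 0) := by
  have k := CJ_nb hK hperf f hf (NF f t1 0 u2 t3 0 u4 t5 0 u6 t7 0 0)
  rw [nb_NF, desc_b f (hff hK f hf)] at k
  exact k

end fin

end Cfsg.Agent.Helper11.F4I
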