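import Mathlib
import Cfsg.Agent.Lib.Helper11.F4ICJ

/-!
# S2184: field facts; the worked example `red_E7` (a form `U3 Z4 U5 Z6 U7` with `t7 ≠ 0` is conjugate to `U7 t7`)
-/

set_option autoImplicit false
set_option linter.unusedSectionVars false
set_option linter.unusedSimpArgs false
set_option linter.unusedVariables false
set_option maxHeartbeats 1000000

namespace Cfsg.Agent.Helper11.F4I

open Cfsg Cfsg.Lie Cfsg.Agent.Lead.Chev Cfsg.Agent.Lead.Tw

variable {K : Type*} [Field K] [Fintype K] [CharP K 2] {m : ℕ} (hK : Fintype.card K = 2 ^ (2 * m + 1))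
  (hperf : ∀ x : K, ∃ y : K, y ^ 2 = x) (f : K ≃+* K) (hf : ∀ t, f t = t ^ (2 ^ m))
include hK hperf hf

/-! ### field facts (helper11, done) -/

omit hperf in
theorem mul_f_eq_zero {t : K} (h : t * f t = 0) : t = 0 := by
  rcases mul_eq_zero.1 h with h | h
  · exact h
  · exact (map_eq_zero f).1 h

omit hperf in
/-- `s ↦ s^{2θ}` is onto: `s = f c` -/
theorem f_sq_solve (c : K) : (f (f c)) ^ 2 = c := hff hK f hf c

omit hperf in
/-- `s ↦ s^{θ}` is onto: `s = (f c)^2` -/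
theorem f_solve (c : K) : f ((f c) ^ 2) = c := hff' hK f hf c

omit hperf in
/-- `s ↦ s^{1+2θ}` is onto: `s = (f c)^2 / c` -/
theorem norm_solve (c : K) (hc : c ≠ 0) : (f c) ^ 2 / c * (f ((f c) ^ 2 / c)) ^ 2 = c := by
  have h1 := hff hK f hf c
  have hfc : f c ≠ 0 := (map_ne_zero f).2 hc
  rw [map_div₀, map_pow, div_pow, ← pow_mul, mul_comm 2 2, pow_mul, h1]
  field_simp

/-- WORKED EXAMPLE (piece REDE, first half).  Pattern of one step: `step_i` with the chosen parameter, then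
`NF_congr` where `rfl` fills the coordinates we do not care about (metavariables) and the remaining goals are the
coordinates that must take a specific value. -/
theorem red_E7 (t3 u4 t5 u6 t7 : K) (h7 : t7 ≠ 0) :
    CJ (2 ^ m) (NF f 0 0 0 t3 0 u4 t5 0 u6 t7 0 0) (U7 f t7) := by
  have hff := hff hK f hf
  have hff' := hff' hK f hf
  have hf7 : f t7 ≠ 0 := (map_ne_zero f).2 h7
  -- E1: kill t3 by U1(s), (f s)^2 * t7 = t3
  have e1 : ∃ u4a t5a u6a : K, CJ (2 ^ m) (NF f 0 0 0 t3 0 u4 t5 0 u6 t7 0 0) (NF f 0 0 0 0 0 u4a t5a 0 u6a t7 0 0) := by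
    refine ⟨?_, ?_, ?_, ?_⟩
    pick_goal 4
    refine (step_1 hK hperf f hf 0 0 0 t3 0 u4 t5 0 u6 t7 0 0 (f (t3 / t7))).trans (CJ.of_eq ?_)
    apply NF_congr f
    case h4' => rfl
    case h5 => rfl
    case h6' => rfl
    all_goals simp only [map_zero, mul_zero, zero_mul, add_zero, zero_add, ne_eq, OfNat.ofNat_ne_zero, not_false_eq_true,
        zero_pow, hff]
    · field_simp
      grind
  obtain ⟨u4a, t5a, u6a, k1⟩ := e1
  -- E2: kill t5 by U2(s,0), (f s)^2 * t7 = t5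
  have e2 : ∃ u4b u6b : K, CJ (2 ^ m) (NF f 0 0 0 0 0 u4a t5a 0 u6a t7 0 0) (NF f 0 0 0 0 0 u4b 0 0 u6b t7 0 0) := by
    refine ⟨?_, ?_, ?_⟩
    pick_goal 3
    refine (step_2 hK hperf f hf 0 0 0 0 0 u4a t5a 0 u6a t7 0 0 (f (t5a / t7)) 0).trans (CJ.of_eq ?_)
    apply NF_congr f
    case h4' => rfl
    case h6' => rfl
    all_goals simp only [map_zero, mul_zero, zero_mul, add_zero, zero_add, ne_eq, OfNat.ofNat_ne_zero, not_false_eq_true,
        zero_pow, hff]
    · field_simp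
      grind
  obtain ⟨u4b, u6b, k2⟩ := e2
  -- E3: kill u6 by U4(s,0), f s * f t7 = u6
  have e3 : ∃ u4c : K, CJ (2 ^ m) (NF f 0 0 0 0 0 u4b 0 0 u6b t7 0 0) (NF f 0 0 0 0 0 u4c 0 0 0 t7 0 0) := by
    refine ⟨?_, ?_⟩
    pick_goal 2
    refine (step_4 hK hperf f hf 0 0 0 0 0 u4b 0 0 u6b t7 0 0 ((f u6b) ^ 2 / t7) 0).trans (CJ.of_eq ?_)
    apply NF_congr f
    case h4' => rfl
    all_goals simp only [map_zero, mul_zero, zero_mul, add_zero, zero_add, ne_eq, OfNat.ofNat_ne_zero, not_false_eq_true,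
        zero_pow, map_div₀, hff']
    · field_simp
      grind
  obtain ⟨u4c, k3⟩ := e3
  -- E4: kill u4 by U2(0,v), f t7 * v = u4
  have k4 : CJ (2 ^ m) (NF f 0 0 0 0 0 u4c 0 0 0 t7 0 0) (NF f 0 0 0 0 0 0 0 0 0 t7 0 0) := by
    refine (step_2 hK hperf f hf 0 0 0 0 0 u4c 0 0 0 t7 0 0 0 (u4c / f t7)).trans (CJ.of_eq ?_)
    apply NF_congr f
    all_goals simp only [map_zero, mul_zero, zero_mul, add_zero, zero_add, ne_eq, OfNat.ofNat_ne_zero, not_false_eq_true,
        zero_pow]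
    · field_simp
      grind
  rw [NF_U7] at k4
  exact k1.trans (k2.trans (k3.trans k4))

end Cfsg.Agent.Helper11.F4I
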