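import Mathlib
import Cfsg.Agent.Lib.Helper11.F4IE7

/-!
# S2184 piece REDE: forms `U3 U4 U5 U6 U7` (helper11)
-/

set_option autoImplicit false
set_option linter.unusedSectionVars false
set_option linter.unusedSimpArgs false
set_option linter.unusedVariables false
set_option maxHeartbeats 1000000

namespace Cfsg.Agent.Helper11.F4I

open Cfsg Cfsg.Lie Cfsg.Agent.Lead.Chev Cfsg.Agent.Lead.Tw

variable {K : Type*} [Field K] [Fintype K] [CharP K 2] {m : ℕ} (hK : Fintype.card K = 2 ^ (2 * m + 1))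
  (hperf : ∀ x : K, ∃ y : K, y ^ 2 = x) (f : K ≃+* K) (hf : ∀ t, f t = t ^ (2 ^ m))
include hK hperf hf

theorem red_E (t3 t4 u4 t5 t6 u6 t7 : K) (hne : NF f 0 0 0 t3 t4 u4 t5 t6 u6 t7 0 0 ≠ 1)
    (hinv : NF f 0 0 0 t3 t4 u4 t5 t6 u6 t7 0 0 * NF f 0 0 0 t3 t4 u4 t5 t6 u6 t7 0 0 = 1) :
    (∃ c : K, c ≠ 0 ∧ (CJ (2 ^ m) (NF f 0 0 0 t3 t4 u4 t5 t6 u6 t7 0 0) (U4 f 0 c) ∨
      CJ (2 ^ m) (NF f 0 0 0 t3 t4 u4 t5 t6 u6 t7 0 0) (U6 f 0 c))) ∨
    (∃ t : K, t ≠ 0 ∧ (CJ (2 ^ m) (NF f 0 0 0 t3 t4 u4 t5 t6 u6 t7 0 0) (U7 f t) ∨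
      CJ (2 ^ m) (NF f 0 0 0 t3 t4 u4 t5 t6 u6 t7 0 0) (U5 f t))) := by
  have hff := hff hK f hf
  have hff' := hff' hK f hf
  obtain ⟨q2t, q2u, q3, q4t, q4u, q5, q6t, q6u, q7, q8u⟩ := invol_facts f hff _ _ _ _ _ _ _ _ _ _ _ _ hinv
  simp only [map_zero, mul_zero, zero_mul, add_zero, zero_add, ne_eq, OfNat.ofNat_ne_zero, not_false_eq_true,
    zero_pow] at q4u q5 q6u
  have h46 : t4 = 0 ∧ t6 = 0 := by
    rcases mul_eq_zero.1 q5 with h | h
    · subst h
      simp only [map_zero, mul_zero, zero_mul, add_zero, zero_add] at q6u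
      exact ⟨rfl, mul_f_eq_zero hK f hf q6u⟩
    · subst h
      simp only [map_zero, mul_zero, zero_mul, add_zero, zero_add] at q4u
      exact ⟨mul_f_eq_zero hK f hf q4u, rfl⟩
  obtain ⟨h4, h6⟩ := h46
  subst h4 h6
  by_cases h7 : t7 = 0
  · subst h7
    by_cases h3 : t3 = 0
    · subst h3
      by_cases h5 : t5 = 0
      · subst h5
        left
        by_cases h6 : u6 = 0
        · subst h6
          refine ⟨u4, ?_, Or.inl ?_⟩
          · intro h
            subst h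
            exact hne (NF_zero f)
          · rw [NF_U4]
            exact CJ.refl _ _
        · refine ⟨u6, h6, Or.inr ?_⟩
          -- E7: kill u4 by U1(s), f s * u6 = u4
          have k := step_1 hK hperf f hf 0 0 0 0 0 u4 0 0 u6 0 0 0 ((f (u4 / u6)) ^ 2)
          refine k.trans (CJ.of_eq ?_)
          rw [← NF_U6]
          apply NF_congr f
          all_goals (try simp only [map_zero, mul_zero, zero_mul, add_zero, zero_add, ne_eq, OfNat.ofNat_ne_zero,
            not_false_eq_true, zero_pow, hff'])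
          · rw [div_mul_cancel₀ _ h6]
            exact CharTwo.add_self_eq_zero _
      · right
        refine ⟨t5, h5, Or.inr ?_⟩
        have hf5 : f t5 ≠ 0 := (map_ne_zero f).2 h5
        -- E5: kill u4 by U2(s,0), f s * f t5 = u4
        have k1 : CJ (2 ^ m) (NF f 0 0 0 0 0 u4 t5 0 u6 0 0 0) (NF f 0 0 0 0 0 0 t5 0 u6 0 0 0) := by
          refine (step_2 hK hperf f hf 0 0 0 0 0 u4 t5 0 u6 0 0 0 ((f u4) ^ 2 / t5) 0).trans (CJ.of_eq ?_)
          apply NF_congr f
          all_goals (try simp only [map_zero, mul_zero, zero_mul, add_zero, zero_add, ne_eq, OfNat.ofNat_ne_zero,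
            not_false_eq_true, zero_pow, map_div₀, hff'])
          · rw [div_mul_cancel₀ _ hf5]
            exact CharTwo.add_self_eq_zero _
        -- E6: kill u6 by U8(s,0), f s * f t5 = u6
        have k2 : CJ (2 ^ m) (NF f 0 0 0 0 0 0 t5 0 u6 0 0 0) (NF f 0 0 0 0 0 0 t5 0 0 0 0 0) := by
          refine (step_8 hK hperf f hf 0 0 0 0 0 0 t5 0 u6 0 0 0 ((f u6) ^ 2 / t5) 0).trans (CJ.of_eq ?_)
          apply NF_congr f
          all_goals (try simp only [map_zero, mul_zero, zero_mul, add_zero, zero_add, ne_eq, OfNat.ofNat_ne_zero,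
            not_false_eq_true, zero_pow, map_div₀, hff'])
          · rw [div_mul_cancel₀ _ hf5]
            exact CharTwo.add_self_eq_zero _
        rw [NF_U5] at k2
        exact k1.trans k2
    · right
      refine ⟨t3, h3, Or.inl ?_⟩
      have k1 := na_Z hK hperf f hf 0 t3 u4 t5 u6 0 0
      simp only [map_zero, mul_zero, zero_mul, add_zero, zero_add, ne_eq, OfNat.ofNat_ne_zero,
            not_false_eq_true, zero_pow] at k1
      exact k1.trans (red_E7 hK hperf f hf 0 u6 t5 u4 t3 h3)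
  · right
    exact ⟨t7, h7, Or.inl (red_E7 hK hperf f hf t3 u4 t5 u6 t7 h7)⟩

end Cfsg.Agent.Helper11.F4I
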