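import Mathlib
import Cfsg.Agent.Lib.Helper25.F4IFUSE
import Cfsg.Agent.Lib.Helper19.F4INCONJCore
import Cfsg.Agent.Lib.Helper19.F4IREDA1
import Cfsg.Agent.Lib.Helper7.F4IREDA2
import Cfsg.Agent.Lib.Helper18.F4IREDB1
import Cfsg.Agent.Lib.Helper18.F4IREDB2
import Cfsg.Agent.Lib.Helper11.F4IREDE
import Cfsg.Agent.Lib.Helper12.F4ISURJ
import Cfsg.Agent.Lib.Helper22.F4ISYL
import Cfsg.Agent.Lib.Lead.TwReeSetup
import Cfsg.Agent.Lib.Helper2.F4ITITSCore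

/-!
# S2184: assembly — `²F₄(q)` has exactly two classes of involutions
-/

set_option autoImplicit false
set_option linter.unusedSectionVars false
set_option linter.unusedSimpArgs false
set_option linter.unusedVariables false
set_option maxHeartbeats 1000000

namespace Cfsg.Agent.Helper11.F4I

open Cfsg Cfsg.Lie Cfsg.Agent.Lead.Chev Cfsg.Agent.Lead.Tw

variable {K : Type*} [Field K] [Fintype K] [CharP K 2] {m : ℕ} (hK : Fintype.card K = 2 ^ (2 * m + 1))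
  (hperf : ∀ x : K, ∃ y : K, y ^ 2 = x) (f : K ≃+* K) (hf : ∀ t, f t = t ^ (2 ^ m))
include hK hperf hf

/-- the outcome of the reduction of the forms `U3 Z4 U5 Z6 U7` -/
theorem red_E' (t3 t4 u4 t5 t6 u6 t7 : K) (hne : NF f 0 0 0 t3 t4 u4 t5 t6 u6 t7 0 0 ≠ 1)
    (hinv : NF f 0 0 0 t3 t4 u4 t5 t6 u6 t7 0 0 * NF f 0 0 0 t3 t4 u4 t5 t6 u6 t7 0 0 = 1) :
    (∃ c : K, c ≠ 0 ∧ CJ (2 ^ m) (NF f 0 0 0 t3 t4 u4 t5 t6 u6 t7 0 0) (U8 f 0 c)) ∨
    (∃ t : K, t ≠ 0 ∧ CJ (2 ^ m) (NF f 0 0 0 t3 t4 u4 t5 t6 u6 t7 0 0) (U1 f t)) := by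
  rcases red_E hK hperf f hf t3 t4 u4 t5 t6 u6 t7 hne hinv with ⟨c, hc, h | h⟩ | ⟨t, ht, h | h⟩
  · exact Or.inl ⟨c, hc, h.trans (fuse_Z hK hperf f hf c).2.1⟩
  · exact Or.inl ⟨c, hc, h.trans (fuse_Z hK hperf f hf c).2.2⟩
  · exact Or.inr ⟨t, ht, h.trans (fuse_U hK hperf f hf t).2.2⟩
  · exact Or.inr ⟨t, ht, h.trans (fuse_U hK hperf f hf t).2.1⟩

/-- the outcome of the reduction of the forms `Z2 U3 U4 U5 U6 U7` with `u2 ≠ 0` -/
theorem red_B2' (u2 t3 t4 u4 t5 t6 u6 t7 : K) (h2 : u2 ≠ 0)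
    (hinv : NF f 0 0 u2 t3 t4 u4 t5 t6 u6 t7 0 0 * NF f 0 0 u2 t3 t4 u4 t5 t6 u6 t7 0 0 = 1) :
    (∃ c : K, c ≠ 0 ∧ CJ (2 ^ m) (NF f 0 0 u2 t3 t4 u4 t5 t6 u6 t7 0 0) (U8 f 0 c)) ∨
    (∃ t : K, t ≠ 0 ∧ CJ (2 ^ m) (NF f 0 0 u2 t3 t4 u4 t5 t6 u6 t7 0 0) (U1 f t)) := by
  have hff := hff hK f hf
  rcases red_B2 hK hperf f hf u2 t3 t4 u4 t5 t6 u6 t7 h2 hinv with h | ⟨t3', t5', u6', h3, h⟩
  · exact Or.inl ⟨u2, h2, h.trans (fuse_Z hK hperf f hf u2).1⟩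
  · have hinv' := h.sq_eq_one hinv
    have hne' : NF f 0 0 0 t3' 0 0 t5' 0 u6' 0 0 0 ≠ 1 := by
      intro h1
      rw [← NF_zero f] at h1
      exact h3 (NF_inj f hff h1).2.2.2.1
    rcases red_E' hK hperf f hf t3' 0 0 t5' 0 u6' 0 hne' hinv' with ⟨c, hc, h'⟩ | ⟨t, ht, h'⟩
    · exact Or.inl ⟨c, hc, h.trans h'⟩
    · exact Or.inr ⟨t, ht, h.trans h'⟩

/-- every involution of `U¹` is conjugate to a `U8 0 c` or to a `U1 t` -/
theorem invol_in_U (t1 t2 u2 t3 t4 u4 t5 t6 u6 t7 t8 u8 : K)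
    (hne : NF f t1 t2 u2 t3 t4 u4 t5 t6 u6 t7 t8 u8 ≠ 1)
    (hinv : NF f t1 t2 u2 t3 t4 u4 t5 t6 u6 t7 t8 u8 * NF f t1 t2 u2 t3 t4 u4 t5 t6 u6 t7 t8 u8 = 1) :
    (∃ c : K, c ≠ 0 ∧ CJ (2 ^ m) (NF f t1 t2 u2 t3 t4 u4 t5 t6 u6 t7 t8 u8) (U8 f 0 c)) ∨
    (∃ t : K, t ≠ 0 ∧ CJ (2 ^ m) (NF f t1 t2 u2 t3 t4 u4 t5 t6 u6 t7 t8 u8) (U1 f t)) := by
  have hff := hff hK f hf
  obtain ⟨q2t, q2u, q3, q4t, q4u, q5, q6t, q6u, q7, q8u⟩ := invol_facts f hff _ _ _ _ _ _ _ _ _ _ _ _ hinv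
  have h8 : t8 = 0 := mul_f_eq_zero hK f hf q8u
  subst h8
  simp only [map_zero, mul_zero, zero_mul, add_zero, zero_add, ne_eq, OfNat.ofNat_ne_zero, not_false_eq_true,
    zero_pow] at q2t q2u q3 q4t q4u q5 q6t q6u q7
  by_cases h1 : t1 = 0
  · subst h1
    simp only [map_zero, mul_zero, zero_mul, add_zero, zero_add, ne_eq, OfNat.ofNat_ne_zero, not_false_eq_true,
      zero_pow] at q2u
    have h2 : t2 = 0 := mul_f_eq_zero hK f hf q2u
    subst h2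
    by_cases hu8 : u8 = 0
    · subst hu8
      by_cases hu2 : u2 = 0
      · subst hu2
        exact red_E' hK hperf f hf t3 t4 u4 t5 t6 u6 t7 hne hinv
      · exact red_B2' hK hperf f hf u2 t3 t4 u4 t5 t6 u6 t7 hu2 hinv
    · obtain ⟨u2', t3', u4', t5', u6', hu2', h⟩ := red_B1 hK hperf f hf u2 t3 t4 u4 t5 t6 u6 t7 u8 hu8 hinv
      have hinv' := h.sq_eq_one hinv
      rcases red_B2' hK hperf f hf u2' t3' 0 u4' t5' 0 u6' 0 hu2' hinv' with ⟨c, hc, h'⟩ | ⟨t, ht, h'⟩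
      · exact Or.inl ⟨c, hc, h.trans h'⟩
      · exact Or.inr ⟨t, ht, h.trans h'⟩
  · have hu8 : u8 = 0 := by
      have h := q6t
      rcases mul_eq_zero.1 h with h | h
      · exact absurd h h1
      · exact (map_eq_zero f).1 (pow_eq_zero_iff (by norm_num) |>.1 h)
    subst hu8
    obtain ⟨u2', t3', u4', t5', h⟩ := red_A1 hK hperf f hf t1 t2 u2 t3 t4 u4 t5 t6 u6 t7 h1 hinv
    exact Or.inr ⟨t1, h1, h.trans (red_A2 hK hperf f hf t1 u2' t3' u4' t5' h1)⟩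

theorem class_reps (g : GL chevF4.Idx K) (hg : g ∈ twistedF4 K (2 ^ m)) (h2 : g * g = 1) (h1 : g ≠ 1) :
    CJ (2 ^ m) g (U8 f 0 1) ∨ CJ (2 ^ m) g (U1 f 1) := by
  obtain ⟨h, hh, hU⟩ := sylow_step hK hperf f hf g hg h2
  obtain ⟨t1, t2, u2, t3, t4, u4, t5, t6, u6, t7, t8, u8, e⟩ := exists_NF hK hperf f hf _ hU
  have hcj : CJ (2 ^ m) g (NF f t1 t2 u2 t3 t4 u4 t5 t6 u6 t7 t8 u8) := ⟨h, hh, e⟩
  rcases invol_in_U hK hperf f hf t1 t2 u2 t3 t4 u4 t5 t6 u6 t7 t8 u8 (hcj.ne_one h1) (hcj.sq_eq_one h2) with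
    ⟨c, hc, h'⟩ | ⟨t, ht, h'⟩
  · exact Or.inl ((hcj.trans h').trans (scale_Z hK hperf f hf c 1 hc one_ne_zero))
  · exact Or.inr ((hcj.trans h').trans (scale_U hK hperf f hf t 1 ht one_ne_zero))

theorem reps_not_conj : ¬ CJ (2 ^ m) (U8 f 0 1) (U1 f 1) := by
  intro h
  exact not_conj_core hK hperf f hf (exists_NF hK hperf f hf) 1 1 one_ne_zero one_ne_zero
    (((fuse_Z hK hperf f hf 1).2.1).trans h)

omit hperf f hf [CharP K 2] in
/-- **`²F₄(q)` has exactly two classes of involutions** -/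
theorem main_F4 : (ConjClasses.mk '' {g : ↥(twistedF4 K (2 ^ m)) | orderOf g = 2}).ncard = 2 := by
  obtain ⟨hc, hperf, f, hf⟩ := exists_ree_setup 2 Nat.prime_two m hK
  haveI := hc
  have hff := hff hK f hf
  set a : ↥(twistedF4 K (2 ^ m)) := ⟨U8 f 0 1, U8_mem f hf 0 1⟩ with ha
  set b : ↥(twistedF4 K (2 ^ m)) := ⟨U1 f 1, U1_mem f hf 1⟩ with hb
  have hP : Fact (Nat.Prime 2) := ⟨Nat.prime_two⟩
  have hoa : orderOf a = 2 := by
    apply orderOf_eq_prime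
    · apply Subtype.ext
      rw [pow_two]
      show U8 f 0 1 * U8 f 0 1 = 1
      rw [U8_mul f hff]
      simp only [map_zero, mul_zero, add_zero, CharTwo.add_self_eq_zero, U8_zero]
    · intro h
      have h1 : U8 f 0 1 = 1 := congrArg Subtype.val h
      rw [← NF_U8, ← NF_zero f] at h1
      exact one_ne_zero (NF_inj f hff h1).2.2.2.2.2.2.2.2.2.2.2
  have hob : orderOf b = 2 := by
    apply orderOf_eq_prime
    · apply Subtype.ext
      rw [pow_two]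
      show U1 f 1 * U1 f 1 = 1
      rw [U1_mul f hff, CharTwo.add_self_eq_zero, U1_zero]
    · intro h
      have h1 : U1 f 1 = 1 := congrArg Subtype.val h
      rw [← NF_U1, ← NF_zero f] at h1
      exact one_ne_zero (NF_inj f hff h1).1
  have hconj : ∀ x y : ↥(twistedF4 K (2 ^ m)), CJ (2 ^ m) x.1 y.1 ↔ IsConj x y := by
    intro x y
    constructor
    · rintro ⟨g, hg, e⟩
      exact isConj_iff.2 ⟨⟨g, hg⟩, Subtype.ext e⟩
    · intro h
      obtain ⟨g, e⟩ := isConj_iff.1 h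
      exact ⟨g.1, g.2, congrArg Subtype.val e⟩
  have hne : ConjClasses.mk a ≠ ConjClasses.mk b := by
    intro h
    rw [ConjClasses.mk_eq_mk_iff_isConj, ← hconj] at h
    exact reps_not_conj hK hperf f hf h
  have hset : ConjClasses.mk '' {g : ↥(twistedF4 K (2 ^ m)) | orderOf g = 2} =
      {ConjClasses.mk a, ConjClasses.mk b} := by
    ext c
    constructor
    · rintro ⟨g, hg, rfl⟩
      have hg2 : orderOf g = 2 := hg
      have h2 : g.1 * g.1 = 1 := by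
        have : g ^ 2 = 1 := by
          have h := pow_orderOf_eq_one g
          rwa [hg2] at h
        rw [pow_two] at this
        exact congrArg Subtype.val this
      have h1 : g.1 ≠ 1 := by
        intro h
        have : g = 1 := Subtype.ext h
        rw [this, orderOf_one] at hg2
        omega
      rcases class_reps hK hperf f hf g.1 g.2 h2 h1 with h | h
      · left
        exact ConjClasses.mk_eq_mk_iff_isConj.2 ((hconj g a).1 h)
      · right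
        exact ConjClasses.mk_eq_mk_iff_isConj.2 ((hconj g b).1 h)
    · rintro (rfl | rfl)
      · exact ⟨a, hoa, rfl⟩
      · exact ⟨b, hob, rfl⟩
  rw [hset, Set.ncard_pair hne]

end Cfsg.Agent.Helper11.F4I

namespace Cfsg.Agent.Helper11.F4I

open Cfsg Cfsg.Lie Cfsg.Agent.Lead.Chev Cfsg.Agent.Lead.Tw

/-- **the Tits group has exactly two classes of involutions** -/
theorem tits_half : (ConjClasses.mk '' {g : Cfsg.Lie.TitsGroup | orderOf g = 2}).ncard = 2 :=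
  tits_half_of (class_reps tits_hK tits_hperf tits_f tits_hf) (reps_not_conj tits_hK tits_hperf tits_f tits_hf)

end Cfsg.Agent.Helper11.F4I
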