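import Mathlib
import Cfsg.Agent.Lib.Lead.ChevCount
import Cfsg.Agent.Lib.Helper6.ChevLPar

/-!
# The order of a standard parabolic subgroup of a Chevalley group

For a list `L` of words in the fundamental reflections of `J`, containing the empty word, closed under left
multiplication by the generators of `J` up to the action on the roots, and with pairwise different actions:
`P_J = ⨆_{w ∈ L} B n_w U_w⁻` (disjoint union, unique expressions), hence `|P_J| = |B| ∑_{w ∈ L} q^{N(w)}`.
-/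

set_option autoImplicit false
set_option linter.unusedSectionVars false
set_option linter.unusedSimpArgs false
set_option linter.unusedVariables false

namespace Cfsg.Agent.Helper11.ParCard

open Cfsg Cfsg.Lie Cfsg.Agent.Lead.Chev Cfsg.Agent.Helper6.ChevL

variable {F : Type*} [Field F] {D : ChevalleyDatum} (hF : ChevFacts D F)
include hF

/-- the elements of the cell `B n_w U_w⁻` -/
def InC (w : List ℕ) (g : GL D.Idx F) : Prop :=
  ∃ b ∈ D.borelSubgroup F, ∃ u ∈ negPart D hF.xadd w, g = b * nWordGL D hF.xadd w * u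

/-- `B n_w B ⊆ B n_w U_w⁻` -/
theorem inC_of_dc (hS : CorSize D) (w : List ℕ) (hw : ∀ i ∈ w, i < D.rank) (b₁ b₂ : GL D.Idx F)
    (hb₁ : b₁ ∈ D.borelSubgroup F) (hb₂ : b₂ ∈ D.borelSubgroup F) :
    InC hF w (b₁ * nWordGL D hF.xadd w * b₂) := by
  obtain ⟨u₂, hu₂, h₂, hh₂, eb⟩ := (hF.mem_borel_iff _).1 hb₂
  obtain ⟨b, hb, u', hu', e3⟩ := hF.nWordGL_mul_posUnipotent hS w hw u₂ hu₂
  have hc := nWordGL_conj_mem_diagonal D hF.xadd (etaOf D) hF.nsimple w hw h₂ hh₂
  have hu'' := hF.diagonal_conj_negPart w h₂⁻¹ (inv_mem hh₂) u' hu'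
  rw [inv_inv] at hu''
  refine ⟨b₁ * b * (nWordGL D hF.xadd w * h₂ * (nWordGL D hF.xadd w)⁻¹),
    mul_mem (mul_mem hb₁ hb) (diagonal_le_borel D hc), _, hu'', ?_⟩
  rw [eb]
  have e4 : b₁ * nWordGL D hF.xadd w * (u₂ * h₂) = b₁ * (nWordGL D hF.xadd w * u₂) * h₂ := by group
  rw [e4, e3]
  group

/-- the cell depends on the action of the word only -/
theorem inC_congr (hS : CorSize D) (w w' : List ℕ) (hw : ∀ i ∈ w, i < D.rank) (hw' : ∀ i ∈ w', i < D.rank)
    (hact : ∀ r < D.nroots, reflWord D w r = reflWord D w' r) (g : GL D.Idx F) (hg : InC hF w g) :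
    InC hF w' g := by
  obtain ⟨b, hb, u, hu, rfl⟩ := hg
  have hk := hF.nWordGL_inv_mul_mem_diagonal w' w hw' hw (fun r hr => (hact r hr).symm)
  have hk' := nWordGL_conj_mem_diagonal D hF.xadd (etaOf D) hF.nsimple w' hw' _ hk
  have hu' : u ∈ negPart D hF.xadd w' := by
    rw [← negPart_congr D hF.xadd w w' hact]
    exact hu
  refine ⟨b * (nWordGL D hF.xadd w' * ((nWordGL D hF.xadd w')⁻¹ * nWordGL D hF.xadd w) *
    (nWordGL D hF.xadd w')⁻¹), mul_mem hb (diagonal_le_borel D hk'), u, hu', ?_⟩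
  group

/-- left multiplication by an element of `B` -/
theorem inC_borel_mul (w : List ℕ) (b : GL D.Idx F) (hb : b ∈ D.borelSubgroup F) (g : GL D.Idx F)
    (hg : InC hF w g) : InC hF w (b * g) := by
  obtain ⟨b', hb', u, hu, rfl⟩ := hg
  exact ⟨b * b', mul_mem hb hb', u, hu, by group⟩

/-- left multiplication by a fundamental `n_j` -/
theorem inC_nGL_mul (hS : CorSize D) (w : List ℕ) (hw : ∀ i ∈ w, i < D.rank) (j : ℕ) (hj : j < D.rank)
    (g : GL D.Idx F) (hg : InC hF w g) :
    InC hF (j :: w) (nGL D hF.xadd (D.simple j) * g) ∨ InC hF w (nGL D hF.xadd (D.simple j) * g) := by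
  obtain ⟨b, hb, u, hu, rfl⟩ := hg
  have hjw : ∀ i ∈ j :: w, i < D.rank := by
    intro i hi
    rcases List.mem_cons.1 hi with rfl | h
    · exact hj
    · exact hw i h
  have huB : u ∈ D.borelSubgroup F := posUnipotent_le_borel D (hF.negPart_le_posUnipotent w hu)
  rcases hF.nGL_mul_borel_mul j hj b hb _ (nWordGL_mem_monomial D hF.xadd hF.simple_lt w hw) with
    ⟨b₁, hb₁, b₂, hb₂, h⟩ | ⟨b₁, hb₁, b₂, hb₂, h⟩
  · left
    have e : nGL D hF.xadd (D.simple j) * (b * nWordGL D hF.xadd w * u) =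
        b₁ * nWordGL D hF.xadd (j :: w) * (b₂ * u) := by
      rw [nWordGL_cons]
      calc nGL D hF.xadd (D.simple j) * (b * nWordGL D hF.xadd w * u)
          = (nGL D hF.xadd (D.simple j) * b * nWordGL D hF.xadd w) * u := by group
        _ = (b₁ * (nGL D hF.xadd (D.simple j) * nWordGL D hF.xadd w) * b₂) * u := by rw [h]
        _ = _ := by group
    rw [e]
    exact inC_of_dc hF hS (j :: w) hjw b₁ (b₂ * u) hb₁ (mul_mem hb₂ huB)
  · right
    have e : nGL D hF.xadd (D.simple j) * (b * nWordGL D hF.xadd w * u) =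
        b₁ * nWordGL D hF.xadd w * (b₂ * u) := by
      calc nGL D hF.xadd (D.simple j) * (b * nWordGL D hF.xadd w * u)
          = (nGL D hF.xadd (D.simple j) * b * nWordGL D hF.xadd w) * u := by group
        _ = (b₁ * nWordGL D hF.xadd w * b₂) * u := by rw [h]
        _ = _ := by group
    rw [e]
    exact inC_of_dc hF hS w hw b₁ (b₂ * u) hb₁ (mul_mem hb₂ huB)

/-- the hypotheses on the list of words -/
structure WList (D : ChevalleyDatum) (J : Set ℕ) (L : List (List ℕ)) : Prop where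
  nil_mem : [] ∈ L
  valid : ∀ w ∈ L, ∀ i ∈ w, i < D.rank ∧ i ∈ J
  step : ∀ j ∈ J, j < D.rank → ∀ w ∈ L, ∃ w' ∈ L, ∀ r < D.nroots, reflWord D (j :: w) r = reflWord D w' r
  dist : L.Pairwise fun w w' => ¬ ∀ r < D.nroots, reflWord D w r = reflWord D w' r

/-- every element of `P_J` lies in one of the cells of the list -/
theorem exists_inC (hS : CorSize D) (J : Set ℕ) (L : List (List ℕ)) (hL : WList D J L) (g : GL D.Idx F)
    (hg : g ∈ D.parabolicSubgroup F J) : ∃ w ∈ L, InC hF w g := by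
  have hwv : ∀ w ∈ L, ∀ i ∈ w, i < D.rank := fun w hw i hi => (hL.valid w hw i hi).1
  -- the two closure properties
  have hB : ∀ b ∈ D.borelSubgroup F, ∀ y, (∃ w ∈ L, InC hF w y) → ∃ w ∈ L, InC hF w (b * y) := by
    rintro b hb y ⟨w, hw, hy⟩
    exact ⟨w, hw, inC_borel_mul hF w b hb y hy⟩
  have hN : ∀ j ∈ J, j < D.rank → ∀ y, (∃ w ∈ L, InC hF w y) →
      ∃ w ∈ L, InC hF w (nGL D hF.xadd (D.simple j) * y) := by
    rintro j hjJ hj y ⟨w, hw, hy⟩
    rcases inC_nGL_mul hF hS w (hwv w hw) j hj y hy with h | h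
    · obtain ⟨w', hw', hact⟩ := hL.step j hjJ hj w hw
      have hjw : ∀ i ∈ j :: w, i < D.rank := by
        intro i hi
        rcases List.mem_cons.1 hi with rfl | h'
        · exact hj
        · exact hwv w hw i h'
      exact ⟨w', hw', inC_congr hF hS (j :: w) w' hjw (hwv w' hw') hact _ h⟩
    · exact ⟨w, hw, h⟩
  have e : D.parabolicSubgroup F J = Subgroup.closure ((D.borelSubgroup F : Set (GL D.Idx F)) ∪
      {g | ∃ j ∈ J, j < D.rank ∧ (g : Matrix D.Idx D.Idx F) = D.nMat F (D.simple j) 1}) := by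
    unfold ChevalleyDatum.parabolicSubgroup
    rw [Subgroup.closure_union, Subgroup.closure_eq]
  rw [e] at hg
  induction hg using Subgroup.closure_induction_left with
  | one =>
    refine ⟨[], hL.nil_mem, 1, one_mem _, 1, one_mem _, ?_⟩
    rw [nWordGL_nil]
    group
  | mul_left x hx y hy ih =>
    rcases hx with hx | ⟨j, hjJ, hj, hx⟩
    · exact hB x hx y ih
    · have ex : x = nGL D hF.xadd (D.simple j) := Units.ext (by rw [hx, nGL_val])
      rw [ex]
      exact hN j hjJ hj y ih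
  | inv_mul_cancel x hx y hy ih =>
    rcases hx with hx | ⟨j, hjJ, hj, hx⟩
    · exact hB x⁻¹ (inv_mem hx) y ih
    · have ex : x = nGL D hF.xadd (D.simple j) := Units.ext (by rw [hx, nGL_val])
      rw [ex]
      obtain ⟨h₀, hh₀, e₀⟩ := nGL_inv_eq D hF.xadd (D.simple j) (hF.simple_lt j hj)
      rw [e₀, mul_assoc]
      exact hN j hjJ hj _ (hB h₀ (diagonal_le_borel D hh₀) y ih)

/-- the cells of the list lie in `P_J` -/
theorem mem_parabolic_of_inC (hP : ParFacts D) (J : Set ℕ) (w : List ℕ) (hw : ∀ i ∈ w, i < D.rank ∧ i ∈ J)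
    (g : GL D.Idx F) (hg : InC hF w g) : g ∈ D.parabolicSubgroup F J := by
  obtain ⟨b, hb, u, hu, rfl⟩ := hg
  have hn : nWordGL D hF.xadd w ∈ D.parabolicSubgroup F J := by
    clear hu
    induction w with
    | nil => rw [nWordGL_nil]; exact one_mem _
    | cons i w ih =>
      rw [nWordGL_cons]
      exact mul_mem (nGL_mem_parabolic hF hP J i (hw i List.mem_cons_self).1 (hw i List.mem_cons_self).2)
        (ih fun k hk => hw k (List.mem_cons_of_mem _ hk))
  exact mul_mem (mul_mem (borel_le_parabolic J hb) hn)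
    (borel_le_parabolic J (posUnipotent_le_borel D (hF.negPart_le_posUnipotent w hu)))

/-- **the order of `P_J`** -/
theorem card_parabolic [Fintype F] (hS : CorSize D) (hC : CorComb D) (hP : ParFacts D) (J : Set ℕ)
    (L : List (List ℕ)) (hL : WList D J L) :
    Nat.card ↥(D.parabolicSubgroup F J) = Nat.card ↥(D.borelSubgroup F) *
      (L.map fun w => Fintype.card F ^ (negSet D w).card).sum := by
  classical
  have hwv : ∀ w ∈ L, ∀ i ∈ w, i < D.rank := fun w hw i hi => (hL.valid w hw i hi).1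
  let φ : (Σ i : Fin L.length, ↥(D.borelSubgroup F) × ↥(negPart D hF.xadd (L.get i))) →
      ↥(D.parabolicSubgroup F J) := fun p =>
    ⟨(p.2.1 : GL D.Idx F) * nWordGL D hF.xadd (L.get p.1) * (p.2.2 : GL D.Idx F),
      mem_parabolic_of_inC hF hP J (L.get p.1) (hL.valid _ (List.get_mem L p.1)) _
        ⟨p.2.1, p.2.1.2, p.2.2, p.2.2.2, rfl⟩⟩
  have hinj : Function.Injective φ := by
    rintro ⟨i, b, u⟩ ⟨i', b', u'⟩ h
    have h1 : (b : GL D.Idx F) * nWordGL D hF.xadd (L.get i) * u =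
        b' * nWordGL D hF.xadd (L.get i') * u' := congrArg Subtype.val h
    have hact := hF.cell_action (L.get i) (L.get i') (hwv _ (List.get_mem L i)) (hwv _ (List.get_mem L i'))
      b b' u u' b.2 b'.2 u.2 u'.2 h1
    have hii : i = i' := by
      by_contra hne
      rcases lt_or_gt_of_ne hne with hlt | hlt
      · exact (List.pairwise_iff_get.1 hL.dist i i' hlt) hact
      · exact (List.pairwise_iff_get.1 hL.dist i' i hlt) (fun r hr => (hact r hr).symm)
    subst hii
    obtain ⟨h2, h3⟩ := hF.cell_unique (L.get i) (hwv _ (List.get_mem L i)) b b' u u' b.2 b'.2 u.2 u'.2 h1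
    have hb : b = b' := Subtype.ext h2
    have hu : u = u' := Subtype.ext h3
    rw [hb, hu]
  have hsurj : Function.Surjective φ := by
    rintro ⟨g, hg⟩
    obtain ⟨w, hw, b, hb, u, hu, e⟩ := exists_inC hF hS J L hL g hg
    obtain ⟨i, rfl⟩ := List.get_of_mem hw
    exact ⟨⟨i, ⟨b, hb⟩, ⟨u, hu⟩⟩, Subtype.ext e.symm⟩
  rw [← Nat.card_congr (Equiv.ofBijective φ ⟨hinj, hsurj⟩), Nat.card_sigma]
  have hterm : ∀ i : Fin L.length, Nat.card (↥(D.borelSubgroup F) × ↥(negPart D hF.xadd (L.get i))) =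
      Nat.card ↥(D.borelSubgroup F) * Fintype.card F ^ (negSet D (L.get i)).card := by
    intro i
    rw [Nat.card_prod, hF.card_negPart hS hC _ (hwv _ (List.get_mem L i))]
  simp_rw [hterm]
  rw [← Finset.mul_sum]
  congr 1
  have e1 : (L.map fun w => Fintype.card F ^ (negSet D w).card) =
      List.ofFn (fun i : Fin L.length => Fintype.card F ^ (negSet D (L.get i)).card) := by
    conv_lhs => rw [← List.ofFn_get L]
    rw [List.map_ofFn]
    rfl
  rw [e1, List.sum_ofFn]

end Cfsg.Agent.Helper11.ParCard
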