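import Mathlib
import Cfsg.Agent.Lib.Helper11.ParCard
import Cfsg.Agent.Lib.Lead.ChevOrderAll
import Cfsg.Agent.S1027
import Cfsg.Agent.S1035

/-!
# `F₄(q)`: the orders of the parabolic subgroups `P_{p₂,p₃}` and `P_{p₁,p₄}`, and the primes dividing the orders of
their elements
-/

set_option autoImplicit false
set_option linter.unusedSectionVars false
set_option linter.unusedSimpArgs false
set_option linter.unusedVariables false

namespace Cfsg.Agent.Helper11.ParCard

open Cfsg Cfsg.Lie Cfsg.Agent.Lead.Chev Cfsg.Agent.Helper6.ChevL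

theorem hmF4' : chevF4 ∈ [chevG2, chevB2, chevD4, chevF4, chevE6, chevE7, chevE8] := by simp

/-- the words of `W_{p₂,p₃}` (type `B₂`) -/
def LA : List (List ℕ) := [[], [1], [2], [1, 2], [2, 1], [1, 2, 1], [2, 1, 2], [1, 2, 1, 2]]

/-- the words of `W_{p₁,p₄}` (type `A₁ × A₁`) -/
def LB : List (List ℕ) := [[], [0], [3], [0, 3]]

theorem wlist_A : WList chevF4 {j | j = 1 ∨ j = 2} LA where
  nil_mem := by simp [LA]
  valid := by decide +kernel
  step := by
    intro j hj _
    rcases hj with rfl | rfl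
    · decide +kernel
    · decide +kernel
  dist := by decide +kernel

theorem wlist_B : WList chevF4 {j | j = 0 ∨ j = 3} LB where
  nil_mem := by simp [LB]
  valid := by decide +kernel
  step := by
    intro j hj _
    rcases hj with rfl | rfl
    · decide +kernel
    · decide +kernel
  dist := by decide +kernel

theorem negCard_A : LA.map (fun w => (negSet chevF4 w).card) = [0, 1, 1, 2, 2, 3, 3, 4] := by decide +kernel

theorem negCard_B : LB.map (fun w => (negSet chevF4 w).card) = [0, 1, 1, 2] := by decide +kernel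

variable {F : Type*} [Field F] [Fintype F]

theorem card_borel_F4 (hF : ChevFacts chevF4 F) :
    Nat.card ↥(chevF4.borelSubgroup F) = Fintype.card F ^ 24 * (Fintype.card F - 1) ^ 4 := by
  rw [hF.card_borel, Cfsg.Agent.S1027.result chevF4 hmF4']
  have h := Cfsg.Agent.S1035.result (F := F) rfl (chevF4, 1) (by simp)
  simp only [one_mul] at h
  rw [h]
  rfl

theorem card_parabolic_A (hF : ChevFacts chevF4 F) :
    Nat.card ↥(chevF4.parabolicSubgroup F {j | j = 1 ∨ j = 2}) =
      Fintype.card F ^ 24 * (Fintype.card F - 1) ^ 4 *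
        (Fintype.card F ^ 0 + (Fintype.card F ^ 1 + (Fintype.card F ^ 1 + (Fintype.card F ^ 2 +
          (Fintype.card F ^ 2 + (Fintype.card F ^ 3 + (Fintype.card F ^ 3 + (Fintype.card F ^ 4 + 0)))))))) := by
  have e : (LA.map fun w => Fintype.card F ^ (negSet chevF4 w).card) =
      (LA.map (fun w => (negSet chevF4 w).card)).map (fun k => Fintype.card F ^ k) := by
    rw [List.map_map]
    rfl
  rw [card_parabolic hF (corSize_of_mem _ hmF4') (corComb_of_mem _ hmF4') (parFacts_of_mem _ hmF4') _ LA wlist_A,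
    card_borel_F4 hF, e, negCard_A]
  rfl

theorem card_parabolic_B (hF : ChevFacts chevF4 F) :
    Nat.card ↥(chevF4.parabolicSubgroup F {j | j = 0 ∨ j = 3}) =
      Fintype.card F ^ 24 * (Fintype.card F - 1) ^ 4 *
        (Fintype.card F ^ 0 + (Fintype.card F ^ 1 + (Fintype.card F ^ 1 + (Fintype.card F ^ 2 + 0)))) := by
  have e : (LB.map fun w => Fintype.card F ^ (negSet chevF4 w).card) =
      (LB.map (fun w => (negSet chevF4 w).card)).map (fun k => Fintype.card F ^ k) := by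
    rw [List.map_map]
    rfl
  rw [card_parabolic hF (corSize_of_mem _ hmF4') (corComb_of_mem _ hmF4') (parFacts_of_mem _ hmF4') _ LB wlist_B,
    card_borel_F4 hF, e, negCard_B]
  rfl

/-- the arithmetic: both orders divide a power of `q (q⁴ - 1)` -/
theorem dvd_pow_A (q : ℕ) (hq : 1 ≤ q) :
    q ^ 24 * (q - 1) ^ 4 * (q ^ 0 + (q ^ 1 + (q ^ 1 + (q ^ 2 + (q ^ 2 + (q ^ 3 + (q ^ 3 + (q ^ 4 + 0)))))))) ∣
      (q * (q ^ 4 - 1)) ^ 24 := by
  obtain ⟨a, rfl⟩ : ∃ a, q = a + 1 := ⟨q - 1, by omega⟩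
  have e1 : a + 1 - 1 = a := by omega
  have e2 : (a + 1) ^ 4 - 1 = a * ((a + 1) + 1) * ((a + 1) ^ 2 + 1) := by
    apply Nat.sub_eq_of_eq_add
    ring
  rw [e1, e2]
  refine ⟨a ^ 20 * ((a + 1) + 1) ^ 22 * ((a + 1) ^ 2 + 1) ^ 23, ?_⟩
  ring

theorem dvd_pow_B (q : ℕ) (hq : 1 ≤ q) :
    q ^ 24 * (q - 1) ^ 4 * (q ^ 0 + (q ^ 1 + (q ^ 1 + (q ^ 2 + 0)))) ∣ (q * (q ^ 4 - 1)) ^ 24 := by
  obtain ⟨a, rfl⟩ : ∃ a, q = a + 1 := ⟨q - 1, by omega⟩
  have e1 : a + 1 - 1 = a := by omega
  have e2 : (a + 1) ^ 4 - 1 = a * ((a + 1) + 1) * ((a + 1) ^ 2 + 1) := by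
    apply Nat.sub_eq_of_eq_add
    ring
  rw [e1, e2]
  refine ⟨a ^ 20 * ((a + 1) + 1) ^ 22 * ((a + 1) ^ 2 + 1) ^ 24, ?_⟩
  ring

/-- the primes dividing the order of an element of a finite group whose order divides a power of `N` -/
theorem primeFactors_orderOf_subset {G : Type*} [Group G] (P : Subgroup G) [Finite P] (N k : ℕ) (hN : N ≠ 0)
    (hk : k ≠ 0) (hdvd : Nat.card ↥P ∣ N ^ k) (g : G) (hg : g ∈ P) :
    (orderOf g).primeFactors ⊆ N.primeFactors := by
  have h1 : orderOf g ∣ Nat.card ↥P := by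
    have := orderOf_dvd_natCard (⟨g, hg⟩ : ↥P)
    rwa [Subgroup.orderOf_mk] at this
  have h2 : orderOf g ∣ N ^ k := h1.trans hdvd
  have h3 := Nat.primeFactors_mono h2 (pow_ne_zero k hN)
  rwa [Nat.primeFactors_pow _ hk] at h3

theorem primeFactors_A (hF : ChevFacts chevF4 F) (g : GL chevF4.Idx F)
    (hg : g ∈ chevF4.parabolicSubgroup F {j | j = 1 ∨ j = 2}) :
    (orderOf g).primeFactors ⊆ (Fintype.card F * (Fintype.card F ^ 4 - 1)).primeFactors := by
  have hq : 1 < Fintype.card F := Fintype.one_lt_card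
  have hN : Fintype.card F * (Fintype.card F ^ 4 - 1) ≠ 0 := by
    have : 1 < Fintype.card F ^ 4 := Nat.one_lt_pow (by norm_num) hq
    apply Nat.mul_ne_zero <;> omega
  apply primeFactors_orderOf_subset _ _ 24 hN (by norm_num) _ g hg
  rw [card_parabolic_A hF]
  exact dvd_pow_A _ hq.le

theorem primeFactors_B (hF : ChevFacts chevF4 F) (g : GL chevF4.Idx F)
    (hg : g ∈ chevF4.parabolicSubgroup F {j | j = 0 ∨ j = 3}) :
    (orderOf g).primeFactors ⊆ (Fintype.card F * (Fintype.card F ^ 4 - 1)).primeFactors := by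
  have hq : 1 < Fintype.card F := Fintype.one_lt_card
  have hN : Fintype.card F * (Fintype.card F ^ 4 - 1) ≠ 0 := by
    have : 1 < Fintype.card F ^ 4 := Nat.one_lt_pow (by norm_num) hq
    apply Nat.mul_ne_zero <;> omega
  apply primeFactors_orderOf_subset _ _ 24 hN (by norm_num) _ g hg
  rw [card_parabolic_B hF]
  exact dvd_pow_B _ hq.le

end Cfsg.Agent.Helper11.ParCard
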