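import Mathlib
import Cfsg.Agent.Lib.Helper11.F4IAsm
import Cfsg.Agent.Lib.Helper11.ParCardF4
import Cfsg.Agent.Lib.Helper6.CentPairD

/-!
# `²F₄(q)`: the elements commuting with an involution

The two classes of involutions of `²F₄(q)` are represented by `U4 0 1 = x_44(1) x_47(1)` and `U5 1 = x_39(1) x_45(1)`;
their centralizers in `F₄(q)` lie in the parabolic subgroups `P_{p₂,p₃}` and `P_{p₁,p₄}` (helper6), whose orders are
products of powers of `q`, `q - 1`, `q + 1` and `q² + 1`.
-/

set_option autoImplicit false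
set_option linter.unusedSectionVars false
set_option linter.unusedSimpArgs false
set_option linter.unusedVariables false
set_option maxHeartbeats 1000000

namespace Cfsg.Agent.Helper11.F4I

open Cfsg Cfsg.Lie Cfsg.Agent.Lead.Chev Cfsg.Agent.Lead.Tw Cfsg.Agent.Helper6.CentPair Cfsg.Agent.Helper6.ChevL
  Cfsg.Agent.Helper11.ParCard

variable {K : Type*} [Field K]

theorem twistedF4_le_group (e : ℕ) : twistedF4 K e ≤ chevF4.group K := by
  unfold twistedF4 ChevalleyDatum.genSubgroup
  rw [Subgroup.closure_le]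
  rintro g ⟨w, hw, hg⟩
  have e : g = wordGL chevF4 (Cfsg.Agent.Lead.Tw.F4.hF (K := K)).xadd w := Units.ext (by rw [hg, wordGL_val])
  rw [e]
  exact wordGL_mem_group _ _ _

variable [Fintype K] [CharP K 2] {m : ℕ} (hK : Fintype.card K = 2 ^ (2 * m + 1))
  (hperf : ∀ x : K, ∃ y : K, y ^ 2 = x) (f : K ≃+* K) (hf : ∀ t, f t = t ^ (2 ^ m))
include hK hperf hf

omit [Fintype K] hK hperf hf in
theorem U4_eq_TA : U4 f 0 1 = TA (Cfsg.Agent.Lead.Tw.F4.hF (K := K)) := by
  unfold U4 UB TA
  simp only [map_zero, map_one, X_zero, one_mul, mul_zero, zero_add, one_pow]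
  exact (NCJ.c47 44 (by simp) 1 1)

omit [Fintype K] hK hperf hf in
theorem U5_eq_TB : U5 f 1 = TB (Cfsg.Agent.Lead.Tw.F4.hF (K := K)) := by
  unfold U5 UP TB
  rw [map_one]

/-- an element of `²F₄(q)` commuting with an involution has order with prime divisors among those of `q (q⁴ - 1)` -/
theorem primeFactors_of_commute (g b : GL chevF4.Idx K) (hg : g ∈ twistedF4 K (2 ^ m)) (hb : b ∈ twistedF4 K (2 ^ m))
    (h2 : g * g = 1) (h1 : g ≠ 1) (hc : Commute g b) :
    (orderOf b).primeFactors ⊆ (Fintype.card K * (Fintype.card K ^ 4 - 1)).primeFactors := by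
  have hF₀ := Cfsg.Agent.Lead.Tw.F4.hF (K := K)
  have hS := corSize_of_mem chevF4 hmF4'
  have hP := parFacts_of_mem chevF4 hmF4'
  -- conjugation into one of the two representatives
  have key : ∀ (t : GL chevF4.Idx K), CJ (2 ^ m) g t →
      (∀ x ∈ chevF4.group K, Commute x t →
        (orderOf x).primeFactors ⊆ (Fintype.card K * (Fintype.card K ^ 4 - 1)).primeFactors) →
      (orderOf b).primeFactors ⊆ (Fintype.card K * (Fintype.card K ^ 4 - 1)).primeFactors := by
    rintro t ⟨c, hcm, e⟩ H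
    have hb' : c * b * c⁻¹ ∈ chevF4.group K :=
      twistedF4_le_group _ (mul_mem (mul_mem hcm hb) (inv_mem hcm))
    have hcomm : Commute (c * b * c⁻¹) t := by
      rw [← e]
      unfold Commute SemiconjBy
      calc c * b * c⁻¹ * (c * g * c⁻¹) = c * (b * g) * c⁻¹ := by group
        _ = c * (g * b) * c⁻¹ := by rw [hc.eq]
        _ = _ := by group
    have h := H _ hb' hcomm
    have eo : orderOf (c * b * c⁻¹) = orderOf b := by
      have := (MulAut.conj c).orderOf_eq b
      rwa [MulAut.conj_apply] at this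
    rwa [eo] at h
  rcases class_reps hK hperf f hf g hg h2 h1 with h | h
  · apply key (U4 f 0 1) (h.trans (fuse_Z hK hperf f hf 1).2.1.symm)
    intro x hx hxc
    rw [U4_eq_TA] at hxc
    have hM := centralizer_le_MA (Cfsg.Agent.Lead.Tw.F4.hF (K := K)) hS x hx hxc
    have hPA := MA_le_parabolic (Cfsg.Agent.Lead.Tw.F4.hF (K := K)) hP x hx hM
    exact primeFactors_A (Cfsg.Agent.Lead.Tw.F4.hF (K := K)) x hPA
  · apply key (U5 f 1) (h.trans (fuse_U hK hperf f hf 1).2.1.symm)
    intro x hx hxc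
    rw [U5_eq_TB] at hxc
    have hN := centralizer_le_normalizer_VB (Cfsg.Agent.Lead.Tw.F4.hF (K := K)) hS x hx hxc
    have hPB := normalizer_VB_le_parabolic (Cfsg.Agent.Lead.Tw.F4.hF (K := K)) hP x hx hN
    exact primeFactors_B (Cfsg.Agent.Lead.Tw.F4.hF (K := K)) x hPB

end Cfsg.Agent.Helper11.F4I
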