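import Mathlib
import Cfsg.Agent.Lib.Helper11.FHDefs
import Cfsg.Agent.Lib.Helper4.FHA
import Cfsg.Agent.Lib.Helper4.FHB
import Cfsg.Agent.Lib.Helper23.FHC
import Cfsg.Agent.Lib.Helper16.FHREP1
import Cfsg.Agent.Lib.Helper20.FHTRIG
import Cfsg.Agent.Lib.Helper21.FHPOW
import Cfsg.Agent.Lib.Helper21.FHNT
import Cfsg.Agent.Lib.Helper10.FHBRAID
import Cfsg.Agent.Lib.Helper20.FHSIGMA

set_option autoImplicit false

namespace Cfsg.Agent.Helper11.FH

open Matrix Real

theorem alt_pos {s t : ℝ} (hs : 0 < s) (ht : 0 < t) (k : ℕ) : 0 < alt s t k := by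
  induction k generalizing s t with
  | zero => simp
  | succ k ih => rw [alt_succ]; exact mul_pos hs (ih ht hs)

theorem alt_mem_subalgebra {R : Type*} [Ring R] [Algebra ℝ R] (S : Subalgebra ℝ R) {X Y : R}
    (hX : X ∈ S) (hY : Y ∈ S) (k : ℕ) : alt X Y k ∈ S := by
  induction k generalizing X Y with
  | zero => simp
  | succ k ih => rw [alt_succ]; exact S.mul_mem hX (ih hY hX)

section abs

variable {Ω : Type*} [Fintype Ω] [DecidableEq Ω] [Nonempty Ω] (D : HData Ω)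

/-- the pair algebra -/
abbrev PR (Ω : Type*) [Fintype Ω] [DecidableEq Ω] := Matrix Ω Ω ℝ × Matrix (Fin 2) (Fin 2) ℝ

theorem transpose_mem_adjoin (Z Z' : PR Ω) (hZ : ((Z.1)ᵀ, (Z.2)ᵀ) = Z) (hZ' : ((Z'.1)ᵀ, (Z'.2)ᵀ) = Z')
    (b : PR Ω) (hb : b ∈ Algebra.adjoin ℝ ({Z, Z'} : Set (PR Ω))) :
    ((b.1)ᵀ, (b.2)ᵀ) ∈ Algebra.adjoin ℝ ({Z, Z'} : Set (PR Ω)) := by
  induction hb using Algebra.adjoin_induction with
  | mem x hx =>
    rcases hx with rfl | rfl
    · rw [hZ]; exact Algebra.subset_adjoin (by simp)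
    · rw [hZ']; exact Algebra.subset_adjoin (by simp)
  | algebraMap r =>
    have : (((algebraMap ℝ (PR Ω) r).1)ᵀ, ((algebraMap ℝ (PR Ω) r).2)ᵀ) = algebraMap ℝ (PR Ω) r := by
      rw [Algebra.algebraMap_eq_smul_one]
      ext : 1 <;> simp [Matrix.transpose_smul]
    rw [this]
    exact Subalgebra.algebraMap_mem _ r
  | add x y _ _ hx hy =>
    have : (((x + y).1)ᵀ, ((x + y).2)ᵀ) = ((x.1)ᵀ, (x.2)ᵀ) + ((y.1)ᵀ, (y.2)ᵀ) := by
      ext : 1 <;> simp [Matrix.transpose_add]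
    rw [this]
    exact Subalgebra.add_mem _ hx hy
  | mul x y _ _ hx hy =>
    have : (((x * y).1)ᵀ, ((x * y).2)ᵀ) = ((y.1)ᵀ, (y.2)ᵀ) * ((x.1)ᵀ, (x.2)ᵀ) := by
      ext : 1 <;> simp [Matrix.transpose_mul]
    rw [this]
    exact Subalgebra.mul_mem _ hy hx

theorem HData.rat (j : ℕ) (hj : 0 < j) (hjn : 2 * j < D.n) :
    ∃ q : ℚ, (4 * (D.s : ℝ) * D.t - (yj D.n (D.s : ℝ) (D.t : ℝ) j) ^ 2) /
        (((D.s : ℝ) * D.t + 1 - yj D.n (D.s : ℝ) (D.t : ℝ) j) *
          ((D.s : ℝ) + D.t + yj D.n (D.s : ℝ) (D.t : ℝ) j)) = q := by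
  have hs1 : (1 : ℝ) < D.s := by have := D.hs; exact_mod_cast this
  have ht1 : (1 : ℝ) < D.t := by have := D.ht; exact_mod_cast this
  have hs0 : (0 : ℝ) < D.s := by linarith
  have ht0 : (0 : ℝ) < D.t := by linarith
  have hodd : Odd D.n → (D.s : ℝ) = D.t := fun h => by rw [D.s_eq_t_of_odd h]
  obtain ⟨hy1, hy2, hy3⟩ := yj_bounds D.n j (D.s : ℝ) (D.t : ℝ) hs1 ht1 hj hjn
  set s : ℝ := (D.s : ℝ) with hsdef
  set t : ℝ := (D.t : ℝ) with htdef
  set y : ℝ := yj D.n s t j with hydef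
  set n := D.n with hndef
  -- the pair algebra
  let Z : PR Ω := (D.X, T1 s)
  let Z' : PR Ω := (D.Y, T2 s t y)
  have hZ : Z * Z = s • (1 : PR Ω) + (s - 1) • Z := by
    ext : 1
    · simpa using D.Xsq
    · simpa using T1_sq s
  have hZ' : Z' * Z' = t • (1 : PR Ω) + (t - 1) • Z' := by
    ext : 1
    · simpa using D.Ysq
    · simpa using T2_sq s t y hs0 hy1 hy2
  have hbr : alt Z Z' n = alt Z' Z n := by
    ext : 1
    · rw [alt_fst, alt_fst]; exact D.braid
    · rw [alt_snd, alt_snd]; exact T_braid n j s t hs1 ht1 hj hjn hodd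
  let B : Subalgebra ℝ (PR Ω) := Algebra.adjoin ℝ ({Z, Z'} : Set (PR Ω))
  have hZB : Z ∈ B := Algebra.subset_adjoin (by simp)
  have hZ'B : Z' ∈ B := Algebra.subset_adjoin (by simp)
  let E : Fin n ⊕ Fin n → PR Ω := Sum.elim (fun k => alt Z Z' k) (fun k => alt Z' Z (k + 1))
  let q : Fin n ⊕ Fin n → ℝ := Sum.elim (fun k => alt s t k) (fun k => alt t s (k + 1))
  have hE : ∀ i, E i ∈ B := by
    rintro (k | k)
    · exact alt_mem_subalgebra B hZB hZ'B _
    · exact alt_mem_subalgebra B hZ'B hZB _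
  have hspan : ∀ b ∈ B, ∃ c : Fin n ⊕ Fin n → ℝ, b = ∑ i, c i • E i := by
    intro b hb
    obtain ⟨c, c', hcc⟩ := adjoin_subset Z Z' s t n (by have := D.hn; omega) hZ hZ' hbr b hb
    refine ⟨Sum.elim (fun k => c k) (fun k => c' k), ?_⟩
    rw [Fintype.sum_sum_type, hcc, Finset.sum_range, Finset.sum_range]
    rfl
  have hq : ∀ i, 0 < q i := by
    rintro (k | k)
    · exact alt_pos hs0 ht0 _
    · exact alt_pos ht0 hs0 _
  have horth : ∀ i j, ((E i).1 * ((E j).1)ᵀ).trace =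
      if i = j then (Fintype.card Ω : ℝ) * q i else 0 := by
    rintro (k | k) (l | l)
    · show ((alt Z Z' k).1 * ((alt Z Z' l).1)ᵀ).trace = _
      rw [alt_fst, alt_fst]
      by_cases hkl : k = l
      · subst hkl
        rw [if_pos rfl]
        exact D.norm_XY k k.2.le
      · rw [if_neg (by simpa using hkl)]
        exact D.orthXX k l k.2.le l.2.le (fun h => hkl (Fin.ext h))
    · show ((alt Z Z' k).1 * ((alt Z' Z (l + 1)).1)ᵀ).trace = _
      rw [alt_fst, alt_fst, if_neg (by simp)]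
      exact D.orthXY k (l + 1) k.2.le l.2 (by omega) (fun h => by have := k.2; omega)
    · show ((alt Z' Z (k + 1)).1 * ((alt Z Z' l).1)ᵀ).trace = _
      rw [alt_fst, alt_fst, if_neg (by simp)]
      have h := D.orthXY l (k + 1) l.2.le k.2 (by omega) (fun h => by have := l.2; omega)
      rw [← Matrix.trace_transpose, Matrix.transpose_mul, Matrix.transpose_transpose] at h
      exact h
    · show ((alt Z' Z (k + 1)).1 * ((alt Z' Z (l + 1)).1)ᵀ).trace = _
      rw [alt_fst, alt_fst]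
      by_cases hkl : k = l
      · subst hkl
        rw [if_pos rfl]
        exact D.swap.norm_XY (k + 1) k.2
      · rw [if_neg (by simpa using hkl)]
        exact D.orthYY (k + 1) (l + 1) k.2 l.2 (fun h => hkl (Fin.ext (by omega)))
  have htr : ∀ b ∈ B, ((b.1)ᵀ, (b.2)ᵀ) ∈ B := by
    intro b hb
    refine transpose_mem_adjoin Z Z' ?_ ?_ b hb
    · ext : 1
      · exact D.Xsymm
      · exact T1_transpose s
    · ext : 1
      · exact D.Ysymm
      · exact T2_transpose s t y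
  have hschur : ∀ M : Matrix (Fin 2) (Fin 2) ℝ, (∀ b ∈ B, M * b.2 = b.2 * M) →
      ∃ c : ℝ, M = c • 1 := by
    intro M hM
    exact T_schur s t y hs0 hy1 hy2 M (hM Z hZB) (hM Z' hZ'B)
  obtain ⟨r, hr⟩ := exists_nat_mul (d := 2) (by norm_num) B E q hE hspan hq horth htr hschur
  -- identify the sum
  have hsum : ∑ i, ((E i).2.trace) ^ 2 / q i = sigmaSeq n s t y := by
    rw [Fintype.sum_sum_type, sigmaSeq, Finset.sum_range, Finset.sum_range]
    congr 1
    · refine Finset.sum_congr rfl fun k _ => ?_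
      show ((alt Z Z' k).2.trace) ^ 2 / alt s t k = _
      rw [alt_snd, trace_alt (T1 s) (T2 s t y) s t y (T1_sq s) (T1_trace s) (T2_trace s t y)
        (T1T2_trace s t y hs0) (T1T2_sq s t y hs0 hy1 hy2)]
    · refine Finset.sum_congr rfl fun k _ => ?_
      show ((alt Z' Z (k + 1)).2.trace) ^ 2 / alt t s (k + 1) = _
      rw [alt_snd, trace_alt (T2 s t y) (T1 s) t s y (T2_sq s t y hs0 hy1 hy2) (T2_trace s t y)
        (T1_trace s) (by rw [Matrix.trace_mul_comm]; exact T1T2_trace s t y hs0)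
        (by rw [mul_comm t s]; exact T2T1_sq s t y hs0 hy1 hy2)]
  rw [hsum, sigmaSeq_eq n j s t hs1 ht1 hj hjn] at hr
  -- extract rationality
  have hN : (0 : ℝ) < Fintype.card Ω := by exact_mod_cast Fintype.card_pos
  have hd1 : 0 < s * t + 1 - y := by linarith
  have hd2 : 0 < s + t + y := by linarith
  have hd3 : 0 < 4 * s * t - y ^ 2 := by linarith
  have hn0 : (0 : ℝ) < n := by have := D.hn; exact_mod_cast (by omega : 0 < n)
  refine ⟨(r * 2 * n : ℚ) / (4 * Fintype.card Ω), ?_⟩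
  push_cast
  rw [div_eq_div_iff (by positivity) (by positivity)]
  have hr1 : (r : ℝ) * (2 * n * (s * t + 1 - y) * (s + t + y) / (4 * s * t - y ^ 2)) =
      4 * Fintype.card Ω := by
    rw [hydef, hr]; norm_num
  have hr' : (r : ℝ) * (2 * n * (s * t + 1 - y) * (s + t + y)) =
      4 * Fintype.card Ω * (4 * s * t - y ^ 2) := by
    have h2 : (r : ℝ) * (2 * n * (s * t + 1 - y) * (s + t + y) / (4 * s * t - y ^ 2)) *
        (4 * s * t - y ^ 2) = 4 * Fintype.card Ω * (4 * s * t - y ^ 2) := by rw [hr1]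
    rw [← h2, mul_assoc (r : ℝ) (_ / _) _, div_mul_cancel₀ _ hd3.ne']
  linarith [hr']

theorem HData.n_mem : D.n ∈ ({2, 3, 4, 6, 8} : Set ℕ) :=
  n_mem_of_rat D.n D.s D.t D.hn D.hs D.ht (fun h => D.s_eq_t_of_odd h)
    (fun j hj hjn => D.rat j hj hjn)

end abs

end Cfsg.Agent.Helper11.FH
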