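import Mathlib
import Cfsg.Agent.Lib.Helper11.FHDefs
import Cfsg.Agent.Lib.Helper2.BNPair
import Cfsg.Agent.Lib.Helper17.BNCox2

/-!
# Feit–Higman (S1142): the Hecke matrices of a (B,N)-pair (helper11)

`AM P w` is the `0/1` matrix on `G ⧸ B` of the double coset `B w B`:
`AM P w x y = 1` iff `x⁻¹ y ∈ B w B` (iff `cell P (x⁻¹ y) = w`).
-/

set_option autoImplicit false

namespace Cfsg.Agent.Helper11.FH

open Cfsg Cfsg.Agent.Helper2.WordLen Cfsg.Agent.Helper2.BN Cfsg.Agent.Helper17.BNCox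

variable {G : Type*} [Group G] (P : Cfsg.BNPair G)

open Classical in
/-- the `0/1` matrix of the double coset `B w B` acting on `G ⧸ B` -/
noncomputable def AM (w : W P) : Matrix (G ⧸ P.B) (G ⧸ P.B) ℝ :=
  fun x y => if cell P (x.out⁻¹ * y.out) = w then 1 else 0

open Classical in
theorem AM_apply (w : W P) (x y : G ⧸ P.B) :
    AM P w x y = if cell P (x.out⁻¹ * y.out) = w then 1 else 0 := rfl

/-- the cell of `x⁻¹ y` does not depend on the representatives -/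
theorem cell_out_mk (g h : G) :
    cell P ((g : G ⧸ P.B).out⁻¹ * (h : G ⧸ P.B).out) = cell P (g⁻¹ * h) := by
  obtain ⟨b, hb⟩ := QuotientGroup.mk_out_eq_mul P.B g
  obtain ⟨c, hc⟩ := QuotientGroup.mk_out_eq_mul P.B h
  rw [hb, hc, mul_inv_rev, mul_assoc, ← mul_assoc g⁻¹,
    cell_B_mul P (P.B.inv_mem b.2), cell_mul_B P _ c.2]

open Classical in
theorem AM_mk (w : W P) (g h : G) :
    AM P w (g : G ⧸ P.B) (h : G ⧸ P.B) = if cell P (g⁻¹ * h) = w then 1 else 0 := by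
  rw [AM_apply, cell_out_mk]

theorem AM_mk_eq_one_iff (w : W P) (g h : G) :
    AM P w (g : G ⧸ P.B) (h : G ⧸ P.B) = 1 ↔ cell P (g⁻¹ * h) = w := by
  classical
  rw [AM_mk]
  split_ifs with h1 <;> simp [h1]

theorem AM_mk_eq_zero_iff (w : W P) (g h : G) :
    AM P w (g : G ⧸ P.B) (h : G ⧸ P.B) = 0 ↔ cell P (g⁻¹ * h) ≠ w := by
  classical
  rw [AM_mk]
  split_ifs with h1 <;> simp [h1]

theorem AM_eq_zero_or_one (w : W P) (x y : G ⧸ P.B) : AM P w x y = 0 ∨ AM P w x y = 1 := by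
  classical
  rw [AM_apply]
  split_ifs <;> simp

/-- `cell P g = w ↔ g ∈ B w B` -/
theorem cell_eq_iff (g : G) (w : W P) : cell P g = w ↔ g ∈ C P w :=
  ⟨fun h => h ▸ mem_C_cell P g, fun h => cell_eq P h⟩

end Cfsg.Agent.Helper11.FH
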