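import Mathlib
import Cfsg.Agent.Lib.Helper11.FHDefs
import Cfsg.Agent.Lib.Helper11.FHBNDefs

/-!
# Feit–Higman (S1142), piece BN3: the quadratic relation of the Hecke matrix of a generator
-/

set_option autoImplicit false

namespace Cfsg.Agent.Helper11.FH

open Matrix
open Cfsg Cfsg.Agent.Helper2.WordLen Cfsg.Agent.Helper2.BN Cfsg.Agent.Helper17.BNCox

variable {G : Type*} [Group G] (P : Cfsg.BNPair G)

/-- `cell (g⁻¹)` is the inverse of `cell g` -/
theorem bn3_cell_inv (g : G) : cell P g⁻¹ = (cell P g)⁻¹ :=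
  cell_eq P (C_inv P (mem_C_cell P g))

/-- `C(σ s) C(σ s) ⊆ C 1 ∪ C (σ s)` -/
theorem bn3_cell_mul_gen (s : P.S) {u v : G} (hu : cell P u = σ P s) (hv : cell P v = σ P s) :
    cell P (u * v) = 1 ∨ cell P (u * v) = σ P s := by
  rw [cell_eq_iff] at hu hv
  have hu' : u ∈ C P (π P ⟨s, P.subset s.2⟩) := hu
  rw [mem_C_iff] at hu'
  obtain ⟨b₁, hb₁, b₂, hb₂, rfl⟩ := hu'
  have h1 : b₂ * v ∈ C P (σ P s) := B_mul_C P hb₂ hv
  have e : b₁ * ((⟨s, P.subset s.2⟩ : P.N) : G) * b₂ * v = b₁ * ((s : G) * (b₂ * v)) := by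
    simp [mul_assoc]
  rw [e]
  rcases L1 P s h1 with h | h
  · left
    rw [σ_mul_self] at h
    exact cell_eq P (B_mul_C P hb₁ h)
  · right
    exact cell_eq P (B_mul_C P hb₁ h)

variable [Fintype (G ⧸ P.B)] [DecidableEq (G ⧸ P.B)]

theorem bn3_AM_gen_symm (s : P.S) (x y : G ⧸ P.B) : AM P (σ P s) x y = AM P (σ P s) y x := by
  classical
  obtain ⟨g, rfl⟩ := QuotientGroup.mk_surjective x
  obtain ⟨h, rfl⟩ := QuotientGroup.mk_surjective y
  rw [AM_mk, AM_mk]
  have e : cell P (h⁻¹ * g) = (cell P (g⁻¹ * h))⁻¹ := by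
    rw [← bn3_cell_inv]; congr 1; group
  rw [e]
  by_cases hc : cell P (g⁻¹ * h) = σ P s
  · rw [if_pos hc, if_pos (by rw [hc, σ_inv])]
  · rw [if_neg hc, if_neg (fun h' => hc (by rw [← inv_inv (cell P (g⁻¹ * h)), h', σ_inv]))]

theorem bn3_AM_mul_self_entry (w : W P) (x y : G ⧸ P.B) : AM P w x y * AM P w x y = AM P w x y := by
  rcases AM_eq_zero_or_one P w x y with h | h <;> rw [h] <;> simp

/-- all row sums agree -/
theorem bn3_AM_rowsum (w : W P) (g : G) :
    ∑ z, AM P w (g : G ⧸ P.B) z = ∑ z, AM P w ((1 : G) : G ⧸ P.B) z := by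
  classical
  symm
  refine Fintype.sum_equiv (MulAction.toPerm g) _ _ ?_
  intro z
  obtain ⟨h, rfl⟩ := QuotientGroup.mk_surjective z
  show AM P w _ _ = AM P w _ (g • (h : G ⧸ P.B))
  rw [MulAction.Quotient.smul_mk, AM_mk, AM_mk, smul_eq_mul]
  simp

theorem bn3_AM_diag (s : P.S) (x : G ⧸ P.B) : AM P (σ P s) x x = 0 := by
  obtain ⟨g, rfl⟩ := QuotientGroup.mk_surjective x
  rw [AM_mk_eq_zero_iff, inv_mul_cancel, (cell_eq_one_iff P 1).2 P.B.one_mem]
  exact (σ_ne_one P s).symm

theorem AM_sq (s : P.S) : ∃ q : ℕ, 2 ≤ q ∧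
    AM P (σ P s) * AM P (σ P s) =
      (q : ℝ) • (1 : Matrix (G ⧸ P.B) (G ⧸ P.B) ℝ) + ((q : ℝ) - 1) • AM P (σ P s) := by
  classical
  let F : Finset (G ⧸ P.B) :=
    Finset.univ.filter (fun z => AM P (σ P s) ((1 : G) : G ⧸ P.B) z = 1)
  -- the row sums
  have hrow : ∀ x : G ⧸ P.B, ∑ z, AM P (σ P s) x z = (F.card : ℝ) := by
    intro x
    obtain ⟨g, rfl⟩ := QuotientGroup.mk_surjective x
    rw [bn3_AM_rowsum P (σ P s) g, Finset.card_filter]
    push_cast
    refine Finset.sum_congr rfl fun z _ => ?_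
    rcases AM_eq_zero_or_one P (σ P s) ((1 : G) : G ⧸ P.B) z with h | h <;> simp [h]
  refine ⟨F.card, ?_, ?_⟩
  · -- two different cosets in the double coset
    obtain ⟨b, hb, hnot⟩ := exists_not_mem P s
    have hs : cell P (s : G) = σ P s := cell_eq P (gen_mem_C P s)
    have h1 : ((s : G) : G ⧸ P.B) ∈ F := by
      rw [Finset.mem_filter]
      refine ⟨Finset.mem_univ _, ?_⟩
      rw [AM_mk_eq_one_iff]
      simpa using hs
    have h2 : ((b * (s : G) : G) : G ⧸ P.B) ∈ F := by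
      rw [Finset.mem_filter]
      refine ⟨Finset.mem_univ _, ?_⟩
      rw [AM_mk_eq_one_iff]
      simp only [inv_one, one_mul]
      rw [cell_B_mul P hb, hs]
    have hne : ((s : G) : G ⧸ P.B) ≠ ((b * (s : G) : G) : G ⧸ P.B) := by
      intro h
      rw [QuotientGroup.eq] at h
      apply hnot
      have e : (s : G) * b * s = ((s : G) * s) * ((s : G)⁻¹ * (b * s)) := by group
      rw [e]
      exact P.B.mul_mem (P.sq_mem s s.2) h
    exact Finset.one_lt_card.2 ⟨_, h1, _, h2, hne⟩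
  · ext x y
    rw [Matrix.mul_apply, Matrix.add_apply, Matrix.smul_apply, Matrix.smul_apply, Matrix.one_apply,
      smul_eq_mul, smul_eq_mul]
    by_cases hxy : x = y
    · subst hxy
      rw [if_pos rfl, bn3_AM_diag P s x, mul_zero, add_zero, mul_one, ← hrow x]
      refine Finset.sum_congr rfl fun z _ => ?_
      rw [bn3_AM_gen_symm P s z x, bn3_AM_mul_self_entry]
    · rw [if_neg hxy, mul_zero, zero_add]
      obtain ⟨g, rfl⟩ := QuotientGroup.mk_surjective x
      obtain ⟨h, rfl⟩ := QuotientGroup.mk_surjective y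
      rcases AM_eq_zero_or_one P (σ P s) (g : G ⧸ P.B) (h : G ⧸ P.B) with h0 | h1
      · -- no `z` at all
        rw [h0, mul_zero]
        refine Finset.sum_eq_zero fun z _ => ?_
        obtain ⟨k, rfl⟩ := QuotientGroup.mk_surjective z
        rcases AM_eq_zero_or_one P (σ P s) (g : G ⧸ P.B) (k : G ⧸ P.B) with e1 | e1
        · rw [e1, zero_mul]
        rcases AM_eq_zero_or_one P (σ P s) (k : G ⧸ P.B) (h : G ⧸ P.B) with e2 | e2
        · rw [e2, mul_zero]
        exfalso
        rw [AM_mk_eq_one_iff] at e1 e2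
        have h3 := bn3_cell_mul_gen P s e1 e2
        have e : g⁻¹ * k * (k⁻¹ * h) = g⁻¹ * h := by group
        rw [e] at h3
        rcases h3 with h3 | h3
        · rw [cell_eq_one_iff] at h3
          exact hxy (QuotientGroup.eq.2 h3)
        · rw [AM_mk_eq_zero_iff] at h0
          exact h0 h3
      · rw [h1, mul_one]
        have key : ∀ z : G ⧸ P.B, AM P (σ P s) (g : G ⧸ P.B) z * AM P (σ P s) z (h : G ⧸ P.B) =
            AM P (σ P s) (g : G ⧸ P.B) z - (if z = (h : G ⧸ P.B) then 1 else 0) := by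
          intro z
          by_cases hz : z = (h : G ⧸ P.B)
          · subst hz
            rw [if_pos rfl, h1, bn3_AM_diag P s]
            norm_num
          · rw [if_neg hz, sub_zero]
            obtain ⟨k, rfl⟩ := QuotientGroup.mk_surjective z
            rcases AM_eq_zero_or_one P (σ P s) (g : G ⧸ P.B) (k : G ⧸ P.B) with e1 | e1
            · rw [e1, zero_mul]
            · rw [e1, one_mul]
              rw [AM_mk_eq_one_iff] at e1 h1 ⊢
              -- `k⁻¹ h = (g⁻¹ k)⁻¹ (g⁻¹ h)`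
              have e1' : cell P (k⁻¹ * g) = σ P s := by
                have : k⁻¹ * g = (g⁻¹ * k)⁻¹ := by group
                rw [this, bn3_cell_inv, e1, σ_inv]
              have h3 := bn3_cell_mul_gen P s e1' h1
              have e : k⁻¹ * g * (g⁻¹ * h) = k⁻¹ * h := by group
              rw [e] at h3
              rcases h3 with h3 | h3
              · rw [cell_eq_one_iff] at h3
                exact absurd (QuotientGroup.eq.2 h3) hz
              · exact h3
        rw [Finset.sum_congr rfl (fun z _ => key z), Finset.sum_sub_distrib, hrow,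
          Finset.sum_ite_eq' Finset.univ (h : G ⧸ P.B) (fun _ => (1 : ℝ))]
        simp

end Cfsg.Agent.Helper11.FH
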