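import Mathlib
import Cfsg.Agent.Lib.Helper11.FHDefs
import Cfsg.Agent.Lib.Helper11.FHBNDefs
import Cfsg.Agent.Lib.Helper18.FHBN1
import Cfsg.Agent.Lib.Helper18.FHBN2
import Cfsg.Agent.Lib.Helper11.FHBN3
import Cfsg.Agent.Lib.Helper23.FHDIH

set_option autoImplicit false

namespace Cfsg.Agent.Helper11.FH

open Matrix
open Cfsg Cfsg.Agent.Helper2.WordLen Cfsg.Agent.Helper2.BN Cfsg.Agent.Helper17.BNCox

variable {G : Type*} [Group G] [Finite G] (P : Cfsg.BNPair G)
  [Fintype (G ⧸ P.B)] [DecidableEq (G ⧸ P.B)]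

theorem exists_hdata (h2 : P.rank = 2) :
    ∃ D : HData (G ⧸ P.B), Nat.card (W P) = 2 * D.n := by
  have h2' : Nat.card P.S = 2 := h2
  obtain ⟨s₁, s₂, h12, huniv⟩ := Nat.card_eq_two_iff.1 h2'
  have hI : ∀ s : P.S, s = s₁ ∨ s = s₂ := by
    intro s
    have : s ∈ ({s₁, s₂} : Set P.S) := by rw [huniv]; trivial
    simpa using this
  have hσ12 : σ P s₁ ≠ σ P s₂ := fun h => h12 (σ_injective P h)
  obtain ⟨hn2, hcard, hbraid, hlen1, hlen2, hinj1, hinj2, hinj12⟩ :=
    dihedral_facts (σ P) s₁ s₂ hI hσ12 (σ_mul_self P) (σ_ne_one P) (wp_surj P)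
  set a := σ P s₁ with ha
  set b := σ P s₂ with hb
  set n := orderOf (a * b) with hn
  -- the alternating products are the matrices of the double cosets
  have key : ∀ k ≤ n, alt (AM P a) (AM P b) k = AM P (alt a b k) ∧
      alt (AM P b) (AM P a) k = AM P (alt b a k) := by
    intro k
    induction k with
    | zero =>
      intro _
      simp only [alt_zero]
      exact ⟨(AM_one P).symm, (AM_one P).symm⟩
    | succ k ih =>
      intro hk
      obtain ⟨ih1, ih2⟩ := ih (by omega)
      constructor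
      · rw [alt_succ, alt_succ, ih2]
        apply AM_mul_up
        rw [Up_iff_lt]
        show ℓ P (alt b a k) < ℓ P (a * alt b a k)
        rw [← alt_succ]
        have e1 : ℓ P (alt b a k) = k := hlen2 k (by omega)
        have e2 : ℓ P (alt a b (k + 1)) = k + 1 := hlen1 (k + 1) hk
        omega
      · rw [alt_succ, alt_succ, ih1]
        apply AM_mul_up
        rw [Up_iff_lt]
        show ℓ P (alt a b k) < ℓ P (b * alt a b k)
        rw [← alt_succ]
        have e1 : ℓ P (alt a b k) = k := hlen1 k (by omega)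
        have e2 : ℓ P (alt b a (k + 1)) = k + 1 := hlen2 (k + 1) hk
        omega
  obtain ⟨q₁, hq₁, hsq₁⟩ := AM_sq P s₁
  obtain ⟨q₂, hq₂, hsq₂⟩ := AM_sq P s₂
  have hsymm : ∀ s : P.S, (AM P (σ P s))ᵀ = AM P (σ P s) := by
    intro s
    rw [AM_transpose, σ_inv]
  refine ⟨{ n := n, s := q₁, t := q₂, X := AM P a, Y := AM P b, hn := hn2, hs := hq₁, ht := hq₂
            Xsymm := hsymm s₁, Ysymm := hsymm s₂, Xsq := hsq₁, Ysq := hsq₂
            braid := ?_, orthXX := ?_, orthYY := ?_, orthXY := ?_ }, hcard⟩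
  · rw [(key n le_rfl).1, (key n le_rfl).2, hbraid]
  · intro k l hk hl hkl
    rw [(key k hk).1, (key l hl).1]
    exact AM_orth P (fun h => hkl (hinj1 k l hk hl h))
  · intro k l hk hl hkl
    rw [(key k hk).2, (key l hl).2]
    exact AM_orth P (fun h => hkl (hinj2 k l hk hl h))
  · intro k l hk hl h0 hnn
    rw [(key k hk).1, (key l hl).2]
    refine AM_orth P (fun h => ?_)
    rcases hinj12 k l hk hl h with h' | h'
    · exact h0 h'
    · exact hnn h'

end Cfsg.Agent.Helper11.FH
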