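import Mathlib

set_option autoImplicit false

namespace Cfsg.Agent.Helper11.FitCenA

variable {G : Type*} [Group G]

theorem lcs_normal (N : Subgroup G) [N.Normal] : ∀ i, (N.lowerCentralSeries i).Normal
  | 0 => by simpa using (inferInstance : N.Normal)
  | (i + 1) => by
      have := lcs_normal N i
      rw [Subgroup.lowerCentralSeries_succ]
      infer_instance

theorem exists_min_noncentral [Finite G] (N : Subgroup G) [N.Normal]
    (hN : Group.IsNilpotent N) (hNZ : ¬ N ≤ Subgroup.center G) :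
    ∃ U : Subgroup G, U.Normal ∧ ¬ U ≤ Subgroup.center G ∧
      (∀ u ∈ U, ∀ v ∈ U, u * v * u⁻¹ * v⁻¹ ∈ Subgroup.center G) ∧
      ∀ M : Subgroup G, M.Normal → M < U → M ≤ Subgroup.center G := by
  classical
  -- step 1: a normal W, not central, with commutators central
  obtain ⟨n, hn⟩ := (Subgroup.isNilpotent_iff_lowerCentralSeries N).1 hN
  have hex : ∃ i, N.lowerCentralSeries i ≤ Subgroup.center G := ⟨n, by rw [hn]; exact bot_le⟩
  have hm1 : N.lowerCentralSeries (Nat.find hex) ≤ Subgroup.center G := Nat.find_spec hex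
  have hm0 : Nat.find hex ≠ 0 := by
    intro h0
    rw [h0] at hm1
    exact hNZ hm1
  obtain ⟨k, hk⟩ := Nat.exists_eq_succ_of_ne_zero hm0
  have hkZ : ¬ N.lowerCentralSeries k ≤ Subgroup.center G := by
    have : k < Nat.find hex := by omega
    exact Nat.find_min hex this
  have hk1 : ⁅N.lowerCentralSeries k, N⁆ ≤ Subgroup.center G := by
    have : N.lowerCentralSeries (k + 1) ≤ Subgroup.center G := by
      rw [← Nat.succ_eq_add_one, ← hk]; exact hm1
    exact this
  have hWn : (N.lowerCentralSeries k).Normal := lcs_normal N k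
  have hWN : N.lowerCentralSeries k ≤ N := Subgroup.lowerCentralSeries_le_self N k
  have hWW : ∀ u ∈ N.lowerCentralSeries k, ∀ v ∈ N.lowerCentralSeries k,
      u * v * u⁻¹ * v⁻¹ ∈ Subgroup.center G := by
    intro u hu v hv
    apply hk1
    have := Subgroup.commutator_mem_commutator hu (hWN hv)
    simpa [commutatorElement_def] using this
  -- step 2: minimal such
  let S : Set (Subgroup G) :=
    {X | X.Normal ∧ X ≤ N.lowerCentralSeries k ∧ ¬ X ≤ Subgroup.center G}
  have hSfin : S.Finite := Set.toFinite S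
  have hSne : S.Nonempty := ⟨N.lowerCentralSeries k, hWn, le_rfl, hkZ⟩
  obtain ⟨U, hU⟩ := hSfin.exists_minimal hSne
  obtain ⟨⟨hUn, hUW, hUZ⟩, hUmin⟩ := hU
  refine ⟨U, hUn, hUZ, fun u hu v hv => hWW u (hUW hu) v (hUW hv), ?_⟩
  intro M hMn hMU
  by_contra hMZ
  have hMS : M ∈ S := ⟨hMn, hMU.le.trans hUW, hMZ⟩
  have := hUmin hMS hMU.le
  exact (lt_irrefl _ (lt_of_lt_of_le hMU this))

end Cfsg.Agent.Helper11.FitCenA
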