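import Mathlib
import Cfsg.Agent.Lib.Helper11.G2TDefs
import Cfsg.Agent.Lib.Helper13.G2TCHIA

set_option autoImplicit false

namespace Cfsg.Agent.Helper11.G2T.UREGbk

open Cfsg Cfsg.Lie Cfsg.Agent.Lead.Chev Cfsg.Agent.Lead.Tw

section K

variable {K : Type*} [Field K]

/-- moving an element of `T(K)` through an ordered product of root elements -/
theorem g2tureg_mul_prodL (h : GL chevG2.Idx K) (hh : h ∈ chevG2.diagonalSubgroup K) (t : ℕ → K)
    (L : List ℕ) (hL : ∀ r ∈ L, r < 12) :
    (h : Matrix chevG2.Idx chevG2.Idx K) * prodL chevG2 L t =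
      prodL chevG2 L (fun v => ev h v * t v) * (h : Matrix chevG2.Idx chevG2.Idx K) := by
  induction L with
  | nil => rw [prodL_nil, prodL_nil, mul_one, one_mul]
  | cons r L ih =>
    have hr : r < 12 := hL r List.mem_cons_self
    have hL' : ∀ s ∈ L, s < 12 := fun s hs => hL s (List.mem_cons_of_mem _ hs)
    have e1 : (h : Matrix chevG2.Idx chevG2.Idx K) * chevG2.x K r (t r) =
        chevG2.x K r (ev h r * t r) * (h : Matrix chevG2.Idx chevG2.Idx K) := by
      have e := ev_conj h hh r hr (t r)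
      have e' : h * xGL chevG2 (g2F K).xadd r (t r) =
          xGL chevG2 (g2F K).xadd r (ev h r * t r) * h := by
        rw [← e]; group
      have := congrArg (fun g : GL chevG2.Idx K => (g : Matrix chevG2.Idx chevG2.Idx K)) e'
      simpa only [Units.val_mul, xGL_val] using this
    rw [prodL_cons, prodL_cons, ← mul_assoc, e1, mul_assoc, ih hL', mul_assoc]

theorem g2tureg_mem_posRoots (r : ℕ) (hr : r ∈ chevG2.posRoots) : chevG2.IsPosRoot r := by
  unfold ChevalleyDatum.posRoots at hr
  rw [List.mem_filter, decide_eq_true_eq] at hr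
  exact hr.2

theorem ureg (h : GL chevG2.Idx K) (hh : h ∈ chevG2.diagonalSubgroup K) (hreg : ∀ v < 12, ev h v ≠ 1)
    (u : GL chevG2.Idx K) (hu : u ∈ chevG2.posUnipotent K) (e : h * u * h⁻¹ = u) : u = 1 := by
  have hF := g2F K
  obtain ⟨t, ht⟩ := exists_prodL_of_mem chevG2 hF.xadd.add hF.xadd.zero hF.comm hF.poscomm u hu
  have hlt : ∀ r ∈ chevG2.posRoots, r < 12 := fun r hr => (g2tureg_mem_posRoots r hr).1
  have e' : h * u = u * h := by
    calc h * u = (h * u * h⁻¹) * h := by group
      _ = u * h := by rw [e]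
  have em := congrArg (fun g : GL chevG2.Idx K => (g : Matrix chevG2.Idx chevG2.Idx K)) e'
  simp only [Units.val_mul] at em
  rw [ht, g2tureg_mul_prodL h hh t _ hlt] at em
  -- cancel `h`
  have hcancel : prodL chevG2 chevG2.posRoots (fun v => ev h v * t v) = prodL chevG2 chevG2.posRoots t := by
    have := congrArg (fun M => M * ((h⁻¹ : GL chevG2.Idx K) : Matrix chevG2.Idx chevG2.Idx K)) em
    simpa only [mul_assoc, Units.mul_inv, mul_one] using this
  have hinj := prodL_posRoots_inj chevG2 hF.ufacts hF.xadd.add hF.xadd.zero _ _ hcancel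
  have hzero : ∀ r ∈ chevG2.posRoots, t r = (fun _ => (0 : K)) r := by
    intro r hr
    have hpos := g2tureg_mem_posRoots r hr
    have h1 := hinj r hpos
    have h2 : (ev h r - 1) * t r = 0 := by rw [sub_mul, one_mul, h1, sub_self]
    rcases mul_eq_zero.1 h2 with h3 | h3
    · exact absurd (sub_eq_zero.1 h3) (hreg r hpos.1)
    · exact h3
  apply Units.ext
  rw [ht, prodL_congr chevG2 _ t _ hzero, prodL_zero chevG2 _ (fun s hs => hlt s hs) hF.xadd.zero]
  rfl

end K

end Cfsg.Agent.Helper11.G2T.UREGbk
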