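import Mathlib
import Cfsg.Agent.Lib.Helper11.G2TDefs
import Cfsg.Agent.Lib.Helper13.G2TCOREW1
import Cfsg.Agent.Lib.Helper19.G2TCOREW2
import Cfsg.Agent.Lib.Helper13.G2TCOREW3
import Cfsg.Agent.Lib.Helper4.G2TFIELD
import Cfsg.Agent.Lib.Helper13.G2TCHIA
import Cfsg.Agent.Lib.Helper16.G2TCHIB
import Cfsg.Agent.Lib.Helper28.G2TCHIC
import Cfsg.Agent.Lib.Helper19.G2TWEYL
import Cfsg.Agent.Lib.Lead.G2TTC
import Cfsg.Agent.Lib.Helper11.G2TUREGbk

/-!
# S2371: assembly, part 1 — Theorems A, B, C (helper11)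

See plans/S2371_plan.md.  Pieces: COREW1, COREW3, CHIA (helper13), COREW2, WEYL (helper19), FIELD (helper4),
CHIB (helper16), CHIC (helper28), TC (lead), UREG (helper7).
-/

set_option autoImplicit false

namespace Cfsg.Agent.Helper11.G2T

open Cfsg Cfsg.Lie Cfsg.Agent.Lead.Chev Cfsg.Agent.Lead.Tw
open Cfsg.Agent.Helper11.G2T.UREGbk

section K

variable {K : Type*} [Field K]

theorem asm_pow_mem (h : GL chevG2.Idx K) (hh : h ∈ chevG2.diagonalSubgroup K) (k : ℕ) :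
    h ^ k ∈ chevG2.diagonalSubgroup K := pow_mem hh k

theorem asm_ev_pow (h : GL chevG2.Idx K) (hh : h ∈ chevG2.diagonalSubgroup K) (v k : ℕ) :
    ev (h ^ k) v = ev h v ^ k := by
  induction k with
  | zero => rw [pow_zero, pow_zero, ev_one]
  | succ k ih => rw [pow_succ, pow_succ, ev_mul _ _ (pow_mem hh k) hh, ih]

/-- the unit `χ_h(v)` -/
noncomputable def evU (h : GL chevG2.Idx K) (hh : h ∈ chevG2.diagonalSubgroup K) (v : ℕ) : Kˣ :=
  Units.mk0 (ev h v) (ev_ne_zero h hh v)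

theorem asm_chiXY (h : GL chevG2.Idx K) (hh : h ∈ chevG2.diagonalSubgroup K) (v : ℕ) (hv : v < 12) :
    chiXY (evU h hh 7) (evU h hh 6) v = evU h hh v := by
  apply Units.ext
  rw [chiXY, Units.val_mul, Units.val_zpow_eq_zpow_val, Units.val_zpow_eq_zpow_val]
  exact (ev_rc h hh v hv).symm

/-- two elements of `T(K)` with the same values at `a`, `b` are equal -/
theorem asm_eq_of_ev (h h' : GL chevG2.Idx K) (hh : h ∈ chevG2.diagonalSubgroup K)
    (hh' : h' ∈ chevG2.diagonalSubgroup K) (h7 : ev h 7 = ev h' 7) (h6 : ev h 6 = ev h' 6) : h = h' := by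
  have h1 : h * h'⁻¹ = 1 := by
    apply eq_one_of_ev _ (mul_mem hh (inv_mem hh'))
    · rw [ev_mul _ _ hh (inv_mem hh'), ev_inv _ hh', h7, mul_inv_cancel₀ (ev_ne_zero h' hh' 7)]
    · rw [ev_mul _ _ hh (inv_mem hh'), ev_inv _ hh', h6, mul_inv_cancel₀ (ev_ne_zero h' hh' 6)]
  exact mul_inv_eq_one.1 h1

/-- the relation `n_w h' n_w⁻¹ = h` in terms of the characters -/
theorem asm_nconj_ev (h h' : GL chevG2.Idx K) (hh' : h' ∈ chevG2.diagonalSubgroup K) (w : List ℕ)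
    (hw : ∀ i ∈ w, i < 2) (L : List ℕ) (hL : ActsAs w L)
    (e : nWordGL chevG2 (g2F K).xadd w * h' * (nWordGL chevG2 (g2F K).xadd w)⁻¹ = h) (v : ℕ) (hv : v < 12) :
    ev h (L.getD v 0) = ev h' v := by
  rw [← hL v hv, ← e]
  exact ev_nconj h' hh' w hw v hv

theorem asm_evU_pow (h : GL chevG2.Idx K) (hh : h ∈ chevG2.diagonalSubgroup K) (r : ℕ) (hr : h ^ r = 1)
    (v : ℕ) : evU h hh v ^ r = 1 := by
  apply Units.ext
  rw [Units.val_pow_eq_pow_val, Units.val_one]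
  show ev h v ^ r = 1
  rw [← asm_ev_pow h hh, hr, ev_one]

theorem asm_reg_sig (f : K ≃+* K) (h : GL chevG2.Idx K) (hreg : ∀ v < 12, ev h v ≠ 1) :
    ∀ v < 12, ev (sig f h) v ≠ 1 := by
  intro v hv e
  rw [ev_sig] at e
  apply hreg v hv
  apply f.injective
  rw [e, map_one]

/-- **Theorem A**: the element `g⁻¹ σ(g)` is `t n_w` with `w` a rotation by `±120°`, and `h` is regular -/
theorem thmA (q r : ℕ) (hr : GoodPrime q r) (f : K ≃+* K) (hf : ∀ t, f t = t ^ q)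
    (h : GL chevG2.Idx K) (hh : h ∈ chevG2.diagonalSubgroup K) (hr1 : h ^ r = 1) (hne : h ≠ 1)
    (n' : GL chevG2.Idx K) (hn' : n' ∈ chevG2.group K) (e : n' * sig f h = h * n') :
    ∃ t ∈ chevG2.diagonalSubgroup K, ∃ w : List ℕ, (∀ i ∈ w, i < 2) ∧
      n' = t * nWordGL chevG2 (g2F K).xadd w ∧ (ActsAs w rot2 ∨ ActsAs w rot4) ∧
      (∀ v < 12, ev h v ≠ 1) ∧
      nWordGL chevG2 (g2F K).xadd w * sig f h * (nWordGL chevG2 (g2F K).xadd w)⁻¹ = h := by
  have hsh := sig_mem_diagonal f h hh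
  obtain ⟨u, hu, t, ht, w, hw, u', hu', ey, e1, e2, e3⟩ := torus_conj n' h (sig f h) hn' hh hsh e
  obtain ⟨L, hLm, hL⟩ := acts_cases w hw
  have hcond : ∀ v < 12, chiXY (evU h hh 7) (evU h hh 6) (L.getD v 0) =
      chiXY (evU h hh 7) (evU h hh 6) v ^ q := by
    intro v hv
    have hLv : L.getD v 0 < 12 := by
      have : ∀ L ∈ wActs, ∀ v < 12, L.getD v 0 < 12 := by decide
      exact this L hLm v hv
    rw [asm_chiXY h hh _ hLv, asm_chiXY h hh v hv]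
    apply Units.ext
    rw [Units.val_pow_eq_pow_val]
    show ev h (L.getD v 0) = ev h v ^ q
    rw [asm_nconj_ev h (sig f h) hsh w hw L hL e1 v hv, ev_sig, hf]
  have hne' : ¬ (evU h hh 7 = 1 ∧ evU h hh 6 = 1) := by
    rintro ⟨h7, h6⟩
    apply hne
    apply eq_one_of_ev h hh
    · exact congrArg Units.val h7
    · exact congrArg Units.val h6
  obtain ⟨hrot, hreg⟩ := corew1 q r hr (evU h hh 7) (evU h hh 6) (asm_evU_pow h hh r hr1 7)
    (asm_evU_pow h hh r hr1 6) hne' L hLm hcond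
  have hreg' : ∀ v < 12, ev h v ≠ 1 := by
    intro v hv ev1
    apply hreg v hv
    rw [asm_chiXY h hh v hv]
    apply Units.ext
    exact ev1
  have hu1 : u = 1 := ureg h hh hreg' u hu e2
  have hu'1 : u' = 1 := ureg (sig f h) hsh (asm_reg_sig f h hreg') u' hu' e3
  refine ⟨t, ht, w, hw, ?_, ?_, hreg', e1⟩
  · rw [ey, hu1, hu'1, one_mul, mul_one]
  · rcases hrot with rfl | rfl
    · exact Or.inl hL
    · exact Or.inr hL

/-- **Theorem B**: the centralizer of a regular element of order `r` of `T(K)` is `T(K)` -/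
theorem thmB (r : ℕ) (hr : r.Prime) (h2 : r ≠ 2) (h : GL chevG2.Idx K)
    (hh : h ∈ chevG2.diagonalSubgroup K) (hr1 : h ^ r = 1) (hreg : ∀ v < 12, ev h v ≠ 1)
    (y : GL chevG2.Idx K) (hy : y ∈ chevG2.group K) (e : y * h = h * y) :
    y ∈ chevG2.diagonalSubgroup K := by
  obtain ⟨u, hu, t, ht, w, hw, u', hu', ey, e1, e2, e3⟩ := torus_conj y h h hy hh hh e
  obtain ⟨L, hLm, hL⟩ := acts_cases w hw
  have hcond : ∀ v < 12, chiXY (evU h hh 7) (evU h hh 6) (L.getD v 0) =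
      chiXY (evU h hh 7) (evU h hh 6) v := by
    intro v hv
    have hLv : L.getD v 0 < 12 := by
      have : ∀ L ∈ wActs, ∀ v < 12, L.getD v 0 < 12 := by decide
      exact this L hLm v hv
    rw [asm_chiXY h hh _ hLv, asm_chiXY h hh v hv]
    apply Units.ext
    show ev h (L.getD v 0) = ev h v
    rw [asm_nconj_ev h h hh w hw L hL e1 v hv]
  have hregU : ∀ v < 12, chiXY (evU h hh 7) (evU h hh 6) v ≠ 1 := by
    intro v hv e'
    apply hreg v hv
    rw [asm_chiXY h hh v hv] at e'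
    exact congrArg Units.val e'
  have hLid := corew2 r hr h2 (evU h hh 7) (evU h hh 6) (asm_evU_pow h hh r hr1 7)
    (asm_evU_pow h hh r hr1 6) hregU L hLm hcond
  rw [hLid] at hL
  obtain ⟨p1, p2⟩ := acts_id_pos w hw hL
  have hnw := (g2F K).nWordGL_mem_diagonal_of_pos w hw p1 p2
  have hu1 : u = 1 := ureg h hh hreg u hu e2
  have hu'1 : u' = 1 := ureg h hh hreg u' hu' e3
  rw [ey, hu1, hu'1, one_mul, mul_one]
  exact mul_mem ht hnw

/-- the twisted torus `{t ∈ T(K) : n_w σ(t) n_w⁻¹ = t}` -/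
def twTorus (f : K ≃+* K) (w : List ℕ) : Subgroup (GL chevG2.Idx K) where
  carrier := {t | t ∈ chevG2.diagonalSubgroup K ∧
    nWordGL chevG2 (g2F K).xadd w * sig f t * (nWordGL chevG2 (g2F K).xadd w)⁻¹ = t}
  one_mem' := ⟨one_mem _, by rw [map_one, mul_one, mul_inv_cancel]⟩
  mul_mem' := by
    rintro a b ⟨ha, ea⟩ ⟨hb, eb⟩
    refine ⟨mul_mem ha hb, ?_⟩
    rw [map_mul]
    conv_rhs => rw [← ea, ← eb]
    group
  inv_mem' := by
    rintro a ⟨ha, ea⟩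
    refine ⟨inv_mem ha, ?_⟩
    rw [map_inv]
    conv_rhs => rw [← ea]
    group

theorem mem_twTorus (f : K ≃+* K) (w : List ℕ) (t : GL chevG2.Idx K) :
    t ∈ twTorus f w ↔ t ∈ chevG2.diagonalSubgroup K ∧
      nWordGL chevG2 (g2F K).xadd w * sig f t * (nWordGL chevG2 (g2F K).xadd w)⁻¹ = t := Iff.rfl

/-- membership in the twisted torus in terms of the characters -/
theorem asm_mem_twTorus_iff (q : ℕ) (f : K ≃+* K) (hf : ∀ t, f t = t ^ q) (w : List ℕ)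
    (hw : ∀ i ∈ w, i < 2) (L : List ℕ) (hL : ActsAs w L) (v7 v6 : ℕ) (hv7 : v7 < 12) (hv6 : v6 < 12)
    (hL7 : L.getD v7 0 = 7) (hL6 : L.getD v6 0 = 6) (t : GL chevG2.Idx K)
    (ht : t ∈ chevG2.diagonalSubgroup K) :
    t ∈ twTorus f w ↔ ∀ v < 12, ev t (L.getD v 0) = ev t v ^ q := by
  have hst := sig_mem_diagonal f t ht
  constructor
  · rintro ⟨_, e⟩ v hv
    rw [asm_nconj_ev t (sig f t) hst w hw L hL e v hv, ev_sig, hf]
  · intro h
    refine ⟨ht, ?_⟩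
    have hn : nWordGL chevG2 (g2F K).xadd w ∈ chevG2.monomialSubgroup K :=
      nWordGL_mem_monomial chevG2 (g2F K).xadd (g2F K).simple_lt w hw
    have ht' := (g2F K).monomial_conj_mem_diagonal _ hn _ hst
    have key : ∀ v < 12, ev (nWordGL chevG2 (g2F K).xadd w * sig f t *
        (nWordGL chevG2 (g2F K).xadd w)⁻¹) (L.getD v 0) = ev t (L.getD v 0) := by
      intro v hv
      rw [asm_nconj_ev _ (sig f t) hst w hw L hL rfl v hv, ev_sig, hf, h v hv]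
    apply asm_eq_of_ev _ _ ht' ht
    · have := key v7 hv7
      rwa [hL7] at this
    · have := key v6 hv6
      rwa [hL6] at this

theorem asm_getD_lt (L : List ℕ) (hLm : L ∈ wActs) (v : ℕ) (hv : v < 12) : L.getD v 0 < 12 := by
  have : ∀ L ∈ wActs, ∀ v < 12, L.getD v 0 < 12 := by decide
  exact this L hLm v hv

theorem asm_mem_twTorus_iff' (q : ℕ) (f : K ≃+* K) (hf : ∀ t, f t = t ^ q) (w : List ℕ)
    (hw : ∀ i ∈ w, i < 2) (L : List ℕ) (hLm : L ∈ wActs) (hL : ActsAs w L) (v7 v6 : ℕ) (hv7 : v7 < 12)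
    (hv6 : v6 < 12) (hL7 : L.getD v7 0 = 7) (hL6 : L.getD v6 0 = 6) (k : ℤ)
    (hc3 : ∀ ξ η : Kˣ, (∀ v < 12, chiXY ξ η (L.getD v 0) = chiXY ξ η v ^ q) ↔
      (η = ξ ^ k ∧ ξ ^ (q ^ 2 + q + 1) = 1))
    (t : GL chevG2.Idx K) (ht : t ∈ chevG2.diagonalSubgroup K) :
    t ∈ twTorus f w ↔ (evU t ht 6 = evU t ht 7 ^ k ∧ evU t ht 7 ^ (q ^ 2 + q + 1) = 1) := by
  rw [asm_mem_twTorus_iff q f hf w hw L hL v7 v6 hv7 hv6 hL7 hL6 t ht, ← hc3]
  constructor
  · intro h v hv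
    rw [asm_chiXY t ht _ (asm_getD_lt L hLm v hv), asm_chiXY t ht v hv]
    apply Units.ext
    rw [Units.val_pow_eq_pow_val]
    exact h v hv
  · intro h v hv
    have := h v hv
    rw [asm_chiXY t ht _ (asm_getD_lt L hLm v hv), asm_chiXY t ht v hv] at this
    have h2 := congrArg Units.val this
    rw [Units.val_pow_eq_pow_val] at h2
    exact h2

theorem asm_thmC_aux [Fintype K] (q : ℕ) (hq : 2 ≤ q) (hK : Fintype.card K = q ^ 3) (f : K ≃+* K)
    (hf : ∀ t, f t = t ^ q) (w : List ℕ) (hw : ∀ i ∈ w, i < 2) (L : List ℕ) (hLm : L ∈ wActs)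
    (hL : ActsAs w L) (v7 v6 : ℕ) (hv7 : v7 < 12) (hv6 : v6 < 12) (hL7 : L.getD v7 0 = 7)
    (hL6 : L.getD v6 0 = 6) (k : ℤ)
    (hc3 : ∀ ξ η : Kˣ, (∀ v < 12, chiXY ξ η (L.getD v 0) = chiXY ξ η v ^ q) ↔
      (η = ξ ^ k ∧ ξ ^ (q ^ 2 + q + 1) = 1)) :
    IsCyclic (twTorus f w) ∧ Nat.card (twTorus f w) = q ^ 2 + q + 1 := by
  have hmem := asm_mem_twTorus_iff' q f hf w hw L hLm hL v7 v6 hv7 hv6 hL7 hL6 k hc3
  have hinj : ∀ a b : twTorus f w, ev a.1 7 = ev b.1 7 → a = b := by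
    intro a b hab
    have ha := (hmem a.1 a.2.1).1 a.2
    have hb := (hmem b.1 b.2.1).1 b.2
    have h7 : evU a.1 a.2.1 7 = evU b.1 b.2.1 7 := Units.ext hab
    have h6 : evU a.1 a.2.1 6 = evU b.1 b.2.1 6 := by rw [ha.1, hb.1, h7]
    exact Subtype.ext (asm_eq_of_ev _ _ a.2.1 b.2.1 hab (congrArg Units.val h6))
  constructor
  · let φ : twTorus f w →* K :=
      { toFun := fun t => ev t.1 7
        map_one' := ev_one 7
        map_mul' := fun a b => ev_mul _ _ a.2.1 b.2.1 7 }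
    exact isCyclic_of_subgroup_isDomain φ (fun a b hab => hinj a b hab)
  · rw [← field_roots q hq hK]
    refine Nat.card_congr (Equiv.ofBijective
      (fun t : twTorus f w => (⟨evU t.1 t.2.1 7, ((hmem t.1 t.2.1).1 t.2).2⟩ :
        {ξ : Kˣ // ξ ^ (q ^ 2 + q + 1) = 1})) ⟨?_, ?_⟩)
    · intro a b hab
      have := congrArg (fun x : {ξ : Kˣ // ξ ^ (q ^ 2 + q + 1) = 1} => (x.1 : K)) hab
      exact hinj a b this
    · rintro ⟨ξ, hξ⟩
      obtain ⟨t, ht, h7, h6⟩ := exists_ev (ξ : K) ((ξ ^ k : Kˣ) : K) ξ.ne_zero (ξ ^ k).ne_zero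
      have e7 : evU t ht 7 = ξ := Units.ext h7
      have e6 : evU t ht 6 = ξ ^ k := Units.ext h6
      have htm : t ∈ twTorus f w := (hmem t ht).2 ⟨by rw [e6, e7], by rw [e7]; exact hξ⟩
      exact ⟨⟨t, htm⟩, Subtype.ext e7⟩

/-- **Theorem C**: the twisted torus of a rotation by `±120°` is cyclic of order `q² + q + 1` -/
theorem thmC [Fintype K] (q : ℕ) (hq : 2 ≤ q) (hK : Fintype.card K = q ^ 3) (f : K ≃+* K)
    (hf : ∀ t, f t = t ^ q) (w : List ℕ) (hw : ∀ i ∈ w, i < 2)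
    (hrot : ActsAs w rot2 ∨ ActsAs w rot4) :
    IsCyclic (twTorus f w) ∧ Nat.card (twTorus f w) = q ^ 2 + q + 1 := by
  rcases hrot with hL | hL
  · exact asm_thmC_aux q hq hK f hf w hw rot2 rot2_mem hL 2 10 (by decide) (by decide) (by decide)
      (by decide) ((q : ℤ) - 1) (fun ξ η => corew3_rot2 q ξ η)
  · exact asm_thmC_aux q hq hK f hf w hw rot4 rot4_mem hL 8 0 (by decide) (by decide) (by decide)
      (by decide) (-(q : ℤ) - 2) (fun ξ η => corew3_rot4 q ξ η)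

end K

end Cfsg.Agent.Helper11.G2T
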