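import Mathlib
import Cfsg.Agent.Lib.Helper11.G2TDefs
import Cfsg.Agent.Lib.Lead.G2TFIX

set_option autoImplicit false

namespace Cfsg.Agent.Helper11.G2T.MAPbk

open Cfsg Cfsg.Lie Cfsg.Agent.Lead.Chev Cfsg.Agent.Lead.Tw

section FK

variable {F : Type*} [Field F] {K : Type*} [Field K] (ι : F →+* K)

theorem mapGL_x (r : ℕ) (hr : r < 12) (t : F) :
    mapGL ι (xGL chevG2 (g2F F).xadd r t) = xGL chevG2 (g2F K).xadd r (ι t) :=
  FIX.xGL_map_hom ι chevG2 (g2F F).xadd (g2F K).xadd r t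

theorem mapGL_group (g : GL chevG2.Idx F) (hg : g ∈ chevG2.group F) : mapGL ι g ∈ chevG2.group K := by
  unfold ChevalleyDatum.group at hg
  induction hg using Subgroup.closure_induction with
  | mem x hx =>
    obtain ⟨r, t, hx⟩ := hx
    have hxe : x = xGL chevG2 (g2F F).xadd r.val t := by
      apply Units.ext
      rw [hx, xGL_val]
      unfold ChevalleyDatum.x
      rw [dif_pos r.2]
    rw [hxe, FIX.xGL_map_hom ι chevG2 (g2F F).xadd (g2F K).xadd]
    exact xGL_mem_group chevG2 (g2F K).xadd _ _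
  | one =>
    rw [map_one]
    exact one_mem _
  | mul x y _ _ hx hy =>
    rw [map_mul]
    exact mul_mem hx hy
  | inv x _ hx =>
    rw [map_inv]
    exact inv_mem hx

theorem mapGL_diagonal (g : GL chevG2.Idx F) (hg : g ∈ chevG2.diagonalSubgroup F) :
    mapGL ι g ∈ chevG2.diagonalSubgroup K :=
  FIX.map_mem_diagonal ι chevG2 (g2F F).xadd (g2F K).xadd g hg

theorem mapGL_injective : Function.Injective (mapGL ι) := by
  intro a b hab
  apply Units.ext
  ext i j
  have := congrArg (fun g : GL chevG2.Idx K => (g : Matrix chevG2.Idx chevG2.Idx K) i j) hab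
  exact ι.injective this

theorem ev_mapGL (g : GL chevG2.Idx F) (v : ℕ) : ev (mapGL ι g) v = ι (ev g v) :=
  FIX.ev_map_hom ι g v

theorem sig_mapGL (f : K ≃+* K) (hf : ∀ t, f (ι t) = ι t) (g : GL chevG2.Idx F) :
    sig f (mapGL ι g) = mapGL ι g :=
  FIX.sig_map_hom ι f hf g

theorem sig_x (f : K ≃+* K) (r : ℕ) (hr : r < 12) (t : K) :
    sig f (xGL chevG2 (g2F K).xadd r t) = xGL chevG2 (g2F K).xadd r (f t) :=
  FIX.sig_xGL f r t

theorem sig_group (f : K ≃+* K) (g : GL chevG2.Idx K) (hg : g ∈ chevG2.group K) :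
    sig f g ∈ chevG2.group K := by
  have h := Cfsg.Agent.S1080.Phi_map_group chevG2 f
  rw [← h]
  exact ⟨g, hg, rfl⟩

end FK

end Cfsg.Agent.Helper11.G2T.MAPbk
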