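import Mathlib
import Cfsg.Agent.Lib.Helper11.G2TDefs
import Cfsg.Agent.Lib.Helper11.G2TAsm
import Cfsg.Agent.Lib.Helper28.G2TARITH
import Cfsg.Agent.Lib.Helper28.G2TSYL
import Cfsg.Agent.Lib.Helper11.G2TMAPbk
import Cfsg.Agent.Lib.Lead.G2TFIX
import Cfsg.Agent.Lib.Lead.TwFrob
import Cfsg.Agent.S1035
import Cfsg.Agent.S1059

/-!
# S2371: assembly, part 2 — the self-centralizing cyclic subgroup of order `q² + q + 1` of `G₂(q)` (helper11)

See plans/S2371_plan.md.  Pieces: ARITH, SYL (helper28), MAP (helper3), FIX (lead).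
-/

set_option autoImplicit false

namespace Cfsg.Agent.Helper11.G2T

open Cfsg Cfsg.Lie Cfsg.Agent.Lead.Chev Cfsg.Agent.Lead.Tw
open Cfsg.Agent.Helper11.G2T.MAPbk

section Final

variable {F : Type*} [Field F] [Fintype F] {K : Type*} [Field K] [Fintype K]

/-- the conjugated embedding `z ↦ g⁻¹ ι(z) g` -/
noncomputable def psiHom (ι : F →+* K) (g : GL chevG2.Idx K) : ↥(chevG2.group F) →* GL chevG2.Idx K :=
  (MulAut.conj g⁻¹).toMonoidHom.comp ((mapGL ι).comp (chevG2.group F).subtype)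

theorem psiHom_apply (ι : F →+* K) (g : GL chevG2.Idx K) (z : ↥(chevG2.group F)) :
    psiHom ι g z = g⁻¹ * mapGL ι z.1 * g := by
  simp [psiHom, MulAut.conj_apply]

theorem psiHom_injective (ι : F →+* K) (g : GL chevG2.Idx K) : Function.Injective (psiHom ι g) := by
  intro a b hab
  rw [psiHom_apply, psiHom_apply] at hab
  have h1 : mapGL ι a.1 = mapGL ι b.1 := by
    have := congrArg (fun y => g * y * g⁻¹) hab
    simpa [mul_assoc] using this
  exact Subtype.ext (mapGL_injective ι h1)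

/-- the image of the centralizer of `x₀` under `z ↦ g⁻¹ ι(z) g` is the twisted torus -/
theorem main_map_eq (ι : F →+* K) (q r : ℕ) (hr : GoodPrime q r) (f : K ≃+* K)
    (hfix : ∀ t, f t = t ↔ t ∈ Set.range ι)
    (x₀ : ↥(chevG2.group F)) (g : GL chevG2.Idx K) (hg : g ∈ chevG2.group K)
    (h : GL chevG2.Idx K) (hh : h ∈ chevG2.diagonalSubgroup K) (hdef : h = g⁻¹ * mapGL ι x₀.1 * g)
    (hr1 : h ^ r = 1) (hreg : ∀ v < 12, ev h v ≠ 1)
    (t₁ : GL chevG2.Idx K) (ht₁ : t₁ ∈ chevG2.diagonalSubgroup K) (w : List ℕ) (hw : ∀ i ∈ w, i < 2)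
    (en : g⁻¹ * sig f g = t₁ * nWordGL chevG2 (g2F K).xadd w) :
    (Subgroup.centralizer ({x₀} : Set ↥(chevG2.group F))).map (psiHom ι g) = twTorus f w := by
  have hfι : ∀ t, f (ι t) = ι t := fun t => (hfix _).2 ⟨t, rfl⟩
  have hsg : sig f g = g * (t₁ * nWordGL chevG2 (g2F K).xadd w) := by rw [← en]; group
  set n := nWordGL chevG2 (g2F K).xadd w with hn
  have hx : mapGL ι x₀.1 = g * h * g⁻¹ := by rw [hdef]; group
  ext y
  constructor
  · rintro ⟨z, hz, rfl⟩
    rw [SetLike.mem_coe, Subgroup.mem_centralizer_singleton_iff] at hz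
    rw [psiHom_apply]
    set y := g⁻¹ * mapGL ι z.1 * g with hy
    have hyG : y ∈ chevG2.group K :=
      mul_mem (mul_mem (inv_mem hg) (mapGL_group ι _ z.2)) hg
    have hzx : mapGL ι z.1 * mapGL ι x₀.1 = mapGL ι x₀.1 * mapGL ι z.1 := by
      rw [← map_mul, ← map_mul]
      exact congrArg (fun a : ↥(chevG2.group F) => mapGL ι a.1) hz
    have hcomm : y * h = h * y := by
      rw [hy, hdef]
      calc g⁻¹ * mapGL ι z.1 * g * (g⁻¹ * mapGL ι x₀.1 * g)
          = g⁻¹ * (mapGL ι z.1 * mapGL ι x₀.1) * g := by group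
        _ = g⁻¹ * (mapGL ι x₀.1 * mapGL ι z.1) * g := by rw [hzx]
        _ = g⁻¹ * mapGL ι x₀.1 * g * (g⁻¹ * mapGL ι z.1 * g) := by group
    have hyT : y ∈ chevG2.diagonalSubgroup K := thmB r hr.prime hr.ne2 h hh hr1 hreg y hyG hcomm
    refine ⟨hyT, ?_⟩
    have hsy : sig f y = (sig f g)⁻¹ * mapGL ι z.1 * sig f g := by
      rw [hy, map_mul, map_mul, map_inv, sig_mapGL ι f hfι]
    rw [hsy, hsg]
    have hc : t₁ * y = y * t₁ := (g2F K).diagonal_commute t₁ y ht₁ hyT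
    calc n * ((g * (t₁ * n))⁻¹ * mapGL ι z.1 * (g * (t₁ * n))) * n⁻¹
        = t₁⁻¹ * (g⁻¹ * mapGL ι z.1 * g) * t₁ := by group
      _ = t₁⁻¹ * (y * t₁) := by rw [← hy]; group
      _ = y := by rw [← hc]; group
  · rintro ⟨htT, et⟩
    -- `g y g⁻¹` is fixed
    have hyG : g * y * g⁻¹ ∈ chevG2.group K :=
      mul_mem (mul_mem hg ((g2F K).diagonal_le_group htT)) (inv_mem hg)
    have hsy : sig f y = n⁻¹ * y * n := by
      rw [← hn] at et
      calc sig f y = n⁻¹ * (n * sig f y * n⁻¹) * n := by group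
        _ = n⁻¹ * y * n := by rw [et]
    have hc : t₁ * y = y * t₁ := (g2F K).diagonal_commute t₁ y ht₁ htT
    have hfixy : sig f (g * y * g⁻¹) = g * y * g⁻¹ := by
      rw [map_mul, map_mul, map_inv, hsy, hsg]
      calc g * (t₁ * n) * (n⁻¹ * y * n) * (g * (t₁ * n))⁻¹ = g * (t₁ * y) * t₁⁻¹ * g⁻¹ := by group
        _ = g * y * g⁻¹ := by rw [hc]; group
    obtain ⟨z, hz, ez⟩ := fix_group ι f hfix _ hyG hfixy
    refine ⟨⟨z, hz⟩, ?_, ?_⟩
    · rw [SetLike.mem_coe, Subgroup.mem_centralizer_singleton_iff]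
      apply Subtype.ext
      apply mapGL_injective ι
      show mapGL ι (z * x₀.1) = mapGL ι (x₀.1 * z)
      rw [map_mul, map_mul, ez, hx]
      have hc2 : y * h = h * y := (g2F K).diagonal_commute y h htT hh
      calc g * y * g⁻¹ * (g * h * g⁻¹) = g * (y * h) * g⁻¹ := by group
        _ = g * (h * y) * g⁻¹ := by rw [hc2]
        _ = g * h * g⁻¹ * (g * y * g⁻¹) := by group
    · rw [psiHom_apply]
      show g⁻¹ * mapGL ι z * g = y
      rw [ez]
      group

theorem main_card_torus (q : ℕ) (hK : Fintype.card K = q ^ 3) :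
    Nat.card ((chevG2.diagonalSubgroup K).subgroupOf (chevG2.group K)) = (q ^ 3 - 1) ^ 2 := by
  have h1 := Cfsg.Agent.S1035.result hK (chevG2, 1) (by simp)
  rw [one_mul] at h1
  have h2 : Nat.card ((chevG2.diagonalSubgroup K).subgroupOf (chevG2.group K)) =
      Nat.card (chevG2.diagonalSubgroup K) :=
    Nat.card_congr (Subgroup.subgroupOfEquivOfLe (g2F K).diagonal_le_group).toEquiv
  rw [h2, h1]
  rfl

theorem main_K (ι : F →+* K) (q : ℕ) (hF : Fintype.card F = q) (hq : 2 ≤ q)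
    (hK : Fintype.card K = q ^ 3) :
    ∃ H : Subgroup ↥(chevG2.group F), IsCyclic ↥H ∧ Nat.card ↥H = q ^ 2 + q + 1 ∧
      Subgroup.centralizer (H : Set ↥(chevG2.group F)) = H := by
  obtain ⟨r, hr⟩ := arith_exists q hq
  haveI : Fact r.Prime := ⟨hr.prime⟩
  have hqpp : IsPrimePow q := by rw [← hF]; exact Fintype.isPrimePow_card_of_field
  obtain ⟨f, hf⟩ := exists_frob (n := 3) hqpp hK
  have hfix : ∀ t, f t = t ↔ t ∈ Set.range ι := fun t => by rw [hf]; exact field_fixed ι q hF hK t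
  have hfι : ∀ t, f (ι t) = ι t := fun t => (hfix _).2 ⟨t, rfl⟩
  -- an element of order `r`
  have hdvd : r ∣ Nat.card ↥(chevG2.group F) := by
    rw [Cfsg.Agent.S1059.result hF]
    exact arith_dvd q r hr
  obtain ⟨x₀, hx₀⟩ := exists_prime_orderOf_dvd_card' r hdvd
  -- its image in `G₂(K)`
  have hxG : mapGL ι x₀.1 ∈ chevG2.group K := mapGL_group ι _ x₀.2
  have hinj : Function.Injective ((mapGL ι).comp (chevG2.group F).subtype) :=
    (mapGL_injective ι).comp Subtype.val_injective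
  have hxo : orderOf (⟨mapGL ι x₀.1, hxG⟩ : ↥(chevG2.group K)) = r := by
    rw [← hx₀, ← orderOf_injective _ hinj x₀, ← Subgroup.orderOf_coe]
    rfl
  -- Sylow
  have hfact : (Nat.card ↥(chevG2.group K)).factorization r =
      (Nat.card ((chevG2.diagonalSubgroup K).subgroupOf (chevG2.group K))).factorization r := by
    rw [Cfsg.Agent.S1059.result hK, main_card_torus q hK]
    exact arith_fact q r hq hr
  obtain ⟨g, hgT⟩ := syl_conj ((chevG2.diagonalSubgroup K).subgroupOf (chevG2.group K)) r hr.prime hfact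
    ⟨mapGL ι x₀.1, hxG⟩ hxo
  rw [Subgroup.mem_subgroupOf] at hgT
  set h : GL chevG2.Idx K := g.1⁻¹ * mapGL ι x₀.1 * g.1 with hdef
  have hh : h ∈ chevG2.diagonalSubgroup K := hgT
  have hxr : mapGL ι x₀.1 ^ r = 1 := by
    rw [← map_pow, ← SubgroupClass.coe_pow, ← hx₀, pow_orderOf_eq_one]
    simp
  have hr1 : h ^ r = 1 := by
    rw [hdef, show g.1⁻¹ * mapGL ι x₀.1 * g.1 = g.1⁻¹ * mapGL ι x₀.1 * g.1⁻¹⁻¹ by rw [inv_inv],
      conj_pow, hxr]
    group
  have hne : h ≠ 1 := by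
    intro h1
    have hx1 : mapGL ι x₀.1 = 1 := by
      have : mapGL ι x₀.1 = g.1 * h * g.1⁻¹ := by rw [hdef]; group
      rw [this, h1]; group
    have : x₀ = 1 := hinj (by simpa using hx1)
    rw [this, orderOf_one] at hx₀
    exact hr.prime.one_lt.ne hx₀
  -- the element `g⁻¹ σ(g)`
  have hsx : sig f (mapGL ι x₀.1) = mapGL ι x₀.1 := sig_mapGL ι f hfι x₀.1
  have hn'G : g.1⁻¹ * sig f g.1 ∈ chevG2.group K := mul_mem (inv_mem g.2) (sig_group f g.1 g.2)
  have e : g.1⁻¹ * sig f g.1 * sig f h = h * (g.1⁻¹ * sig f g.1) := by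
    rw [hdef, map_mul, map_mul, map_inv, hsx]
    group
  obtain ⟨t₁, ht₁, w, hw, en, hrot, hreg, _⟩ := thmA q r hr f hf h hh hr1 hne _ hn'G e
  obtain ⟨hcyc, hcard⟩ := thmC q hq hK f hf w hw hrot
  have hmap := main_map_eq ι q r hr f hfix x₀ g.1 g.2 h hh hdef hr1 hreg t₁ ht₁ w hw en
  set H := Subgroup.centralizer ({x₀} : Set ↥(chevG2.group F)) with hH
  have eqv : ↥H ≃* ↥(twTorus f w) :=
    (H.equivMapOfInjective (psiHom ι g.1) (psiHom_injective ι g.1)).trans (MulEquiv.subgroupCongr hmap)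
  have hHcyc : IsCyclic ↥H := (MulEquiv.isCyclic eqv).2 hcyc
  refine ⟨H, hHcyc, ?_, ?_⟩
  · rw [Nat.card_congr eqv.toEquiv, hcard]
  · apply le_antisymm
    · intro c hc
      rw [hH, Subgroup.mem_centralizer_singleton_iff]
      have hx₀H : x₀ ∈ H := by
        rw [hH, Subgroup.mem_centralizer_singleton_iff]
      exact (hc x₀ hx₀H).symm
    · intro c hc a ha
      letI := hHcyc.commGroup
      have := mul_comm (⟨a, ha⟩ : ↥H) ⟨c, hc⟩
      exact congrArg Subtype.val this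

end Final

end Cfsg.Agent.Helper11.G2T
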