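import Mathlib
import Cfsg.Prelude.Def_CaseTheorems

/-! Quasi-dihedral / wreathed Sylow 2-subgroups from explicit elements (helper11). -/

set_option autoImplicit false

namespace Cfsg.Agent.Helper11.GU2Sylow

variable {G : Type*} [Group G]

theorem isPGroup_zpowers {p : ℕ} [Fact p.Prime] (x : G) (k : ℕ) (hx : orderOf x = p ^ k) :
    IsPGroup p (Subgroup.zpowers x) := by
  apply IsPGroup.of_card (n := k)
  rw [Nat.card_zpowers, hx]

theorem isQuasiDihedral_of_equiv {S S' : Type*} [Group S] [Group S'] (e : S ≃* S')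
    (h : Cfsg.IsQuasiDihedral S) : Cfsg.IsQuasiDihedral S' := by
  obtain ⟨n, hn, hc, x, y, hx, hy, hxy⟩ := h
  refine ⟨n, hn, by rw [← hc, Nat.card_congr e.toEquiv], e x, e y, by rw [MulEquiv.orderOf_eq, hx],
    by rw [MulEquiv.orderOf_eq, hy], ?_⟩
  rw [← map_inv, ← map_mul, ← map_mul, hxy, map_pow]

theorem isWreathed_of_equiv {S S' : Type*} [Group S] [Group S'] (e : S ≃* S')
    (h : Cfsg.IsWreathed S) : Cfsg.IsWreathed S' := by
  obtain ⟨n, hn, hc, x, y, z, hx, hxy, hdisj, hz, hzx⟩ := h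
  refine ⟨n, hn, by rw [← hc, Nat.card_congr e.toEquiv], e x, e y, e z,
    by rw [MulEquiv.orderOf_eq, hx], by rw [← map_mul, ← map_mul, hxy], ?_,
    by rw [MulEquiv.orderOf_eq, hz], by rw [← map_inv, ← map_mul, ← map_mul, hzx]⟩
  rw [eq_bot_iff]
  intro w hw
  obtain ⟨hw1, hw2⟩ := Subgroup.mem_inf.mp hw
  obtain ⟨i, hi⟩ := Subgroup.mem_zpowers_iff.mp hw1
  obtain ⟨j, hj⟩ := Subgroup.mem_zpowers_iff.mp hw2
  have h1 : e (x ^ i) = w := by rw [map_zpow, hi]
  have h2 : e (y ^ j) = w := by rw [map_zpow, hj]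
  have h3 : x ^ i = y ^ j := e.injective (h1.trans h2.symm)
  have h4 : x ^ i ∈ Subgroup.zpowers x ⊓ Subgroup.zpowers y :=
    Subgroup.mem_inf.mpr ⟨Subgroup.zpow_mem_zpowers x i, h3 ▸ Subgroup.zpow_mem_zpowers y j⟩
  rw [hdisj, Subgroup.mem_bot] at h4
  rw [Subgroup.mem_bot, ← h1, h4, map_one]

variable [Finite G]

/-- A Sylow 2-subgroup of order `2^(n+1)` of a group containing the quasi-dihedral generators is
quasi-dihedral. -/
theorem isQuasiDihedral_sylow (P : Sylow 2 G) (n : ℕ) (hn : 3 ≤ n)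
    (hcard : Nat.card P = 2 ^ (n + 1)) (x y : G) (hx : orderOf x = 2 ^ n) (hy : orderOf y = 2)
    (hxy : y * x * y⁻¹ = x ^ (2 ^ (n - 1) - 1)) :
    Cfsg.IsQuasiDihedral (P : Subgroup G) := by
  have hX : IsPGroup 2 (Subgroup.zpowers x) := isPGroup_zpowers x n hx
  have hY : IsPGroup 2 (Subgroup.zpowers y) := isPGroup_zpowers y 1 (by rw [hy, pow_one])
  have hnorm : Subgroup.zpowers y ≤ Subgroup.normalizer (Subgroup.zpowers x : Set G) := by
    rw [Subgroup.zpowers_le]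
    apply Subgroup.mem_normalizer_fintype
    intro w hw
    obtain ⟨i, rfl⟩ := Subgroup.mem_zpowers_iff.mp hw
    have : y * x ^ i * y⁻¹ = (y * x * y⁻¹) ^ i := by
      rw [← MulAut.conj_apply, ← MulAut.conj_apply, map_zpow]
    rw [SetLike.mem_coe, this, hxy]
    exact Subgroup.zpow_mem _ (Subgroup.pow_mem _ (Subgroup.mem_zpowers x) _) _
  have hH : IsPGroup 2 (Subgroup.zpowers y ⊔ Subgroup.zpowers x : Subgroup G) :=
    IsPGroup.to_sup_of_normal_right' hY hX hnorm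
  obtain ⟨P₀, hP₀⟩ := hH.exists_le_sylow
  have hx0 : x ∈ (P₀ : Subgroup G) := hP₀ (Subgroup.mem_sup_right (Subgroup.mem_zpowers x))
  have hy0 : y ∈ (P₀ : Subgroup G) := hP₀ (Subgroup.mem_sup_left (Subgroup.mem_zpowers y))
  have e : (P₀ : Subgroup G) ≃* (P : Subgroup G) := Sylow.equiv P₀ P
  apply isQuasiDihedral_of_equiv e
  refine ⟨n, hn, by rw [Nat.card_congr e.toEquiv, hcard], ⟨x, hx0⟩, ⟨y, hy0⟩, ?_, ?_, ?_⟩
  · exact (Subgroup.orderOf_coe (⟨x, hx0⟩ : (P₀ : Subgroup G))).symm.trans hx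
  · exact (Subgroup.orderOf_coe (⟨y, hy0⟩ : (P₀ : Subgroup G))).symm.trans hy
  · apply Subtype.ext
    simp [hxy]

/-- A Sylow 2-subgroup of order `2^(2n+1)` of a group containing the wreathed generators is
wreathed. -/
theorem isWreathed_sylow (P : Sylow 2 G) (n : ℕ) (hn : 2 ≤ n)
    (hcard : Nat.card P = 2 ^ (2 * n + 1)) (x y z : G) (hx : orderOf x = 2 ^ n)
    (hxy : x * y = y * x) (hdisj : Subgroup.zpowers x ⊓ Subgroup.zpowers y = ⊥)
    (hz : orderOf z = 2) (hzx : z * x * z⁻¹ = y) :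
    Cfsg.IsWreathed (P : Subgroup G) := by
  have hyo : orderOf y = 2 ^ n := by
    rw [← hzx, ← MulAut.conj_apply, MulEquiv.orderOf_eq, hx]
  have hzz : z * z = 1 := by
    have := pow_orderOf_eq_one z
    rwa [hz, pow_two] at this
  have hzinv : z⁻¹ = z := inv_eq_of_mul_eq_one_left hzz
  have hzy : z * y * z⁻¹ = x := by
    rw [← hzx, hzinv]
    calc z * (z * x * z) * z = (z * z) * x * (z * z) := by group
      _ = x := by rw [hzz, one_mul, mul_one]
  have hX : IsPGroup 2 (Subgroup.zpowers x) := isPGroup_zpowers x n hx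
  have hY : IsPGroup 2 (Subgroup.zpowers y) := isPGroup_zpowers y n hyo
  have hZ : IsPGroup 2 (Subgroup.zpowers z) := isPGroup_zpowers z 1 (by rw [hz, pow_one])
  have hnorm : Subgroup.zpowers y ≤ Subgroup.normalizer (Subgroup.zpowers x : Set G) := by
    rw [Subgroup.zpowers_le]
    apply Subgroup.mem_normalizer_fintype
    intro w hw
    obtain ⟨i, rfl⟩ := Subgroup.mem_zpowers_iff.mp hw
    have : y * x ^ i * y⁻¹ = x ^ i := by
      have hc : Commute y (x ^ i) := (Commute.zpow_right (show Commute y x from hxy.symm) i)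
      rw [hc.eq, mul_inv_cancel_right]
    rw [SetLike.mem_coe, this]
    exact Subgroup.zpow_mem_zpowers x i
  have hA : IsPGroup 2 (Subgroup.zpowers y ⊔ Subgroup.zpowers x : Subgroup G) :=
    IsPGroup.to_sup_of_normal_right' hY hX hnorm
  have hnorm2 : Subgroup.zpowers z ≤
      Subgroup.normalizer ((Subgroup.zpowers y ⊔ Subgroup.zpowers x : Subgroup G) : Set G) := by
    rw [Subgroup.zpowers_le]
    apply Subgroup.mem_normalizer_fintype
    intro w hw
    rw [SetLike.mem_coe] at hw ⊢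
    have hmap : (Subgroup.zpowers y ⊔ Subgroup.zpowers x : Subgroup G).map
        (MulAut.conj z).toMonoidHom ≤ (Subgroup.zpowers y ⊔ Subgroup.zpowers x : Subgroup G) := by
      rw [Subgroup.map_sup, MonoidHom.map_zpowers, MonoidHom.map_zpowers]
      simp only [MulEquiv.coe_toMonoidHom, MulAut.conj_apply, hzy, hzx]
      rw [sup_comm]
    exact hmap (Subgroup.mem_map_of_mem _ hw)
  have hH : IsPGroup 2 (Subgroup.zpowers z ⊔ (Subgroup.zpowers y ⊔ Subgroup.zpowers x) :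
      Subgroup G) := IsPGroup.to_sup_of_normal_right' hZ hA hnorm2
  obtain ⟨P₀, hP₀⟩ := hH.exists_le_sylow
  have hx0 : x ∈ (P₀ : Subgroup G) :=
    hP₀ (Subgroup.mem_sup_right (Subgroup.mem_sup_right (Subgroup.mem_zpowers x)))
  have hy0 : y ∈ (P₀ : Subgroup G) :=
    hP₀ (Subgroup.mem_sup_right (Subgroup.mem_sup_left (Subgroup.mem_zpowers y)))
  have hz0 : z ∈ (P₀ : Subgroup G) := hP₀ (Subgroup.mem_sup_left (Subgroup.mem_zpowers z))
  have e : (P₀ : Subgroup G) ≃* (P : Subgroup G) := Sylow.equiv P₀ P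
  apply isWreathed_of_equiv e
  refine ⟨n, hn, by rw [Nat.card_congr e.toEquiv, hcard], ⟨x, hx0⟩, ⟨y, hy0⟩, ⟨z, hz0⟩, ?_, ?_, ?_,
    ?_, ?_⟩
  · exact (Subgroup.orderOf_coe (⟨x, hx0⟩ : (P₀ : Subgroup G))).symm.trans hx
  · apply Subtype.ext
    simp [hxy]
  · rw [eq_bot_iff]
    intro w hw
    obtain ⟨hw1, hw2⟩ := Subgroup.mem_inf.mp hw
    obtain ⟨i, hi⟩ := Subgroup.mem_zpowers_iff.mp hw1
    obtain ⟨j, hj⟩ := Subgroup.mem_zpowers_iff.mp hw2
    have h1 : x ^ i = (w : G) := by rw [← hi]; simp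
    have h2 : y ^ j = (w : G) := by rw [← hj]; simp
    have h4 : (w : G) ∈ Subgroup.zpowers x ⊓ Subgroup.zpowers y :=
      Subgroup.mem_inf.mpr ⟨h1 ▸ Subgroup.zpow_mem_zpowers x i, h2 ▸ Subgroup.zpow_mem_zpowers y j⟩
    rw [hdisj, Subgroup.mem_bot] at h4
    rw [Subgroup.mem_bot]
    exact Subtype.ext h4
  · exact (Subgroup.orderOf_coe (⟨z, hz0⟩ : (P₀ : Subgroup G))).symm.trans hz
  · apply Subtype.ext
    simp [hzx]

end Cfsg.Agent.Helper11.GU2Sylow
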