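import Mathlib
import Cfsg.Agent.Lib.Helper11.GU2Sylow
import Cfsg.Agent.Lib.Helper11.Unitary2

/-! Explicit 2-elements of `GU₂(q)` (helper11). -/

set_option autoImplicit false
open scoped MatrixGroups

namespace Cfsg.Agent.Helper11.GU2Sylow

open Cfsg.Agent.Helper11.Herm

variable {F : Type*} [Field F]

/-- The two-adic valuation of `2^k * m`, `m` odd. -/
theorem factorization_two (k m : ℕ) (hm : Odd m) : (2 ^ k * m).factorization 2 = k := by
  have hm0 : m ≠ 0 := by
    rintro rfl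
    exact (Nat.not_odd_iff_even.mpr (by decide)) hm
  rw [Nat.factorization_mul (by positivity) hm0, Nat.Prime.factorization_pow Nat.prime_two]
  have : m.factorization 2 = 0 := by
    apply Nat.factorization_eq_zero_of_not_dvd
    intro h
    exact (Nat.not_even_iff_odd.mpr hm) (even_iff_two_dvd.mpr h)
  simp [this]

/-- Elements of prescribed order in the multiplicative group of a finite field. -/
theorem exists_unit_orderOf [Finite F] (d : ℕ) (hd : d ∣ Nat.card Fˣ) :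
    ∃ u : Fˣ, orderOf u = d := by
  obtain ⟨g, hg⟩ := IsCyclic.exists_ofOrder_eq_natCard (α := Fˣ)
  refine ⟨g ^ (orderOf g / d), orderOf_pow_orderOf_div ?_ (hg ▸ hd)⟩
  rw [hg]
  exact Nat.card_pos.ne'

/-- The diagonal embedding `F × F → M₂(F)`. -/
def diagHom : F × F →* Matrix (Fin 2) (Fin 2) F where
  toFun p := Matrix.diagonal ![p.1, p.2]
  map_one' := by
    ext i j
    fin_cases i <;> fin_cases j <;> simp
  map_mul' p r := by
    rw [Matrix.diagonal_mul_diagonal]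
    congr 1
    funext i
    fin_cases i <;> simp

/-- The diagonal embedding `Fˣ × Fˣ → GL₂(F)`. -/
def diagGL : Fˣ × Fˣ →* GL (Fin 2) F :=
  (Units.map (diagHom : F × F →* _)).comp (MulEquiv.prodUnits.symm.toMonoidHom)

theorem diagGL_coe (p : Fˣ × Fˣ) :
    ((diagGL p : GL (Fin 2) F) : Matrix (Fin 2) (Fin 2) F)
      = Matrix.diagonal ![(p.1 : F), (p.2 : F)] := rfl

theorem diagGL_injective : Function.Injective (diagGL : Fˣ × Fˣ →* GL (Fin 2) F) := by
  intro p r h
  have h' := congrArg (fun g : GL (Fin 2) F => (g : Matrix (Fin 2) (Fin 2) F)) h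
  simp only [diagGL_coe] at h'
  have h0 := congrFun (congrFun h' 0) 0
  have h1 := congrFun (congrFun h' 1) 1
  simp at h0 h1
  exact Prod.ext (Units.ext h0) (Units.ext h1)

/-- The swap matrix as an element of `GL₂`. -/
def swapGL : GL (Fin 2) F where
  val := !![0, 1; 1, 0]
  inv := !![0, 1; 1, 0]
  val_inv := by
    ext i j
    fin_cases i <;> fin_cases j <;> simp [Matrix.mul_apply, Fin.sum_univ_two]
  inv_val := by
    ext i j
    fin_cases i <;> fin_cases j <;> simp [Matrix.mul_apply, Fin.sum_univ_two]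

theorem swapGL_coe : ((swapGL : GL (Fin 2) F) : Matrix (Fin 2) (Fin 2) F) = !![0, 1; 1, 0] := rfl

theorem swapGL_mul_self : (swapGL : GL (Fin 2) F) * swapGL = 1 := by
  apply Units.ext
  exact swapGL.val_inv

theorem swapGL_inv : (swapGL : GL (Fin 2) F)⁻¹ = swapGL := rfl

theorem swapGL_ne_one : (swapGL : GL (Fin 2) F) ≠ 1 := by
  intro h
  have := congrArg (fun g : GL (Fin 2) F => (g : Matrix (Fin 2) (Fin 2) F) 0 0) h
  simp [swapGL_coe] at this

theorem orderOf_swapGL : orderOf (swapGL : GL (Fin 2) F) = 2 := by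
  apply orderOf_eq_prime
  · rw [pow_two, swapGL_mul_self]
  · exact swapGL_ne_one

theorem swap_conj_diag (p : Fˣ × Fˣ) :
    (swapGL : GL (Fin 2) F) * diagGL p * swapGL⁻¹ = diagGL (p.2, p.1) := by
  apply Units.ext
  rw [swapGL_inv, Units.val_mul, Units.val_mul, diagGL_coe, diagGL_coe, swapGL_coe]
  ext i j
  fin_cases i <;> fin_cases j <;>
    simp [Matrix.mul_apply, Fin.sum_univ_two, Matrix.vecMul, dotProduct, Matrix.diagonal_apply]

theorem isU_swap (φ : F →+* F) : IsU φ (!![0, 1; 1, 0] : Matrix (Fin 2) (Fin 2) F) := by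
  unfold IsU
  ext i j
  fin_cases i <;> fin_cases j <;> simp [Matrix.mul_apply, Fin.sum_univ_two]

theorem isU_diagGL (φ : F →+* F) (p : Fˣ × Fˣ) (h1 : (p.1 : F) * φ p.1 = 1)
    (h2 : (p.2 : F) * φ p.2 = 1) :
    IsU φ ((diagGL p : GL (Fin 2) F) : Matrix (Fin 2) (Fin 2) F) := by
  rw [diagGL_coe]
  apply isU_diagonal
  intro i
  fin_cases i
  · simpa using h1
  · simpa using h2

/-- The twisted torus embedding `F × F → M₂(F)` attached to `ε`. -/
def thetaHom (h2 : (2 : F) ≠ 0) (ε : F) (hε : ε ≠ 0) : F × F →* Matrix (Fin 2) (Fin 2) F where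
  toFun p := !![(p.1 + p.2) / 2, (p.1 - p.2) / (2 * ε); ε * (p.1 - p.2) / 2, (p.1 + p.2) / 2]
  map_one' := by
    ext i j
    fin_cases i <;> fin_cases j <;> simp
    · field_simp
      norm_num
    · field_simp
      norm_num
  map_mul' p r := by
    ext i j
    fin_cases i <;> fin_cases j <;>
      simp [Matrix.mul_apply, Fin.sum_univ_two] <;> field_simp <;> ring

theorem thetaHom_apply (h2 : (2 : F) ≠ 0) (ε : F) (hε : ε ≠ 0) (p : F × F) :
    thetaHom h2 ε hε p
      = !![(p.1 + p.2) / 2, (p.1 - p.2) / (2 * ε); ε * (p.1 - p.2) / 2, (p.1 + p.2) / 2] := rfl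

/-- The twisted torus embedding `Fˣ × Fˣ → GL₂(F)`. -/
def thetaGL (h2 : (2 : F) ≠ 0) (ε : F) (hε : ε ≠ 0) : Fˣ × Fˣ →* GL (Fin 2) F :=
  (Units.map (thetaHom h2 ε hε)).comp (MulEquiv.prodUnits.symm.toMonoidHom)

theorem thetaGL_coe (h2 : (2 : F) ≠ 0) (ε : F) (hε : ε ≠ 0) (p : Fˣ × Fˣ) :
    ((thetaGL h2 ε hε p : GL (Fin 2) F) : Matrix (Fin 2) (Fin 2) F)
      = !![((p.1 : F) + p.2) / 2, ((p.1 : F) - p.2) / (2 * ε);
          ε * ((p.1 : F) - p.2) / 2, ((p.1 : F) + p.2) / 2] := rfl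

theorem thetaGL_injective (h2 : (2 : F) ≠ 0) (ε : F) (hε : ε ≠ 0) :
    Function.Injective (thetaGL h2 ε hε) := by
  intro p r h
  have h' := congrArg (fun g : GL (Fin 2) F => (g : Matrix (Fin 2) (Fin 2) F)) h
  simp only [thetaGL_coe] at h'
  have h0 := congrFun (congrFun h' 0) 0
  have h1 := congrFun (congrFun h' 1) 0
  simp at h0 h1
  have e0 : (p.1 : F) + p.2 = r.1 + r.2 := by
    field_simp at h0
    exact h0
  have e1 : (p.1 : F) - p.2 = r.1 - r.2 := by
    field_simp at h1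
    exact h1
  have e2 : (p.1 : F) = r.1 := by
    have : (2 : F) * p.1 = 2 * r.1 := by linear_combination e0 + e1
    exact mul_left_cancel₀ h2 this
  have e3 : (p.2 : F) = r.2 := by
    have : (2 : F) * p.2 = 2 * r.2 := by linear_combination e0 - e1
    exact mul_left_cancel₀ h2 this
  exact Prod.ext (Units.ext e2) (Units.ext e3)

/-- `diag(1,-1)` conjugates the twisted torus by swapping the coordinates. -/
theorem diag_conj_theta (h2 : (2 : F) ≠ 0) (ε : F) (hε : ε ≠ 0) (p : Fˣ × Fˣ) :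
    (diagGL (1, -1) : GL (Fin 2) F) * thetaGL h2 ε hε p * (diagGL (1, -1))⁻¹
      = thetaGL h2 ε hε (p.2, p.1) := by
  have hinv : (diagGL ((1 : Fˣ), (-1 : Fˣ)) : GL (Fin 2) F)⁻¹ = diagGL (1, -1) := by
    have h : ((1 : Fˣ), (-1 : Fˣ))⁻¹ = (1, -1) := by
      rw [Prod.inv_mk, inv_one, inv_neg, inv_one]
    rw [← map_inv, h]
  rw [hinv]
  apply Units.ext
  rw [Units.val_mul, Units.val_mul, diagGL_coe, thetaGL_coe, thetaGL_coe]
  ext i j
  fin_cases i <;> fin_cases j <;>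
    simp [Matrix.mul_apply, Matrix.diagonal_apply]
      <;> ring_nf

/-- Unitarity of the twisted torus elements. -/
theorem isU_thetaGL (φ : F →+* F) (h2 : (2 : F) ≠ 0) (ε : F) (hε : ε ≠ 0) (hφε : ε * φ ε = -1)
    (p : Fˣ × Fˣ) (h1 : φ (p.1 : F) * p.2 = 1) (h2' : (p.1 : F) * φ p.2 = 1) :
    IsU φ ((thetaGL h2 ε hε p : GL (Fin 2) F) : Matrix (Fin 2) (Fin 2) F) := by
  rw [thetaGL_coe]
  unfold IsU
  have hα : (p.1 : F) ≠ 0 := p.1.ne_zero
  have hβ : (p.2 : F) ≠ 0 := p.2.ne_zero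
  have e1 : φ (p.1 : F) = (p.2 : F)⁻¹ := eq_inv_of_mul_eq_one_left h1
  have e2 : φ (p.2 : F) = (p.1 : F)⁻¹ := eq_inv_of_mul_eq_one_right h2'
  have e3 : φ ε = -ε⁻¹ := by
    have : φ ε = (-1) * ε⁻¹ := by
      rw [← hφε]
      field_simp
    rw [this]; ring
  ext i j
  fin_cases i <;> fin_cases j <;>
    simp [Matrix.mul_apply, Fin.sum_univ_two, map_div₀, e1, e2, e3, map_ofNat] <;> field_simp <;> ring

end Cfsg.Agent.Helper11.GU2Sylow
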