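import Mathlib
import Cfsg.Agent.Lib.Helper11.GU2Sylow2

/-! Sylow 2-subgroups of `GU₂(q)`, `q` odd (helper11). -/

set_option autoImplicit false
open scoped MatrixGroups

namespace Cfsg.Agent.Helper11.GU2Sylow

open Cfsg.Agent.Helper11.Herm

variable {F : Type*} [Field F] [Fintype F] {q : ℕ}

theorem two_ne_zero_of_odd (hF : Fintype.card F = q ^ 2) (hq : Odd q) : (2 : F) ≠ 0 := by
  have hchar : ringChar F ≠ 2 := by
    intro h
    have h2' := FiniteField.even_card_iff_char_two.mp h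
    have := Nat.odd_iff.mp (hq.pow (n := 2))
    rw [hF] at h2'
    omega
  exact Ring.two_ne_zero hchar

theorem card_GU2 (hF : Fintype.card F = q ^ 2) :
    Nat.card (Cfsg.GU 2 F q) = q * ((q + 1) * ((q + 1) * (q - 1))) := by
  have hq := two_le_q hF
  rw [card_GU hF 2]
  unfold guOrder
  rw [Finset.prod_range_succ, Finset.prod_range_one, if_pos (by decide : Even 0),
    if_neg (by decide : ¬ Even 1)]
  rw [show 1 + 1 = 2 from rfl, sq_sub_one q (by omega)]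
  norm_num

omit [Fintype F] in
theorem neg_one_unit_ne_one (h2 : (2 : F) ≠ 0) : (-1 : Fˣ) ≠ 1 := by
  intro h
  have := congrArg (fun u : Fˣ => (u : F)) h
  simp only [Units.val_neg, Units.val_one] at this
  apply h2
  linear_combination -this

/-- The quasi-dihedral case. -/
theorem gu2_quasiDihedral (hF : Fintype.card F = q ^ 2) (hq : q % 4 = 1)
    (P : Sylow 2 (Cfsg.GU 2 F q)) :
    Cfsg.IsQuasiDihedral ((P : Subgroup (Cfsg.GU 2 F q))) := by
  have hqodd : Odd q := by rw [Nat.odd_iff]; omega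
  have hq2 := two_le_q hF
  obtain ⟨φ, hφ⟩ := exists_frob hF
  have h2 := two_ne_zero_of_odd hF hqodd
  -- arithmetic
  obtain ⟨a, m₂, hm₂, hqa⟩ := Nat.exists_eq_two_pow_mul_odd (n := q - 1) (by omega)
  obtain ⟨r, hr⟩ := hm₂
  have ha : 2 ≤ a := by
    by_contra hlt
    have : a = 0 ∨ a = 1 := by omega
    rcases this with rfl | rfl
    · rw [pow_zero, one_mul] at hqa; omega
    · rw [pow_one] at hqa; omega
  set t := 2 ^ a with ht
  have ht1 : 1 ≤ t := Nat.one_le_two_pow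
  set m₁ := 2 * (q / 4) + 1 with hm₁
  have hq1 : q + 1 = 2 * m₁ := by omega
  have hm₁odd : Odd m₁ := ⟨q / 4, rfl⟩
  have hqt : q = t * m₂ + 1 := by omega
  have hcardG : Nat.card (Cfsg.GU 2 F q) = 2 ^ (a + 2) * (q * (m₁ * m₁ * m₂)) := by
    rw [card_GU2 hF, hq1, hqa, pow_add]
    ring
  have hcardP : Nat.card (P : Subgroup (Cfsg.GU 2 F q)) = 2 ^ ((a + 1) + 1) := by
    rw [Sylow.card_eq_multiplicity, hcardG, factorization_two]
    exact hqodd.mul ((hm₁odd.mul hm₁odd).mul ⟨r, hr⟩)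
  -- the root of unity
  have hdvd : 2 ^ (a + 1) ∣ Nat.card Fˣ := by
    rw [card_units_eq hF, sq_sub_one q (by omega), hq1, hqa]
    exact ⟨m₁ * m₂, by rw [pow_succ]; ring⟩
  obtain ⟨ω, hω⟩ := exists_unit_orderOf (F := F) (2 ^ (a + 1)) hdvd
  set k := t - 1 with hk
  have hωt : ω ^ (2 * t) = 1 := by
    rw [← pow_orderOf_eq_one ω, hω, pow_succ, mul_comm]
  have hP1 : ω ^ q * ω ^ k = 1 := by
    rw [← pow_add]
    have : q + k = 2 * t * (r + 1) := by
      rw [hqt, hr, hk]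
      have : t * (2 * r + 1) + 1 + (t - 1) = t * (2 * r + 1) + t := by omega
      rw [this]; ring
    rw [this, pow_mul, hωt, one_pow]
  have hkk : ω ^ (k * k) = ω := by
    have e : k * k + 2 * t = t * t + 1 := by
      obtain ⟨t', ht'⟩ : ∃ t', t = t' + 1 := ⟨t - 1, by omega⟩
      rw [hk, ht', Nat.add_sub_cancel]
      ring
    have htt : ω ^ (t * t) = 1 := by
      have : t * t = 2 * t * 2 ^ (a - 2 + 1) := by
        have h4 : t = 2 ^ (a - 2 + 1) * 2 := by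
          rw [ht, ← pow_succ]; congr 1; omega
        calc t * t = t * (2 ^ (a - 2 + 1) * 2) := by rw [← h4]
          _ = 2 * t * 2 ^ (a - 2 + 1) := by ring
      rw [this, pow_mul, hωt, one_pow]
    have h3 : ω ^ (k * k) * ω ^ (2 * t) = ω ^ (t * t) * ω := by
      rw [← pow_add, e, pow_succ]
    rwa [hωt, htt, mul_one, one_mul] at h3
  -- Frobenius relations in `F`
  have hF1 : φ (ω : F) * ((ω ^ k : Fˣ) : F) = 1 := by
    rw [hφ]
    have := congrArg (fun u : Fˣ => (u : F)) hP1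
    simpa using this
  have hF2 : (ω : F) * φ ((ω ^ k : Fˣ) : F) = 1 := by
    have := congrArg φ hF1
    rwa [map_mul, frob_frob hF φ hφ, map_one] at this
  -- the element `ε`
  obtain ⟨ε, hε0, hε⟩ := exists_norm_eq hF (-1 : F) (by simp) (hqodd.neg_one_pow)
  have hφε : ε * φ ε = -1 := by rw [hφ, hε]
  -- the elements
  have hxU := isU_thetaGL φ h2 ε hε0 hφε (ω, ω ^ k) hF1 hF2
  have hyU : IsU φ ((diagGL ((1 : Fˣ), (-1 : Fˣ)) : GL (Fin 2) F) : Matrix (Fin 2) (Fin 2) F) :=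
    isU_diagGL φ (1, -1) (by simp) (by simp)
  set x : Cfsg.GU 2 F q := ⟨thetaGL h2 ε hε0 (ω, ω ^ k), (mem_GU_iff_isU φ hφ 2 _).mpr hxU⟩ with hx
  set y : Cfsg.GU 2 F q := ⟨diagGL (1, -1), (mem_GU_iff_isU φ hφ 2 _).mpr hyU⟩ with hy
  have hxo : orderOf x = 2 ^ (a + 1) := by
    rw [← Subgroup.orderOf_coe, hx]
    change orderOf (thetaGL h2 ε hε0 (ω, ω ^ k)) = _
    rw [orderOf_injective _ (thetaGL_injective h2 ε hε0), Prod.orderOf]
    have hcop : (orderOf ω).Coprime k := by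
      rw [hω]
      apply Nat.Coprime.pow_left
      rw [Nat.coprime_two_left]
      rw [hk, ht]
      obtain ⟨a', rfl⟩ : ∃ a', a = a' + 1 := ⟨a - 1, by omega⟩
      exact ⟨2 ^ a' - 1, by have := Nat.one_le_two_pow (n := a'); rw [pow_succ]; omega⟩
    rw [hcop.orderOf_pow, hω, Nat.lcm_self]
  have hyo : orderOf y = 2 := by
    apply orderOf_eq_prime
    · apply Subtype.ext
      change (diagGL ((1 : Fˣ), (-1 : Fˣ)) : GL (Fin 2) F) ^ 2 = 1
      rw [← map_pow, Prod.pow_mk, one_pow, neg_one_sq]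
      exact map_one _
    · intro h
      have h' : (diagGL ((1 : Fˣ), (-1 : Fˣ)) : GL (Fin 2) F) = diagGL 1 := by
        rw [map_one]
        exact congrArg Subtype.val h
      have := congrArg Prod.snd (diagGL_injective h')
      exact neg_one_unit_ne_one h2 this
  have hrel : y * x * y⁻¹ = x ^ (2 ^ ((a + 1) - 1) - 1) := by
    rw [Nat.add_sub_cancel, ← ht, ← hk]
    apply Subtype.ext
    change (diagGL ((1 : Fˣ), (-1 : Fˣ)) : GL (Fin 2) F) * thetaGL h2 ε hε0 (ω, ω ^ k)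
      * (diagGL (1, -1))⁻¹ = (thetaGL h2 ε hε0 (ω, ω ^ k)) ^ k
    rw [diag_conj_theta, ← map_pow, Prod.pow_mk, ← pow_mul, hkk]
  exact isQuasiDihedral_sylow P (a + 1) (by omega) hcardP x y hxo hyo hrel

/-- The wreathed case. -/
theorem gu2_wreathed (hF : Fintype.card F = q ^ 2) (hq : q % 4 = 3)
    (P : Sylow 2 (Cfsg.GU 2 F q)) :
    Cfsg.IsWreathed ((P : Subgroup (Cfsg.GU 2 F q))) := by
  have hqodd : Odd q := by rw [Nat.odd_iff]; omega
  have hq2 := two_le_q hF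
  obtain ⟨φ, hφ⟩ := exists_frob hF
  have h2 := two_ne_zero_of_odd hF hqodd
  -- arithmetic
  obtain ⟨b, m₁, hm₁, hqb⟩ := Nat.exists_eq_two_pow_mul_odd (n := q + 1) (by omega)
  obtain ⟨r, hr⟩ := hm₁
  have hb : 2 ≤ b := by
    by_contra hlt
    have : b = 0 ∨ b = 1 := by omega
    rcases this with rfl | rfl
    · rw [pow_zero, one_mul] at hqb; omega
    · rw [pow_one] at hqb; omega
  set m₂ := 2 * (q / 4) + 1 with hm₂
  have hq1 : q - 1 = 2 * m₂ := by omega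
  have hm₂odd : Odd m₂ := ⟨q / 4, rfl⟩
  have hcardG : Nat.card (Cfsg.GU 2 F q) = 2 ^ (2 * b + 1) * (q * (m₁ * m₁ * m₂)) := by
    have h3 : 2 ^ (2 * b + 1) = 2 ^ b * 2 ^ b * 2 := by rw [pow_succ, two_mul, pow_add]
    rw [card_GU2 hF, hq1, hqb, h3]
    ring
  have hcardP : Nat.card (P : Subgroup (Cfsg.GU 2 F q)) = 2 ^ (2 * b + 1) := by
    rw [Sylow.card_eq_multiplicity, hcardG, factorization_two]
    have hm₁odd : Odd m₁ := ⟨r, hr⟩
    exact hqodd.mul ((hm₁odd.mul hm₁odd).mul hm₂odd)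
  -- the root of unity
  have hdvd : 2 ^ b ∣ Nat.card Fˣ := by
    rw [card_units_eq hF, sq_sub_one q (by omega), hqb]
    exact ⟨m₁ * (q - 1), by ring⟩
  obtain ⟨ζ, hζ⟩ := exists_unit_orderOf (F := F) (2 ^ b) hdvd
  have hζq : ζ ^ (q + 1) = 1 := by
    rw [hqb, pow_mul, ← hζ, pow_orderOf_eq_one, one_pow]
  have hF1 : (ζ : F) * φ (ζ : F) = 1 := by
    rw [hφ, ← pow_succ']
    have := congrArg (fun u : Fˣ => (u : F)) hζq
    simpa using this
  have hxU : IsU φ ((diagGL (ζ, (1 : Fˣ)) : GL (Fin 2) F) : Matrix (Fin 2) (Fin 2) F) :=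
    isU_diagGL φ (ζ, 1) hF1 (by simp)
  have hyU : IsU φ ((diagGL ((1 : Fˣ), ζ) : GL (Fin 2) F) : Matrix (Fin 2) (Fin 2) F) :=
    isU_diagGL φ (1, ζ) (by simp) hF1
  have hzU : IsU φ ((swapGL : GL (Fin 2) F) : Matrix (Fin 2) (Fin 2) F) := isU_swap φ
  set x : Cfsg.GU 2 F q := ⟨diagGL (ζ, 1), (mem_GU_iff_isU φ hφ 2 _).mpr hxU⟩ with hx
  set y : Cfsg.GU 2 F q := ⟨diagGL (1, ζ), (mem_GU_iff_isU φ hφ 2 _).mpr hyU⟩ with hy
  set z : Cfsg.GU 2 F q := ⟨swapGL, (mem_GU_iff_isU φ hφ 2 _).mpr hzU⟩ with hz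
  have hxo : orderOf x = 2 ^ b := by
    rw [← Subgroup.orderOf_coe, hx]
    change orderOf (diagGL (ζ, (1 : Fˣ)) : GL (Fin 2) F) = _
    rw [orderOf_injective _ diagGL_injective, Prod.orderOf, orderOf_one, hζ, Nat.lcm_one_right]
  have hxy : x * y = y * x := by
    apply Subtype.ext
    change (diagGL (ζ, (1 : Fˣ)) : GL (Fin 2) F) * diagGL (1, ζ) = diagGL (1, ζ) * diagGL (ζ, 1)
    rw [← map_mul, ← map_mul, mul_comm]
  have hdisj : Subgroup.zpowers x ⊓ Subgroup.zpowers y = ⊥ := by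
    rw [eq_bot_iff]
    intro w hw
    obtain ⟨hw1, hw2⟩ := Subgroup.mem_inf.mp hw
    obtain ⟨i, hi⟩ := Subgroup.mem_zpowers_iff.mp hw1
    obtain ⟨j, hj⟩ := Subgroup.mem_zpowers_iff.mp hw2
    have e1 : (diagGL ((ζ, (1 : Fˣ)) ^ i) : GL (Fin 2) F) = (w : GL (Fin 2) F) := by
      rw [map_zpow, ← hi]; rfl
    have e2 : (diagGL (((1 : Fˣ), ζ) ^ j) : GL (Fin 2) F) = (w : GL (Fin 2) F) := by
      rw [map_zpow, ← hj]; rfl
    have e3 := diagGL_injective (e1.trans e2.symm)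
    have e4 : ζ ^ i = 1 := by
      have := congrArg Prod.fst e3
      simpa using this
    rw [Subgroup.mem_bot]
    apply Subtype.ext
    rw [← e1]
    have : ((ζ, (1 : Fˣ)) ^ i) = 1 := by
      ext <;> simp [e4]
    rw [this, map_one]; rfl
  have hzo : orderOf z = 2 := by
    rw [← Subgroup.orderOf_coe, hz]
    exact orderOf_swapGL
  have hrel : z * x * z⁻¹ = y := by
    apply Subtype.ext
    change (swapGL : GL (Fin 2) F) * diagGL (ζ, 1) * swapGL⁻¹ = diagGL (1, ζ)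
    rw [swap_conj_diag]
  exact isWreathed_sylow P b hb hcardP x y z hxo hxy hdisj hzo hrel

end Cfsg.Agent.Helper11.GU2Sylow
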