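import Mathlib
import Cfsg.Agent.Lib.Helper23.HKKGrp

/-! # S3779 piece GFP (helper11): a fixed-point-free automorphism is fixed-point-free on the associated
graded group of the lower central series. -/

set_option autoImplicit false
set_option linter.unusedVariables false

namespace Cfsg.Agent.Helper23.HKK

open scoped DirectSum commutatorElement

variable (G : Type*) [Group G]

/-! ## GFP: fixed points -/

/-- a fixed-point-free automorphism of a finite group is fixed-point-free on invariant sections -/
theorem fpf_section [Finite G] (α : MulAut G) (hfpf : ∀ g : G, α g = g → g = 1) (H N : Subgroup G) (hNH : N ≤ H)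
    (hN : ∀ g ∈ N, α g ∈ N) (a : G) (ha : a ∈ H) (h : a⁻¹ * α a ∈ N) : a ∈ N := by
  let f : N → N := fun n => ⟨(n : G)⁻¹ * α n, mul_mem (inv_mem n.2) (hN n n.2)⟩
  have hinj : Function.Injective f := by
    intro n m hnm
    have h1 : (n : G)⁻¹ * α n = (m : G)⁻¹ * α m := congrArg Subtype.val hnm
    have h2 : α ((m : G) * (n : G)⁻¹) = (m : G) * (n : G)⁻¹ := by
      rw [map_mul, map_inv]
      have : α (m : G) = (m : G) * ((n : G)⁻¹ * α n) := by rw [h1]; group
      rw [this]; group
    have h3 := hfpf _ h2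
    apply Subtype.ext
    have : (m : G) = (n : G) := by
      calc (m : G) = ((m : G) * (n : G)⁻¹) * n := by group
        _ = n := by rw [h3, one_mul]
    exact this.symm
  have hsurj : Function.Surjective f := Finite.injective_iff_surjective.1 hinj
  obtain ⟨n, hn⟩ := hsurj ⟨a⁻¹ * α a, h⟩
  have h1 : (n : G)⁻¹ * α n = a⁻¹ * α a := congrArg Subtype.val hn
  have h2 : α (a * (n : G)⁻¹) = a * (n : G)⁻¹ := by
    rw [map_mul, map_inv]
    have : α a = a * ((n : G)⁻¹ * α n) := by rw [h1]; group
    rw [this]; group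
  have h3 := hfpf _ h2
  have : a = n := by
    calc a = (a * (n : G)⁻¹) * n := by group
      _ = n := by rw [h3, one_mul]
  rw [this]
  exact n.2

theorem gfp_cmk_surj (w : ℕ) (x : Comp G w) : ∃ (a : G) (ha : a ∈ Gam G w), x = cmk G w a ha := by
  obtain ⟨a, ha⟩ := QuotientGroup.mk_surjective (Additive.toMul x)
  exact ⟨a.1, a.2, by unfold cmk; rw [Subtype.coe_eta, ha]; rfl⟩

theorem gfp_cmk_eq_iff (w : ℕ) (a b : G) (ha : a ∈ Gam G w) (hb : b ∈ Gam G w) :
    cmk G w a ha = cmk G w b hb ↔ a⁻¹ * b ∈ Gam G (w + 1) := by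
  unfold cmk
  rw [Additive.ofMul.injective.eq_iff, QuotientGroup.eq, Subgroup.mem_subgroupOf]
  rfl

theorem gfp_cmk_eq_zero_iff (w : ℕ) (a : G) (ha : a ∈ Gam G w) : cmk G w a ha = 0 ↔ a ∈ Gam G (w + 1) := by
  have h0 : (0 : Comp G w) = cmk G w 1 (one_mem _) := rfl
  rw [h0, eq_comm, gfp_cmk_eq_iff, inv_one, one_mul]

/-- core of `autAdd_fpf`: GAU facts as hypotheses -/
theorem gfp_autAdd_fpf_core [Finite G] (α : MulAut G) (hfpf : ∀ g : G, α g = g → g = 1)
    (hGam : ∀ (w : ℕ) (a : G), a ∈ Gam G w → α a ∈ Gam G w)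
    (hcmk : ∀ (w : ℕ) (a : G) (ha : a ∈ Gam G w),
      compMap G α w (cmk G w a ha) = cmk G w (α a) (hGam w a ha))
    (hof : ∀ (w : ℕ) (x : Comp G w),
      autAdd G α (DirectSum.of (Comp G) w x) = DirectSum.of (Comp G) w (compMap G α w x))
    (x : AL G) (hx : autAdd G α x = x) : x = 0 := by
  classical
  -- the components of `autAdd G α x`
  have hcomp : ∀ (y : AL G) (w : ℕ), (autAdd G α y) w = compMap G α w (y w) := by
    intro y w
    have hzero : ∀ v : ℕ, compMap G α v 0 = 0 := by
      intro v
      have h1 := hcmk v 1 (one_mem _)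
      have h0 : (0 : Comp G v) = cmk G v 1 (one_mem _) := rfl
      rw [h0, h1]
      have : α (1 : G) = 1 := map_one α
      simp only [this]
    induction y using DirectSum.induction_on with
    | zero => rw [map_zero, DirectSum.zero_apply, hzero]
    | of v z =>
      rw [hof]
      by_cases hvw : v = w
      · subst hvw
        rw [DirectSum.of_eq_same, DirectSum.of_eq_same]
      · rw [DirectSum.of_eq_of_ne _ _ _ (Ne.symm hvw), DirectSum.of_eq_of_ne _ _ _ (Ne.symm hvw), hzero]
    | add y z hy hz =>
      -- additivity of `compMap` on the components follows from the two `of`-formulas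
      have hadd : ∀ (v : ℕ) (s t : Comp G v), compMap G α v (s + t) = compMap G α v s + compMap G α v t := by
        intro v s t
        have h1 := hof v (s + t)
        rw [map_add, map_add, hof, hof, ← map_add] at h1
        exact (DirectSum.of_injective v h1).symm
      rw [map_add, DirectSum.add_apply, DirectSum.add_apply, hy, hz, hadd]
  refine DFinsupp.ext (fun w => ?_)
  rw [DirectSum.zero_apply]
  have h1 : compMap G α w (x w) = x w := by
    rw [← hcomp x w, hx]
  obtain ⟨a, ha, hxa⟩ := gfp_cmk_surj G w (x w)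
  rw [hxa] at h1 ⊢
  rw [hcmk, eq_comm, gfp_cmk_eq_iff] at h1
  rw [gfp_cmk_eq_zero_iff]
  exact fpf_section G α hfpf (Gam G w) (Gam G (w + 1)) (Gam_succ_le G w) (hGam (w + 1)) a ha h1

end Cfsg.Agent.Helper23.HKK
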