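import Mathlib
import Cfsg.Agent.Lib.Helper11.HKKGFP
import Cfsg.Agent.Lib.Helper18.HKKGAU

/-! # S3779 piece GFP (helper11): exact-signature wrapper `autAdd_fpf`. -/

set_option autoImplicit false

namespace Cfsg.Agent.Helper23.HKK

open scoped DirectSum commutatorElement

variable (G : Type*) [Group G]

theorem autAdd_fpf [Finite G] (α : MulAut G) (hfpf : ∀ g : G, α g = g → g = 1) (x : AL G)
    (hx : autAdd G α x = x) : x = 0 :=
  gfp_autAdd_fpf_core G α hfpf (Gam_aut G α) (compMap_cmk G α) (autAdd_of G α) x hx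

end Cfsg.Agent.Helper23.HKK
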