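import Mathlib
import Cfsg.Agent.Lib.Helper23.HKKGrp

/-! # S3779 piece GLC (helper11): `[γ_i, γ_j] ≤ γ_{i+j}` for the weighted lower central series `Gam`. -/

set_option autoImplicit false

namespace Cfsg.Agent.Helper23.HKK

open scoped DirectSum commutatorElement

variable (G : Type*) [Group G]

/-- the three subgroups lemma modulo a normal subgroup -/
theorem glc_three_subgroups (A B C N : Subgroup G) [N.Normal] (h1 : ⁅⁅B, C⁆, A⁆ ≤ N)
    (h2 : ⁅⁅C, A⁆, B⁆ ≤ N) : ⁅⁅A, B⁆, C⁆ ≤ N := by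
  have key : ∀ H : Subgroup G, H ≤ N ↔ H.map (QuotientGroup.mk' N) = ⊥ := by
    intro H
    rw [Subgroup.map_eq_bot_iff, QuotientGroup.ker_mk']
  rw [key] at h1 h2 ⊢
  simp only [Subgroup.map_commutator] at h1 h2 ⊢
  exact Subgroup.commutator_commutator_eq_bot_of_rotate h1 h2

/-! ## GLC: `[γ_i, γ_j] ≤ γ_{i+j}` -/

theorem Gam_zero : Gam G 0 = ⊤ := rfl

theorem Gam_one : Gam G 1 = ⊤ := rfl

theorem Gam_succ_succ (w : ℕ) : Gam G (w + 2) = ⁅Gam G (w + 1), (⊤ : Subgroup G)⁆ := rfl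

theorem Gam_antitone {i j : ℕ} (h : i ≤ j) : Gam G j ≤ Gam G i := by
  unfold Gam
  exact Subgroup.lowerCentralSeries_antitone _ (by omega)

/-- `[G, γ_j] ≤ γ_{j+1}` (also for `j = 0`) -/
theorem Gam_comm_top (j : ℕ) (a b : G) (hb : b ∈ Gam G j) :
    ⁅a, b⁆ ∈ Gam G (j + 1) ∧ ⁅b, a⁆ ∈ Gam G (j + 1) := by
  cases j with
  | zero =>
    rw [Gam_one]
    exact ⟨Subgroup.mem_top _, Subgroup.mem_top _⟩
  | succ j =>
    have h2 : ⁅b, a⁆ ∈ Gam G (j + 1 + 1) := by
      rw [Gam_succ_succ]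
      exact Subgroup.commutator_mem_commutator hb (Subgroup.mem_top a)
    refine ⟨?_, h2⟩
    have : ⁅a, b⁆ = (⁅b, a⁆)⁻¹ := (commutatorElement_inv b a).symm
    rw [this]
    exact inv_mem h2

/-- the subgroup form, for positive weights -/
theorem glc_comm_le (j : ℕ) : ∀ i : ℕ, ⁅Gam G (i + 1), Gam G (j + 1)⁆ ≤ Gam G (i + j + 2) := by
  induction j with
  | zero =>
    intro i
    rw [Gam_one, ← Gam_succ_succ]
  | succ j ih =>
    intro i
    rw [Gam_succ_succ G j, Subgroup.commutator_comm]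
    apply glc_three_subgroups
    · -- `⁅⁅⊤, γ_{i+1}⁆, γ_{j+1}⁆`
      rw [Subgroup.commutator_comm ⊤, ← Gam_succ_succ]
      have := ih (i + 1)
      have e : i + 1 + j + 2 = i + (j + 1) + 2 := by omega
      rw [e] at this
      exact this
    · -- `⁅⁅γ_{i+1}, γ_{j+1}⁆, ⊤⁆`
      have h := Subgroup.commutator_mono (ih i) (le_refl (⊤ : Subgroup G))
      have e : i + (j + 1) + 2 = (i + j + 1) + 2 := by omega
      rw [e, Gam_succ_succ]
      exact h

/-- three subgroups lemma + induction -/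
theorem Gam_comm_mem (i j : ℕ) (a b : G) (ha : a ∈ Gam G i) (hb : b ∈ Gam G j) :
    ⁅a, b⁆ ∈ Gam G (i + j) := by
  cases i with
  | zero =>
    rw [Nat.zero_add]
    have : ⁅a, b⁆ = a * b * a⁻¹ * b⁻¹ := commutatorElement_def a b
    rw [this, mul_assoc (a * b)]
    have h1 : a * b * a⁻¹ ∈ Gam G j := (Gam_normal G j).conj_mem b hb a
    rw [← mul_assoc]
    exact mul_mem h1 (inv_mem hb)
  | succ i =>
    cases j with
    | zero =>
      rw [Nat.add_zero]
      have : ⁅a, b⁆ = a * (b * a⁻¹ * b⁻¹) := by rw [commutatorElement_def]; group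
      rw [this]
      exact mul_mem ha ((Gam_normal G (i + 1)).conj_mem a⁻¹ (inv_mem ha) b)
    | succ j =>
      have h := glc_comm_le G j i (Subgroup.commutator_mem_commutator ha hb)
      have e : i + 1 + (j + 1) = i + j + 2 := by omega
      rw [e]
      exact h

end Cfsg.Agent.Helper23.HKK
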