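import Mathlib
import Cfsg.Agent.Lib.Helper11.HSub1
import Cfsg.Agent.Lib.Helper21.PGroupFrattini

/-!
# H-subgroups of fixed order: the action of `p'`-elements on small elements (helper11)

`Ctx G p P d`: every subgroup of order `p ^ d` of the `p`-group `P` is strongly closed in `P`
with respect to `G` (and the subgroups of order `4` too if `p ^ d = 2`), `1 ≤ d`, `p ^ d < |P|`.

`small_step`: for `T ≤ S ≤ P` with `|S| > p ^ d`, `M` normal of index `p` in `S`, `y ∈ N_G(T)` of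
order prime to `p - 1` and `x ∈ T` of order at most `p ^ d`: `x⁻¹ (y x y⁻¹) ∈ M`.
`small_frattini`: hence `x⁻¹ (y x y⁻¹) ∈ Φ(S)`.
-/

set_option autoImplicit false

namespace Cfsg.Agent.Helper11.HSub

variable {G : Type*} [Group G]

/-- the standing hypotheses -/
structure Ctx (G : Type*) [Group G] (p : ℕ) (P : Subgroup G) (d : ℕ) : Prop where
  hP : IsPGroup p P
  sc : ∀ E : Subgroup G, E ≤ P → Nat.card E = p ^ d → ∀ g e : G, e ∈ E → g * e * g⁻¹ ∈ P →
    g * e * g⁻¹ ∈ E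
  sc4 : p ^ d = 2 → ∀ E : Subgroup G, E ≤ P → Nat.card E = 4 → ∀ g e : G, e ∈ E →
    g * e * g⁻¹ ∈ P → g * e * g⁻¹ ∈ E
  hd : 1 ≤ d
  hlt : p ^ d < Nat.card P

theorem card_mul_relIndex_of_le [Finite G] {M S : Subgroup G} (hMS : M ≤ S) :
    Nat.card M * M.relIndex S = Nat.card S := by
  have h := Subgroup.card_mul_index (M.subgroupOf S)
  rw [Nat.card_congr (Subgroup.subgroupOfEquivOfLe hMS).toEquiv] at h
  exact h

theorem small_step [Finite G] {p d : ℕ} [hp : Fact p.Prime] {P : Subgroup G} (C : Ctx G p P d)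
    {T S M : Subgroup G} (hTS : T ≤ S) (hSP : S ≤ P) (hS : p ^ d < Nat.card S)
    (hMS : M ≤ S) (hMn : ∀ s ∈ S, ∀ m ∈ M, s * m * s⁻¹ ∈ M) (hMi : M.relIndex S = p)
    {y : G} (hy : y ∈ Subgroup.normalizer (T : Set G)) (hcop : (orderOf y).Coprime (p - 1))
    {x : G} (hxT : x ∈ T) (hx : orderOf x ≤ p ^ d) : x⁻¹ * (y * x * y⁻¹) ∈ M := by
  have hSp : IsPGroup p S := C.hP.to_le hSP
  have hMp : IsPGroup p M := hSp.to_le hMS
  -- `p ^ d ≤ |M|`
  have hMcard : p ^ d ≤ Nat.card M := by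
    obtain ⟨s, hs⟩ := IsPGroup.iff_card.mp hSp
    obtain ⟨m, hm⟩ := IsPGroup.iff_card.mp hMp
    have h1 := card_mul_relIndex_of_le hMS
    rw [hMi, hs, hm, ← pow_succ] at h1
    have h2 : m + 1 = s := Nat.pow_right_injective hp.out.two_le h1
    rw [hs] at hS
    have h3 : d < s := (Nat.pow_lt_pow_iff_right hp.out.one_lt).mp hS
    rw [hm]
    exact Nat.pow_le_pow_right hp.out.pos (by omega)
  -- a subgroup `E` of order `p ^ d` containing `x`
  obtain ⟨E, hxE, hES, hEcard⟩ := exists_between (H := Subgroup.zpowers x) hSp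
    (Subgroup.zpowers_le.mpr (hTS hxT)) (by rw [Nat.card_zpowers]; exact hx) hS.le
  have hxE' : x ∈ E := hxE (Subgroup.mem_zpowers x)
  -- invariance of `E ⊓ T`
  have inv1 : ∀ w ∈ Subgroup.normalizer (T : Set G), ∀ z ∈ E ⊓ T, w * z * w⁻¹ ∈ E ⊓ T := by
    intro w hw z hz
    have h1 : w * z * w⁻¹ ∈ T := (Subgroup.mem_normalizer_iff.mp hw z).mp hz.2
    exact ⟨C.sc E (hES.trans hSP) hEcard w z hz.1 (hSP (hTS h1)), h1⟩
  -- invariance of `E ⊓ T ⊓ M`
  have inv2 : ∀ w ∈ Subgroup.normalizer (T : Set G), ∀ z ∈ E ⊓ T ⊓ M,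
      w * z * w⁻¹ ∈ E ⊓ T ⊓ M := by
    intro w hw z hz
    refine ⟨inv1 w hw z hz.1, ?_⟩
    have hzcard : Nat.card (Subgroup.zpowers z) ≤ p ^ d := by
      rw [← hEcard]
      exact Nat.le_of_dvd Nat.card_pos (Subgroup.card_dvd_of_le (Subgroup.zpowers_le.mpr hz.1.1))
    obtain ⟨Ez, hzEz, hEzM, hEzcard⟩ := exists_between (H := Subgroup.zpowers z) hMp
      (Subgroup.zpowers_le.mpr hz.2) hzcard hMcard
    have h1 : w * z * w⁻¹ ∈ T := (Subgroup.mem_normalizer_iff.mp hw z).mp hz.1.2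
    exact hEzM (C.sc Ez ((hEzM.trans hMS).trans hSP) hEzcard w z (hzEz (Subgroup.mem_zpowers z))
      (hSP (hTS h1)))
  have hyinv : y⁻¹ ∈ Subgroup.normalizer (T : Set G) := Subgroup.inv_mem _ hy
  have hyE' : y ∈ Subgroup.normalizer ((E ⊓ T : Subgroup G) : Set G) := by
    apply Cfsg.Agent.Helper10.mem_normalizer_of_conj_mem
    · exact inv1 y hy
    · intro b hb
      have := inv1 y⁻¹ hyinv b hb
      simpa using this
  have hyE'' : y ∈ Subgroup.normalizer ((E ⊓ T ⊓ M : Subgroup G) : Set G) := by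
    apply Cfsg.Agent.Helper10.mem_normalizer_of_conj_mem
    · exact inv2 y hy
    · intro b hb
      have := inv2 y⁻¹ hyinv b hb
      simpa using this
  have hxE'T : x ∈ E ⊓ T := ⟨hxE', hxT⟩
  by_cases hxM : x ∈ M
  · have h1 : y * x * y⁻¹ ∈ E ⊓ T ⊓ M := inv2 y hy x ⟨hxE'T, hxM⟩
    exact M.mul_mem (M.inv_mem hxM) h1.2
  · have hE'S : E ⊓ T ≤ S := inf_le_left.trans hES
    have hidx : (E ⊓ T ⊓ M).relIndex (E ⊓ T) = p := by
      rw [Subgroup.inf_relIndex_left]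
      have hN : (M.subgroupOf S).Normal := by
        constructor
        intro b hb a
        rw [Subgroup.mem_subgroupOf] at hb ⊢
        simpa using hMn a a.2 b hb
      have h1 : (M.subgroupOf S).relIndex ((E ⊓ T).subgroupOf S) ∣ (M.subgroupOf S).index :=
        Subgroup.relIndex_dvd_index_of_normal _ _
      rw [Subgroup.relIndex_subgroupOf hE'S] at h1
      have h2 : (M.subgroupOf S).index = p := hMi
      rw [h2] at h1
      rcases (Nat.dvd_prime hp.out).mp h1 with h3 | h3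
      · exfalso
        rw [Subgroup.relIndex_eq_one] at h3
        exact hxM (h3 hxE'T)
      · exact h3
    have hnorm : ∀ a ∈ E ⊓ T, ∀ b ∈ E ⊓ T ⊓ M, a * b * a⁻¹ ∈ E ⊓ T ⊓ M := by
      intro a ha b hb
      refine ⟨(E ⊓ T).mul_mem ((E ⊓ T).mul_mem ha hb.1) ((E ⊓ T).inv_mem ha), ?_⟩
      exact hMn a (hE'S ha) b hb.2
    have := inv_mul_conj_mem_of_relIndex_prime (E ⊓ T) (E ⊓ T ⊓ M) hnorm hidx y hyE' hyE'' hcop
      hxE'T
    exact this.2

/-- the Frattini form of `small_step` -/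
theorem small_frattini [Finite G] {p d : ℕ} [hp : Fact p.Prime] {P : Subgroup G}
    (C : Ctx G p P d) {T S : Subgroup G} (hTS : T ≤ S) (hSP : S ≤ P) (hS : p ^ d < Nat.card S)
    {y : G} (hy : y ∈ Subgroup.normalizer (T : Set G)) (hcop : (orderOf y).Coprime (p - 1))
    {x : G} (hxT : x ∈ T) (hx : orderOf x ≤ p ^ d) :
    x⁻¹ * (y * x * y⁻¹) ∈ (frattini ↥S).map S.subtype := by
  have hSp : IsPGroup p S := C.hP.to_le hSP
  have h1 : y * x * y⁻¹ ∈ T := (Subgroup.mem_normalizer_iff.mp hy x).mp hxT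
  have hwS : x⁻¹ * (y * x * y⁻¹) ∈ S := S.mul_mem (S.inv_mem (hTS hxT)) (hTS h1)
  refine ⟨⟨_, hwS⟩, ?_, rfl⟩
  rw [SetLike.mem_coe, frattini, Order.radical, Subgroup.mem_iInf]
  intro M
  rw [Subgroup.mem_iInf]
  intro hM
  have hM' : IsCoatom (M : Subgroup S) := hM
  have hMnorm := Cfsg.Agent.Helper21.coatom_normal_of_isPGroup hSp M hM'
  have hidx := Cfsg.Agent.Helper21.coatom_index_of_isPGroup hSp M hM'
  have hsub : (M.map S.subtype).subgroupOf S = M :=
    Subgroup.comap_map_eq_self_of_injective S.subtype_injective M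
  have hMi : (M.map S.subtype).relIndex S = p := by
    rw [Subgroup.relIndex, hsub]; exact hidx
  have hMn : ∀ s ∈ S, ∀ m ∈ M.map S.subtype, s * m * s⁻¹ ∈ M.map S.subtype := by
    rintro s hs _ ⟨m, hm, rfl⟩
    exact ⟨⟨s, hs⟩ * m * (⟨s, hs⟩ : S)⁻¹, hMnorm.conj_mem m hm ⟨s, hs⟩, by simp⟩
  have := small_step C hTS hSP hS (Subgroup.map_subtype_le M) hMn hMi hy hcop hxT hx
  obtain ⟨m, hm, hmeq⟩ := this
  have : m = ⟨_, hwS⟩ := Subtype.ext hmeq
  rwa [← this]

end Cfsg.Agent.Helper11.HSub
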