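import Mathlib
import Cfsg.Agent.Lib.Helper11.HSub2
import Cfsg.Agent.Lib.Helper10.OmegaLemma
import Cfsg.Agent.Lib.Helper23.BurnsideFrattini
import Cfsg.Agent.Lib.Helper20.AutCoprime

/-!
# H-subgroups of fixed order: `p'`-elements centralize the large subgroups (helper11)

`large_centralizes`: in the setting `Ctx G p P d`, an element `y` of order prime to `p (p - 1)`
normalizing `T ≤ P` with `|T| > p ^ d` centralizes `T`.
-/

set_option autoImplicit false

namespace Cfsg.Agent.Helper11.HSub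

variable {G : Type*} [Group G]

/-- the subgroup generated by the elements of `T` of order at most `c` -/
def smallGen (T : Subgroup G) (c : ℕ) : Subgroup G :=
  Subgroup.closure {x | x ∈ T ∧ orderOf x ≤ c}

theorem smallGen_le (T : Subgroup G) (c : ℕ) : smallGen T c ≤ T :=
  (Subgroup.closure_le T).mpr (fun _ hx => hx.1)

theorem orderOf_conj_eq (y x : G) : orderOf (y * x * y⁻¹) = orderOf x := by
  have := (MulAut.conj y).orderOf_eq x
  simpa [MulAut.conj_apply] using this

theorem mem_normalizer_smallGen {T : Subgroup G} {y : G}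
    (hy : y ∈ Subgroup.normalizer (T : Set G)) (c : ℕ) :
    y ∈ Subgroup.normalizer ((smallGen T c : Subgroup G) : Set G) := by
  have key : ∀ w ∈ Subgroup.normalizer (T : Set G), ∀ b ∈ smallGen T c,
      w * b * w⁻¹ ∈ smallGen T c := by
    intro w hw b hb
    unfold smallGen at hb ⊢
    induction hb using Subgroup.closure_induction with
    | mem x hx =>
      exact Subgroup.subset_closure
        ⟨(Subgroup.mem_normalizer_iff.mp hw x).mp hx.1, by rw [orderOf_conj_eq]; exact hx.2⟩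
    | one => simp
    | mul a b _ _ iha ihb =>
      have : w * (a * b) * w⁻¹ = (w * a * w⁻¹) * (w * b * w⁻¹) := by group
      rw [this]; exact Subgroup.mul_mem _ iha ihb
    | inv a _ iha =>
      have : w * a⁻¹ * w⁻¹ = (w * a * w⁻¹)⁻¹ := by group
      rw [this]; exact Subgroup.inv_mem _ iha
  apply Cfsg.Agent.Helper10.mem_normalizer_of_conj_mem (key y hy)
  intro b hb
  have := key y⁻¹ (Subgroup.inv_mem _ hy) b hb
  simpa using this

/-- `d = 1`: elements of order `p` are fixed -/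
theorem fix_of_order_p [Finite G] {p d : ℕ} [hp : Fact p.Prime] {P : Subgroup G}
    (C : Ctx G p P d) (hd1 : d = 1) {T : Subgroup G} (hTP : T ≤ P) {y : G}
    (hy : y ∈ Subgroup.normalizer (T : Set G)) (hcop' : (orderOf y).Coprime (p - 1))
    {x : G} (hxT : x ∈ T) (hxp : x ^ p = 1) : y * x * y⁻¹ = x := by
  by_cases hx1 : x = 1
  · rw [hx1]; group
  have hord : orderOf x = p := orderOf_eq_prime hxp hx1
  set E := Subgroup.zpowers x with hE
  have hEcard : Nat.card E = p ^ d := by rw [hd1, pow_one, Nat.card_zpowers, hord]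
  have hET : E ≤ T := Subgroup.zpowers_le.mpr hxT
  have inv1 : ∀ w ∈ Subgroup.normalizer (T : Set G), ∀ e ∈ E, w * e * w⁻¹ ∈ E := by
    intro w hw e he
    have h1 : w * e * w⁻¹ ∈ T := (Subgroup.mem_normalizer_iff.mp hw e).mp (hET he)
    exact C.sc E (hET.trans hTP) hEcard w e he (hTP h1)
  have hyE : y ∈ Subgroup.normalizer (E : Set G) := by
    apply Cfsg.Agent.Helper10.mem_normalizer_of_conj_mem (inv1 y hy)
    intro b hb
    have := inv1 y⁻¹ (Subgroup.inv_mem _ hy) b hb
    simpa using this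
  have hybot : y ∈ Subgroup.normalizer (((⊥ : Subgroup G) : Subgroup G) : Set G) := by
    rw [Subgroup.mem_normalizer_iff]
    intro h
    simp [Subgroup.mem_bot, conj_eq_one_iff]
  have hidx : (⊥ : Subgroup G).relIndex E = p := by
    rw [Subgroup.relIndex_bot_left, hEcard, hd1, pow_one]
  have hn : ∀ a ∈ E, ∀ b ∈ (⊥ : Subgroup G), a * b * a⁻¹ ∈ (⊥ : Subgroup G) := by
    intro a _ b hb
    rw [Subgroup.mem_bot] at hb ⊢
    rw [hb]; group
  have := inv_mul_conj_mem_of_relIndex_prime E ⊥ hn hidx y hyE hybot hcop' (Subgroup.mem_zpowers x)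
  rw [Subgroup.mem_bot] at this
  have h2 : y * x * y⁻¹ = x * (x⁻¹ * (y * x * y⁻¹)) := by group
  rw [h2, this, mul_one]

/-- `p ^ d = 2`: elements of order `4` are fixed -/
theorem fix_of_order_four [Finite G] {p d : ℕ} [hp : Fact p.Prime] {P : Subgroup G}
    (C : Ctx G p P d) (hp2 : p = 2) (hd1 : d = 1) {T : Subgroup G} (hTP : T ≤ P) {y : G}
    (hy : y ∈ Subgroup.normalizer (T : Set G)) (hcop : (orderOf y).Coprime p)
    (hcop' : (orderOf y).Coprime (p - 1))
    {x : G} (hxT : x ∈ T) (hx4 : x ^ 4 = 1) : y * x * y⁻¹ = x := by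
  by_cases hx2 : x ^ 2 = 1
  · exact fix_of_order_p C hd1 hTP hy hcop' hxT (by rw [hp2]; exact hx2)
  have hord : orderOf x = 4 := by
    have h1 : orderOf x ∣ 4 := orderOf_dvd_of_pow_eq_one hx4
    have h2 : ¬ orderOf x ∣ 2 := fun h => hx2 (orderOf_dvd_iff_pow_eq_one.mp h)
    have h3 : orderOf x ≤ 4 := Nat.le_of_dvd (by norm_num) h1
    interval_cases h : orderOf x
    · simp at h1
    · exact absurd (one_dvd 2) h2
    · exact absurd dvd_rfl h2
    · omega
    · rfl
  have hpd : p ^ d = 2 := by rw [hp2, hd1]; rfl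
  set E := Subgroup.zpowers x with hE
  have hEcard : Nat.card E = 4 := by rw [Nat.card_zpowers, hord]
  have hET : E ≤ T := Subgroup.zpowers_le.mpr hxT
  have inv1 : ∀ w ∈ Subgroup.normalizer (T : Set G), ∀ e ∈ E, w * e * w⁻¹ ∈ E := by
    intro w hw e he
    have h1 : w * e * w⁻¹ ∈ T := (Subgroup.mem_normalizer_iff.mp hw e).mp (hET he)
    exact C.sc4 hpd E (hET.trans hTP) hEcard w e he (hTP h1)
  have hyE : y ∈ Subgroup.normalizer (E : Set G) := by
    apply Cfsg.Agent.Helper10.mem_normalizer_of_conj_mem (inv1 y hy)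
    intro b hb
    have := inv1 y⁻¹ (Subgroup.inv_mem _ hy) b hb
    simpa using this
  -- the square is fixed
  have hsqT : x ^ 2 ∈ T := T.pow_mem hxT 2
  have hsqfix : ∀ w ∈ Subgroup.normalizer (T : Set G), (orderOf w).Coprime (p - 1) →
      w * x ^ 2 * w⁻¹ = x ^ 2 := by
    intro w hw hwc
    apply fix_of_order_p C hd1 hTP hw hwc hsqT
    rw [hp2, ← pow_mul]; exact hx4
  set E1 := Subgroup.zpowers (x ^ 2) with hE1
  have hE1fix : ∀ b ∈ E1, y * b * y⁻¹ = b := by
    intro b hb
    obtain ⟨k, rfl⟩ := Subgroup.mem_zpowers_iff.mp hb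
    have := hsqfix y hy hcop'
    calc y * (x ^ 2) ^ k * y⁻¹ = (y * x ^ 2 * y⁻¹) ^ k := by rw [conj_zpow]
      _ = (x ^ 2) ^ k := by rw [this]
  have hyE1 : y ∈ Subgroup.normalizer (E1 : Set G) := by
    apply Cfsg.Agent.Helper10.mem_normalizer_of_conj_mem
    · intro b hb; rw [hE1fix b hb]; exact hb
    · intro b hb
      have h1 := hE1fix b hb
      have : y⁻¹ * b * y = b := by
        calc y⁻¹ * b * y = y⁻¹ * (y * b * y⁻¹) * y := by rw [h1]
          _ = b := by group
      rw [this]; exact hb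
  have hE1E : E1 ≤ E := Subgroup.zpowers_le.mpr (E.pow_mem (Subgroup.mem_zpowers x) 2)
  have hE1card : Nat.card E1 = 2 := by
    rw [Nat.card_zpowers]
    apply orderOf_eq_prime
    · rw [← pow_mul]; exact hx4
    · exact hx2
  have hidx : E1.relIndex E = p := by
    have h1 := card_mul_relIndex_of_le hE1E
    rw [hE1card, hEcard] at h1
    rw [hp2]; omega
  have hn : ∀ a ∈ E, ∀ b ∈ E1, a * b * a⁻¹ ∈ E1 := by
    intro a ha b hb
    obtain ⟨i, rfl⟩ := Subgroup.mem_zpowers_iff.mp ha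
    obtain ⟨j, rfl⟩ := Subgroup.mem_zpowers_iff.mp hb
    have : x ^ i * (x ^ 2) ^ j * (x ^ i)⁻¹ = (x ^ 2) ^ j := by
      have hc : Commute (x ^ i) ((x ^ 2) ^ j) :=
        (((Commute.refl x).pow_right 2).zpow_right j).zpow_left i
      rw [hc.eq]; group
    rw [this]; exact Subgroup.zpow_mem _ (Subgroup.mem_zpowers _) j
  have hz := inv_mul_conj_mem_of_relIndex_prime E E1 hn hidx y hyE hyE1 hcop' (Subgroup.mem_zpowers x)
  have hzfix := hE1fix _ hz
  apply Cfsg.Agent.Helper7.conj_eq_self_of_coprime y x (isOfFinOrder_of_finite y) hzfix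
  have h1 : orderOf (x⁻¹ * (y * x * y⁻¹)) ∣ p := by
    have := Subgroup.orderOf_dvd_natCard E1 hz
    rwa [hE1card, ← hp2] at this
  exact Nat.Coprime.coprime_dvd_right h1 hcop

/-- **Main lemma for large subgroups.** -/
theorem large_centralizes [Finite G] {p d : ℕ} [hp : Fact p.Prime] {P : Subgroup G}
    (C : Ctx G p P d) (y : G) (hcop : (orderOf y).Coprime p)
    (hcop' : (orderOf y).Coprime (p - 1)) :
    ∀ n : ℕ, ∀ T : Subgroup G, Nat.card T = n → T ≤ P → p ^ d < Nat.card T →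
      y ∈ Subgroup.normalizer (T : Set G) → ∀ x ∈ T, y * x * y⁻¹ = x := by
  intro n
  induction n using Nat.strong_induction_on with
  | _ n ih =>
  intro T hn hTP hTcard hy
  have hTp : IsPGroup p T := C.hP.to_le hTP
  by_cases hd1 : d = 1
  · apply Cfsg.Agent.Helper10.omega_lemma y hcop n T hn hTp hy
    intro x hx hΩ
    rcases hΩ with h | ⟨h2, h4⟩
    · exact fix_of_order_p C hd1 hTP hy hcop' hx h
    · exact fix_of_order_four C h2 hd1 hTP hy hcop hcop' hx h4
  have hd2 : 2 ≤ d := by have := C.hd; omega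
  set T0 := smallGen T (p ^ d) with hT0
  have hT0T : T0 ≤ T := smallGen_le T _
  have hyT0 : y ∈ Subgroup.normalizer ((T0 : Subgroup G) : Set G) := mem_normalizer_smallGen hy _
  have hsmallΩ : ∀ x ∈ T, (x ^ p = 1 ∨ (p = 2 ∧ x ^ 4 = 1)) → x ∈ T0 := by
    intro x hx hΩ
    apply Subgroup.subset_closure
    refine ⟨hx, ?_⟩
    rcases hΩ with h | ⟨h2, h4⟩
    · calc orderOf x ≤ p := Nat.le_of_dvd hp.out.pos (orderOf_dvd_of_pow_eq_one h)
        _ = p ^ 1 := (pow_one p).symm
        _ ≤ p ^ d := Nat.pow_le_pow_right hp.out.pos C.hd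
    · calc orderOf x ≤ 4 := Nat.le_of_dvd (by norm_num) (orderOf_dvd_of_pow_eq_one h4)
        _ = p ^ 2 := by rw [h2]; norm_num
        _ ≤ p ^ d := Nat.pow_le_pow_right hp.out.pos hd2
  have hfin : (∀ x ∈ T0, y * x * y⁻¹ = x) → ∀ x ∈ T, y * x * y⁻¹ = x := by
    intro h0
    apply Cfsg.Agent.Helper10.omega_lemma y hcop n T hn hTp hy
    intro x hx hΩ
    exact h0 x (hsmallΩ x hx hΩ)
  by_cases hcase1 : T0 = T
  · -- Burnside's basis theorem
    set Φ : Subgroup G := (frattini ↥T).map T.subtype with hΦ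
    set A := Subgroup.zpowers y with hA
    have hAT : A ≤ Subgroup.normalizer (T : Set G) := Subgroup.zpowers_le.mpr hy
    have hAcard : (Nat.card A).Coprime p := by rw [Nat.card_zpowers]; exact hcop
    have hAsolv : Group.IsSolvable A := by
      apply Group.isSolvable_of_comm
      rintro ⟨a, ha⟩ ⟨b, hb⟩
      obtain ⟨i, rfl⟩ := Subgroup.mem_zpowers_iff.mp ha
      obtain ⟨j, rfl⟩ := Subgroup.mem_zpowers_iff.mp hb
      exact Subtype.ext (zpow_mul_comm y i j)
    have hAΦ : A ≤ Subgroup.normalizer ((Φ : Subgroup G) : Set G) :=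
      hAT.trans (Cfsg.Agent.Helper10.normalizer_le_normalizer_map_frattini T)
    have hΦn : ∀ t ∈ T, ∀ z ∈ Φ, t * z * t⁻¹ ∈ Φ := by
      rintro t ht _ ⟨z, hz, rfl⟩
      have hn : (frattini ↥T).Normal := inferInstance
      exact ⟨⟨t, ht⟩ * z * (⟨t, ht⟩ : T)⁻¹, hn.conj_mem z hz ⟨t, ht⟩, by simp⟩
    have hact : ∀ a ∈ A, ∀ r ∈ T, a * r * a⁻¹ * r⁻¹ ∈ Φ := by
      intro a ha r hr
      have haT : a ∈ Subgroup.normalizer (T : Set G) := hAT ha
      have hac : (orderOf a).Coprime (p - 1) :=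
        Nat.Coprime.coprime_dvd_left (orderOf_dvd_of_mem_zpowers ha) hcop'
      rw [← hcase1, hT0] at hr
      unfold smallGen at hr
      induction hr using Subgroup.closure_induction with
      | mem r hr =>
        have h1 := small_frattini C (le_refl T) hTP hTcard haT hac hr.1 hr.2
        have h2 := hΦn r hr.1 _ h1
        have e : r * (r⁻¹ * (a * r * a⁻¹)) * r⁻¹ = a * r * a⁻¹ * r⁻¹ := by group
        rwa [e] at h2
      | one => simp
      | mul r1 r2 hr1 _ ih1 ih2 =>
        have hr1T : r1 ∈ T := (Subgroup.closure_le T).mpr (fun _ hx => hx.1) hr1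
        have h2 := hΦn r1 hr1T _ ih2
        have e : a * (r1 * r2) * a⁻¹ * (r1 * r2)⁻¹ =
            (a * r1 * a⁻¹ * r1⁻¹) * (r1 * (a * r2 * a⁻¹ * r2⁻¹) * r1⁻¹) := by group
        rw [e]; exact Φ.mul_mem ih1 h2
      | inv r hr ih =>
        have hrT : r ∈ T := (Subgroup.closure_le T).mpr (fun _ hx => hx.1) hr
        have h2 := hΦn r⁻¹ (T.inv_mem hrT) _ (Φ.inv_mem ih)
        have e : r⁻¹ * (a * r * a⁻¹ * r⁻¹)⁻¹ * r⁻¹⁻¹ = a * r⁻¹ * a⁻¹ * r⁻¹⁻¹ := by group
        rwa [e] at h2
    have hcent := Cfsg.Agent.Helper23.centralizes_of_frattini T hTp A hAcard hAsolv hAΦ hact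
    intro x hx
    have h1 := Subgroup.mem_centralizer_iff.mp (hcent hx) y (Subgroup.mem_zpowers y)
    calc y * x * y⁻¹ = x * y * y⁻¹ := by rw [h1]
      _ = x := by group
  by_cases hcase2 : p ^ d < Nat.card T0
  · apply hfin
    have hlt : Nat.card T0 < n := by
      rw [← hn]
      have h1 : Nat.card T0 ∣ Nat.card T := Subgroup.card_dvd_of_le hT0T
      have h2 : Nat.card T0 ≤ Nat.card T := Nat.le_of_dvd Nat.card_pos h1
      rcases lt_or_eq_of_le h2 with h | h
      · exact h
      · exact absurd (Subgroup.eq_of_le_of_card_ge hT0T h.ge) hcase1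
    exact ih _ hlt T0 rfl (hT0T.trans hTP) hcase2 hyT0
  · -- the cyclic case
    push Not at hcase2
    apply hfin
    obtain ⟨t, ht⟩ := IsPGroup.iff_card.mp hTp
    have hdt : d < t := by
      rw [ht] at hTcard
      exact (Nat.pow_lt_pow_iff_right hp.out.one_lt).mp hTcard
    have h2 : p ^ (d + 1) ≤ Nat.card T := by
      rw [ht]; exact Nat.pow_le_pow_right hp.out.pos hdt
    have h1 : Nat.card T0 ≤ p ^ (d + 1) :=
      hcase2.trans (Nat.pow_le_pow_right hp.out.pos (Nat.le_succ d))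
    obtain ⟨F, hT0F, hFT, hFcard⟩ := exists_between hTp hT0T h1 h2
    obtain ⟨f, hfF, hfT0⟩ : ∃ f ∈ F, f ∉ T0 := by
      by_contra hcon
      push Not at hcon
      have hle : F ≤ T0 := hcon
      have := Nat.le_of_dvd Nat.card_pos (Subgroup.card_dvd_of_le hle)
      rw [hFcard] at this
      have h3 : p ^ d < p ^ (d + 1) := Nat.pow_lt_pow_right hp.out.one_lt (Nat.lt_succ_self d)
      omega
    have hford : orderOf f = p ^ (d + 1) := by
      have h3 : ¬ orderOf f ≤ p ^ d := fun h => hfT0 (Subgroup.subset_closure ⟨hFT hfF, h⟩)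
      have h4 : orderOf f ∣ p ^ (d + 1) := hFcard ▸ Subgroup.orderOf_dvd_natCard F hfF
      obtain ⟨j, hj, hjeq⟩ := (Nat.dvd_prime_pow hp.out).mp h4
      rw [hjeq] at h3 ⊢
      have h5 : d < j := by
        by_contra h
        push Not at h
        exact h3 (Nat.pow_le_pow_right hp.out.pos h)
      have : j = d + 1 := by omega
      rw [this]
    set g := f ^ p with hg
    have hgord : orderOf g = p ^ d := by
      rw [hg, orderOf_pow_of_dvd hp.out.ne_zero (by rw [hford, pow_succ]; exact dvd_mul_left _ _),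
        hford, pow_succ, Nat.mul_div_cancel _ hp.out.pos]
    have hgT : g ∈ T := T.pow_mem (hFT hfF) p
    have hzg : Subgroup.zpowers g ≤ T0 := by
      intro z hz
      apply Subgroup.subset_closure
      refine ⟨Subgroup.zpowers_le.mpr hgT hz, ?_⟩
      have := orderOf_dvd_of_mem_zpowers hz
      rw [hgord] at this
      exact Nat.le_of_dvd (pow_pos hp.out.pos d) this
    have hT0eq : Subgroup.zpowers g = T0 := by
      apply Subgroup.eq_of_le_of_card_ge hzg
      rw [Nat.card_zpowers, hgord]; exact hcase2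
    have hgT0 : g ∈ T0 := hzg (Subgroup.mem_zpowers g)
    have hT0p : IsPGroup p T0 := hTp.to_le hT0T
    have hS : Subgroup.closure (((({(⟨g, hgT0⟩ : ↥T0)} : Finset ↥T0)) : Set ↥T0)) = ⊤ := by
      rw [eq_top_iff]
      rintro ⟨z, hz⟩ -
      have hz' : z ∈ Subgroup.zpowers g := by rw [hT0eq]; exact hz
      obtain ⟨k, rfl⟩ := Subgroup.mem_zpowers_iff.mp hz'
      have : (⟨g ^ k, hz⟩ : ↥T0) = (⟨g, hgT0⟩ : ↥T0) ^ k := by
        apply Subtype.ext; simp
      rw [this]
      apply Subgroup.zpow_mem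
      apply Subgroup.subset_closure
      simp
    have hcent := Cfsg.Agent.Helper20.mem_centralizer_of_coprime p T0 hT0p
      ({(⟨g, hgT0⟩ : ↥T0)} : Finset ↥T0) hS 1 (by simp) y hyT0 hcop
      (by simpa [Finset.prod_range_one] using hcop')
    intro x hx
    have h3 := Subgroup.mem_centralizer_iff.mp hcent x hx
    calc y * x * y⁻¹ = x * y * y⁻¹ := by rw [h3]
      _ = x := by group

end Cfsg.Agent.Helper11.HSub
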