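import Mathlib
import Cfsg.Agent.Lib.Helper11.HSub3
import Cfsg.Agent.Lib.Helper10.TameAlperin
import Cfsg.Agent.Lib.Helper1.Tate

/-!
# H-subgroups of fixed order: the normal `p`-complement (helper11)

`npc_of_ctx`: in the setting `Ctx G p P d` with `P` a Sylow `p`-subgroup and `p` the smallest prime
divisor of `|G|`, the group `G` has a normal `p`-complement.  Proof: Alperin's fusion theorem
(helper10 `tame_chain`) reduces `P ∩ G' ≤ Φ(P)` to normalizers `N_G(T)`, `T ≤ P` tame, which are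
generated by `N_P(T)` and `p'`-elements; then Tate's theorem (helper1 `tate_pResidual`).
-/

set_option autoImplicit false

namespace Cfsg.Agent.Helper11.HSub

open Subgroup
open scoped commutatorElement

variable {G : Type*} [Group G]

theorem coprime_pred_of_min [Finite G] {p : ℕ} [hp : Fact p.Prime]
    (hmin : ∀ q : ℕ, q.Prime → q ∣ Nat.card G → p ≤ q) (y : G) :
    (orderOf y).Coprime (p - 1) := by
  by_contra h
  obtain ⟨q, hq, hq1, hq2⟩ := Nat.Prime.not_coprime_iff_dvd.mp h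
  have h1 : p ≤ q := hmin q hq (dvd_trans hq1 (orderOf_dvd_natCard y))
  have h2 : q ≤ p - 1 := Nat.le_of_dvd (by have := hp.out.two_le; omega) hq2
  have := hp.out.two_le
  omega

theorem local_main [Finite G] {p d : ℕ} [hp : Fact p.Prime] {P : Subgroup G} (C : Ctx G p P d)
    {T : Subgroup G} (hTP : T ≤ P) {y : G} (hy : y ∈ normalizer (T : Set G))
    (hcop : (orderOf y).Coprime p) (hcop' : (orderOf y).Coprime (p - 1)) {a : G} (ha : a ∈ T) :
    a⁻¹ * (y * a * y⁻¹) ∈ (frattini ↥P).map P.subtype := by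
  by_cases h : p ^ d < Nat.card T
  · rw [large_centralizes C y hcop hcop' _ T rfl hTP h hy a ha, inv_mul_cancel]
    exact one_mem _
  · push Not at h
    have h1 : orderOf a ≤ p ^ d :=
      le_trans (Nat.le_of_dvd Nat.card_pos (Subgroup.orderOf_dvd_natCard T ha)) h
    exact small_frattini C hTP le_rfl C.hlt hy hcop' ha h1

/-- the subgroup of `N_G(T)` acting trivially on `T` modulo `Φ` -/
def trivMod (T Φ : Subgroup G) : Subgroup G where
  carrier := {x | x ∈ normalizer (T : Set G) ∧ ∀ a ∈ T, a⁻¹ * (x * a * x⁻¹) ∈ Φ}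
  one_mem' := ⟨one_mem _, fun a _ => by simp⟩
  mul_mem' := by
    rintro x y ⟨hx, hx'⟩ ⟨hy, hy'⟩
    refine ⟨mul_mem hx hy, fun a ha => ?_⟩
    have hb : y * a * y⁻¹ ∈ T := (mem_normalizer_iff.mp hy a).mp ha
    have h1 := hx' _ hb
    have h2 := hy' a ha
    have e : a⁻¹ * (x * y * a * (x * y)⁻¹) =
        (a⁻¹ * (y * a * y⁻¹)) * ((y * a * y⁻¹)⁻¹ * (x * (y * a * y⁻¹) * x⁻¹)) := by group
    rw [e]; exact mul_mem h2 h1
  inv_mem' := by
    rintro x ⟨hx, hx'⟩
    refine ⟨inv_mem hx, fun a ha => ?_⟩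
    have hb : x⁻¹ * a * x ∈ T := by
      have := (mem_normalizer_iff.mp (inv_mem hx) a).mp ha
      simpa using this
    have h1 := hx' _ hb
    have e : a⁻¹ * (x⁻¹ * a * x⁻¹⁻¹) =
        ((x⁻¹ * a * x)⁻¹ * (x * (x⁻¹ * a * x) * x⁻¹))⁻¹ := by group
    rw [e]; exact inv_mem h1

theorem mem_trivMod {T Φ : Subgroup G} {x : G} :
    x ∈ trivMod T Φ ↔ x ∈ normalizer (T : Set G) ∧ ∀ a ∈ T, a⁻¹ * (x * a * x⁻¹) ∈ Φ := Iff.rfl

theorem step_main [Finite G] {p d : ℕ} [hp : Fact p.Prime] {P : Subgroup G} (C : Ctx G p P d)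
    (hmin : ∀ q : ℕ, q.Prime → q ∣ Nat.card G → p ≤ q) {T : Subgroup G} (hTP : T ≤ P)
    (hsyl : ¬ p ∣ (P ⊓ normalizer (T : Set G)).relIndex (normalizer (T : Set G))) :
    normalizer (T : Set G) ≤ trivMod T ((frattini ↥P).map P.subtype) := by
  set N := normalizer (T : Set G) with hN
  set Φ := (frattini ↥P).map P.subtype with hΦ
  have h1 : P ⊓ N ≤ trivMod T Φ := by
    intro t ht
    refine ⟨ht.2, fun a ha => ?_⟩
    have := Cfsg.Agent.Helper21.commutator_mem_frattini_of_isPGroup (P := ↥P) C.hP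
      (⟨a, hTP ha⟩ : ↥P)⁻¹ ⟨t, ht.1⟩
    refine ⟨_, this, ?_⟩
    simp [mul_assoc]
  have h2 : ∀ g ∈ N, (orderOf g).Coprime p → g ∈ trivMod T Φ := fun g hg hc =>
    ⟨hg, fun a ha => local_main C hTP hg hc (coprime_pred_of_min hmin g) ha⟩
  have h3 : (P ⊓ N).subgroupOf N ⊔ Cfsg.pResidual p ↥N = ⊤ :=
    Cfsg.Agent.Helper22.sup_pResidual_eq_top _ hsyl
  have h4 : (⊤ : Subgroup ↥N) ≤ (trivMod T Φ).subgroupOf N := by
    rw [← h3, sup_le_iff]
    constructor
    · intro x hx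
      rw [mem_subgroupOf] at hx ⊢
      exact h1 hx
    · unfold Cfsg.pResidual
      rw [closure_le]
      intro g hg
      rw [SetLike.mem_coe, mem_subgroupOf]
      apply h2 _ g.2
      have hg' : (orderOf g).Coprime p := hg
      rwa [Subgroup.orderOf_coe]
  intro x hx
  have := h4 (mem_top (⟨x, hx⟩ : ↥N))
  exact mem_subgroupOf.mp this

theorem chain_focal [Finite G] {p d : ℕ} [hp : Fact p.Prime] (P : Sylow p G)
    (C : Ctx G p (P : Subgroup G) d) (hmin : ∀ q : ℕ, q.Prime → q ∣ Nat.card G → p ≤ q)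
    {A : Set G} {g : G}
    (h : Cfsg.Agent.Helper10.XChain (Cfsg.Agent.Helper10.TameStep P) A g) :
    ∀ a ∈ A, a⁻¹ * (g⁻¹ * a * g) ∈ (frattini ↥(P : Subgroup G)).map (P : Subgroup G).subtype := by
  induction h with
  | nil A => intro a _; simp
  | cons A T x g hT hx hAT _ ih =>
    intro a ha
    obtain ⟨Q, hTQ, hs1, -, -⟩ := hT
    have hTP : T ≤ (P : Subgroup G) := by rw [hTQ]; exact inf_le_left
    have hstep := step_main C hmin hTP hs1 (inv_mem hx)
    have h1 := hstep.2 a (hAT ha)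
    have hb : x⁻¹ * a * x ∈ Cfsg.Agent.Helper10.rcs x A := ⟨a, ha, rfl⟩
    have h2 := ih _ hb
    have e : a⁻¹ * ((x * g)⁻¹ * a * (x * g)) =
        (a⁻¹ * (x⁻¹ * a * x⁻¹⁻¹)) * ((x⁻¹ * a * x)⁻¹ * (g⁻¹ * (x⁻¹ * a * x) * g)) := by group
    rw [e]; exact mul_mem h1 h2

/-- Tate's theorem in focal form: if all `x (u x u⁻¹)⁻¹` with `x, u x u⁻¹ ∈ P` lie in `Φ(P)` then
`O^p(G)` is a `p'`-group. -/
theorem not_dvd_card_pResidual_of_focal [Finite G] {p : ℕ} [hp : Fact p.Prime] (P : Sylow p G)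
    (hfoc : ∀ x ∈ (P : Subgroup G), ∀ u : G, u * x * u⁻¹ ∈ (P : Subgroup G) →
      x * (u * x * u⁻¹)⁻¹ ∈ (frattini P).map (P : Subgroup G).subtype) :
    ¬ p ∣ Nat.card (Cfsg.pResidual p G) := by
  set N₀ : Subgroup G := (P : Subgroup G).transferFocal.ker with hN₀
  have hfoc' : N₀ ⊓ (P : Subgroup G) = (P : Subgroup G).focalSubgroup :=
    Subgroup.ker_transferFocal_inf_eq_focalSubgroup P
  have h3 : N₀ ⊓ (P : Subgroup G) ≤ (frattini P).map (P : Subgroup G).subtype := by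
    rw [hfoc']
    exact Cfsg.Agent.Helper1.focalSubgroup_le_of_forall _ _ hfoc
  have h4 := Cfsg.Agent.Helper1.tate_pResidual P N₀ h3
  have hle : Cfsg.pResidual p G ≤ (Cfsg.pResidual p N₀).map N₀.subtype := by
    unfold Cfsg.pResidual
    rw [Subgroup.closure_le]
    intro g hg
    have hg' : Nat.Coprime (orderOf g) p := hg
    have hgN : g ∈ N₀ := by
      rw [hN₀, MonoidHom.mem_ker]
      have hQ : IsPGroup p ((P : Subgroup G) ⧸ (P : Subgroup G).focalSubgroupOf) :=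
        P.2.to_quotient _
      obtain ⟨k, hk⟩ := hQ ((P : Subgroup G).transferFocal g)
      have d1 : orderOf ((P : Subgroup G).transferFocal g) ∣ p ^ k := orderOf_dvd_of_pow_eq_one hk
      have d2 : orderOf ((P : Subgroup G).transferFocal g) ∣ orderOf g := orderOf_map_dvd _ g
      have d3 : orderOf ((P : Subgroup G).transferFocal g) = 1 :=
        Nat.eq_one_of_dvd_coprimes (Nat.Coprime.pow_right k hg') d2 d1
      exact orderOf_eq_one_iff.mp d3
    refine ⟨⟨g, hgN⟩, ?_, rfl⟩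
    apply Subgroup.subset_closure
    change Nat.Coprime (orderOf (⟨g, hgN⟩ : N₀)) p
    rw [Subgroup.orderOf_mk]
    exact hg'
  intro hdvd
  apply h4
  have := Subgroup.card_dvd_of_le hle
  rw [Subgroup.card_map_of_injective (Subgroup.subtype_injective N₀)] at this
  exact dvd_trans hdvd this

/-- **Main theorem.** -/
theorem npc_of_ctx [Finite G] {p d : ℕ} [hp : Fact p.Prime] (P : Sylow p G)
    (C : Ctx G p (P : Subgroup G) d) (hmin : ∀ q : ℕ, q.Prime → q ∣ Nat.card G → p ≤ q) :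
    Cfsg.HasNormalPComplement p G := by
  apply Cfsg.Agent.Helper1.hasNormalPComplement_of_not_dvd_card_pResidual
  apply not_dvd_card_pResidual_of_focal P
  intro x hx u hu
  set Φ := (frattini ↥(P : Subgroup G)).map (P : Subgroup G).subtype with hΦ
  have hchain := Cfsg.Agent.Helper10.tame_chain P ({x} : Set G) u⁻¹
    (Set.singleton_subset_iff.mpr hx)
    (by
      rintro _ ⟨a, ha, rfl⟩
      rw [Set.mem_singleton_iff.mp ha, inv_inv]
      exact hu)
  have h1 := chain_focal P C hmin hchain x rfl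
  -- `x⁻¹ * (u x u⁻¹) ∈ Φ`
  have h2 : x⁻¹ * (u * x * u⁻¹) ∈ Φ := by
    have h1' := h1
    rw [inv_inv] at h1'
    exact h1'
  -- conjugate by `x` and invert
  have hΦn : ∀ t ∈ (P : Subgroup G), ∀ z ∈ Φ, t * z * t⁻¹ ∈ Φ := by
    rintro t ht _ ⟨z, hz, rfl⟩
    have hn : (frattini ↥(P : Subgroup G)).Normal := inferInstance
    exact ⟨⟨t, ht⟩ * z * (⟨t, ht⟩ : (P : Subgroup G))⁻¹, hn.conj_mem z hz ⟨t, ht⟩, by simp⟩
  have h3 := hΦn x hx _ (Φ.inv_mem h2)
  have e : x * (x⁻¹ * (u * x * u⁻¹))⁻¹ * x⁻¹ = x * (u * x * u⁻¹)⁻¹ := by group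
  rwa [e] at h3

end Cfsg.Agent.Helper11.HSub
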