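import Mathlib

/-!
The norm form `a² - ab + b²` of the quadratic extension generated by a primitive cube root of unity,
over a finite field with `q ≡ 2 (mod 3)` elements: it is anisotropic and takes every non-zero value
exactly `q + 1` times.
-/

set_option autoImplicit false

namespace Cfsg.Agent.Helper11.NF3

variable {F : Type*} [Field F]

/-- the norm form -/
def nf (a b : F) : F := a ^ 2 - a * b + b ^ 2

theorem nf_mul (a b c d : F) : nf a b * nf c d = nf (a * c - b * d) (a * d + b * c - b * d) := by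
  unfold nf; ring

theorem nf_smul (t a b : F) : nf (t * a) (t * b) = t ^ 2 * nf a b := by
  unfold nf; ring

variable [Fintype F]

theorem three_ne_zero (hq : Fintype.card F % 3 = 2) : (3 : F) ≠ 0 := by
  intro h3
  obtain ⟨p, hp⟩ := CharP.exists F
  have := hp
  have : Fact p.Prime := ⟨CharP.char_is_prime F p⟩
  have h : ((3 : ℕ) : F) = 0 := by exact_mod_cast h3
  rw [CharP.cast_eq_zero_iff F p] at h
  have hp3 : p = 3 := (Nat.prime_dvd_prime_iff_eq (Fact.out : p.Prime) Nat.prime_three).1 h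
  obtain ⟨n, -, hn⟩ := FiniteField.card F p
  rw [hn, hp3] at hq
  have : (3 : ℕ) ^ (n : ℕ) % 3 = 0 := by
    obtain ⟨k, hk⟩ : ∃ k, (n : ℕ) = k + 1 := ⟨(n : ℕ) - 1, by have := n.pos; omega⟩
    rw [hk, pow_succ]
    omega
  omega

theorem no_root (hq : Fintype.card F % 3 = 2) (a : F) : a ^ 2 + a + 1 ≠ 0 := by
  classical
  intro h
  have ha0 : a ≠ 0 := by
    rintro rfl
    simp at h
  have ha3 : a ^ 3 = 1 := by
    have : a ^ 3 - 1 = (a - 1) * (a ^ 2 + a + 1) := by ring
    rw [h, mul_zero] at this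
    exact sub_eq_zero.1 this
  have ha1 : a ≠ 1 := by
    rintro rfl
    apply three_ne_zero hq
    have : (1 : F) ^ 2 + 1 + 1 = 3 := by norm_num
    rw [← this]
    exact h
  have hord : orderOf (Units.mk0 a ha0) = 3 := by
    have : Fact (Nat.Prime 3) := ⟨Nat.prime_three⟩
    apply orderOf_eq_prime
    · apply Units.ext
      simpa using ha3
    · intro h1
      apply ha1
      have := congrArg Units.val h1
      simpa using this
  have hdvd := orderOf_dvd_card (x := Units.mk0 a ha0)
  rw [hord, Fintype.card_units] at hdvd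
  have hpos : 0 < Fintype.card F := Fintype.card_pos
  omega

theorem nf_eq_zero (hq : Fintype.card F % 3 = 2) {a b : F} (h : nf a b = 0) : a = 0 ∧ b = 0 := by
  by_cases hb : b = 0
  · subst hb
    unfold nf at h
    have : a ^ 2 = 0 := by simpa using h
    exact ⟨pow_eq_zero_iff (two_ne_zero) |>.1 this, rfl⟩
  · exfalso
    apply no_root hq (-a / b)
    have : (-a / b) ^ 2 + -a / b + 1 = nf a b / b ^ 2 := by
      unfold nf
      field_simp
      ring
    rw [this, h, zero_div]

/-- the norm form is surjective -/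
theorem nf_surjective (hq : Fintype.card F % 3 = 2) (c : F) : ∃ a b : F, nf a b = c := by
  by_cases h2 : Fintype.card F % 2 = 1
  · have h2' : (2 : F) ≠ 0 := by
      intro h
      have hchar : ringChar F = 2 := by
        have : ((2 : ℕ) : F) = 0 := by exact_mod_cast h
        have hd := (ringChar.spec F 2).1 this
        have hp := CharP.char_is_prime F (ringChar F)
        exact (Nat.prime_dvd_prime_iff_eq hp Nat.prime_two).1 hd
      rw [FiniteField.even_card_iff_char_two] at hchar
      omega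
    have h3 := three_ne_zero hq
    have h4 : (4 : F) ≠ 0 := by
      have : (4 : F) = 2 * 2 := by norm_num
      rw [this]
      exact mul_ne_zero h2' h2'
    have h34 : (3 / 4 : F) ≠ 0 := div_ne_zero h3 h4
    let f : Polynomial F := Polynomial.X ^ 2
    let g : Polynomial F := Polynomial.C (3 / 4 : F) * Polynomial.X ^ 2 - Polynomial.C c
    have hf : f.degree = 2 := by simp [f]
    have hg : g.degree = 2 := by
      have h1 : (Polynomial.C (3 / 4 : F) * Polynomial.X ^ 2).degree = 2 := by
        rw [Polynomial.degree_C_mul h34, Polynomial.degree_X_pow]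
        rfl
      rw [Polynomial.degree_sub_eq_left_of_degree_lt]
      · exact h1
      · rw [h1]
        exact lt_of_le_of_lt Polynomial.degree_C_le (by norm_num)
    obtain ⟨a, b, hab⟩ := FiniteField.exists_root_sum_quadratic hf hg h2
    refine ⟨a + b / 2, b, ?_⟩
    simp only [f, g, Polynomial.eval_pow, Polynomial.eval_X, Polynomial.eval_sub, Polynomial.eval_mul,
      Polynomial.eval_C] at hab
    unfold nf
    have : (a + b / 2) ^ 2 - (a + b / 2) * b + b ^ 2 = a ^ 2 + 3 / 4 * b ^ 2 := by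
      field_simp
      ring
    rw [this]
    linear_combination hab
  · have hchar : ringChar F = 2 := by
      rw [FiniteField.even_card_iff_char_two]
      omega
    obtain ⟨a, ha⟩ := FiniteField.isSquare_of_char_two hchar c
    refine ⟨a, 0, ?_⟩
    unfold nf
    rw [ha]
    ring

/-- the fibres of the norm form over non-zero values are in bijection -/
theorem card_fibre_eq (hq : Fintype.card F % 3 = 2) {c : F} (hc : c ≠ 0) :
    Nat.card {p : F × F // nf p.1 p.2 = c} = Nat.card {p : F × F // nf p.1 p.2 = 1} := by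
  obtain ⟨γ, δ, hγδ⟩ := nf_surjective hq c
  symm
  refine Nat.card_congr
    { toFun := fun p => ⟨(p.1.1 * γ - p.1.2 * δ, p.1.1 * δ + p.1.2 * γ - p.1.2 * δ), ?_⟩
      invFun := fun p => ⟨((p.1.1 * (γ - δ) - p.1.2 * (-δ)) / c,
        (p.1.1 * (-δ) + p.1.2 * (γ - δ) - p.1.2 * (-δ)) / c), ?_⟩
      left_inv := ?_
      right_inv := ?_ }
  · show nf _ _ = c
    rw [← nf_mul, p.2, hγδ, one_mul]
  · show nf _ _ = 1
    have h1 : nf (γ - δ) (-δ) = c := by
      rw [← hγδ]; unfold nf; ring
    have : nf ((p.1.1 * (γ - δ) - p.1.2 * (-δ)) / c)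
        ((p.1.1 * (-δ) + p.1.2 * (γ - δ) - p.1.2 * (-δ)) / c) =
        (1 / c) ^ 2 * nf (p.1.1 * (γ - δ) - p.1.2 * (-δ))
          (p.1.1 * (-δ) + p.1.2 * (γ - δ) - p.1.2 * (-δ)) := by
      rw [← nf_smul]
      congr 1 <;> ring
    rw [this, ← nf_mul, p.2, h1]
    field_simp
  · rintro ⟨⟨a, b⟩, hab⟩
    apply Subtype.ext
    have hc' : γ ^ 2 - γ * δ + δ ^ 2 = c := hγδ
    apply Prod.ext
    · show ((a * γ - b * δ) * (γ - δ) - (a * δ + b * γ - b * δ) * (-δ)) / c = a
      rw [div_eq_iff hc, ← hc']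
      ring
    · show ((a * γ - b * δ) * (-δ) + (a * δ + b * γ - b * δ) * (γ - δ) -
        (a * δ + b * γ - b * δ) * (-δ)) / c = b
      rw [div_eq_iff hc, ← hc']
      ring
  · rintro ⟨⟨a, b⟩, hab⟩
    apply Subtype.ext
    have hc' : γ ^ 2 - γ * δ + δ ^ 2 = c := hγδ
    apply Prod.ext
    · show (a * (γ - δ) - b * (-δ)) / c * γ - (a * (-δ) + b * (γ - δ) - b * (-δ)) / c * δ = a
      field_simp
      rw [← hc']
      ring
    · show (a * (γ - δ) - b * (-δ)) / c * δ + (a * (-δ) + b * (γ - δ) - b * (-δ)) / c * γ -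
        (a * (-δ) + b * (γ - δ) - b * (-δ)) / c * δ = b
      field_simp
      rw [← hc']
      ring

/-- the norm form takes every non-zero value exactly `q + 1` times -/
theorem card_fibre (hq : Fintype.card F % 3 = 2) {c : F} (hc : c ≠ 0) :
    Nat.card {p : F × F // nf p.1 p.2 = c} = Fintype.card F + 1 := by
  classical
  set q := Fintype.card F with hqdef
  set κ := Nat.card {p : F × F // nf p.1 p.2 = 1} with hκ
  rw [card_fibre_eq hq hc]
  -- count all pairs by the value of the form
  have htot : Nat.card (F × F) = ∑ d : F, Nat.card {p : F × F // nf p.1 p.2 = d} := by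
    rw [← Nat.card_sigma]
    exact Nat.card_congr (Equiv.sigmaFiberEquiv (fun p : F × F => nf p.1 p.2)).symm
  have h0 : Nat.card {p : F × F // nf p.1 p.2 = 0} = 1 := by
    rw [Nat.card_eq_one_iff_unique]
    refine ⟨⟨?_⟩, ⟨⟨(0, 0), by unfold nf; simp⟩⟩⟩
    rintro ⟨⟨a, b⟩, hab⟩ ⟨⟨a', b'⟩, hab'⟩
    obtain ⟨rfl, rfl⟩ := nf_eq_zero hq hab
    obtain ⟨rfl, rfl⟩ := nf_eq_zero hq hab'
    rfl
  have hsum : ∑ d : F, Nat.card {p : F × F // nf p.1 p.2 = d} = 1 + (q - 1) * κ := by
    rw [← Finset.add_sum_erase Finset.univ _ (Finset.mem_univ (0 : F)), h0]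
    congr 1
    rw [Finset.sum_congr rfl (fun d hd => card_fibre_eq hq (Finset.ne_of_mem_erase hd)),
      Finset.sum_const, Finset.card_erase_of_mem (Finset.mem_univ _), Finset.card_univ, smul_eq_mul]
  rw [hsum, Nat.card_prod, Nat.card_eq_fintype_card, ← hqdef] at htot
  have hq2 : 2 ≤ q := by
    have := Fintype.one_lt_card (α := F)
    omega
  obtain ⟨r, hr⟩ : ∃ r, q = r + 1 := ⟨q - 1, by omega⟩
  rw [hr] at htot ⊢
  simp only [Nat.add_sub_cancel] at htot
  have hr0 : 0 < r := by omega
  have : r * κ = r * (r + 2) := by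
    have : (r + 1) * (r + 1) = 1 + r * (r + 2) := by ring
    omega
  have := Nat.eq_of_mul_eq_mul_left hr0 this
  omega

/-- the scaled norm form -/
theorem card_fibre_scaled [DecidableEq F] (hq : Fintype.card F % 3 = 2) {n : F} (hn : n ≠ 0) (c : F) :
    Nat.card {p : F × F // nf p.1 p.2 * n = c} = if c = 0 then 1 else Fintype.card F + 1 := by
  have e : ∀ p : F × F, nf p.1 p.2 * n = c ↔ nf p.1 p.2 = c / n := by
    intro p
    rw [eq_div_iff hn]
  rw [Nat.card_congr (Equiv.subtypeEquivRight e)]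
  split_ifs with hc
  · subst hc
    rw [zero_div, Nat.card_eq_one_iff_unique]
    refine ⟨⟨?_⟩, ⟨⟨(0, 0), by unfold nf; simp⟩⟩⟩
    rintro ⟨⟨a, b⟩, hab⟩ ⟨⟨a', b'⟩, hab'⟩
    obtain ⟨rfl, rfl⟩ := nf_eq_zero hq hab
    obtain ⟨rfl, rfl⟩ := nf_eq_zero hq hab'
    rfl
  · exact card_fibre hq (div_ne_zero hc hn)

end Cfsg.Agent.Helper11.NF3
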