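import Mathlib
import Cfsg.Agent.Lib.Helper11.NormForm3

/-!
An alternating space with an isometry `x` satisfying `x² + x + 1 = 0` and without fixed vectors, over a
finite field with `q ≡ 2 (mod 3)` elements: the number of vectors `v` of an `x`-invariant non-degenerate
subspace with `B(v, x v) = c`.
-/

set_option autoImplicit false

namespace Cfsg.Agent.Helper11.H3

open Cfsg.Agent.Helper11.NF3

variable {F V : Type*} [Field F] [AddCommGroup V] [Module F V]

/-- the hypotheses on the form and the isometry -/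
structure Setup (B : LinearMap.BilinForm F V) (x : V →ₗ[F] V) : Prop where
  alt : B.IsAlt
  iso : ∀ u v, B (x u) (x v) = B u v
  rel : ∀ v, x (x v) + x v + v = 0
  fpf : ∀ v, x v = v → v = 0

/-- the associated quadratic form -/
def Qx (B : LinearMap.BilinForm F V) (x : V →ₗ[F] V) (v : V) : F := B v (x v)

variable {B : LinearMap.BilinForm F V} {x : V →ₗ[F] V}

namespace Setup

variable (h : Setup B x)
include h

theorem neg (u v : V) : B u v = -B v u :=
  (h.alt.neg_eq v u).symm

theorem self (u : V) : B u u = 0 := h.alt u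

theorem cube (v : V) : x (x (x v)) = v := by
  have h1 := h.rel v
  have h2 := h.rel (x v)
  have : x (x (x v)) - v = (x (x (x v)) + x (x v) + x v) - (x (x v) + x v + v) := by abel
  rw [h1, h2, sub_zero] at this
  exact sub_eq_zero.1 this

theorem xx (v : V) : x (x v) = -x v - v := by
  have := h.rel v
  have e : x (x v) = (x (x v) + x v + v) - x v - v := by abel
  rw [e, this]
  abel

theorem left_x (u v : V) : B (x u) v = B u (x (x v)) := by
  conv_lhs => rw [← h.cube v]
  rw [h.iso]

theorem right_xx (u v : V) : B u (x (x v)) = -B u (x v) - B u v := by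
  rw [h.xx, map_sub, map_neg]

theorem Qx_span (u : V) (a b : F) : Qx B x (a • u + b • x u) = nf a b * Qx B x u := by
  unfold Qx nf
  simp only [map_add, map_smul, LinearMap.add_apply, LinearMap.smul_apply, smul_eq_mul]
  rw [h.self (x u), h.right_xx u u, h.self u, h.iso u (x u)]
  ring

theorem Qx_add (p w : V) (h1 : B p (x w) = 0) (h2 : B w (x p) = 0) :
    Qx B x (p + w) = Qx B x p + Qx B x w := by
  unfold Qx
  simp only [map_add, LinearMap.add_apply]
  rw [h1, h2]
  ring

theorem Qx_zero : Qx B x 0 = 0 := by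
  unfold Qx
  simp

/-- `x` is injective -/
theorem x_inj {v : V} (hv : x v = 0) : v = 0 := by
  rw [← h.cube v, hv, map_zero, map_zero]

end Setup

/-- `x`-invariant subspaces -/
def Inv (x : V →ₗ[F] V) (W : Submodule F V) : Prop := ∀ w ∈ W, x w ∈ W

/-- subspaces on which the form is non-degenerate -/
def NonDeg (B : LinearMap.BilinForm F V) (W : Submodule F V) : Prop :=
  ∀ w ∈ W, (∀ w' ∈ W, B w w' = 0) → w = 0

/-- an invariant non-degenerate non-zero subspace has a non-isotropic vector -/
theorem exists_Qx_ne_zero (h : Setup B x) {W : Submodule F V} (hI : Inv x W) (hN : NonDeg B W)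
    (hW : W ≠ ⊥) : ∃ u ∈ W, Qx B x u ≠ 0 := by
  by_contra hcon
  push Not at hcon
  obtain ⟨v, hvW, hv0⟩ := Submodule.exists_mem_ne_zero_of_ne_bot hW
  apply hv0
  have key : ∀ u ∈ W, B u (x v - x (x v)) = 0 := by
    intro u hu
    have h1 := hcon (u + v) (W.add_mem hu hvW)
    have h2 := hcon u hu
    have h3 := hcon v hvW
    unfold Qx at h1 h2 h3
    simp only [map_add, LinearMap.add_apply] at h1
    rw [h2, h3] at h1
    have h4 : B v (x u) = -B u (x (x v)) := by
      rw [h.neg v (x u), h.left_x]
    rw [map_sub, sub_eq_add_neg, ← h4]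
    linear_combination h1
  have hmem : x v - x (x v) ∈ W := W.sub_mem (hI v hvW) (hI _ (hI v hvW))
  have h0 : x v - x (x v) = 0 := by
    apply hN _ hmem
    intro w' hw'
    rw [h.neg, key w' hw', neg_zero]
  have h1 : x (v - x v) = 0 := by rw [map_sub]; exact h0
  have h2 := h.x_inj h1
  exact h.fpf v (sub_eq_zero.1 h2).symm

/-- the orthogonal complement of `⟨u, x u⟩` inside `W` -/
def perp (B : LinearMap.BilinForm F V) (x : V →ₗ[F] V) (W : Submodule F V) (u : V) : Submodule F V :=
  W ⊓ (LinearMap.ker (B.flip u) ⊓ LinearMap.ker (B.flip (x u)))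

theorem mem_perp {W : Submodule F V} {u w : V} :
    w ∈ perp B x W u ↔ w ∈ W ∧ B w u = 0 ∧ B w (x u) = 0 := by
  unfold perp
  rw [Submodule.mem_inf, Submodule.mem_inf, LinearMap.mem_ker, LinearMap.mem_ker]
  rfl

theorem perp_inv (h : Setup B x) {W : Submodule F V} (hI : Inv x W) (u : V) :
    Inv x (perp B x W u) := by
  intro w hw
  rw [mem_perp] at hw ⊢
  obtain ⟨hwW, h1, h2⟩ := hw
  refine ⟨hI w hwW, ?_, ?_⟩
  · rw [h.left_x, h.right_xx, h1, h2]; ring
  · rw [h.iso, h1]

section split

variable (h : Setup B x) {W : Submodule F V} (hI : Inv x W) {u : V} (hu : u ∈ W)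
  (hn : Qx B x u ≠ 0)
include h hI hu hn

/-- the component in the complement -/
theorem comp_mem_perp {z : V} (hz : z ∈ W) :
    z - (B z (x u) / Qx B x u) • u - (-B z u / Qx B x u) • x u ∈ perp B x W u := by
  rw [mem_perp]
  refine ⟨W.sub_mem (W.sub_mem hz (W.smul_mem _ hu)) (W.smul_mem _ (hI u hu)), ?_, ?_⟩
  · simp only [map_sub, map_smul, LinearMap.sub_apply, LinearMap.smul_apply, smul_eq_mul]
    rw [h.self u, h.neg (x u) u]
    unfold Qx at hn ⊢
    field_simp
    ring
  · simp only [map_sub, map_smul, LinearMap.sub_apply, LinearMap.smul_apply, smul_eq_mul]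
    rw [h.iso, h.self u]
    unfold Qx at hn ⊢
    field_simp
    ring

/-- the decomposition `W = ⟨u, x u⟩ ⊕ perp` -/
noncomputable def splitEquiv : {z : V // z ∈ W} ≃ (F × F) × {z : V // z ∈ perp B x W u} where
  toFun z := ((B z.1 (x u) / Qx B x u, -B z.1 u / Qx B x u),
    ⟨z.1 - (B z.1 (x u) / Qx B x u) • u - (-B z.1 u / Qx B x u) • x u, comp_mem_perp h hI hu hn z.2⟩)
  invFun p := ⟨p.1.1 • u + p.1.2 • x u + p.2.1,
    W.add_mem (W.add_mem (W.smul_mem _ hu) (W.smul_mem _ (hI u hu))) (mem_perp.1 p.2.2).1⟩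
  left_inv z := by
    apply Subtype.ext
    show (B z.1 (x u) / Qx B x u) • u + (-B z.1 u / Qx B x u) • x u +
      (z.1 - (B z.1 (x u) / Qx B x u) • u - (-B z.1 u / Qx B x u) • x u) = z.1
    abel
  right_inv p := by
    obtain ⟨⟨a, b⟩, ⟨z', hz'⟩⟩ := p
    obtain ⟨-, h1, h2⟩ := mem_perp.1 hz'
    have e1 : B (a • u + b • x u + z') (x u) / Qx B x u = a := by
      simp only [map_add, map_smul, LinearMap.add_apply, LinearMap.smul_apply, smul_eq_mul]
      rw [h2, h.iso, h.self u]
      unfold Qx at hn ⊢
      field_simp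
      ring
    have e2 : -B (a • u + b • x u + z') u / Qx B x u = b := by
      simp only [map_add, map_smul, LinearMap.add_apply, LinearMap.smul_apply, smul_eq_mul]
      rw [h1, h.self u, h.neg (x u) u]
      unfold Qx at hn ⊢
      field_simp
      ring
    apply Prod.ext
    · apply Prod.ext
      · exact e1
      · exact e2
    · apply Subtype.ext
      show a • u + b • x u + z' - (B (a • u + b • x u + z') (x u) / Qx B x u) • u -
        (-B (a • u + b • x u + z') u / Qx B x u) • x u = z'
      rw [e1, e2]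
      abel

theorem Qx_split (a b : F) {z' : V} (hz' : z' ∈ perp B x W u) :
    Qx B x (a • u + b • x u + z') = nf a b * Qx B x u + Qx B x z' := by
  obtain ⟨-, h1, h2⟩ := mem_perp.1 hz'
  obtain ⟨-, h3, h4⟩ := mem_perp.1 (perp_inv h hI u z' hz')
  rw [h.Qx_add, h.Qx_span]
  · simp only [map_add, map_smul, LinearMap.add_apply, LinearMap.smul_apply, smul_eq_mul]
    rw [h.neg u (x z'), h3, h.neg (x u) (x z'), h4]
    ring
  · simp only [map_add, map_smul, smul_eq_mul]
    rw [h2, h.right_xx, h1, h2]
    ring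

theorem perp_nonDeg (hN : NonDeg B W) : NonDeg B (perp B x W u) := by
  intro w hw hall
  obtain ⟨hwW, h1, h2⟩ := mem_perp.1 hw
  apply hN w hwW
  intro z hz
  have hz' := comp_mem_perp h hI hu hn hz
  have e : z = (B z (x u) / Qx B x u) • u + (-B z u / Qx B x u) • x u +
      (z - (B z (x u) / Qx B x u) • u - (-B z u / Qx B x u) • x u) := by abel
  rw [e]
  simp only [map_add, map_smul, smul_eq_mul]
  rw [h1, h2, hall _ hz']
  ring

/-- the form in terms of the decomposition -/
theorem Qx_splitEquiv (z : {z : V // z ∈ W}) :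
    Qx B x z.1 = nf (splitEquiv h hI hu hn z).1.1 (splitEquiv h hI hu hn z).1.2 * Qx B x u +
      Qx B x (splitEquiv h hI hu hn z).2.1 := by
  have e := (splitEquiv h hI hu hn).left_inv z
  have e' : (splitEquiv h hI hu hn z).1.1 • u + (splitEquiv h hI hu hn z).1.2 • x u +
      (splitEquiv h hI hu hn z).2.1 = z.1 := congrArg Subtype.val e
  conv_lhs => rw [← e']
  exact Qx_split h hI hu hn _ _ (splitEquiv h hI hu hn z).2.2

/-- the level sets of `W` and of the complement -/
theorem card_level_split [Fintype F] [Finite V] (c : F) :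
    Nat.card {z : V // z ∈ W ∧ Qx B x z = c} =
      ∑ p : F × F, Nat.card {z : V // z ∈ perp B x W u ∧ Qx B x z = c - nf p.1 p.2 * Qx B x u} := by
  have e1 : {z : V // z ∈ W ∧ Qx B x z = c} ≃ {z : {z : V // z ∈ W} // Qx B x z.1 = c} :=
    (Equiv.subtypeSubtypeEquivSubtypeInter (fun z => z ∈ W) (fun z => Qx B x z = c)).symm
  have e2 : {z : {z : V // z ∈ W} // Qx B x z.1 = c} ≃
      {s : (F × F) × {z : V // z ∈ perp B x W u} //
        nf s.1.1 s.1.2 * Qx B x u + Qx B x s.2.1 = c} :=
    (splitEquiv h hI hu hn).subtypeEquiv (fun z => by rw [Qx_splitEquiv h hI hu hn z])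
  have e3 := Equiv.subtypeProdEquivSigmaSubtype
    (fun (p : F × F) (z : {z : V // z ∈ perp B x W u}) =>
      nf p.1 p.2 * Qx B x u + Qx B x z.1 = c)
  rw [Nat.card_congr (e1.trans (e2.trans e3)), Nat.card_sigma]
  apply Finset.sum_congr rfl
  intro p _
  apply Nat.card_congr
  refine (Equiv.subtypeSubtypeEquivSubtypeInter (fun z => z ∈ perp B x W u)
    (fun z => nf p.1 p.2 * Qx B x u + Qx B x z = c)).trans ?_
  apply Equiv.subtypeEquivRight
  intro z
  constructor
  · rintro ⟨h1, h2⟩
    exact ⟨h1, by rw [← h2]; ring⟩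
  · rintro ⟨h1, h2⟩
    exact ⟨h1, by rw [h2]; ring⟩

end split

/-- the numbers of vectors with `Q = 0` and with `Q = c ≠ 0` in dimension `2j` -/
def cnt (q : ℕ) : ℕ → ℕ × ℕ
  | 0 => (1, 0)
  | j + 1 => ((cnt q j).1 + (q ^ 2 - 1) * (cnt q j).2,
      (q + 1) * (cnt q j).1 + (q ^ 2 - (q + 1)) * (cnt q j).2)

theorem sum_ite_const {α : Type*} [Fintype α] (P : α → Prop) [DecidablePred P] (a b : ℕ) :
    ∑ p : α, (if P p then a else b) =
      Nat.card {p : α // P p} * a + (Fintype.card α - Nat.card {p : α // P p}) * b := by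
  classical
  rw [Finset.sum_ite, Finset.sum_const, Finset.sum_const, smul_eq_mul, smul_eq_mul]
  have h1 : (Finset.univ.filter P).card = Nat.card {p : α // P p} := by
    rw [Nat.card_eq_fintype_card, Fintype.card_subtype]
  have h2 : (Finset.univ.filter (fun p => ¬ P p)).card =
      Fintype.card α - (Finset.univ.filter P).card := by
    have := Finset.card_filter_add_card_filter_not (s := (Finset.univ : Finset α)) P
    rw [Finset.card_univ] at this
    omega
  rw [h2, h1]

theorem card_level [Fintype F] [DecidableEq F] [Finite V] (h : Setup B x)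
    (hq : Fintype.card F % 3 = 2) :
    ∀ (j : ℕ) (W : Submodule F V), Inv x W → NonDeg B W →
      Nat.card W = Fintype.card F ^ (2 * j) →
      ∀ c : F, Nat.card {z : V // z ∈ W ∧ Qx B x z = c} =
        if c = 0 then (cnt (Fintype.card F) j).1 else (cnt (Fintype.card F) j).2 := by
  intro j
  induction j with
  | zero =>
    intro W hI hN hcard c
    rw [mul_zero, pow_zero] at hcard
    have hW : ∀ z ∈ W, z = 0 := by
      intro z hz
      have hs := (Nat.card_eq_one_iff_unique.1 hcard).1
      have := Subsingleton.elim (⟨z, hz⟩ : W) ⟨0, W.zero_mem⟩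
      exact congrArg Subtype.val this
    split_ifs with hc
    · subst hc
      show _ = 1
      rw [Nat.card_eq_one_iff_unique]
      refine ⟨⟨?_⟩, ⟨⟨0, W.zero_mem, h.Qx_zero⟩⟩⟩
      rintro ⟨a, ha, -⟩ ⟨b, hb, -⟩
      apply Subtype.ext
      exact (hW a ha).trans (hW b hb).symm
    · show _ = 0
      rw [Nat.card_eq_zero]
      left
      constructor
      rintro ⟨a, ha, hqa⟩
      rw [hW a ha, h.Qx_zero] at hqa
      exact hc hqa.symm
  | succ j ih =>
    intro W hI hN hcard c
    have hq1 : 1 < Fintype.card F := Fintype.one_lt_card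
    have hW : W ≠ ⊥ := by
      rintro rfl
      have h1 : Nat.card (⊥ : Submodule F V) = 1 := by
        rw [Nat.card_eq_one_iff_unique]
        exact ⟨inferInstance, inferInstance⟩
      rw [h1] at hcard
      have : 1 < Fintype.card F ^ (2 * (j + 1)) := Nat.one_lt_pow (by omega) hq1
      omega
    obtain ⟨u, hu, hn⟩ := exists_Qx_ne_zero h hI hN hW
    have hcard' : Nat.card (perp B x W u) = Fintype.card F ^ (2 * j) := by
      have e := Nat.card_congr (splitEquiv h hI hu hn)
      rw [Nat.card_prod, Nat.card_prod, Nat.card_eq_fintype_card (α := F)] at e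
      have e1 : Nat.card {z : V // z ∈ W} = Nat.card W := rfl
      have e2 : Nat.card {z : V // z ∈ perp B x W u} = Nat.card (perp B x W u) := rfl
      rw [e1, e2, hcard] at e
      have e3 : Fintype.card F ^ (2 * (j + 1)) =
          Fintype.card F * Fintype.card F * Fintype.card F ^ (2 * j) := by ring
      rw [e3] at e
      have hpos : 0 < Fintype.card F * Fintype.card F := by positivity
      exact (Nat.eq_of_mul_eq_mul_left hpos e).symm
    have ih' := ih (perp B x W u) (perp_inv h hI u) (perp_nonDeg h hI hu hn hN) hcard'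
    rw [card_level_split h hI hu hn c]
    simp_rw [ih']
    have e : ∀ p : F × F, (c - nf p.1 p.2 * Qx B x u = 0) ↔ (nf p.1 p.2 * Qx B x u = c) := by
      intro p
      rw [sub_eq_zero]
      exact eq_comm
    simp_rw [e]
    rw [sum_ite_const, card_fibre_scaled hq hn c, Fintype.card_prod]
    split_ifs with hc
    · show _ = (cnt (Fintype.card F) j).1 + (Fintype.card F ^ 2 - 1) * (cnt (Fintype.card F) j).2
      rw [one_mul, pow_two]
    · show _ = (Fintype.card F + 1) * (cnt (Fintype.card F) j).1 +
        (Fintype.card F ^ 2 - (Fintype.card F + 1)) * (cnt (Fintype.card F) j).2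
      rw [pow_two]

end Cfsg.Agent.Helper11.H3
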