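import Mathlib
import Cfsg.Agent.Lib.Helper11.Herm3

/-!
Frames `(v_1, …, v_k)` with `B(v_i, v_j) = 0`, `B(v_i, x v_j) = δ_ij` for an isometry `x` of an alternating
space with `x² + x + 1 = 0`: their number, and the regular action of the centraliser of `x` on the full frames.
-/

set_option autoImplicit false

namespace Cfsg.Agent.Helper11.H3

open Cfsg.Agent.Helper11.NF3

variable {F V : Type*} [Field F] [AddCommGroup V] [Module F V]
  {B : LinearMap.BilinForm F V} {x : V →ₗ[F] V}

/-- frames inside a subspace -/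
def IsXFrame (B : LinearMap.BilinForm F V) (x : V →ₗ[F] V) (W : Submodule F V) (k : ℕ)
    (v : Fin k → V) : Prop :=
  (∀ i, v i ∈ W) ∧ ∀ i j, B (v i) (v j) = 0 ∧ B (v i) (x (v j)) = if i = j then 1 else 0

theorem card_perp [Fintype F] [Finite V] (h : Setup B x) {W : Submodule F V} (hI : Inv x W) {u : V}
    (hu : u ∈ W) (hn : Qx B x u ≠ 0) {j : ℕ} (hcard : Nat.card W = Fintype.card F ^ (2 * (j + 1))) :
    Nat.card (perp B x W u) = Fintype.card F ^ (2 * j) := by
  have hq1 : 1 < Fintype.card F := Fintype.one_lt_card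
  have e := Nat.card_congr (splitEquiv h hI hu hn)
  rw [Nat.card_prod, Nat.card_prod, Nat.card_eq_fintype_card (α := F)] at e
  have e1 : Nat.card {z : V // z ∈ W} = Nat.card W := rfl
  have e2 : Nat.card {z : V // z ∈ perp B x W u} = Nat.card (perp B x W u) := rfl
  rw [e1, e2, hcard] at e
  have e3 : Fintype.card F ^ (2 * (j + 1)) =
      Fintype.card F * Fintype.card F * Fintype.card F ^ (2 * j) := by ring
  rw [e3] at e
  have hpos : 0 < Fintype.card F * Fintype.card F := by positivity
  exact (Nat.eq_of_mul_eq_mul_left hpos e).symm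

/-- a frame splits into its first vector and a frame of the complement -/
theorem isXFrame_cons (h : Setup B x) (W : Submodule F V) (k : ℕ) (u : V) (v : Fin k → V) :
    IsXFrame B x W (k + 1) (Fin.cons u v) ↔
      (u ∈ W ∧ Qx B x u = 1) ∧ IsXFrame B x (perp B x W u) k v := by
  constructor
  · rintro ⟨h1, h2⟩
    refine ⟨⟨?_, ?_⟩, ?_, ?_⟩
    · exact h1 0
    · have := (h2 0 0).2
      rw [if_pos rfl] at this
      exact this
    · intro i
      rw [mem_perp]
      refine ⟨h1 i.succ, ?_, ?_⟩
      · exact (h2 i.succ 0).1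
      · have := (h2 i.succ 0).2
        rw [if_neg (Fin.succ_ne_zero i)] at this
        exact this
    · intro i j
      have := h2 i.succ j.succ
      simp only [Fin.cons_succ, Fin.succ_inj] at this
      exact this
  · rintro ⟨⟨hu, hq⟩, h1, h2⟩
    have hperp : ∀ i, v i ∈ W ∧ B (v i) u = 0 ∧ B (v i) (x u) = 0 := fun i => mem_perp.1 (h1 i)
    refine ⟨?_, ?_⟩
    · intro i
      refine Fin.cases ?_ (fun i => ?_) i
      · exact hu
      · exact (hperp i).1
    · intro i j
      refine Fin.cases ?_ (fun i => ?_) i <;> refine Fin.cases ?_ (fun j => ?_) j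
      · simp only [Fin.cons_zero, if_pos]
        exact ⟨h.self u, hq⟩
      · simp only [Fin.cons_zero, Fin.cons_succ]
        rw [if_neg (Fin.succ_ne_zero j).symm]
        refine ⟨?_, ?_⟩
        · rw [h.neg, (hperp j).2.1, neg_zero]
        · rw [h.neg, h.left_x, h.right_xx, (hperp j).2.1, (hperp j).2.2]
          ring
      · simp only [Fin.cons_zero, Fin.cons_succ]
        rw [if_neg (Fin.succ_ne_zero i)]
        exact ⟨(hperp i).2.1, (hperp i).2.2⟩
      · simp only [Fin.cons_succ, Fin.succ_inj]
        exact h2 i j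

/-- frames of length `k + 1` -/
noncomputable def xframeEquiv (h : Setup B x) (W : Submodule F V) (k : ℕ) :
    {v : Fin (k + 1) → V // IsXFrame B x W (k + 1) v} ≃
      Σ u : {u : V // u ∈ W ∧ Qx B x u = 1}, {v : Fin k → V // IsXFrame B x (perp B x W u.1) k v} where
  toFun v := ⟨⟨v.1 0, by
      have := v.2
      rw [← Fin.cons_self_tail v.1, isXFrame_cons h] at this
      exact this.1⟩, ⟨Fin.tail v.1, by
      have := v.2
      rw [← Fin.cons_self_tail v.1, isXFrame_cons h] at this
      exact this.2⟩⟩
  invFun s := ⟨Fin.cons s.1.1 s.2.1, (isXFrame_cons h W k _ _).2 ⟨s.1.2, s.2.2⟩⟩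
  left_inv v := by
    apply Subtype.ext
    exact Fin.cons_self_tail v.1
  right_inv s := by
    obtain ⟨⟨u, hu⟩, ⟨v, hv⟩⟩ := s
    rfl

theorem cnt_pos (q : ℕ) (j : ℕ) : 0 < (cnt q j).1 ∧ 0 < (cnt q (j + 1)).2 := by
  induction j with
  | zero =>
    refine ⟨Nat.one_pos, ?_⟩
    show 0 < (q + 1) * 1 + _
    omega
  | succ j ih =>
    have h1 : 0 < (cnt q (j + 1)).1 := by
      show 0 < (cnt q j).1 + _
      omega
    refine ⟨h1, ?_⟩
    show 0 < (q + 1) * (cnt q (j + 1)).1 + _
    have : 0 < (q + 1) * (cnt q (j + 1)).1 := Nat.mul_pos (by omega) h1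
    omega

/-- the number of frames -/
theorem card_xframes [Fintype F] [DecidableEq F] [Finite V] (h : Setup B x)
    (hq : Fintype.card F % 3 = 2) :
    ∀ (k j : ℕ) (W : Submodule F V), Inv x W → NonDeg B W →
      Nat.card W = Fintype.card F ^ (2 * j) → k ≤ j →
      Nat.card {v : Fin k → V // IsXFrame B x W k v} =
        ∏ i ∈ Finset.range k, (cnt (Fintype.card F) (j - i)).2 := by
  intro k
  induction k with
  | zero =>
    intro j W _ _ _ _
    rw [Finset.range_zero, Finset.prod_empty, Nat.card_eq_one_iff_unique]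
    refine ⟨⟨?_⟩, ⟨⟨fun i => i.elim0, fun i => i.elim0, fun i => i.elim0⟩⟩⟩
    rintro ⟨a, -⟩ ⟨b, -⟩
    apply Subtype.ext
    funext i
    exact i.elim0
  | succ k ih =>
    intro j W hI hN hcard hkj
    obtain ⟨j', rfl⟩ : ∃ j', j = j' + 1 := ⟨j - 1, by omega⟩
    have : Fintype {u : V // u ∈ W ∧ Qx B x u = 1} := Fintype.ofFinite _
    rw [Nat.card_congr (xframeEquiv h W k), Nat.card_sigma]
    have hfib : ∀ u : {u : V // u ∈ W ∧ Qx B x u = 1},
        Nat.card {v : Fin k → V // IsXFrame B x (perp B x W u.1) k v} =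
          ∏ i ∈ Finset.range k, (cnt (Fintype.card F) (j' - i)).2 := by
      intro u
      have hn : Qx B x u.1 ≠ 0 := by rw [u.2.2]; exact one_ne_zero
      exact ih j' (perp B x W u.1) (perp_inv h hI u.1) (perp_nonDeg h hI u.2.1 hn hN)
        (card_perp h hI u.2.1 hn hcard) (by omega)
    rw [Finset.sum_congr rfl (fun u _ => hfib u), Finset.sum_const, Finset.card_univ, smul_eq_mul,
      ← Nat.card_eq_fintype_card, card_level h hq (j' + 1) W hI hN hcard 1, if_neg one_ne_zero,
      Finset.prod_range_succ']
    rw [mul_comm]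
    congr 1
    apply Finset.prod_congr rfl
    intro i _
    congr 2
    omega

/-- a frame of full length has no non-zero common perpendicular -/
theorem eq_zero_of_perp_frame [Fintype F] [Finite V] (h : Setup B x) :
    ∀ (k : ℕ) (W : Submodule F V), Inv x W → Nat.card W = Fintype.card F ^ (2 * k) →
      ∀ v : Fin k → V, IsXFrame B x W k v →
      ∀ z ∈ W, (∀ i, B z (v i) = 0 ∧ B z (x (v i)) = 0) → z = 0 := by
  intro k
  induction k with
  | zero =>
    intro W _ hcard v _ z hz _
    rw [mul_zero, pow_zero] at hcard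
    have hs := (Nat.card_eq_one_iff_unique.1 hcard).1
    have := Subsingleton.elim (⟨z, hz⟩ : W) ⟨0, W.zero_mem⟩
    exact congrArg Subtype.val this
  | succ k ih =>
    intro W hI hcard v hv z hz hperp
    rw [← Fin.cons_self_tail v, isXFrame_cons h] at hv
    obtain ⟨⟨hu, hq⟩, hv'⟩ := hv
    have hn : Qx B x (v 0) ≠ 0 := by rw [hq]; exact one_ne_zero
    apply ih (perp B x W (v 0)) (perp_inv h hI _) (card_perp h hI hu hn hcard) (Fin.tail v) hv' z
    · rw [mem_perp]
      exact ⟨hz, (hperp 0).1, (hperp 0).2⟩
    · intro i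
      exact hperp i.succ

section coords

variable {m : ℕ}

/-- the combination `Σ (a_i v_i + b_i x v_i)` -/
def comb (x : V →ₗ[F] V) (v : Fin m → V) (a b : Fin m → F) : V :=
  ∑ i, (a i • v i + b i • x (v i))

/-- the coordinates of a vector with respect to a frame -/
def coordA (B : LinearMap.BilinForm F V) (x : V →ₗ[F] V) (v : Fin m → V) (z : V) : Fin m → F :=
  fun i => B z (x (v i))

/-- the coordinates of a vector with respect to a frame -/
def coordB (B : LinearMap.BilinForm F V) (v : Fin m → V) (z : V) : Fin m → F :=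
  fun i => -B z (v i)

variable (h : Setup B x) {v : Fin m → V} (hv : IsXFrame B x ⊤ m v)
include h hv

theorem B_comb_left (a b : Fin m → F) (j : Fin m) :
    B (comb x v a b) (v j) = -b j ∧ B (comb x v a b) (x (v j)) = a j := by
  classical
  unfold comb
  constructor
  · rw [map_sum, LinearMap.sum_apply]
    have : ∀ i, B (a i • v i + b i • x (v i)) (v j) = if i = j then -b i else 0 := by
      intro i
      simp only [map_add, map_smul, LinearMap.add_apply, LinearMap.smul_apply, smul_eq_mul]
      rw [(hv.2 i j).1, h.neg (x (v i)) (v j), (hv.2 j i).2]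
      by_cases hij : i = j
      · subst hij; simp
      · rw [if_neg (Ne.symm hij), if_neg hij]; simp
    rw [Finset.sum_congr rfl (fun i _ => this i), Finset.sum_ite_eq' Finset.univ j]
    simp
  · rw [map_sum, LinearMap.sum_apply]
    have : ∀ i, B (a i • v i + b i • x (v i)) (x (v j)) = if i = j then a i else 0 := by
      intro i
      simp only [map_add, map_smul, LinearMap.add_apply, LinearMap.smul_apply, smul_eq_mul]
      rw [(hv.2 i j).2, h.iso, (hv.2 i j).1]
      by_cases hij : i = j
      · subst hij; simp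
      · rw [if_neg hij, if_neg hij]; simp
    rw [Finset.sum_congr rfl (fun i _ => this i), Finset.sum_ite_eq' Finset.univ j]
    simp

theorem coordA_comb (a b : Fin m → F) : coordA B x v (comb x v a b) = a := by
  funext j
  exact (B_comb_left h hv a b j).2

theorem coordB_comb (a b : Fin m → F) : coordB B v (comb x v a b) = b := by
  funext j
  unfold coordB
  rw [(B_comb_left h hv a b j).1, neg_neg]

theorem B_comb_comb (a b c d : Fin m → F) :
    B (comb x v a b) (comb x v c d) = ∑ i, (a i * d i - b i * c i) := by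
  have e : comb x v c d = ∑ j, (c j • v j + d j • x (v j)) := rfl
  rw [e, map_sum]
  apply Finset.sum_congr rfl
  intro j _
  rw [map_add, map_smul, map_smul, (B_comb_left h hv a b j).1, (B_comb_left h hv a b j).2]
  simp only [smul_eq_mul]
  ring

omit hv in
theorem x_comb (v : Fin m → V) (a b : Fin m → F) :
    x (comb x v a b) = comb x v (-b) (a - b) := by
  unfold comb
  rw [map_sum]
  apply Finset.sum_congr rfl
  intro i _
  rw [map_add, map_smul, map_smul, h.xx]
  simp only [Pi.neg_apply, Pi.sub_apply]
  module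

omit hv in
theorem coordA_x (v : Fin m → V) (z : V) : coordA B x v (x z) = -coordB B v z := by
  funext i
  unfold coordA coordB
  rw [h.iso]
  simp

omit hv in
theorem coordB_x (v : Fin m → V) (z : V) : coordB B v (x z) = coordA B x v z - coordB B v z := by
  funext i
  unfold coordA coordB
  simp only [Pi.sub_apply]
  rw [h.left_x, h.right_xx]
  ring

/-- the expansion of a vector in a full frame -/
theorem comb_coord [Fintype F] [Finite V] (hcard : Nat.card V = Fintype.card F ^ (2 * m)) (z : V) :
    comb x v (coordA B x v z) (coordB B v z) = z := by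
  have hI : Inv x (⊤ : Submodule F V) := fun w _ => Submodule.mem_top
  have hc : Nat.card (⊤ : Submodule F V) = Fintype.card F ^ (2 * m) := by
    rw [← hcard]
    exact Nat.card_congr (Submodule.topEquiv (R := F) (M := V)).toEquiv
  have := eq_zero_of_perp_frame h m ⊤ hI hc v hv
    (z - comb x v (coordA B x v z) (coordB B v z)) Submodule.mem_top ?_
  · exact (sub_eq_zero.1 this).symm
  · intro i
    rw [map_sub, LinearMap.sub_apply, LinearMap.sub_apply,
      (B_comb_left h hv _ _ i).1, (B_comb_left h hv _ _ i).2]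
    unfold coordA coordB
    constructor <;> ring

end coords

end Cfsg.Agent.Helper11.H3
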