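import Mathlib

set_option autoImplicit false

/-! Self-adjoint square-zero maps for an alternating form in characteristic two
(the maps `t - 1` for symplectic involutions `t`) and their normal forms. -/

namespace Cfsg.Agent.Helper11.SympInv

open Module

variable {F V : Type*} [Field F] [CharP F 2] [AddCommGroup V] [Module F V]
  (B : LinearMap.BilinForm F V)

/-- self-adjoint square-zero maps -/
structure IsSA (N : V →ₗ[F] V) : Prop where
  sa : ∀ x y, B (N x) y = B x (N y)
  sq : ∀ x, N (N x) = 0

variable {B}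

theorem symm2 (hA : B.IsAlt) (x y : V) : B x y = B y x := by
  have h := LinearMap.IsAlt.neg hA x y
  rw [CharTwo.neg_eq] at h
  exact h

theorem two_mul_zero (c : F) : c + c = 0 := CharTwo.add_self_eq_zero c

omit [CharP F 2] in
/-- the image is totally isotropic -/
theorem IsSA.isotropic {N : V →ₗ[F] V} (hN : IsSA B N) (x y : V) : B (N x) (N y) = 0 := by
  rw [hN.sa, hN.sq, map_zero]

/-- the rank one map `x ↦ B(w, x) w` -/
def rk1 (B : LinearMap.BilinForm F V) (w : V) : V →ₗ[F] V := (B w).smulRight w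

omit [CharP F 2] in
theorem rk1_apply (w x : V) : rk1 B w x = B w x • w := rfl

section step1

variable (hA : B.IsAlt) {N : V →ₗ[F] V} (hN : IsSA B N) {u : V} (hu : B u (N u) = 1)

include hA hN in
theorem isSA_step1 (u : V) : IsSA B (N + rk1 B (N u)) := by
  constructor
  · intro x y
    simp only [LinearMap.add_apply, rk1_apply, map_add, map_smul, LinearMap.smul_apply,
      smul_eq_mul]
    rw [hN.sa x y, symm2 hA x (N u)]
    ring
  · intro x
    have h1 : B (N u) (N x) = 0 := hN.isotropic u x
    have h2 : B (N u) (N u) = 0 := hA (N u)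
    simp only [LinearMap.add_apply, rk1_apply, map_add, map_smul, hN.sq, h1, h2]
    simp

theorem step1_eq (u x : V) : N x = (N + rk1 B (N u)) x + B (N u) x • N u := by
  simp only [LinearMap.add_apply, rk1_apply]
  rw [add_assoc, ← add_smul, two_mul_zero, zero_smul, add_zero]

include hN hu in
theorem step1_factor (x : V) : (N + rk1 B (N u)) x = N (x + B (N u) x • u) ∧
    B (N u) (x + B (N u) x • u) = 0 := by
  constructor
  · simp only [LinearMap.add_apply, rk1_apply, map_add, map_smul]
  · have h1 : B (N u) u = 1 := by rw [hN.sa, hu]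
    rw [map_add, map_smul, h1, smul_eq_mul, mul_one]
    exact two_mul_zero _

include hN hu in
theorem range_step1_le : LinearMap.range (N + rk1 B (N u)) ≤ LinearMap.range N := by
  rintro _ ⟨x, rfl⟩
  rw [(step1_factor hN hu x).1]
  exact ⟨_, rfl⟩

include hN hu in
theorem finrank_step1 [FiniteDimensional F V] :
    finrank F (LinearMap.range N) = finrank F (LinearMap.range (N + rk1 B (N u))) + 1 := by
  have hw0 : N u ≠ 0 := by
    intro h
    rw [h, map_zero] at hu
    exact zero_ne_one hu
  have hsup : LinearMap.range N = LinearMap.range (N + rk1 B (N u)) ⊔ (F ∙ N u) := by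
    apply le_antisymm
    · rintro _ ⟨x, rfl⟩
      rw [step1_eq u x]
      apply Submodule.add_mem_sup
      · exact ⟨x, rfl⟩
      · exact Submodule.smul_mem _ _ (Submodule.mem_span_singleton_self _)
    · apply sup_le (range_step1_le hN hu)
      rw [Submodule.span_singleton_le_iff_mem]
      exact ⟨u, rfl⟩
  have hinf : LinearMap.range (N + rk1 B (N u)) ⊓ (F ∙ N u) = ⊥ := by
    rw [Submodule.eq_bot_iff]
    rintro z ⟨⟨x, hx⟩, hz2⟩
    obtain ⟨c, rfl⟩ := Submodule.mem_span_singleton.1 hz2
    obtain ⟨h1, h2⟩ := step1_factor hN hu x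
    rw [h1] at hx
    have h3 : c = 0 := by
      have h4 : B u (c • N u) = c := by rw [map_smul, hu, smul_eq_mul, mul_one]
      rw [← h4, ← hx, ← hN.sa, h2]
    rw [h3, zero_smul]
  have h := Submodule.finrank_sup_add_finrank_inf_eq (LinearMap.range (N + rk1 B (N u))) (F ∙ N u)
  rw [hinf, finrank_bot, add_zero, finrank_span_singleton hw0, ← hsup] at h
  exact h

end step1

section nonalt

variable [FiniteDimensional F V] (hA : B.IsAlt) (hB : B.Nondegenerate)
  (hsq : ∀ c : F, ∃ d : F, d * d = c)

omit [FiniteDimensional F V] in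
include hA hB hsq in
/-- choice of a good vector -/
theorem exists_good_vector {N : V →ₗ[F] V} (hN : IsSA B N) (r : ℕ)
    (hr : finrank F (LinearMap.range N) = r + 1) (hna : ∃ u, B u (N u) ≠ 0) :
    ∃ u, B u (N u) = 1 ∧ (r ≠ 0 → ∃ y, B y (N u) = 0 ∧ B y (N y) ≠ 0) := by
  obtain ⟨u₀, hu₀⟩ := hna
  obtain ⟨d, hd⟩ := hsq (B u₀ (N u₀))⁻¹
  have hu₁ : B (d • u₀) (N (d • u₀)) = 1 := by
    rw [map_smul, map_smul, LinearMap.smul_apply, map_smul, smul_eq_mul, smul_eq_mul, ← mul_assoc,
      hd, inv_mul_cancel₀ hu₀]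
  obtain ⟨u₁, hu₁d⟩ : ∃ u₁, u₁ = d • u₀ := ⟨_, rfl⟩
  rw [← hu₁d] at hu₁
  by_cases hr0 : r = 0
  · exact ⟨u₁, hu₁, fun h => absurd hr0 h⟩
  by_cases hy : ∃ y, B y (N u₁) = 0 ∧ B y (N y) ≠ 0
  · exact ⟨u₁, hu₁, fun _ => hy⟩
  push Not at hy
  -- `e` orthogonal to `u₁` with `N e ≠ 0`
  obtain ⟨e, he1, he2⟩ : ∃ e, B e (N u₁) = 0 ∧ N e ≠ 0 := by
    by_contra hcon
    push Not at hcon
    have hle : LinearMap.range N ≤ F ∙ N u₁ := by
      rintro _ ⟨x, rfl⟩
      have h1 : B (x + B x (N u₁) • u₁) (N u₁) = 0 := by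
        rw [map_add, map_smul, LinearMap.add_apply, LinearMap.smul_apply, hu₁, smul_eq_mul, mul_one]
        exact two_mul_zero _
      have h2 := hcon _ h1
      rw [map_add, map_smul] at h2
      have h3 : N x = B x (N u₁) • N u₁ := by
        have h4 : N x = N x + (B x (N u₁) • N u₁ + B x (N u₁) • N u₁) := by
          rw [← add_smul, two_mul_zero, zero_smul, add_zero]
        rw [h4, ← add_assoc, h2, zero_add]
      rw [h3]
      exact Submodule.smul_mem _ _ (Submodule.mem_span_singleton_self _)
    have h5 := Submodule.finrank_mono hle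
    have h6 : finrank F (F ∙ N u₁) ≤ 1 := by
      have := finrank_span_le_card (R := F) ({N u₁} : Set V)
      simpa using this
    omega
  obtain ⟨z, hz⟩ : ∃ z, B (N e) z ≠ 0 := by
    by_contra hcon
    push Not at hcon
    exact he2 (hB.1 _ hcon)
  obtain ⟨f₀, hf₀⟩ : ∃ f₀, f₀ = z + B z (N u₁) • u₁ := ⟨_, rfl⟩
  have hf1 : B f₀ (N u₁) = 0 := by
    rw [hf₀, map_add, map_smul, LinearMap.add_apply, LinearMap.smul_apply, hu₁, smul_eq_mul,
      mul_one]
    exact two_mul_zero _
  have hf2 : B e (N f₀) = B (N e) z := by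
    rw [hf₀, map_add, map_smul, map_add, map_smul, he1, smul_eq_mul, mul_zero, add_zero, hN.sa]
  obtain ⟨f, hf⟩ : ∃ f, f = (B (N e) z)⁻¹ • f₀ := ⟨_, rfl⟩
  have hf3 : B f (N u₁) = 0 := by
    rw [hf, map_smul, LinearMap.smul_apply, hf1, smul_zero]
  have hf4 : B e (N f) = 1 := by
    rw [hf, map_smul, map_smul, hf2, smul_eq_mul, inv_mul_cancel₀ hz]
  have hee : B e (N e) = 0 := hy e he1
  have hff : B f (N f) = 0 := hy f hf3
  have hsym : ∀ a b, B a (N b) = B b (N a) := by
    intro a b
    rw [← hN.sa, symm2 hA]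
  refine ⟨u₁ + e, ?_, fun _ => ⟨u₁ + f, ?_, ?_⟩⟩
  · simp only [map_add, LinearMap.add_apply]
    rw [hu₁, hee, he1, hsym u₁ e, he1]
    simp
  · simp only [map_add, LinearMap.add_apply]
    rw [hu₁, hf3, hsym u₁ e, he1, hsym f e, hf4]
    simp [two_mul_zero]
  · simp only [map_add, LinearMap.add_apply]
    rw [hu₁, hff, hf3, hsym u₁ f, hf3]
    simp

include hA hB hsq in
/-- normal form in the non-alternating case -/
theorem nonalt_decomp : ∀ (r : ℕ) (N : V →ₗ[F] V), IsSA B N →
    finrank F (LinearMap.range N) = r → (r ≠ 0 → ∃ u, B u (N u) ≠ 0) →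
    ∃ w : Fin r → V, (∀ i, w i ∈ LinearMap.range N) ∧ ∀ x, N x = ∑ i, B (w i) x • w i := by
  intro r
  induction r with
  | zero =>
    intro N _ hr _
    refine ⟨Fin.elim0, fun i => i.elim0, fun x => ?_⟩
    rw [Finset.univ_eq_empty, Finset.sum_empty]
    have h0 : LinearMap.range N = ⊥ := Submodule.finrank_eq_zero.1 hr
    have : N x ∈ LinearMap.range N := ⟨x, rfl⟩
    rw [h0] at this
    exact (Submodule.mem_bot F).1 this
  | succ r ih =>
    intro N hN hr hna
    obtain ⟨u, hu, hgood⟩ := exists_good_vector hA hB hsq hN r hr (hna (Nat.succ_ne_zero r))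
    have hstep := finrank_step1 hN hu
    rw [hr] at hstep
    obtain ⟨w', hw'1, hw'2⟩ := ih (N + rk1 B (N u)) (isSA_step1 hA hN u) (by omega) (by
      intro hr0
      obtain ⟨y, hy1, hy2⟩ := hgood hr0
      refine ⟨y, ?_⟩
      rw [LinearMap.add_apply, rk1_apply, map_add, map_smul, symm2 hA (N u) y, hy1, zero_smul,
        add_zero]
      exact hy2)
    refine ⟨Fin.cons (N u) w', ?_, ?_⟩
    · intro i
      induction i using Fin.cases with
      | zero => rw [Fin.cons_zero]; exact ⟨u, rfl⟩
      | succ i => rw [Fin.cons_succ]; exact range_step1_le hN hu (hw'1 i)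
    · intro x
      rw [Fin.sum_univ_succ, Fin.cons_zero]
      simp only [Fin.cons_succ]
      rw [← hw'2 x, add_comm]
      exact step1_eq u x

end nonalt

section step2

/-- the rank two map `x ↦ B(w', x) w + B(w, x) w'` -/
def rk2 (B : LinearMap.BilinForm F V) (w w' : V) : V →ₗ[F] V :=
  (B w').smulRight w + (B w).smulRight w'

omit [CharP F 2] in
theorem rk2_apply (w w' x : V) : rk2 B w w' x = B w' x • w + B w x • w' := rfl

variable (hA : B.IsAlt) {N : V →ₗ[F] V} (hN : IsSA B N) {u u' : V} (hb : B u (N u') = 1)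
  (halt : ∀ x, B x (N x) = 0)

include hA hN in
theorem isSA_step2 (u u' : V) : IsSA B (N + rk2 B (N u) (N u')) := by
  constructor
  · intro x y
    simp only [LinearMap.add_apply, rk2_apply, map_add, map_smul, LinearMap.smul_apply,
      smul_eq_mul]
    rw [hN.sa x y, symm2 hA x (N u), symm2 hA x (N u')]
    ring
  · intro x
    have h1 : B (N u) (N x) = 0 := hN.isotropic u x
    have h2 : B (N u') (N x) = 0 := hN.isotropic u' x
    have h3 : B (N u) (N u) = 0 := hN.isotropic u u
    have h4 : B (N u') (N u') = 0 := hN.isotropic u' u'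
    have h5 : B (N u) (N u') = 0 := hN.isotropic u u'
    have h6 : B (N u') (N u) = 0 := hN.isotropic u' u
    simp only [LinearMap.add_apply, rk2_apply, map_add, map_smul, hN.sq, h1, h2, h3, h4, h5, h6]
    simp

theorem step2_eq (u u' x : V) :
    N x = (N + rk2 B (N u) (N u')) x + (B (N u') x • N u + B (N u) x • N u') := by
  simp only [LinearMap.add_apply, rk2_apply]
  have : ∀ a : V, a + a = 0 := fun a => by rw [← two_smul F a, CharTwo.two_eq_zero, zero_smul]
  rw [add_assoc, this, add_zero]

include hA hN hb halt in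
theorem step2_factor (x : V) :
    (N + rk2 B (N u) (N u')) x = N (x + B (N u') x • u + B (N u) x • u') ∧
    B (N u) (x + B (N u') x • u + B (N u) x • u') = 0 ∧
    B (N u') (x + B (N u') x • u + B (N u) x • u') = 0 := by
  have h1 : B (N u) u = 0 := by rw [hN.sa, halt]
  have h2 : B (N u) u' = 1 := by rw [hN.sa, hb]
  have h3 : B (N u') u = 1 := by rw [symm2 hA, hb]
  have h4 : B (N u') u' = 0 := by rw [hN.sa, halt]
  refine ⟨?_, ?_, ?_⟩
  · simp only [LinearMap.add_apply, rk2_apply, map_add, map_smul]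
    abel
  · simp only [map_add, map_smul, h1, h2, smul_eq_mul, mul_zero, mul_one, add_zero]
    exact two_mul_zero _
  · simp only [map_add, map_smul, h3, h4, smul_eq_mul, mul_zero, mul_one, add_zero]
    exact two_mul_zero _

include hA hN hb halt in
theorem range_step2_le : LinearMap.range (N + rk2 B (N u) (N u')) ≤ LinearMap.range N := by
  rintro _ ⟨x, rfl⟩
  rw [(step2_factor hA hN hb halt x).1]
  exact ⟨_, rfl⟩

include hA hN hb halt in
theorem finrank_step2 [FiniteDimensional F V] :
    finrank F (LinearMap.range N) = finrank F (LinearMap.range (N + rk2 B (N u) (N u'))) + 2 := by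
  let Φ : (LinearMap.range (N + rk2 B (N u) (N u')) × F × F) →ₗ[F] V :=
    (LinearMap.range (N + rk2 B (N u) (N u'))).subtype.coprod
      ((LinearMap.id.smulRight (N u)).coprod (LinearMap.id.smulRight (N u')))
  have hΦ : ∀ p : LinearMap.range (N + rk2 B (N u) (N u')) × F × F,
      Φ p = (p.1 : V) + (p.2.1 • N u + p.2.2 • N u') := by
    intro p
    simp [Φ, LinearMap.coprod_apply]
  have hu'u : B u' (N u) = 1 := by rw [← hN.sa, symm2 hA, hb]
  have hinj : Function.Injective Φ := by
    rw [← LinearMap.ker_eq_bot, LinearMap.ker_eq_bot']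
    rintro ⟨⟨z, x, hx⟩, c, c'⟩ hp
    rw [hΦ] at hp
    simp only at hp
    obtain ⟨h1, h2, h3⟩ := step2_factor hA hN hb halt x
    rw [h1] at hx
    have hc : c = 0 := by
      have := congrArg (fun v => B u' v) hp
      simp only [map_add, map_smul, map_zero, hu'u, halt, smul_eq_mul, mul_one, mul_zero,
        add_zero] at this
      rw [← hx, ← hN.sa, h3, zero_add] at this
      exact this
    have hc' : c' = 0 := by
      have := congrArg (fun v => B u v) hp
      simp only [map_add, map_smul, map_zero, hb, halt, smul_eq_mul, mul_one, mul_zero,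
        zero_add] at this
      rw [← hx, ← hN.sa, h2, zero_add] at this
      exact this
    rw [hc, hc', zero_smul, zero_smul, add_zero, add_zero] at hp
    simp only [Prod.mk_eq_zero]
    exact ⟨Subtype.ext hp, hc, hc'⟩
  have hrange : LinearMap.range Φ = LinearMap.range N := by
    apply le_antisymm
    · rintro _ ⟨p, rfl⟩
      rw [hΦ]
      apply Submodule.add_mem _ (range_step2_le hA hN hb halt p.1.2)
      apply Submodule.add_mem
      · exact Submodule.smul_mem _ _ ⟨u, rfl⟩
      · exact Submodule.smul_mem _ _ ⟨u', rfl⟩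
    · rintro _ ⟨x, rfl⟩
      refine ⟨(⟨(N + rk2 B (N u) (N u')) x, x, rfl⟩, B (N u') x, B (N u) x), ?_⟩
      rw [hΦ]
      exact (step2_eq u u' x).symm
  rw [← hrange, LinearMap.finrank_range_of_inj hinj, Module.finrank_prod, Module.finrank_prod,
    Module.finrank_self]

end step2

section alt

variable [FiniteDimensional F V] (hA : B.IsAlt) (hB : B.Nondegenerate)

include hA hB in
/-- normal form in the alternating case -/
theorem alt_decomp : ∀ (r : ℕ) (N : V →ₗ[F] V), IsSA B N →
    finrank F (LinearMap.range N) = r → (∀ x, B x (N x) = 0) →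
    ∃ k, r = 2 * k ∧ ∃ w w' : Fin k → V,
      (∀ i, w i ∈ LinearMap.range N ∧ w' i ∈ LinearMap.range N) ∧
      ∀ x, N x = ∑ i, (B (w' i) x • w i + B (w i) x • w' i) := by
  intro r
  induction r using Nat.strong_induction_on with
  | _ r ih =>
    intro N hN hr halt
    by_cases h0 : ∀ x, N x = 0
    · refine ⟨0, ?_, Fin.elim0, Fin.elim0, fun i => i.elim0, fun x => ?_⟩
      · rw [← hr, mul_zero, Submodule.finrank_eq_zero, LinearMap.range_eq_bot]
        exact LinearMap.ext h0
      · rw [Finset.univ_eq_empty, Finset.sum_empty, h0]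
    · push Not at h0
      obtain ⟨u, hu⟩ := h0
      obtain ⟨z, hz⟩ : ∃ z, B (N u) z ≠ 0 := by
        by_contra hcon
        push Not at hcon
        exact hu (hB.1 _ hcon)
      obtain ⟨u', hu'⟩ : ∃ u', u' = (B (N u) z)⁻¹ • z := ⟨_, rfl⟩
      have hb : B u (N u') = 1 := by
        rw [← hN.sa, hu', map_smul, smul_eq_mul, inv_mul_cancel₀ hz]
      have hstep := finrank_step2 hA hN hb halt
      rw [hr] at hstep
      obtain ⟨k, hk, w, w', hw1, hw2⟩ := ih (r - 2) (by omega) (N + rk2 B (N u) (N u'))
        (isSA_step2 hA hN u u') (by omega) (by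
          intro x
          rw [LinearMap.add_apply, rk2_apply, map_add, map_add, map_smul, map_smul, halt,
            symm2 hA x (N u), symm2 hA x (N u'), smul_eq_mul, smul_eq_mul, zero_add,
            mul_comm]
          exact two_mul_zero _)
      refine ⟨k + 1, by omega, Fin.cons (N u) w, Fin.cons (N u') w', ?_, ?_⟩
      · intro i
        induction i using Fin.cases with
        | zero => simp only [Fin.cons_zero]; exact ⟨⟨u, rfl⟩, ⟨u', rfl⟩⟩
        | succ i =>
          simp only [Fin.cons_succ]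
          exact ⟨range_step2_le hA hN hb halt (hw1 i).1, range_step2_le hA hN hb halt (hw1 i).2⟩
      · intro x
        rw [Fin.sum_univ_succ]
        simp only [Fin.cons_zero, Fin.cons_succ]
        rw [← hw2 x, add_comm]
        exact step2_eq u u' x

end alt

end Cfsg.Agent.Helper11.SympInv
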