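import Mathlib
import Cfsg.Agent.Lib.Helper11.SympInv
import Cfsg.Agent.Lib.Helper28.IsoFrames
import Cfsg.Agent.Lib.Helper28.SympIso

set_option autoImplicit false

/-! Conjugacy of involutions of `Sp_{2m}(F)` in characteristic two via normal forms. -/

namespace Cfsg.Agent.Helper11.SympInv

open Module Matrix
open Cfsg.Agent.Helper28.IsoFrames Cfsg.Agent.Helper28.IsoGrp Cfsg.Agent.Helper28.SympIso

section frames

variable {F V : Type*} [Field F] [CharP F 2] [AddCommGroup V] [Module F V] [FiniteDimensional F V]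
  {B : LinearMap.BilinForm F V}

omit [CharP F 2] in
theorem linearIndependent_of_range_le {ι : Type*} [Fintype ι] (N : V →ₗ[F] V) (z : ι → V)
    (hle : LinearMap.range N ≤ Submodule.span F (Set.range z))
    (hr : finrank F (LinearMap.range N) = Fintype.card ι) : LinearIndependent F z := by
  rw [linearIndependent_iff_card_eq_finrank_span]
  have h1 := Submodule.finrank_mono hle
  have h2 := finrank_range_le_card (R := F) z
  unfold Set.finrank at h2 ⊢
  omega

omit [CharP F 2] [FiniteDimensional F V] in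
theorem isotropic_of_mem_range {N : V →ₗ[F] V} (hN : IsSA B N) {x y : V}
    (hx : x ∈ LinearMap.range N) (hy : y ∈ LinearMap.range N) : B x y = 0 := by
  obtain ⟨x', rfl⟩ := hx
  obtain ⟨y', rfl⟩ := hy
  exact hN.isotropic x' y'

omit [CharP F 2] in
theorem isFrame_nonalt {N : V →ₗ[F] V} (hN : IsSA B N) {r : ℕ}
    (hr : finrank F (LinearMap.range N) = r) (w : Fin r → V)
    (hw1 : ∀ i, w i ∈ LinearMap.range N) (hw2 : ∀ x, N x = ∑ i, B (w i) x • w i) :
    IsFrame B r w := by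
  refine ⟨?_, fun i j => isotropic_of_mem_range hN (hw1 i) (hw1 j)⟩
  apply linearIndependent_of_range_le N w
  · rintro _ ⟨x, rfl⟩
    rw [hw2]
    exact Submodule.sum_mem _ (fun i _ => Submodule.smul_mem _ _
      (Submodule.subset_span ⟨i, rfl⟩))
  · rw [hr, Fintype.card_fin]

/-- the combined family in the alternating case -/
def comb {k : ℕ} (w w' : Fin k → V) : Fin (k + k) → V :=
  Sum.elim w w' ∘ finSumFinEquiv.symm

omit [CharP F 2] [FiniteDimensional F V] in
theorem comb_inl {k : ℕ} (w w' : Fin k → V) (i : Fin k) :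
    comb w w' (finSumFinEquiv (Sum.inl i)) = w i := by
  show Sum.elim w w' (finSumFinEquiv.symm (finSumFinEquiv (Sum.inl i))) = w i
  rw [Equiv.symm_apply_apply]
  rfl

omit [CharP F 2] [FiniteDimensional F V] in
theorem comb_inr {k : ℕ} (w w' : Fin k → V) (i : Fin k) :
    comb w w' (finSumFinEquiv (Sum.inr i)) = w' i := by
  show Sum.elim w w' (finSumFinEquiv.symm (finSumFinEquiv (Sum.inr i))) = w' i
  rw [Equiv.symm_apply_apply]
  rfl

omit [CharP F 2] in
theorem isFrame_alt {N : V →ₗ[F] V} (hN : IsSA B N) {k : ℕ}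
    (hr : finrank F (LinearMap.range N) = 2 * k) (w w' : Fin k → V)
    (hw1 : ∀ i, w i ∈ LinearMap.range N ∧ w' i ∈ LinearMap.range N)
    (hw2 : ∀ x, N x = ∑ i, (B (w' i) x • w i + B (w i) x • w' i)) :
    IsFrame B (k + k) (comb w w') := by
  have hmem : ∀ j, comb w w' j ∈ LinearMap.range N := by
    intro j
    obtain ⟨s, rfl⟩ := finSumFinEquiv.surjective j
    rcases s with i | i
    · rw [comb_inl]; exact (hw1 i).1
    · rw [comb_inr]; exact (hw1 i).2
  refine ⟨?_, fun i j => isotropic_of_mem_range hN (hmem i) (hmem j)⟩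
  apply linearIndependent_of_range_le N
  · rintro _ ⟨x, rfl⟩
    rw [hw2]
    apply Submodule.sum_mem
    intro i _
    apply Submodule.add_mem
    · apply Submodule.smul_mem
      apply Submodule.subset_span
      exact ⟨finSumFinEquiv (Sum.inl i), comb_inl w w' i⟩
    · apply Submodule.smul_mem
      apply Submodule.subset_span
      exact ⟨finSumFinEquiv (Sum.inr i), comb_inr w w' i⟩
  · rw [hr, Fintype.card_fin, two_mul]

end frames

section mats

variable {F : Type*} [Field F] {m : ℕ}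

/-- the map `t - 1` -/
def Nmat (a : Matrix (Fin m ⊕ Fin m) (Fin m ⊕ Fin m) F) :
    (Fin m ⊕ Fin m → F) →ₗ[F] (Fin m ⊕ Fin m → F) := (a - 1).mulVecLin

theorem Nmat_apply (a : Matrix (Fin m ⊕ Fin m) (Fin m ⊕ Fin m) F) (x : Fin m ⊕ Fin m → F) :
    Nmat a x = a *ᵥ x - x := by
  show (a - 1) *ᵥ x = _
  rw [Matrix.sub_mulVec, Matrix.one_mulVec]

theorem finrank_range_Nmat (a : Matrix (Fin m ⊕ Fin m) (Fin m ⊕ Fin m) F) :
    finrank F (LinearMap.range (Nmat a)) = (a - 1).rank := rfl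

theorem sympBil_mulVec {a : Matrix (Fin m ⊕ Fin m) (Fin m ⊕ Fin m) F}
    (ha : a ∈ Matrix.symplecticGroup (Fin m) F) (x y : Fin m ⊕ Fin m → F) :
    sympBil m F (a *ᵥ x) (a *ᵥ y) = sympBil m F x y := by
  have := (sympHom m ⟨a, ha⟩).2 x y
  exact this

theorem isSA_Nmat [CharP F 2] {a : Matrix (Fin m ⊕ Fin m) (Fin m ⊕ Fin m) F}
    (ha : a ∈ Matrix.symplecticGroup (Fin m) F) (haa : a * a = 1) :
    IsSA (sympBil m F) (Nmat a) := by
  have hax : ∀ x, a *ᵥ (a *ᵥ x) = x := by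
    intro x
    rw [Matrix.mulVec_mulVec, haa, Matrix.one_mulVec]
  constructor
  · intro x y
    rw [Nmat_apply, Nmat_apply, map_sub, map_sub, LinearMap.sub_apply]
    congr 1
    rw [← sympBil_mulVec ha (a *ᵥ x) y, hax]
  · intro x
    rw [Nmat_apply, Nmat_apply, Matrix.mulVec_sub, hax]
    have : ∀ z : Fin m ⊕ Fin m → F, z + z = 0 := fun z => by
      rw [← two_smul F z, CharTwo.two_eq_zero, zero_smul]
    have h2 : x - a *ᵥ x - (a *ᵥ x - x) = (x + x) - (a *ᵥ x + a *ᵥ x) := by abel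
    rw [h2, this, this, sub_zero]

theorem sympBil_Nmat (a : Matrix (Fin m ⊕ Fin m) (Fin m ⊕ Fin m) F) (x : Fin m ⊕ Fin m → F) :
    sympBil m F x (Nmat a x) = Cfsg.sympForm m F x (a *ᵥ x) := by
  rw [Nmat_apply, map_sub, (sympBil_isAlt m) x, sub_zero, sympBil_apply]

/-- an isometry intertwining `a - 1` and `b - 1` conjugates `a` to `b` -/
theorem isConj_of_intertwine (a b : Matrix.symplecticGroup (Fin m) F)
    (g : isoGrp (sympBil m F))
    (hg : ∀ x, (g : (Fin m ⊕ Fin m → F) ≃ₗ[F] (Fin m ⊕ Fin m → F))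
      (Nmat (a : Matrix (Fin m ⊕ Fin m) (Fin m ⊕ Fin m) F) x) =
      Nmat (b : Matrix (Fin m ⊕ Fin m) (Fin m ⊕ Fin m) F)
        ((g : (Fin m ⊕ Fin m → F) ≃ₗ[F] (Fin m ⊕ Fin m → F)) x)) : IsConj a b := by
  obtain ⟨A, hA⟩ : ∃ A, A = (sympMulEquiv m).symm g := ⟨_, rfl⟩
  have hAg : sympMulEquiv m A = g := by rw [hA, MulEquiv.apply_symm_apply]
  have hAx : ∀ x, (A : Matrix (Fin m ⊕ Fin m) (Fin m ⊕ Fin m) F) *ᵥ x =
      (g : (Fin m ⊕ Fin m → F) ≃ₗ[F] (Fin m ⊕ Fin m → F)) x := by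
    intro x
    rw [← sympMulEquiv_apply, hAg]
  rw [isConj_iff]
  refine ⟨A, ?_⟩
  have key : A * a = b * A := by
    apply Subtype.ext
    show (A : Matrix (Fin m ⊕ Fin m) (Fin m ⊕ Fin m) F) * a = b * A
    rw [Matrix.ext_iff_mulVec]
    intro x
    rw [← Matrix.mulVec_mulVec, ← Matrix.mulVec_mulVec]
    have h1 := hg x
    rw [Nmat_apply, Nmat_apply, map_sub, ← hAx, ← hAx] at h1
    exact sub_left_injective h1
  rw [key, mul_assoc, mul_inv_cancel, mul_one]

section conj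

variable {F : Type*} [Field F] [Fintype F] [CharP F 2] {m : ℕ}

omit [Fintype F] in
theorem sq_inj {x y : F} (h : x * x = y * y) : x = y := by
  have h2 : (x + y) * (x + y) = 0 := by
    have h3 : x * y + x * y = 0 := CharTwo.add_self_eq_zero _
    have h4 : y * y + y * y = 0 := CharTwo.add_self_eq_zero _
    linear_combination h + h3 + h4
  have h5 : x + y = 0 := by
    rcases mul_eq_zero.1 h2 with h | h <;> exact h
  have h6 : y + y = 0 := CharTwo.add_self_eq_zero _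
  linear_combination h5 - h6

theorem exists_sqrt (c : F) : ∃ d : F, d * d = c := by
  have hinj : Function.Injective (fun t : F => t * t) := fun x y h => sq_inj h
  exact Finite.surjective_of_injective hinj c

/-- involutions of non-alternating type and equal rank are conjugate -/
theorem isConj_nonalt (a b : Matrix.symplecticGroup (Fin m) F)
    (haa : (a : Matrix (Fin m ⊕ Fin m) (Fin m ⊕ Fin m) F) * a = 1)
    (hbb : (b : Matrix (Fin m ⊕ Fin m) (Fin m ⊕ Fin m) F) * b = 1)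
    (hr : ((a : Matrix (Fin m ⊕ Fin m) (Fin m ⊕ Fin m) F) - 1).rank =
      ((b : Matrix (Fin m ⊕ Fin m) (Fin m ⊕ Fin m) F) - 1).rank)
    (hna : ∃ u, Cfsg.sympForm m F u ((a : Matrix (Fin m ⊕ Fin m) (Fin m ⊕ Fin m) F) *ᵥ u) ≠ 0)
    (hnb : ∃ u, Cfsg.sympForm m F u ((b : Matrix (Fin m ⊕ Fin m) (Fin m ⊕ Fin m) F) *ᵥ u) ≠ 0) :
    IsConj a b := by
  have hA := sympBil_isAlt (F := F) m
  have hB := sympBil_nondegenerate (F := F) m
  obtain ⟨ua, hua⟩ := hna
  obtain ⟨ub, hub⟩ := hnb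
  obtain ⟨r, hra⟩ : ∃ r, finrank F (LinearMap.range
    (Nmat (a : Matrix (Fin m ⊕ Fin m) (Fin m ⊕ Fin m) F))) = r := ⟨_, rfl⟩
  have hrb : finrank F (LinearMap.range
      (Nmat (b : Matrix (Fin m ⊕ Fin m) (Fin m ⊕ Fin m) F))) = r := by
    rw [← hra, finrank_range_Nmat, finrank_range_Nmat, hr]
  have hNa := isSA_Nmat a.2 haa
  have hNb := isSA_Nmat b.2 hbb
  obtain ⟨w, hw1, hw2⟩ := nonalt_decomp hA hB exists_sqrt r _ hNa hra
    (fun _ => ⟨ua, by rw [sympBil_Nmat]; exact hua⟩)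
  obtain ⟨v, hv1, hv2⟩ := nonalt_decomp hA hB exists_sqrt r _ hNb hrb
    (fun _ => ⟨ub, by rw [sympBil_Nmat]; exact hub⟩)
  have hfw := isFrame_nonalt hNa hra w hw1 hw2
  have hfv := isFrame_nonalt hNb hrb v hv1 hv2
  obtain ⟨g, hg⟩ := exists_smul_eq hA hB hfw hfv
  apply isConj_of_intertwine a b g
  intro x
  rw [hw2, hv2, map_sum]
  apply Finset.sum_congr rfl
  intro i _
  have hi : (g : (Fin m ⊕ Fin m → F) ≃ₗ[F] (Fin m ⊕ Fin m → F)) (w i) = v i := congrFun hg i
  rw [map_smul, hi, ← hi, g.2]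

/-- involutions of alternating type and equal rank are conjugate -/
theorem isConj_alt (a b : Matrix.symplecticGroup (Fin m) F)
    (haa : (a : Matrix (Fin m ⊕ Fin m) (Fin m ⊕ Fin m) F) * a = 1)
    (hbb : (b : Matrix (Fin m ⊕ Fin m) (Fin m ⊕ Fin m) F) * b = 1)
    (hr : ((a : Matrix (Fin m ⊕ Fin m) (Fin m ⊕ Fin m) F) - 1).rank =
      ((b : Matrix (Fin m ⊕ Fin m) (Fin m ⊕ Fin m) F) - 1).rank)
    (hna : ∀ u, Cfsg.sympForm m F u ((a : Matrix (Fin m ⊕ Fin m) (Fin m ⊕ Fin m) F) *ᵥ u) = 0)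
    (hnb : ∀ u, Cfsg.sympForm m F u ((b : Matrix (Fin m ⊕ Fin m) (Fin m ⊕ Fin m) F) *ᵥ u) = 0) :
    IsConj a b := by
  have hA := sympBil_isAlt (F := F) m
  have hB := sympBil_nondegenerate (F := F) m
  obtain ⟨r, hra⟩ : ∃ r, finrank F (LinearMap.range
    (Nmat (a : Matrix (Fin m ⊕ Fin m) (Fin m ⊕ Fin m) F))) = r := ⟨_, rfl⟩
  have hrb : finrank F (LinearMap.range
      (Nmat (b : Matrix (Fin m ⊕ Fin m) (Fin m ⊕ Fin m) F))) = r := by
    rw [← hra, finrank_range_Nmat, finrank_range_Nmat, hr]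
  have hNa := isSA_Nmat a.2 haa
  have hNb := isSA_Nmat b.2 hbb
  obtain ⟨k, hk, w, w', hw1, hw2⟩ := alt_decomp hA hB r _ hNa hra
    (fun x => by rw [sympBil_Nmat]; exact hna x)
  obtain ⟨k', hk', v, v', hv1, hv2⟩ := alt_decomp hA hB r _ hNb hrb
    (fun x => by rw [sympBil_Nmat]; exact hnb x)
  have hkk : k' = k := by omega
  subst hkk
  have hfw := isFrame_alt hNa (hra.trans hk) w w' hw1 hw2
  have hfv := isFrame_alt hNb (hrb.trans hk) v v' hv1 hv2
  obtain ⟨g, hg⟩ := exists_smul_eq hA hB hfw hfv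
  apply isConj_of_intertwine a b g
  intro x
  rw [hw2, hv2, map_sum]
  apply Finset.sum_congr rfl
  intro i _
  have hi : (g : (Fin m ⊕ Fin m → F) ≃ₗ[F] (Fin m ⊕ Fin m → F)) (w i) = v i := by
    have := congrFun hg (finSumFinEquiv (Sum.inl i))
    rw [smul_frame_apply, comb_inl, comb_inl] at this
    exact this
  have hi' : (g : (Fin m ⊕ Fin m → F) ≃ₗ[F] (Fin m ⊕ Fin m → F)) (w' i) = v' i := by
    have := congrFun hg (finSumFinEquiv (Sum.inr i))
    rw [smul_frame_apply, comb_inr, comb_inr] at this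
    exact this
  rw [map_add, map_smul, map_smul, hi, hi', ← hi, ← hi', g.2, g.2]

end conj

end mats

end Cfsg.Agent.Helper11.SympInv
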