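import Mathlib
import Cfsg.Agent.Lib.Helper11.SympInv2

set_option autoImplicit false

/-! Construction of symplectic involutions from isotropic frames (characteristic two). -/

namespace Cfsg.Agent.Helper11.SympInv

open Module Matrix
open Cfsg.Agent.Helper28.IsoFrames Cfsg.Agent.Helper28.IsoGrp Cfsg.Agent.Helper28.SympIso

section build

variable {F V : Type*} [Field F] [CharP F 2] [AddCommGroup V] [Module F V] [FiniteDimensional F V]
  {B : LinearMap.BilinForm F V}

/-- `x ↦ Σ B(w i, x) w i` -/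
def Nfr (B : LinearMap.BilinForm F V) {s : ℕ} (w : Fin s → V) : V →ₗ[F] V := ∑ i, rk1 B (w i)

omit [CharP F 2] [FiniteDimensional F V] in
theorem Nfr_apply {s : ℕ} (w : Fin s → V) (x : V) : Nfr B w x = ∑ i, B (w i) x • w i := by
  simp [Nfr, LinearMap.sum_apply, rk1_apply]

theorem isSA_Nfr (hA : B.IsAlt) {s : ℕ} {w : Fin s → V} (hw : IsFrame B s w) :
    IsSA B (Nfr B w) := by
  constructor
  · intro x y
    rw [Nfr_apply, Nfr_apply, map_sum, map_sum, LinearMap.sum_apply]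
    apply Finset.sum_congr rfl
    intro i _
    rw [map_smul, map_smul, LinearMap.smul_apply, symm2 hA x (w i), smul_eq_mul, smul_eq_mul,
      mul_comm]
  · intro x
    rw [Nfr_apply (x := Nfr B w x)]
    apply Finset.sum_eq_zero
    intro j _
    rw [Nfr_apply, map_sum]
    have : ∑ i, B (w j) (B (w i) x • w i) = 0 := by
      apply Finset.sum_eq_zero
      intro i _
      rw [map_smul, hw.2 j i, smul_zero]
    rw [this, zero_smul]

omit [CharP F 2] [FiniteDimensional F V] in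
theorem ker_Nfr {s : ℕ} {w : Fin s → V} (hw : IsFrame B s w) :
    LinearMap.ker (Nfr B w) = B.orthogonal (Submodule.span F (Set.range w)) := by
  ext x
  rw [LinearMap.mem_ker, Nfr_apply, LinearMap.BilinForm.mem_orthogonal_iff]
  constructor
  · intro h n hn
    have h1 := (Fintype.linearIndependent_iff.1 hw.1) (fun i => B (w i) x) h
    refine Submodule.span_induction (p := fun n _ => B n x = 0) ?_ ?_ ?_ ?_ hn
    · rintro _ ⟨i, rfl⟩
      exact h1 i
    · simp
    · intro a b _ _ ha hb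
      rw [map_add, LinearMap.add_apply, ha, hb, add_zero]
    · intro c a _ ha
      rw [map_smul, LinearMap.smul_apply, ha, smul_zero]
  · intro h
    apply Finset.sum_eq_zero
    intro i _
    rw [h (w i) (Submodule.subset_span ⟨i, rfl⟩), zero_smul]

omit [CharP F 2] in
theorem finrank_of_ker_eq_orthogonal (hB : B.Nondegenerate) (N : V →ₗ[F] V) {ι : Type*}
    [Fintype ι] (z : ι → V) (hz : LinearIndependent F z)
    (hk : LinearMap.ker N = B.orthogonal (Submodule.span F (Set.range z))) :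
    finrank F (LinearMap.range N) = Fintype.card ι := by
  have h1 := LinearMap.finrank_range_add_finrank_ker N
  rw [hk, LinearMap.BilinForm.finrank_orthogonal hB, finrank_span_eq_card hz] at h1
  have h2 : finrank F (Submodule.span F (Set.range z)) ≤ finrank F V := Submodule.finrank_le _
  rw [finrank_span_eq_card hz] at h2
  omega

omit [CharP F 2] in
theorem finrank_range_Nfr (hB : B.Nondegenerate) {s : ℕ} {w : Fin s → V}
    (hw : IsFrame B s w) : finrank F (LinearMap.range (Nfr B w)) = s := by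
  rw [finrank_of_ker_eq_orthogonal hB _ w hw.1 (ker_Nfr hw), Fintype.card_fin]

theorem nonalt_Nfr (hA : B.IsAlt) (hB : B.Nondegenerate) {s : ℕ} {w : Fin s → V}
    (hw : IsFrame B s w) (hs : s ≠ 0) : ∃ u, B u (Nfr B w u) ≠ 0 := by
  have hsum : ∑ i, w i ≠ 0 := by
    intro h
    have h1 := (Fintype.linearIndependent_iff.1 hw.1) (fun _ => (1 : F)) (by simpa using h)
    exact one_ne_zero (h1 ⟨0, Nat.pos_of_ne_zero hs⟩)
  obtain ⟨u, hu⟩ : ∃ u, B (∑ i, w i) u ≠ 0 := by
    by_contra hcon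
    push Not at hcon
    exact hsum (hB.1 _ hcon)
  refine ⟨u, ?_⟩
  have h2 : B u (Nfr B w u) = (B (∑ i, w i) u) ^ 2 := by
    rw [Nfr_apply, map_sum, map_sum, LinearMap.sum_apply]
    have : Fact (Nat.Prime 2) := ⟨Nat.prime_two⟩
    rw [sum_pow_char 2]
    apply Finset.sum_congr rfl
    intro i _
    rw [map_smul, symm2 hA u (w i), smul_eq_mul, pow_two]
  rw [h2]
  exact pow_ne_zero 2 hu

/-- `x ↦ Σ (B(w' i, x) w i + B(w i, x) w' i)` -/
def Nfr2 (B : LinearMap.BilinForm F V) {k : ℕ} (w w' : Fin k → V) : V →ₗ[F] V :=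
  ∑ i, rk2 B (w i) (w' i)

omit [CharP F 2] [FiniteDimensional F V] in
theorem Nfr2_apply {k : ℕ} (w w' : Fin k → V) (x : V) :
    Nfr2 B w w' x = ∑ i, (B (w' i) x • w i + B (w i) x • w' i) := by
  simp [Nfr2, LinearMap.sum_apply, rk2_apply]

omit [CharP F 2] [FiniteDimensional F V] in
theorem frame_comb {k : ℕ} {w w' : Fin k → V} (hw : IsFrame B (k + k) (comb w w')) :
    (∀ i j, B (w i) (w j) = 0) ∧ (∀ i j, B (w i) (w' j) = 0) ∧ (∀ i j, B (w' i) (w j) = 0) ∧
      (∀ i j, B (w' i) (w' j) = 0) := by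
  refine ⟨fun i j => ?_, fun i j => ?_, fun i j => ?_, fun i j => ?_⟩
  · have := hw.2 (finSumFinEquiv (Sum.inl i)) (finSumFinEquiv (Sum.inl j))
    rwa [comb_inl, comb_inl] at this
  · have := hw.2 (finSumFinEquiv (Sum.inl i)) (finSumFinEquiv (Sum.inr j))
    rwa [comb_inl, comb_inr] at this
  · have := hw.2 (finSumFinEquiv (Sum.inr i)) (finSumFinEquiv (Sum.inl j))
    rwa [comb_inr, comb_inl] at this
  · have := hw.2 (finSumFinEquiv (Sum.inr i)) (finSumFinEquiv (Sum.inr j))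
    rwa [comb_inr, comb_inr] at this

theorem isSA_Nfr2 (hA : B.IsAlt) {k : ℕ} {w w' : Fin k → V}
    (hw : IsFrame B (k + k) (comb w w')) : IsSA B (Nfr2 B w w') := by
  obtain ⟨h1, h2, h3, h4⟩ := frame_comb hw
  constructor
  · intro x y
    rw [Nfr2_apply, Nfr2_apply, map_sum, map_sum, LinearMap.sum_apply]
    apply Finset.sum_congr rfl
    intro i _
    simp only [map_add, map_smul, LinearMap.add_apply, LinearMap.smul_apply, smul_eq_mul]
    rw [symm2 hA x (w i), symm2 hA x (w' i)]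
    ring
  · intro x
    rw [Nfr2_apply (x := Nfr2 B w w' x)]
    apply Finset.sum_eq_zero
    intro j _
    have e1 : B (w' j) (Nfr2 B w w' x) = 0 := by
      rw [Nfr2_apply, map_sum]
      apply Finset.sum_eq_zero
      intro i _
      rw [map_add, map_smul, map_smul, h3, h4, smul_zero, smul_zero, add_zero]
    have e2 : B (w j) (Nfr2 B w w' x) = 0 := by
      rw [Nfr2_apply, map_sum]
      apply Finset.sum_eq_zero
      intro i _
      rw [map_add, map_smul, map_smul, h1, h2, smul_zero, smul_zero, add_zero]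
    rw [e1, e2, zero_smul, zero_smul, add_zero]

omit [CharP F 2] [FiniteDimensional F V] in
theorem ker_Nfr2 {k : ℕ} {w w' : Fin k → V} (hw : IsFrame B (k + k) (comb w w')) :
    LinearMap.ker (Nfr2 B w w') =
      B.orthogonal (Submodule.span F (Set.range (comb w w'))) := by
  ext x
  rw [LinearMap.mem_ker, Nfr2_apply, LinearMap.BilinForm.mem_orthogonal_iff]
  constructor
  · intro h n hn
    -- rewrite the sum over the combined family
    have hsum : ∑ j, (Sum.elim (fun i => B (w' i) x) (fun i => B (w i) x)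
        (finSumFinEquiv.symm j)) • comb w w' j = 0 := by
      rw [← h, ← Equiv.sum_comp finSumFinEquiv, Fintype.sum_sum_type, Finset.sum_add_distrib]
      simp only [Equiv.symm_apply_apply, Sum.elim_inl, Sum.elim_inr, comb_inl, comb_inr]
    have h1 := (Fintype.linearIndependent_iff.1 hw.1) _ hsum
    have ha : ∀ i, B (w' i) x = 0 := fun i => by
      have := h1 (finSumFinEquiv (Sum.inl i))
      rw [Equiv.symm_apply_apply] at this
      exact this
    have hb : ∀ i, B (w i) x = 0 := fun i => by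
      have := h1 (finSumFinEquiv (Sum.inr i))
      rw [Equiv.symm_apply_apply] at this
      exact this
    refine Submodule.span_induction (p := fun n _ => B n x = 0) ?_ ?_ ?_ ?_ hn
    · rintro _ ⟨j, rfl⟩
      obtain ⟨s, rfl⟩ := finSumFinEquiv.surjective j
      rcases s with i | i
      · rw [comb_inl]; exact hb i
      · rw [comb_inr]; exact ha i
    · simp
    · intro a b _ _ ha hb
      rw [map_add, LinearMap.add_apply, ha, hb, add_zero]
    · intro c a _ ha
      rw [map_smul, LinearMap.smul_apply, ha, smul_zero]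
  · intro h
    apply Finset.sum_eq_zero
    intro i _
    have e1 : B (w' i) x = 0 :=
      h _ (Submodule.subset_span ⟨finSumFinEquiv (Sum.inr i), comb_inr w w' i⟩)
    have e2 : B (w i) x = 0 :=
      h _ (Submodule.subset_span ⟨finSumFinEquiv (Sum.inl i), comb_inl w w' i⟩)
    rw [e1, e2, zero_smul, zero_smul, add_zero]

omit [CharP F 2] in
theorem finrank_range_Nfr2 (hB : B.Nondegenerate) {k : ℕ} {w w' : Fin k → V}
    (hw : IsFrame B (k + k) (comb w w')) :
    finrank F (LinearMap.range (Nfr2 B w w')) = k + k := by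
  rw [finrank_of_ker_eq_orthogonal hB _ (comb w w') hw.1 (ker_Nfr2 hw), Fintype.card_fin]

theorem alt_Nfr2 (hA : B.IsAlt) {k : ℕ} (w w' : Fin k → V) (u : V) :
    B u (Nfr2 B w w' u) = 0 := by
  rw [Nfr2_apply, map_sum]
  apply Finset.sum_eq_zero
  intro i _
  rw [map_add, map_smul, map_smul, symm2 hA u (w i), symm2 hA u (w' i), smul_eq_mul, smul_eq_mul,
    mul_comm]
  exact two_mul_zero _

end build

section mkinv

variable {F : Type*} [Field F] {m : ℕ}

/-- the matrix `1 + N` -/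
noncomputable def invMat (N : (Fin m ⊕ Fin m → F) →ₗ[F] (Fin m ⊕ Fin m → F)) :
    Matrix (Fin m ⊕ Fin m) (Fin m ⊕ Fin m) F := 1 + LinearMap.toMatrix' N

theorem invMat_mulVec (N : (Fin m ⊕ Fin m → F) →ₗ[F] (Fin m ⊕ Fin m → F))
    (x : Fin m ⊕ Fin m → F) : invMat N *ᵥ x = x + N x := by
  unfold invMat
  rw [Matrix.add_mulVec, Matrix.one_mulVec, LinearMap.toMatrix'_mulVec]

theorem Nmat_invMat (N : (Fin m ⊕ Fin m → F) →ₗ[F] (Fin m ⊕ Fin m → F)) :
    Nmat (invMat N) = N := by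
  apply LinearMap.ext
  intro x
  rw [Nmat_apply, invMat_mulVec, add_sub_cancel_left]

variable [CharP F 2]

theorem invMat_mem {N : (Fin m ⊕ Fin m → F) →ₗ[F] (Fin m ⊕ Fin m → F)}
    (hN : IsSA (sympBil m F) N) : invMat N ∈ Matrix.symplecticGroup (Fin m) F := by
  apply mem_symplectic_of_preserves
  intro u v
  rw [invMat_mulVec, invMat_mulVec, ← sympBil_apply, ← sympBil_apply]
  simp only [map_add, LinearMap.add_apply]
  rw [hN.isotropic, hN.sa u v, add_zero, add_assoc, two_mul_zero, add_zero]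

theorem invMat_mul_self {N : (Fin m ⊕ Fin m → F) →ₗ[F] (Fin m ⊕ Fin m → F)}
    (hN : IsSA (sympBil m F) N) : invMat N * invMat N = 1 := by
  rw [Matrix.ext_iff_mulVec]
  intro x
  rw [← Matrix.mulVec_mulVec, invMat_mulVec, invMat_mulVec, map_add, hN.sq, add_zero,
    Matrix.one_mulVec, add_assoc]
  have : ∀ z : Fin m ⊕ Fin m → F, z + z = 0 := fun z => by
    rw [← two_smul F z, CharTwo.two_eq_zero, zero_smul]
  rw [this, add_zero]

omit [CharP F 2] in
/-- standard isotropic frames -/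
theorem exists_frame (s : ℕ) (hs : s ≤ m) :
    ∃ w : Fin s → (Fin m ⊕ Fin m → F), IsFrame (sympBil m F) s w := by
  refine ⟨fun i => Pi.single (Sum.inl (Fin.castLE hs i)) 1, ?_, ?_⟩
  · have h1 := (Pi.basisFun F (Fin m ⊕ Fin m)).linearIndependent
    have h2 : Function.Injective (fun i : Fin s => (Sum.inl (Fin.castLE hs i) : Fin m ⊕ Fin m)) :=
      fun i j h => Fin.castLE_injective hs (Sum.inl_injective h)
    have h3 := h1.comp _ h2
    have h4 : (fun i : Fin s => (Pi.single (Sum.inl (Fin.castLE hs i)) 1 : Fin m ⊕ Fin m → F)) =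
        (⇑(Pi.basisFun F (Fin m ⊕ Fin m)) ∘ fun i => Sum.inl (Fin.castLE hs i)) := by
      funext i
      simp [Pi.basisFun_apply]
    rw [h4]
    exact h3
  · intro i j
    rw [sympBil_apply]
    show (Pi.single (Sum.inl (Fin.castLE hs i)) 1 : Fin m ⊕ Fin m → F) ⬝ᵥ
      (Matrix.J (Fin m) F *ᵥ Pi.single (Sum.inl (Fin.castLE hs j)) 1) = 0
    simp [Matrix.J]

variable [Fintype F]

theorem exists_nonalt_invol (s : ℕ) (hs1 : 1 ≤ s) (hsm : s ≤ m) :
    ∃ g : Matrix.symplecticGroup (Fin m) F,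
      (g : Matrix (Fin m ⊕ Fin m) (Fin m ⊕ Fin m) F) * g = 1 ∧
      ((g : Matrix (Fin m ⊕ Fin m) (Fin m ⊕ Fin m) F) - 1).rank = s ∧
      ∃ u, Cfsg.sympForm m F u ((g : Matrix (Fin m ⊕ Fin m) (Fin m ⊕ Fin m) F) *ᵥ u) ≠ 0 := by
  have hA := sympBil_isAlt (F := F) m
  have hB := sympBil_nondegenerate (F := F) m
  obtain ⟨w, hw⟩ := exists_frame (F := F) s hsm
  have hN := isSA_Nfr hA hw
  refine ⟨⟨invMat (Nfr (sympBil m F) w), invMat_mem hN⟩, invMat_mul_self hN, ?_, ?_⟩
  · rw [← finrank_range_Nmat, Nmat_invMat, finrank_range_Nfr hB hw]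
  · obtain ⟨u, hu⟩ := nonalt_Nfr hA hB hw (by omega)
    refine ⟨u, ?_⟩
    rw [← sympBil_Nmat, Nmat_invMat]
    exact hu

theorem exists_alt_invol (k : ℕ) (hk : k + k ≤ m) :
    ∃ g : Matrix.symplecticGroup (Fin m) F,
      (g : Matrix (Fin m ⊕ Fin m) (Fin m ⊕ Fin m) F) * g = 1 ∧
      ((g : Matrix (Fin m ⊕ Fin m) (Fin m ⊕ Fin m) F) - 1).rank = k + k ∧
      ∀ u, Cfsg.sympForm m F u ((g : Matrix (Fin m ⊕ Fin m) (Fin m ⊕ Fin m) F) *ᵥ u) = 0 := by
  have hA := sympBil_isAlt (F := F) m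
  have hB := sympBil_nondegenerate (F := F) m
  obtain ⟨z, hz⟩ := exists_frame (F := F) (k + k) hk
  obtain ⟨w, hw⟩ : ∃ w : Fin k → (Fin m ⊕ Fin m → F), w = fun i => z (finSumFinEquiv (Sum.inl i)) :=
    ⟨_, rfl⟩
  obtain ⟨w', hw'⟩ : ∃ w' : Fin k → (Fin m ⊕ Fin m → F),
    w' = fun i => z (finSumFinEquiv (Sum.inr i)) := ⟨_, rfl⟩
  have hcomb : comb w w' = z := by
    funext j
    obtain ⟨t, rfl⟩ := finSumFinEquiv.surjective j
    rcases t with i | i
    · rw [comb_inl, hw]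
    · rw [comb_inr, hw']
  rw [← hcomb] at hz
  have hN := isSA_Nfr2 hA hz
  refine ⟨⟨invMat (Nfr2 (sympBil m F) w w'), invMat_mem hN⟩, invMat_mul_self hN, ?_, ?_⟩
  · rw [← finrank_range_Nmat, Nmat_invMat, finrank_range_Nfr2 hB hz]
  · intro u
    rw [← sympBil_Nmat, Nmat_invMat]
    exact alt_Nfr2 hA w w' u

end mkinv

section invariants

variable {F : Type*} [Field F] {m : ℕ}

theorem coe_mul_eq (a b c : Matrix.symplecticGroup (Fin m) F) (h : c * a = b * c) :
    (c : Matrix (Fin m ⊕ Fin m) (Fin m ⊕ Fin m) F) * a = b * c := by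
  have := congrArg (fun x : ↥(Matrix.symplecticGroup (Fin m) F) =>
    (x : Matrix (Fin m ⊕ Fin m) (Fin m ⊕ Fin m) F)) h
  simpa using this

theorem rank_eq_of_conj (a b c : Matrix.symplecticGroup (Fin m) F) (h : c * a = b * c) :
    ((a : Matrix (Fin m ⊕ Fin m) (Fin m ⊕ Fin m) F) - 1).rank =
      ((b : Matrix (Fin m ⊕ Fin m) (Fin m ⊕ Fin m) F) - 1).rank := by
  have hcam := coe_mul_eq a b c h
  have hdet : IsUnit (c : Matrix (Fin m ⊕ Fin m) (Fin m ⊕ Fin m) F).det :=
    SymplecticGroup.symplectic_det c.2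
  have h1 : (c : Matrix (Fin m ⊕ Fin m) (Fin m ⊕ Fin m) F) *
      ((a : Matrix (Fin m ⊕ Fin m) (Fin m ⊕ Fin m) F) - 1) =
      ((b : Matrix (Fin m ⊕ Fin m) (Fin m ⊕ Fin m) F) - 1) *
        (c : Matrix (Fin m ⊕ Fin m) (Fin m ⊕ Fin m) F) := by
    rw [Matrix.mul_sub, Matrix.sub_mul, hcam, Matrix.mul_one, Matrix.one_mul]
  rw [← Matrix.rank_mul_eq_right_of_isUnit_det
    (c : Matrix (Fin m ⊕ Fin m) (Fin m ⊕ Fin m) F) _ hdet, h1,
    Matrix.rank_mul_eq_left_of_isUnit_det
    (c : Matrix (Fin m ⊕ Fin m) (Fin m ⊕ Fin m) F) _ hdet]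

theorem form_conj (a b c : Matrix.symplecticGroup (Fin m) F) (h : c * a = b * c)
    (v : Fin m ⊕ Fin m → F) :
    Cfsg.sympForm m F ((c : Matrix (Fin m ⊕ Fin m) (Fin m ⊕ Fin m) F) *ᵥ v)
      ((b : Matrix (Fin m ⊕ Fin m) (Fin m ⊕ Fin m) F) *ᵥ
        ((c : Matrix (Fin m ⊕ Fin m) (Fin m ⊕ Fin m) F) *ᵥ v)) =
    Cfsg.sympForm m F v ((a : Matrix (Fin m ⊕ Fin m) (Fin m ⊕ Fin m) F) *ᵥ v) := by
  have hcam := coe_mul_eq a b c h
  rw [Matrix.mulVec_mulVec, ← hcam, ← Matrix.mulVec_mulVec, ← sympBil_apply, ← sympBil_apply,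
    sympBil_mulVec c.2]

theorem alt_iff_of_conj (a b c : Matrix.symplecticGroup (Fin m) F) (h : c * a = b * c) :
    (∀ v, Cfsg.sympForm m F v ((a : Matrix (Fin m ⊕ Fin m) (Fin m ⊕ Fin m) F) *ᵥ v) = 0) ↔
    (∀ v, Cfsg.sympForm m F v ((b : Matrix (Fin m ⊕ Fin m) (Fin m ⊕ Fin m) F) *ᵥ v) = 0) := by
  constructor
  · intro ha v
    have h' : c⁻¹ * b = a * c⁻¹ := by
      have : b = c * a * c⁻¹ := by rw [h]; group
      rw [this]; group
    rw [← form_conj b a c⁻¹ h']
    exact ha _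
  · intro hb v
    rw [← form_conj a b c h]
    exact hb _

theorem rank_le_of_sq [CharP F 2] (a : Matrix.symplecticGroup (Fin m) F)
    (haa : (a : Matrix (Fin m ⊕ Fin m) (Fin m ⊕ Fin m) F) * a = 1) :
    ((a : Matrix (Fin m ⊕ Fin m) (Fin m ⊕ Fin m) F) - 1).rank ≤ m := by
  have hN := isSA_Nmat a.2 haa
  have h1 := LinearMap.finrank_range_add_finrank_ker
    (Nmat (a : Matrix (Fin m ⊕ Fin m) (Fin m ⊕ Fin m) F))
  have h2 : LinearMap.range (Nmat (a : Matrix (Fin m ⊕ Fin m) (Fin m ⊕ Fin m) F)) ≤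
      LinearMap.ker (Nmat (a : Matrix (Fin m ⊕ Fin m) (Fin m ⊕ Fin m) F)) := by
    rintro _ ⟨x, rfl⟩
    exact hN.sq x
  have h3 := Submodule.finrank_mono h2
  rw [Module.finrank_fintype_fun_eq_card, Fintype.card_sum, Fintype.card_fin] at h1
  rw [← finrank_range_Nmat]
  omega

theorem rank_pos_of_ne_one (a : Matrix.symplecticGroup (Fin m) F) (ha : a ≠ 1) :
    1 ≤ ((a : Matrix (Fin m ⊕ Fin m) (Fin m ⊕ Fin m) F) - 1).rank := by
  by_contra h
  have h0 : finrank F (LinearMap.range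
      (Nmat (a : Matrix (Fin m ⊕ Fin m) (Fin m ⊕ Fin m) F))) = 0 := by
    rw [finrank_range_Nmat]; omega
  rw [Submodule.finrank_eq_zero, LinearMap.range_eq_bot] at h0
  apply ha
  apply Subtype.ext
  show (a : Matrix (Fin m ⊕ Fin m) (Fin m ⊕ Fin m) F) = 1
  rw [Matrix.ext_iff_mulVec]
  intro x
  have := LinearMap.congr_fun h0 x
  rw [Nmat_apply, LinearMap.zero_apply, sub_eq_zero] at this
  rw [this, Matrix.one_mulVec]

end invariants

end Cfsg.Agent.Helper11.SympInv
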