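import Mathlib
import Cfsg.Agent.Lib.Helper11.SympInv3

set_option autoImplicit false

/-! Centralisers of involutions of `Sp_{2m}(F)` in characteristic two: general tools
(dual vectors of a frame, counting of hyperplane fibres, the centraliser in the isometry
group and the orbit counting argument). -/

namespace Cfsg.Agent.Helper11.SympInv

open Module Matrix
open Cfsg.Agent.Helper28.IsoFrames Cfsg.Agent.Helper28.IsoGrp Cfsg.Agent.Helper28.SympIso

section dual

variable {F V : Type*} [Field F] [AddCommGroup V] [Module F V] [FiniteDimensional F V]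
  {B : LinearMap.BilinForm F V}

/-- coordinates against a family: `x ↦ (B (z a) x)_a` -/
def coordL (B : LinearMap.BilinForm F V) {ι : Type*} (z : ι → V) : V →ₗ[F] (ι → F) :=
  LinearMap.pi (fun a => B (z a))

omit [FiniteDimensional F V] in
theorem coordL_apply {ι : Type*} (z : ι → V) (x : V) (a : ι) :
    coordL B z x a = B (z a) x := rfl

omit [FiniteDimensional F V] in
theorem ker_coordL {ι : Type*} (z : ι → V) :
    LinearMap.ker (coordL B z) = B.orthogonal (Submodule.span F (Set.range z)) := by
  ext x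
  rw [LinearMap.mem_ker, LinearMap.BilinForm.mem_orthogonal_iff]
  constructor
  · intro h n hn
    refine Submodule.span_induction (p := fun n _ => B n x = 0) ?_ ?_ ?_ ?_ hn
    · rintro _ ⟨i, rfl⟩
      exact congrFun h i
    · simp
    · intro a b _ _ ha hb
      rw [map_add, LinearMap.add_apply, ha, hb, add_zero]
    · intro c a _ ha
      rw [map_smul, LinearMap.smul_apply, ha, smul_zero]
  · intro h
    funext i
    exact h (z i) (Submodule.subset_span ⟨i, rfl⟩)

theorem coordL_surjective (hB : B.Nondegenerate) {ι : Type*} [Fintype ι] (z : ι → V)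
    (hz : LinearIndependent F z) : Function.Surjective (coordL B z) := by
  rw [← LinearMap.range_eq_top]
  apply Submodule.eq_top_of_finrank_eq
  have h1 := LinearMap.finrank_range_add_finrank_ker (coordL B z)
  rw [ker_coordL, LinearMap.BilinForm.finrank_orthogonal hB, finrank_span_eq_card hz] at h1
  have h2 : finrank F (Submodule.span F (Set.range z)) ≤ finrank F V := Submodule.finrank_le _
  rw [finrank_span_eq_card hz] at h2
  rw [Module.finrank_fintype_fun_eq_card]
  omega

/-- dual vectors of a linearly independent family -/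
theorem exists_dual' (hB : B.Nondegenerate) {ι : Type*} [Fintype ι] [DecidableEq ι] (z : ι → V)
    (hz : LinearIndependent F z) :
    ∃ x : ι → V, ∀ a b, B (z a) (x b) = if a = b then 1 else 0 := by
  have hs := coordL_surjective hB z hz
  choose x hx using fun b : ι => hs (Pi.single b 1)
  refine ⟨x, fun a b => ?_⟩
  rw [← coordL_apply, hx b, Pi.single_apply]

theorem exists_dual (hB : B.Nondegenerate) {s : ℕ} {w : Fin s → V} (hw : IsFrame B s w) :
    ∃ x : Fin s → V, ∀ i j, B (w i) (x j) = if i = j then 1 else 0 :=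
  exists_dual' hB w hw.1

omit [FiniteDimensional F V] in
theorem Nfr_dual {s : ℕ} {w x : Fin s → V}
    (hx : ∀ i j, B (w i) (x j) = if i = j then 1 else 0) (j : Fin s) :
    Nfr B w (x j) = w j := by
  rw [Nfr_apply, Finset.sum_eq_single j]
  · rw [hx, if_pos rfl, one_smul]
  · intro i _ hij
    rw [hx, if_neg hij, zero_smul]
  · intro h
    exact absurd (Finset.mem_univ j) h

theorem mem_range_Nfr (hB : B.Nondegenerate) {s : ℕ} {w : Fin s → V} (hw : IsFrame B s w)
    (i : Fin s) : w i ∈ LinearMap.range (Nfr B w) := by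
  obtain ⟨x, hx⟩ := exists_dual hB hw
  exact ⟨x i, Nfr_dual hx i⟩

end dual

section hyperplane

variable {F : Type*} [Field F] [Fintype F]

/-- fibres of a surjective functional -/
theorem card_fibre_functional {W : Type*} [AddCommGroup W] [Module F W] [FiniteDimensional F W]
    (f : W →ₗ[F] F) (hf : Function.Surjective f) (c : F) :
    Nat.card {d : W // f d = c} = Fintype.card F ^ (finrank F W - 1) := by
  obtain ⟨d₀, hd₀⟩ := hf c
  have e : {d : W // f d = c} ≃ LinearMap.ker f :=
    { toFun := fun d => ⟨d.1 - d₀, by rw [LinearMap.mem_ker, map_sub, d.2, hd₀, sub_self]⟩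
      invFun := fun k => ⟨k.1 + d₀, by rw [map_add, LinearMap.mem_ker.1 k.2, zero_add, hd₀]⟩
      left_inv := fun d => by simp
      right_inv := fun k => by simp }
  rw [Nat.card_congr e, Module.natCard_eq_pow_finrank (K := F), Nat.card_eq_fintype_card]
  congr 1
  have h1 := LinearMap.finrank_range_add_finrank_ker f
  rw [LinearMap.range_eq_top.2 hf, finrank_top, finrank_self] at h1
  omega

/-- the number of vectors with a given coordinate sum -/
theorem card_sum_eq (n : ℕ) (c : F) :
    Nat.card {d : Fin (n + 1) → F // ∑ i, d i = c} = Fintype.card F ^ n := by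
  have h := card_fibre_functional (F := F) (W := Fin (n + 1) → F)
    (∑ i, LinearMap.proj i) (by
      intro a
      refine ⟨Pi.single 0 a, ?_⟩
      rw [LinearMap.sum_apply, Finset.sum_eq_single 0]
      · simp
      · intro i _ hi
        simp [hi]
      · intro h
        exact absurd (Finset.mem_univ _) h) c
  rw [Module.finrank_fintype_fun_eq_card, Fintype.card_fin, Nat.add_sub_cancel] at h
  rw [← h]
  apply Nat.card_congr
  apply Equiv.subtypeEquivRight
  intro d
  rw [LinearMap.sum_apply]
  rfl

end hyperplane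

section centraliser

variable {F V : Type*} [Field F] [AddCommGroup V] [Module F V]
  {B : LinearMap.BilinForm F V}

/-- the centraliser of a linear map in the isometry group -/
def cent (B : LinearMap.BilinForm F V) (N : V →ₗ[F] V) : Subgroup (isoGrp B) where
  carrier := {g | ∀ x, (g : V ≃ₗ[F] V) (N x) = N ((g : V ≃ₗ[F] V) x)}
  mul_mem' {a b} ha hb := by
    intro x
    show (a : V ≃ₗ[F] V) ((b : V ≃ₗ[F] V) (N x)) = N ((a : V ≃ₗ[F] V) ((b : V ≃ₗ[F] V) x))
    rw [hb x, ha]
  one_mem' := by
    intro x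
    rfl
  inv_mem' {a} ha := by
    intro x
    have e : ∀ z, (a : V ≃ₗ[F] V) ((a : V ≃ₗ[F] V)⁻¹ z) = z := fun z => by
      rw [← LinearEquiv.mul_apply, mul_inv_cancel]; rfl
    have h := ha ((a : V ≃ₗ[F] V)⁻¹ x)
    rw [e] at h
    show (a : V ≃ₗ[F] V)⁻¹ (N x) = N ((a : V ≃ₗ[F] V)⁻¹ x)
    apply (a : V ≃ₗ[F] V).injective
    rw [e, h]

theorem mem_cent {N : V →ₗ[F] V} {g : isoGrp B} :
    g ∈ cent B N ↔ ∀ x, (g : V ≃ₗ[F] V) (N x) = N ((g : V ≃ₗ[F] V) x) := Iff.rfl

variable [Fintype F] [FiniteDimensional F V]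

/-- orbit counting: the centraliser of `Φ w` against the frames with the same image -/
theorem card_cent_mul (hA : B.IsAlt) (hB : B.Nondegenerate) {k : ℕ}
    (Φ : (Fin k → V) → (V →ₗ[F] V))
    (hΦ : ∀ (g : isoGrp B) (w : Fin k → V) (x : V),
      Φ (g • w) ((g : V ≃ₗ[F] V) x) = (g : V ≃ₗ[F] V) (Φ w x))
    {w : Fin k → V} (hw : IsFrame B k w) :
    Nat.card (cent B (Φ w)) * Nat.card {y : Fin k → V // IsFrame B k y}
      = Nat.card {y : Fin k → V // IsFrame B k y ∧ Φ y = Φ w} * Nat.card (isoGrp B) := by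
  have : Finite V := Module.finite_of_finite F
  have : Finite (V ≃ₗ[F] V) := Finite.of_injective (fun g => (g : V → V)) DFunLike.coe_injective
  obtain ⟨P, hP⟩ : ∃ P, P = cent B (Φ w) := ⟨_, rfl⟩
  rw [← hP]
  have e : ∀ (g : isoGrp B) (z : V),
      (g : V ≃ₗ[F] V) ((((g⁻¹ : isoGrp B)) : V ≃ₗ[F] V) z) = z := by
    intro g z
    have : ((g * g⁻¹ : isoGrp B) : V ≃ₗ[F] V) z = z := by rw [mul_inv_cancel]; rfl
    exact this
  have h1 := Subgroup.card_mul_index (MulAction.stabilizer (isoGrp B) w)
  rw [MulAction.index_stabilizer, orbit_eq_frames hA hB hw] at h1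
  have h2 := Subgroup.card_mul_index (MulAction.stabilizer P w)
  rw [MulAction.index_stabilizer] at h2
  have h3 : MulAction.orbit P w = {y | IsFrame B k y ∧ Φ y = Φ w} := by
    ext y
    constructor
    · rintro ⟨⟨g, hg⟩, rfl⟩
      rw [hP] at hg
      refine ⟨isFrame_smul g hw, ?_⟩
      apply LinearMap.ext
      intro x
      have h4 := hΦ g w (((g⁻¹ : isoGrp B) : V ≃ₗ[F] V) x)
      rw [e] at h4
      show Φ (g • w) x = Φ w x
      rw [h4, hg, e]
    · rintro ⟨hy, hy2⟩
      obtain ⟨g, hg⟩ := exists_smul_eq hA hB hw hy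
      refine ⟨⟨g, ?_⟩, hg⟩
      rw [hP]
      intro x
      rw [← hΦ g w x, hg, hy2]
  rw [h3] at h2
  have h4 : MulAction.stabilizer P w = (MulAction.stabilizer (isoGrp B) w).subgroupOf P := by
    ext g
    rfl
  have hle : MulAction.stabilizer (isoGrp B) w ≤ P := by
    intro g hg
    rw [hP]
    intro x
    have hg' : g • w = w := hg
    rw [← hΦ g w x, hg']
  rw [h4, Nat.card_congr (Subgroup.subgroupOfEquivOfLe hle).toEquiv] at h2
  rw [← h1, ← h2]
  show _ * Set.ncard {y | IsFrame B k y ∧ _} * _ = _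
  rw [← Nat.card_coe_set_eq, ← Nat.card_coe_set_eq]
  have e1 : Nat.card ↑{y : Fin k → V | IsFrame B k y ∧ Φ y = Φ w}
      = Nat.card {y : Fin k → V // IsFrame B k y ∧ Φ y = Φ w} := rfl
  have e2 : Nat.card ↑{y : Fin k → V | IsFrame B k y}
      = Nat.card {y : Fin k → V // IsFrame B k y} := rfl
  rw [e1, e2]
  ring

end centraliser

section transfer

variable {F : Type*} [Field F] {m : ℕ}

/-- the centraliser of `t` in the symplectic group against the centraliser of `t - 1` -/
theorem card_centralizer_eq (t : Matrix.symplecticGroup (Fin m) F) :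
    Nat.card (Subgroup.centralizer ({t} : Set (Matrix.symplecticGroup (Fin m) F)))
      = Nat.card (cent (sympBil m F)
        (Nmat (t : Matrix (Fin m ⊕ Fin m) (Fin m ⊕ Fin m) F))) := by
  apply Nat.card_congr
  apply (sympMulEquiv m).toEquiv.subtypeEquiv
  intro A
  rw [Subgroup.mem_centralizer_singleton_iff]
  show _ ↔ sympMulEquiv m A ∈ cent _ _
  rw [mem_cent]
  constructor
  · intro h x
    rw [sympMulEquiv_apply, sympMulEquiv_apply, Nmat_apply, Nmat_apply, Matrix.mulVec_sub,
      Matrix.mulVec_mulVec, Matrix.mulVec_mulVec]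
    have h' : (A : Matrix (Fin m ⊕ Fin m) (Fin m ⊕ Fin m) F) * t = t * A :=
      congrArg Subtype.val h
    rw [h']
  · intro h
    apply Subtype.ext
    show (A : Matrix (Fin m ⊕ Fin m) (Fin m ⊕ Fin m) F) * t = t * A
    rw [Matrix.ext_iff_mulVec]
    intro x
    have h1 := h x
    rw [sympMulEquiv_apply, sympMulEquiv_apply, Nmat_apply, Nmat_apply, Matrix.mulVec_sub,
      Matrix.mulVec_mulVec, Matrix.mulVec_mulVec] at h1
    exact sub_left_injective h1

end transfer

end Cfsg.Agent.Helper11.SympInv
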