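import Mathlib
import Cfsg.Agent.Lib.Helper11.SympCent1
import Cfsg.Agent.Lib.Helper11.Herm3Frames

/-!
The centraliser of an isometry `x` with `x² + x + 1 = 0` and without fixed vectors in the isometry group of
an alternating space over a field with `q ≡ 2 (mod 3)` elements acts regularly on the full frames.
-/

set_option autoImplicit false

namespace Cfsg.Agent.Helper11.H3

open Cfsg.Agent.Helper28.IsoGrp Cfsg.Agent.Helper11.SympInv

variable {F V : Type*} [Field F] [AddCommGroup V] [Module F V]
  {B : LinearMap.BilinForm F V} {x : V →ₗ[F] V} {m : ℕ}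

/-- the linear map carrying the frame `v0` to the frame `v` -/
def transfer (B : LinearMap.BilinForm F V) (x : V →ₗ[F] V) (v0 v : Fin m → V) : V →ₗ[F] V :=
  ∑ i, ((B.flip (x (v0 i))).smulRight (v i) - (B.flip (v0 i)).smulRight (x (v i)))

theorem transfer_apply (v0 v : Fin m → V) (z : V) :
    transfer B x v0 v z = comb x v (coordA B x v0 z) (coordB B v0 z) := by
  unfold transfer comb coordA coordB
  rw [LinearMap.sum_apply]
  apply Finset.sum_congr rfl
  intro i _
  rw [LinearMap.sub_apply, LinearMap.smulRight_apply, LinearMap.smulRight_apply]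
  show (B z) (x (v0 i)) • v i - (B z) (v0 i) • x (v i) = _
  rw [neg_smul, sub_eq_add_neg]

theorem comb_single [DecidableEq (Fin m)] (v : Fin m → V) (j : Fin m) :
    comb x v (Pi.single j 1) 0 = v j := by
  unfold comb
  rw [Finset.sum_eq_single j]
  · simp
  · intro i _ hij
    simp [Pi.single_eq_of_ne hij]
  · intro hj
    exact absurd (Finset.mem_univ j) hj

section

variable [Fintype F] [Finite V] (h : Setup B x) (hcard : Nat.card V = Fintype.card F ^ (2 * m))
  {v0 v : Fin m → V} (hv0 : IsXFrame B x ⊤ m v0) (hv : IsXFrame B x ⊤ m v)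
include h hcard hv0 hv

theorem transfer_transfer (z : V) : transfer B x v v0 (transfer B x v0 v z) = z := by
  rw [transfer_apply, transfer_apply, coordA_comb h hv, coordB_comb h hv, comb_coord h hv0 hcard]

theorem transfer_iso (z w : V) : B (transfer B x v0 v z) (transfer B x v0 v w) = B z w := by
  rw [transfer_apply, transfer_apply, B_comb_comb h hv]
  conv_rhs => rw [← comb_coord h hv0 hcard z, ← comb_coord h hv0 hcard w]
  rw [B_comb_comb h hv0]

omit hcard hv0 hv in
theorem transfer_x (v0 v : Fin m → V) (z : V) :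
    transfer B x v0 v (x z) = x (transfer B x v0 v z) := by
  rw [transfer_apply, transfer_apply, x_comb h, coordA_x h, coordB_x h]

omit hcard hv in
theorem transfer_frame (v : Fin m → V) (j : Fin m) : transfer B x v0 v (v0 j) = v j := by
  classical
  have e : v0 j = comb x v0 (Pi.single j 1) 0 := (comb_single v0 j).symm
  rw [transfer_apply]
  conv_lhs => rw [e]
  rw [coordA_comb h hv0, coordB_comb h hv0, comb_single]

/-- the isometry carrying `v0` to `v` -/
noncomputable def transferEquiv : V ≃ₗ[F] V :=
  LinearEquiv.ofLinearMap (transfer B x v0 v) (transfer B x v v0)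
    (LinearMap.ext fun z => transfer_transfer h hcard hv hv0 z)
    (LinearMap.ext fun z => transfer_transfer h hcard hv0 hv z)

theorem transferEquiv_apply (z : V) :
    transferEquiv h hcard hv0 hv z = transfer B x v0 v z := rfl

end

theorem card_cent_x [Fintype F] [DecidableEq F] [Finite V] (h : Setup B x) (hB : NonDeg B ⊤)
    (hq : Fintype.card F % 3 = 2) (hcard : Nat.card V = Fintype.card F ^ (2 * m))
    (N : V →ₗ[F] V) (hN : ∀ z, N z = x z - z) :
    Nat.card (cent B N) = ∏ i ∈ Finset.range m, (cnt (Fintype.card F) (m - i)).2 := by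
  have hI : Inv x (⊤ : Submodule F V) := fun w _ => Submodule.mem_top
  have hc : Nat.card (⊤ : Submodule F V) = Fintype.card F ^ (2 * m) := by
    rw [← hcard]
    exact Nat.card_congr (Submodule.topEquiv (R := F) (M := V)).toEquiv
  have hFr := card_xframes h hq m m ⊤ hI hB hc le_rfl
  rw [← hFr]
  have hpos : 0 < ∏ i ∈ Finset.range m, (cnt (Fintype.card F) (m - i)).2 := by
    apply Finset.prod_pos
    intro i hi
    rw [Finset.mem_range] at hi
    obtain ⟨j, hj⟩ : ∃ j, m - i = j + 1 := ⟨m - i - 1, by omega⟩
    rw [hj]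
    exact (cnt_pos _ j).2
  rw [← hFr] at hpos
  have hne : Nonempty {v : Fin m → V // IsXFrame B x ⊤ m v} := by
    by_contra hcon
    rw [not_nonempty_iff] at hcon
    rw [Nat.card_of_isEmpty] at hpos
    exact lt_irrefl _ hpos
  obtain ⟨⟨v0, hv0⟩⟩ := hne
  have hcomm : ∀ (g : isoGrp B), g ∈ cent B N ↔ ∀ z, (g : V ≃ₗ[F] V) (x z) = x ((g : V ≃ₗ[F] V) z) := by
    intro g
    rw [mem_cent]
    constructor
    · intro hg z
      have := hg z
      rw [hN, hN, map_sub] at this
      exact sub_left_injective this
    · intro hg z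
      rw [hN, hN, map_sub, hg]
  let f : cent B N → {v : Fin m → V // IsXFrame B x ⊤ m v} := fun g =>
    ⟨fun i => ((g : isoGrp B) : V ≃ₗ[F] V) (v0 i), by
      have hg := (hcomm g.1).1 g.2
      refine ⟨fun i => Submodule.mem_top, fun i j => ?_⟩
      rw [← hg, g.1.2, g.1.2]
      exact hv0.2 i j⟩
  apply Nat.card_eq_of_bijective f
  constructor
  · intro g g' hgg
    have hgg' : ∀ i, ((g : isoGrp B) : V ≃ₗ[F] V) (v0 i) = ((g' : isoGrp B) : V ≃ₗ[F] V) (v0 i) :=
      fun i => congrFun (congrArg Subtype.val hgg) i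
    have hg := (hcomm g.1).1 g.2
    have hg' := (hcomm g'.1).1 g'.2
    apply Subtype.ext
    apply Subtype.ext
    apply LinearEquiv.ext
    intro z
    rw [← comb_coord h hv0 hcard z]
    unfold comb
    rw [map_sum, map_sum]
    apply Finset.sum_congr rfl
    intro i _
    rw [map_add, map_add, map_smul, map_smul, map_smul, map_smul, hg, hg', hgg' i]
  · rintro ⟨v, hv⟩
    have hmem : transferEquiv h hcard hv0 hv ∈ isoGrp B := by
      intro z w
      exact transfer_iso h hcard hv0 hv z w
    have hmem2 : (⟨transferEquiv h hcard hv0 hv, hmem⟩ : isoGrp B) ∈ cent B N := by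
      rw [hcomm]
      intro z
      exact transfer_x h v0 v z
    refine ⟨⟨⟨transferEquiv h hcard hv0 hv, hmem⟩, hmem2⟩, ?_⟩
    apply Subtype.ext
    funext j
    exact transfer_frame h hv0 v j

end Cfsg.Agent.Helper11.H3
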