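import Mathlib
import Cfsg.Agent.Lib.Helper11.Unitary2

set_option autoImplicit false

/-! The centre of `SU_n(q)`. -/

namespace Cfsg.Agent.Helper11.Herm

open Matrix

section mats

variable {F : Type*} [Field F] {ι : Type*} [Fintype ι] [DecidableEq ι]

/-- diagonal matrix with `l` at `i`, `l⁻¹` at `j` -/
def Tmat (i j : ι) (l : F) : Matrix ι ι F :=
  Matrix.diagonal (Function.update (Function.update (fun _ => (1 : F)) i l) j l⁻¹)

/-- rotation in the `(i,j)` plane -/
def Jmat (F : Type*) [Field F] (i j : ι) : Matrix ι ι F :=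
  Matrix.swap F i j * Matrix.diagonal (Function.update (fun _ => (1 : F)) i (-1))

theorem det_Tmat (i j : ι) (hij : i ≠ j) (l : F) (hl : l ≠ 0) : (Tmat i j l).det = 1 := by
  unfold Tmat
  rw [Matrix.det_diagonal, Finset.prod_update_of_mem (Finset.mem_univ _),
    Finset.prod_update_of_mem (by simp [hij])]
  simp [inv_mul_cancel₀ hl]

theorem isU_Tmat (φ : F →+* F) (i j : ι) (l : F) (hl : l * φ l = 1) : IsU φ (Tmat i j l) := by
  unfold Tmat
  apply isU_diagonal
  intro k
  by_cases hkj : k = j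
  · subst hkj
    rw [Function.update_self, map_inv₀, ← mul_inv, hl, inv_one]
  · rw [Function.update_of_ne hkj]
    by_cases hki : k = i
    · subst hki
      rw [Function.update_self, hl]
    · rw [Function.update_of_ne hki, map_one, mul_one]

theorem det_Jmat (i j : ι) (hij : i ≠ j) : (Jmat F i j).det = 1 := by
  unfold Jmat
  rw [Matrix.det_mul, Matrix.det_diagonal, Finset.prod_update_of_mem (Finset.mem_univ _),
    Matrix.swap, Matrix.det_permutation, Equiv.Perm.sign_swap hij]
  simp

theorem isU_swap (φ : F →+* F) (i j : ι) : IsU φ (Matrix.swap F i j) := by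
  unfold IsU
  rw [Matrix.transpose_swap, Matrix.map_swap, Matrix.swap_mul_self]

theorem isU_Jmat (φ : F →+* F) (i j : ι) : IsU φ (Jmat F i j) := by
  unfold Jmat
  apply IsU.mul φ (isU_swap φ i j)
  apply isU_diagonal
  intro k
  by_cases hki : k = i
  · subst hki
    rw [Function.update_self, map_neg, map_one]
    ring
  · rw [Function.update_of_ne hki, map_one, mul_one]

theorem offdiag_zero_of_commute (z : Matrix ι ι F) (i j : ι) (hij : i ≠ j) (l : F)
    (hl : l ≠ l⁻¹) (h : z * Tmat i j l = Tmat i j l * z) : z i j = 0 := by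
  have h1 := congrFun (congrFun h i) j
  unfold Tmat at h1
  rw [Matrix.mul_diagonal, Matrix.diagonal_mul, Function.update_self,
    Function.update_of_ne hij, Function.update_self] at h1
  have h2 : z i j * (l⁻¹ - l) = 0 := by linear_combination h1
  rcases mul_eq_zero.1 h2 with h3 | h3
  · exact h3
  · exact absurd (sub_eq_zero.1 h3).symm hl

theorem diag_eq_of_commute (z : Matrix ι ι F) (i j : ι)
    (h : z * Jmat F i j = Jmat F i j * z) : z i i = z j j := by
  have h1 := congrFun (congrFun h j) i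
  unfold Jmat at h1
  rw [← Matrix.mul_assoc, Matrix.mul_diagonal, Matrix.mul_swap_apply_left, Function.update_self,
    Matrix.mul_assoc, Matrix.swap_mul_apply_right, Matrix.diagonal_mul, Function.update_self] at h1
  linear_combination h1

/-- a matrix commuting with all `Tmat` and `Jmat` is scalar -/
theorem scalar_of_commute (z : Matrix ι ι F) (l : F) (hl : l ≠ l⁻¹)
    (hT : ∀ i j : ι, i ≠ j → z * Tmat i j l = Tmat i j l * z)
    (hJ : ∀ i j : ι, i ≠ j → z * Jmat F i j = Jmat F i j * z) (i0 : ι) :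
    z = (z i0 i0) • (1 : Matrix ι ι F) := by
  ext a b
  rw [Matrix.smul_apply, Matrix.one_apply, smul_eq_mul]
  by_cases hab : a = b
  · subst hab
    rw [if_pos rfl, mul_one]
    by_cases ha : a = i0
    · rw [ha]
    · exact diag_eq_of_commute z a i0 (hJ a i0 ha)
  · rw [if_neg hab, mul_zero]
    exact offdiag_zero_of_commute z a b hab l hl (hT a b hab)

end mats

section centre

variable {F : Type*} [Field F] [Fintype F] {q : ℕ}

/-- an element of the norm-one group with `l ≠ l⁻¹` -/
theorem exists_norm_one_ne_inv (hF : Fintype.card F = q ^ 2) :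
    ∃ l : F, l ≠ 0 ∧ l * l ^ q = 1 ∧ l ≠ l⁻¹ := by
  have hq := two_le_q hF
  obtain ⟨ζ, hζ⟩ := IsCyclic.exists_generator (α := Fˣ)
  have hζo : orderOf ζ = (q + 1) * (q - 1) := by
    rw [orderOf_eq_card_of_forall_mem_zpowers hζ, card_units_eq hF, sq_sub_one q (by omega)]
  set x : Fˣ := ζ ^ (q - 1) with hx
  have hxo : orderOf x = q + 1 := by
    rw [hx, orderOf_pow, hζo, Nat.gcd_eq_right (Dvd.intro_left _ rfl),
      Nat.mul_div_cancel _ (by omega)]
  refine ⟨(x : F), x.ne_zero, ?_, ?_⟩
  · have : x ^ (q + 1) = 1 := by rw [← hxo]; exact pow_orderOf_eq_one x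
    have := congrArg Units.val this
    rw [Units.val_pow_eq_pow_val, Units.val_one, pow_succ, mul_comm] at this
    exact this
  · intro h
    have h2 : x ^ 2 = 1 := by
      apply Units.ext
      rw [Units.val_pow_eq_pow_val, Units.val_one, pow_two]
      nth_rewrite 2 [h]
      exact mul_inv_cancel₀ x.ne_zero
    have := orderOf_dvd_of_pow_eq_one h2
    rw [hxo] at this
    have := Nat.le_of_dvd (by norm_num) this
    omega

/-- build an element of `SU` from a unitary matrix of determinant one -/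
noncomputable def mkSU (hF : Fintype.card F = q ^ 2) (n : ℕ) (M : Matrix (Fin n) (Fin n) F)
    (hdet : M.det = 1) (hU : ∀ φ : F →+* F, (∀ x, φ x = x ^ q) → IsU φ M) : Cfsg.SU n F q :=
  ⟨mkSL M hdet, by
    obtain ⟨φ, hφ⟩ := exists_frob hF
    rw [mem_SU_iff_isU φ hφ]
    exact hU φ hφ⟩

theorem coe_mkSU (hF : Fintype.card F = q ^ 2) (n : ℕ) (M : Matrix (Fin n) (Fin n) F)
    (hdet : M.det = 1) (hU : ∀ φ : F →+* F, (∀ x, φ x = x ^ q) → IsU φ M) :
    (((mkSU hF n M hdet hU : Cfsg.SU n F q) : Matrix.SpecialLinearGroup (Fin n) F) :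
      Matrix (Fin n) (Fin n) F) = M := rfl

theorem SU_mul_coe (n : ℕ) (a b : Cfsg.SU n F q) :
    (((a * b : Cfsg.SU n F q) : Matrix.SpecialLinearGroup (Fin n) F) :
      Matrix (Fin n) (Fin n) F) =
    ((a : Matrix.SpecialLinearGroup (Fin n) F) : Matrix (Fin n) (Fin n) F) *
      ((b : Matrix.SpecialLinearGroup (Fin n) F) : Matrix (Fin n) (Fin n) F) := rfl

theorem SU_ext (n : ℕ) (a b : Cfsg.SU n F q)
    (h : ((a : Matrix.SpecialLinearGroup (Fin n) F) : Matrix (Fin n) (Fin n) F) =
      ((b : Matrix.SpecialLinearGroup (Fin n) F) : Matrix (Fin n) (Fin n) F)) : a = b := by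
  apply Subtype.ext
  apply Subtype.ext
  exact h

/-- central elements of `SU_n` are scalar -/
theorem center_SU_scalar (hF : Fintype.card F = q ^ 2) (n : ℕ) (i0 : Fin n)
    (z : Cfsg.SU n F q) (hz : z ∈ Subgroup.center (Cfsg.SU n F q)) :
    ((z : Matrix.SpecialLinearGroup (Fin n) F) : Matrix (Fin n) (Fin n) F) =
      (((z : Matrix.SpecialLinearGroup (Fin n) F) : Matrix (Fin n) (Fin n) F) i0 i0) •
        (1 : Matrix (Fin n) (Fin n) F) := by
  obtain ⟨l, hl0, hl1, hl2⟩ := exists_norm_one_ne_inv hF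
  rw [Subgroup.mem_center_iff] at hz
  apply scalar_of_commute _ l hl2
  · intro i j hij
    have := hz (mkSU hF n (Tmat i j l) (det_Tmat i j hij l hl0)
      (fun φ hφ => isU_Tmat φ i j l (by rw [hφ]; exact hl1)))
    have := congrArg (fun x : Cfsg.SU n F q =>
      ((x : Matrix.SpecialLinearGroup (Fin n) F) : Matrix (Fin n) (Fin n) F)) this
    simp only [SU_mul_coe, coe_mkSU] at this
    exact this.symm
  · intro i j hij
    have := hz (mkSU hF n (Jmat F i j) (det_Jmat i j hij) (fun φ _ => isU_Jmat φ i j))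
    have := congrArg (fun x : Cfsg.SU n F q =>
      ((x : Matrix.SpecialLinearGroup (Fin n) F) : Matrix (Fin n) (Fin n) F)) this
    simp only [SU_mul_coe, coe_mkSU] at this
    exact this.symm

theorem card_center_SU (hF : Fintype.card F = q ^ 2) (n : ℕ) (hn : 1 ≤ n) :
    Nat.card (Subgroup.center (Cfsg.SU n F q)) = Nat.gcd n (q + 1) := by
  classical
  have hq := two_le_q hF
  obtain ⟨φ, hφ⟩ := exists_frob hF
  let i0 : Fin n := ⟨0, hn⟩
  set d := Nat.gcd n (q + 1) with hd
  have hdn : d ∣ n := Nat.gcd_dvd_left _ _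
  have hdq : d ∣ q + 1 := Nat.gcd_dvd_right _ _
  have hker : Nat.card (powMonoidHom d : Fˣ →* Fˣ).ker = d := by
    rw [IsCyclic.card_powMonoidHom_ker, card_units_eq hF, sq_sub_one q (by omega)]
    exact Nat.gcd_eq_right (hdq.trans (Dvd.intro _ rfl))
  rw [← hker]
  -- facts about scalar matrices
  have hdet_smul : ∀ c : F, (c • (1 : Matrix (Fin n) (Fin n) F)).det = c ^ n := by
    intro c
    rw [Matrix.det_smul, Matrix.det_one, mul_one, Fintype.card_fin]
  have hU_smul : ∀ c : F, IsU φ (c • (1 : Matrix (Fin n) (Fin n) F)) ↔ c * φ c = 1 := by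
    intro c
    rw [Matrix.smul_one_eq_diagonal]
    constructor
    · intro h
      unfold IsU at h
      rw [Matrix.diagonal_transpose, Matrix.diagonal_map (map_zero φ),
        Matrix.diagonal_mul_diagonal] at h
      have := congrFun (congrFun h i0) i0
      rw [Matrix.diagonal_apply_eq, Matrix.one_apply_eq] at this
      exact this
    · intro h
      exact isU_diagonal φ _ (fun _ => h)
  -- the scalar of a central element
  have hsc : ∀ z : Subgroup.center (Cfsg.SU n F q),
      (((z : Cfsg.SU n F q) : Matrix.SpecialLinearGroup (Fin n) F) : Matrix (Fin n) (Fin n) F) =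
      ((((z : Cfsg.SU n F q) : Matrix.SpecialLinearGroup (Fin n) F) :
        Matrix (Fin n) (Fin n) F) i0 i0) • (1 : Matrix (Fin n) (Fin n) F) :=
    fun z => center_SU_scalar hF n i0 z.1 z.2
  have hc_n : ∀ z : Subgroup.center (Cfsg.SU n F q),
      ((((z : Cfsg.SU n F q) : Matrix.SpecialLinearGroup (Fin n) F) :
        Matrix (Fin n) (Fin n) F) i0 i0) ^ n = 1 := by
    intro z
    rw [← hdet_smul, ← hsc z]
    exact z.1.1.2
  have hc_q : ∀ z : Subgroup.center (Cfsg.SU n F q),
      ((((z : Cfsg.SU n F q) : Matrix.SpecialLinearGroup (Fin n) F) :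
        Matrix (Fin n) (Fin n) F) i0 i0) ^ (q + 1) = 1 := by
    intro z
    have h1 : IsU φ (((z : Cfsg.SU n F q) : Matrix.SpecialLinearGroup (Fin n) F) :
        Matrix (Fin n) (Fin n) F) := (mem_SU_iff_isU φ hφ n z.1.1).1 z.1.2
    rw [hsc z, hU_smul, hφ] at h1
    rw [pow_succ, mul_comm]
    exact h1
  have hc0 : ∀ z : Subgroup.center (Cfsg.SU n F q),
      ((((z : Cfsg.SU n F q) : Matrix.SpecialLinearGroup (Fin n) F) :
        Matrix (Fin n) (Fin n) F) i0 i0) ≠ 0 := by
    intro z h
    have := hc_q z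
    rw [h, zero_pow (by omega)] at this
    exact zero_ne_one this
  let f : Subgroup.center (Cfsg.SU n F q) → (powMonoidHom d : Fˣ →* Fˣ).ker := fun z =>
    ⟨Units.mk0 _ (hc0 z), by
      rw [MonoidHom.mem_ker, powMonoidHom_apply]
      have h1 : (Units.mk0 _ (hc0 z)) ^ n = 1 := by
        apply Units.ext
        rw [Units.val_pow_eq_pow_val, Units.val_mk0, Units.val_one]
        exact hc_n z
      have h2 : (Units.mk0 _ (hc0 z)) ^ (q + 1) = 1 := by
        apply Units.ext
        rw [Units.val_pow_eq_pow_val, Units.val_mk0, Units.val_one]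
        exact hc_q z
      exact pow_gcd_eq_one.2 ⟨h1, h2⟩⟩
  apply Nat.card_congr
  refine Equiv.ofBijective f ⟨?_, ?_⟩
  · intro z z' h
    have h1 : ((((z : Cfsg.SU n F q) : Matrix.SpecialLinearGroup (Fin n) F) :
        Matrix (Fin n) (Fin n) F) i0 i0) = ((((z' : Cfsg.SU n F q) :
        Matrix.SpecialLinearGroup (Fin n) F) : Matrix (Fin n) (Fin n) F) i0 i0) := by
      have := congrArg (fun k : (powMonoidHom d : Fˣ →* Fˣ).ker => ((k : Fˣ) : F)) h
      exact this
    apply Subtype.ext
    apply SU_ext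
    rw [hsc z, hsc z', h1]
  · intro u
    have hu : (u : Fˣ) ^ d = 1 := by
      have := u.2
      rw [MonoidHom.mem_ker, powMonoidHom_apply] at this
      exact this
    have hun : ((u : Fˣ) : F) ^ n = 1 := by
      obtain ⟨k, hk⟩ := hdn
      rw [hk, pow_mul, ← Units.val_pow_eq_pow_val, hu, Units.val_one, one_pow]
    have huq : ((u : Fˣ) : F) ^ (q + 1) = 1 := by
      obtain ⟨k, hk⟩ := hdq
      rw [hk, pow_mul, ← Units.val_pow_eq_pow_val, hu, Units.val_one, one_pow]
    let z0 : Cfsg.SU n F q := mkSU hF n (((u : Fˣ) : F) • (1 : Matrix (Fin n) (Fin n) F))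
      (by rw [hdet_smul, hun])
      (fun ψ hψ => by
        rw [Matrix.smul_one_eq_diagonal]
        apply isU_diagonal
        intro _
        rw [hψ, ← pow_succ']
        exact huq)
    have hz0 : z0 ∈ Subgroup.center (Cfsg.SU n F q) := by
      rw [Subgroup.mem_center_iff]
      intro g
      apply SU_ext
      rw [SU_mul_coe, SU_mul_coe, coe_mkSU, Matrix.mul_smul, Matrix.smul_mul, Matrix.mul_one,
        Matrix.one_mul]
    refine ⟨⟨z0, hz0⟩, ?_⟩
    apply Subtype.ext
    apply Units.ext
    change ((((z0 : Cfsg.SU n F q) : Matrix.SpecialLinearGroup (Fin n) F) :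
        Matrix (Fin n) (Fin n) F) i0 i0) = ((u : Fˣ) : F)
    rw [coe_mkSU, Matrix.smul_apply, Matrix.one_apply_eq, smul_eq_mul, mul_one]

end centre

end Cfsg.Agent.Helper11.Herm
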