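import Mathlib
import Cfsg.Agent.Lib.Helper11.Unitary
import Cfsg.Agent.Lib.Helper11.WittHerm
import Cfsg.Prelude.Def_ClassicalGeometry

set_option autoImplicit false

/-! Unitary geometry on coordinate spaces: Witt's lemma for unitary matrices, orthonormal bases of
non-degenerate subspaces. -/

namespace Cfsg.Agent.Helper11.Herm

open Matrix

section general

variable {F : Type*} [Field F] {ι : Type*} [Fintype ι] [DecidableEq ι] (φ : F →+* F)

/-- the Hermitian form as a Mathlib sesquilinear map (semilinear in the first variable) -/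
def sesq : (ι → F) →ₛₗ[φ] (ι → F) →ₗ[F] F :=
  LinearMap.mk₂'ₛₗ φ (RingHom.id F) (fun u v => hdot φ v u)
    (fun m₁ m₂ n => hdot_add_right φ n m₁ m₂)
    (fun c m n => by rw [hdot_smul_right]; rfl)
    (fun m n₁ n₂ => hdot_add_left φ n₁ n₂ m)
    (fun c m n => by rw [hdot_smul_left]; rfl)

theorem sesq_apply (u v : ι → F) : sesq φ u v = hdot φ v u := rfl

theorem sesq_isSymm (hφφ : ∀ x, φ (φ x) = x) : (sesq (ι := ι) φ).IsSymm :=
  ⟨fun x y => by rw [sesq_apply, sesq_apply, hdot_conj φ hφφ]⟩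

theorem sesq_nondegenerate (hφφ : ∀ x, φ (φ x) = x) : (sesq (ι := ι) φ).Nondegenerate := by
  constructor
  · intro x hx
    apply eq_zero_of_hdot_right φ x
    intro y
    have := hx y
    rw [sesq_apply] at this
    exact hdot_eq_zero_symm φ hφφ _ _ this
  · intro y hy
    apply eq_zero_of_hdot_right φ y
    intro x
    exact hy x

/-- Witt's lemma for families, in matrix form. -/
theorem witt_family_UG [Finite F] (hφ : φ ≠ RingHom.id F) (hφφ : ∀ x, φ (φ x) = x) (k : ℕ)
    (x y : Fin k → ι → F) (hx : LinearIndependent F x) (hy : LinearIndependent F y)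
    (hxy : ∀ i j, hdot φ (x i) (x j) = hdot φ (y i) (y j)) :
    ∃ M : Matrix ι ι F, IsU φ M ∧ ∀ i, M *ᵥ x i = y i := by
  obtain ⟨g, hg, hgx⟩ := Witt.witt_family (sesq (ι := ι) φ) hφ hφφ (sesq_isSymm φ hφφ)
    (sesq_nondegenerate φ hφφ) k x y hx hy (fun i j => hxy j i)
  refine ⟨LinearMap.toMatrix' (g : (ι → F) →ₗ[F] (ι → F)), ?_, ?_⟩
  · apply isU_of_preserves
    intro u v
    rw [LinearMap.toMatrix'_mulVec, LinearMap.toMatrix'_mulVec]
    exact hg v u
  · intro i
    rw [LinearMap.toMatrix'_mulVec]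
    exact hgx i

/-- Extension of an orthonormal family inside a non-degenerate subspace. -/
theorem exists_orthonormal_extend_sub (hφφ : ∀ x, φ (φ x) = x)
    (hN1 : ∀ c : F, c ≠ 0 → φ c = c → ∃ l : F, l ≠ 0 ∧ l * φ l = c)
    (hN2 : ∃ μ : F, μ + φ μ ≠ 0)
    (W : Submodule F (ι → F))
    (hW : ∀ u ∈ W, (∀ v ∈ W, hdot φ u v = 0) → u = 0)
    {κ : Type*} [DecidableEq κ] (S : Finset κ) (c : κ → ι → F) (hcW : ∀ i ∈ S, c i ∈ W)
    (hc : ∀ i ∈ S, ∀ j ∈ S, hdot φ (c i) (c j) = if i = j then 1 else 0)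
    (hS : S.card < Module.finrank F W) :
    ∃ w ∈ W, hdot φ w w = 1 ∧ ∀ i ∈ S, hdot φ w (c i) = 0 := by
  classical
  let P : (ι → F) → (ι → F) := fun x => x - ∑ i ∈ S, hdot φ x (c i) • c i
  have hPW : ∀ x ∈ W, P x ∈ W := by
    intro x hx
    apply Submodule.sub_mem _ hx
    apply Submodule.sum_mem
    intro i hi
    exact Submodule.smul_mem _ _ (hcW i hi)
  have hP : ∀ x, ∀ j ∈ S, hdot φ (P x) (c j) = 0 := by
    intro x j hj
    simp only [P]
    rw [hdot_sub_left, hdot_sum_left, Finset.sum_eq_single j]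
    · rw [hdot_smul_left, hc j hj j hj, if_pos rfl, mul_one, sub_self]
    · intro i hi hij
      rw [hdot_smul_left, hc i hi j hj, if_neg hij, mul_zero]
    · intro h; exact absurd hj h
  have h1 : ∃ x ∈ W, P x ≠ 0 := by
    by_contra hcon
    push Not at hcon
    have hle : W ≤ Submodule.span F ((S.image c : Finset (ι → F)) : Set (ι → F)) := by
      intro x hxW
      have hx : x = ∑ i ∈ S, hdot φ x (c i) • c i := by
        have := hcon x hxW
        simp only [P] at this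
        exact sub_eq_zero.1 this
      rw [hx]
      apply Submodule.sum_mem
      intro i hi
      apply Submodule.smul_mem
      apply Submodule.subset_span
      exact Finset.mem_coe.2 (Finset.mem_image_of_mem c hi)
    have h2 : Module.finrank F (Submodule.span F ((S.image c : Finset (ι → F)) : Set (ι → F))) ≤
        (S.image c).card := finrank_span_finset_le_card (S.image c)
    have h3 := Finset.card_image_le (s := S) (f := c)
    have h4 := Submodule.finrank_mono hle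
    omega
  obtain ⟨x, hxW, hx⟩ := h1
  obtain ⟨w0, hw0⟩ : ∃ w0, w0 = P x := ⟨_, rfl⟩
  have hw0W : w0 ∈ W := by rw [hw0]; exact hPW x hxW
  have hw0c : ∀ j ∈ S, hdot φ w0 (c j) = 0 := by rw [hw0]; exact hP x
  rw [← hw0] at hx
  obtain ⟨y0, hy0W, hy0⟩ : ∃ y0 ∈ W, hdot φ w0 y0 ≠ 0 := by
    by_contra hcon
    push Not at hcon
    exact hx (hW w0 hw0W hcon)
  obtain ⟨y, hy⟩ : ∃ y, y = P y0 := ⟨_, rfl⟩
  have hyW : y ∈ W := by rw [hy]; exact hPW y0 hy0W
  have hyc : ∀ j ∈ S, hdot φ y (c j) = 0 := by rw [hy]; exact hP y0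
  have hw0y : hdot φ w0 y = hdot φ w0 y0 := by
    rw [hy]
    simp only [P]
    rw [hdot_sub_right, hdot_sum_right, Finset.sum_eq_zero, sub_zero]
    intro k hk
    rw [hdot_smul_right, hw0c k hk, mul_zero]
  obtain ⟨u, huW, hu0, hu⟩ : ∃ u ∈ W, hdot φ u u ≠ 0 ∧ ∀ j ∈ S, hdot φ u (c j) = 0 := by
    by_cases h1 : hdot φ w0 w0 ≠ 0
    · exact ⟨w0, hw0W, h1, hw0c⟩
    by_cases h2 : hdot φ y y ≠ 0
    · exact ⟨y, hyW, h2, hyc⟩
    push Not at h1 h2
    obtain ⟨μ, hμ⟩ := hN2
    have ht0 : hdot φ w0 y ≠ 0 := by rw [hw0y]; exact hy0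
    obtain ⟨t, ht⟩ : ∃ t, t = hdot φ w0 y := ⟨_, rfl⟩
    rw [← ht] at ht0
    refine ⟨w0 + φ (μ / t) • y, Submodule.add_mem _ hw0W (Submodule.smul_mem _ _ hyW), ?_, ?_⟩
    · rw [hdot_add_left, hdot_add_right, hdot_add_right, hdot_smul_left, hdot_smul_left,
        hdot_smul_right, hdot_smul_right, h1, h2, ← hdot_conj φ hφφ w0 y, ← ht, hφφ]
      have : (0 : F) + μ / t * t + (φ (μ / t) * φ t + φ (μ / t) * (μ / t * 0)) = μ + φ μ := by
        rw [← map_mul, div_mul_cancel₀ _ ht0]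
        ring
      rw [this]
      exact hμ
    · intro j hj
      rw [hdot_add_left, hdot_smul_left, hw0c j hj, hyc j hj, mul_zero, add_zero]
  have hfix : φ (hdot φ u u) = hdot φ u u := hdot_conj φ hφφ u u
  obtain ⟨l, hl0, hl⟩ := hN1 _ hu0 hfix
  refine ⟨l⁻¹ • u, Submodule.smul_mem _ _ huW, ?_, ?_⟩
  · rw [hdot_smul_left, hdot_smul_right, ← hl, map_inv₀]
    have hφl : φ l ≠ 0 := by
      intro h
      apply hl0
      rw [← hφφ l, h, map_zero]
    field_simp
  · intro j hj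
    rw [hdot_smul_left, hu j hj, mul_zero]

/-- A non-degenerate subspace has an orthonormal basis. -/
theorem exists_orthonormal_sub (hφφ : ∀ x, φ (φ x) = x)
    (hN1 : ∀ c : F, c ≠ 0 → φ c = c → ∃ l : F, l ≠ 0 ∧ l * φ l = c)
    (hN2 : ∃ μ : F, μ + φ μ ≠ 0)
    (W : Submodule F (ι → F))
    (hW : ∀ u ∈ W, (∀ v ∈ W, hdot φ u v = 0) → u = 0) (k : ℕ) (hk : Module.finrank F W = k) :
    ∃ c : Fin k → ι → F, (∀ i, c i ∈ W) ∧
      ∀ i j, hdot φ (c i) (c j) = if i = j then 1 else 0 := by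
  classical
  have key : ∀ T : Finset (Fin k), ∃ c : Fin k → ι → F, (∀ i ∈ T, c i ∈ W) ∧
      ∀ i ∈ T, ∀ j ∈ T, hdot φ (c i) (c j) = if i = j then 1 else 0 := by
    intro T
    induction T using Finset.induction_on with
    | empty => exact ⟨fun _ => 0, fun i hi => absurd hi (Finset.notMem_empty i),
        fun i hi => absurd hi (Finset.notMem_empty i)⟩
    | insert a T ha ih =>
      obtain ⟨c, hcW, hc⟩ := ih
      have hcard : T.card < Module.finrank F W := by
        rw [hk]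
        have h1 : (insert a T).card ≤ (Finset.univ : Finset (Fin k)).card :=
          Finset.card_le_card (Finset.subset_univ _)
        rw [Finset.card_insert_of_notMem ha, Finset.card_univ, Fintype.card_fin] at h1
        omega
      obtain ⟨w, hwW, hww, hw⟩ :=
        exists_orthonormal_extend_sub φ hφφ hN1 hN2 W hW T c hcW hc hcard
      refine ⟨Function.update c a w, ?_, ?_⟩
      · intro i hi
        rcases Finset.mem_insert.1 hi with rfl | hi'
        · rw [Function.update_self]; exact hwW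
        · have hia : i ≠ a := fun h => ha (h ▸ hi')
          rw [Function.update_of_ne hia]
          exact hcW i hi'
      · intro i hi j hj
        rcases Finset.mem_insert.1 hi with rfl | hi'
        · rcases Finset.mem_insert.1 hj with rfl | hj'
          · rw [Function.update_self, if_pos rfl, hww]
          · have hji : j ≠ i := fun h => ha (h ▸ hj')
            rw [Function.update_self, Function.update_of_ne hji, if_neg (Ne.symm hji)]
            exact hw j hj'
        · rcases Finset.mem_insert.1 hj with rfl | hj'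
          · have hij : i ≠ j := fun h => ha (h ▸ hi')
            rw [Function.update_self, Function.update_of_ne hij, if_neg hij]
            exact hdot_eq_zero_symm φ hφφ _ _ (hw i hi')
          · have hia : i ≠ a := fun h => ha (h ▸ hi')
            have hja : j ≠ a := fun h => ha (h ▸ hj')
            rw [Function.update_of_ne hia, Function.update_of_ne hja]
            exact hc i hi' j hj'
  obtain ⟨c, hcW, hc⟩ := key Finset.univ
  exact ⟨c, fun i => hcW i (Finset.mem_univ _),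
    fun i j => hc i (Finset.mem_univ _) j (Finset.mem_univ _)⟩

/-- an orthonormal family is linearly independent -/
theorem linearIndependent_of_orthonormal {κ : Type*} [DecidableEq κ] (c : κ → ι → F)
    (hc : ∀ i j, hdot φ (c i) (c j) = if i = j then 1 else 0) : LinearIndependent F c := by
  classical
  rw [linearIndependent_iff']
  intro s g hg i hi
  have := congrArg (fun v => hdot φ v (c i)) hg
  simp only [hdot_zero_left, hdot_sum_left, hdot_smul_left] at this
  rw [Finset.sum_eq_single i] at this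
  · rwa [hc, if_pos rfl, mul_one] at this
  · intro j _ hji
    rw [hc, if_neg hji, mul_zero]
  · intro h; exact absurd hi h

end general

section blocks

variable {F : Type*} [Field F] (φ : F →+* F)
variable {κ₁ κ₂ : Type} [Fintype κ₁] [DecidableEq κ₁] [Fintype κ₂] [DecidableEq κ₂]

/-- the coordinate subspace of vectors supported on the first block -/
def W0 (F : Type*) [Field F] (κ₁ κ₂ : Type) : Set (κ₁ ⊕ κ₂ → F) := {v | ∀ b, v (Sum.inr b) = 0}

theorem isU_fromBlocks₂ (A : Matrix κ₁ κ₁ F) (D : Matrix κ₂ κ₂ F) (hA : IsU φ A) (hD : IsU φ D) :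
    IsU φ (Matrix.fromBlocks A 0 0 D) := by
  unfold IsU at hA hD ⊢
  rw [Matrix.fromBlocks_transpose, Matrix.fromBlocks_map, Matrix.fromBlocks_multiply]
  simp only [Matrix.transpose_zero, Matrix.map_zero _ (map_zero φ), Matrix.zero_mul,
    Matrix.mul_zero, add_zero, zero_add, hA, hD]
  exact Matrix.fromBlocks_one

theorem fromBlocks_mulVec_mem_W0 (A : Matrix κ₁ κ₁ F) (D : Matrix κ₂ κ₂ F) (hD : IsU φ D)
    (v : κ₁ ⊕ κ₂ → F) : v ∈ W0 F κ₁ κ₂ ↔ Matrix.fromBlocks A 0 0 D *ᵥ v ∈ W0 F κ₁ κ₂ := by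
  have hmv : ∀ b, (Matrix.fromBlocks A 0 0 D *ᵥ v) (Sum.inr b) = (D *ᵥ (v ∘ Sum.inr)) b := by
    intro b
    simp [Matrix.mulVec, dotProduct, Fintype.sum_sum_type, Matrix.fromBlocks]
  constructor
  · intro hv b
    rw [hmv]
    have : v ∘ Sum.inr = 0 := funext hv
    rw [this, Matrix.mulVec_zero]
    rfl
  · intro hv b
    have h1 : D *ᵥ (v ∘ Sum.inr) = 0 := by
      funext b'
      rw [← hmv]
      exact hv b'
    have h2 : v ∘ Sum.inr = 0 := by
      have hdet := hD.det_ne_zero φ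
      have := Matrix.eq_zero_of_mulVec_eq_zero hdet h1
      exact this
    exact congrFun h2 b

/-- a unitary matrix stabilising the coordinate subspace is block diagonal -/
theorem eq_fromBlocks_of_stab (hφinj : Function.Injective φ) (M : Matrix (κ₁ ⊕ κ₂) (κ₁ ⊕ κ₂) F)
    (hM : IsU φ M) (hstab : ∀ v, v ∈ W0 F κ₁ κ₂ → M *ᵥ v ∈ W0 F κ₁ κ₂) :
    M = Matrix.fromBlocks M.toBlocks₁₁ 0 0 M.toBlocks₂₂ ∧ IsU φ M.toBlocks₁₁ ∧
      IsU φ M.toBlocks₂₂ := by
  have h21 : M.toBlocks₂₁ = 0 := by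
    ext i j
    have h1 : (Pi.single (Sum.inl j) 1 : κ₁ ⊕ κ₂ → F) ∈ W0 F κ₁ κ₂ := by
      intro b
      simp
    have := hstab _ h1 i
    rw [Matrix.mulVec_single_one] at this
    simpa [Matrix.toBlocks₂₁] using this
  have hM' := hM
  unfold IsU at hM'
  rw [← Matrix.fromBlocks_toBlocks M, h21, Matrix.fromBlocks_transpose,
    Matrix.fromBlocks_map, Matrix.fromBlocks_multiply, ← Matrix.fromBlocks_one,
    Matrix.fromBlocks_inj] at hM'
  obtain ⟨h1, h2, -, h4⟩ := hM'
  simp only [Matrix.transpose_zero, Matrix.map_zero _ (map_zero φ), Matrix.zero_mul,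
    Matrix.mul_zero, add_zero] at h1 h2
  have hA : IsU φ M.toBlocks₁₁ := h1
  have h12' : M.toBlocks₁₂.map φ = 0 := by
    have hdet : (M.toBlocks₁₁ᵀ).det ≠ 0 := by
      rw [Matrix.det_transpose]
      exact hA.det_ne_zero φ
    have hu : IsUnit (M.toBlocks₁₁ᵀ).det := isUnit_iff_ne_zero.2 hdet
    have := congrArg (fun X => (M.toBlocks₁₁ᵀ)⁻¹ * X) h2
    simp only [Matrix.mul_zero] at this
    rwa [Matrix.nonsing_inv_mul_cancel_left _ _ hu] at this
  have h12 : M.toBlocks₁₂ = 0 := by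
    ext i j
    have := congrFun (congrFun h12' i) j
    simp only [Matrix.map_apply, Matrix.zero_apply] at this
    rw [Matrix.zero_apply]
    exact hφinj (by rw [this, map_zero])
  rw [h12] at h4
  simp only [Matrix.transpose_zero, Matrix.zero_mul, zero_add] at h4
  refine ⟨?_, hA, h4⟩
  conv_lhs => rw [← Matrix.fromBlocks_toBlocks M, h21, h12]

/-- the stabiliser of the coordinate subspace in the unitary group is a direct product -/
noncomputable def stabW0Equiv (hφinj : Function.Injective φ) :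
    ((Cfsg.stabilizing (Cfsg.glToMat (κ₁ ⊕ κ₂) F) (W0 F κ₁ κ₂)).subgroupOf (UG (κ₁ ⊕ κ₂) φ))
      ≃* UG κ₁ φ × UG κ₂ φ where
  toFun x :=
    ((eq_fromBlocks_of_stab φ hφinj _ x.1.2 (fun v hv => (x.2 v).1 hv)).2.1.toUG φ,
     (eq_fromBlocks_of_stab φ hφinj _ x.1.2 (fun v hv => (x.2 v).1 hv)).2.2.toUG φ)
  invFun p := ⟨(isU_fromBlocks₂ φ _ _ p.1.2 p.2.2).toUG φ, by
    rw [Subgroup.mem_subgroupOf]
    intro v
    exact fromBlocks_mulVec_mem_W0 φ _ _ p.2.2 v⟩
  left_inv x := by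
    apply Subtype.ext
    apply Subtype.ext
    apply Units.ext
    exact (eq_fromBlocks_of_stab φ hφinj _ x.1.2 (fun v hv => (x.2 v).1 hv)).1.symm
  right_inv p := by
    apply Prod.ext
    · apply Subtype.ext
      apply Units.ext
      exact Matrix.toBlocks_fromBlocks₁₁ _ _ _ _
    · apply Subtype.ext
      apply Units.ext
      exact Matrix.toBlocks_fromBlocks₂₂ _ _ _ _
  map_mul' x y := by
    have hx := (eq_fromBlocks_of_stab φ hφinj _ x.1.2 (fun v hv => (x.2 v).1 hv)).1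
    have hy := (eq_fromBlocks_of_stab φ hφinj _ y.1.2 (fun v hv => (y.2 v).1 hv)).1
    have hxy : (((x * y).1 : UG (κ₁ ⊕ κ₂) φ) : GL (κ₁ ⊕ κ₂) F).val =
        Matrix.fromBlocks
          ((x.1 : GL (κ₁ ⊕ κ₂) F).val.toBlocks₁₁ * (y.1 : GL (κ₁ ⊕ κ₂) F).val.toBlocks₁₁) 0 0
          ((x.1 : GL (κ₁ ⊕ κ₂) F).val.toBlocks₂₂ * (y.1 : GL (κ₁ ⊕ κ₂) F).val.toBlocks₂₂) := by
      have : (((x * y).1 : UG (κ₁ ⊕ κ₂) φ) : GL (κ₁ ⊕ κ₂) F).val =
          (x.1 : GL (κ₁ ⊕ κ₂) F).val * (y.1 : GL (κ₁ ⊕ κ₂) F).val := rfl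
      rw [this]
      conv_lhs => rw [hx, hy]
      rw [Matrix.fromBlocks_multiply]
      simp
    apply Prod.ext
    · apply Subtype.ext
      apply Units.ext
      show (((x * y).1 : UG (κ₁ ⊕ κ₂) φ) : GL (κ₁ ⊕ κ₂) F).val.toBlocks₁₁ = _
      rw [hxy, Matrix.toBlocks_fromBlocks₁₁]
      rfl
    · apply Subtype.ext
      apply Units.ext
      show (((x * y).1 : UG (κ₁ ⊕ κ₂) φ) : GL (κ₁ ⊕ κ₂) F).val.toBlocks₂₂ = _
      rw [hxy, Matrix.toBlocks_fromBlocks₂₂]
      rfl

end blocks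

section transfer

/-- transporting `H.subgroupOf K` along a group isomorphism -/
def subgroupOfEquiv {G G' : Type*} [Group G] [Group G'] (Θ : G ≃* G') (H K : Subgroup G)
    (H' K' : Subgroup G') (hH : ∀ g, g ∈ H ↔ Θ g ∈ H') (hK : ∀ g, g ∈ K ↔ Θ g ∈ K') :
    H.subgroupOf K ≃* H'.subgroupOf K' where
  toFun x := ⟨⟨Θ x.1.1, (hK _).1 x.1.2⟩, by
    rw [Subgroup.mem_subgroupOf]
    exact (hH _).1 x.2⟩
  invFun y := ⟨⟨Θ.symm y.1.1, (hK _).2 (by rw [Θ.apply_symm_apply]; exact y.1.2)⟩, by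
    rw [Subgroup.mem_subgroupOf]
    exact (hH _).2 (by rw [MulEquiv.apply_symm_apply]; exact y.2)⟩
  left_inv x := by
    apply Subtype.ext
    apply Subtype.ext
    exact Θ.symm_apply_apply _
  right_inv y := by
    apply Subtype.ext
    apply Subtype.ext
    exact Θ.apply_symm_apply _
  map_mul' x y := by
    apply Subtype.ext
    apply Subtype.ext
    exact map_mul Θ _ _

variable {F : Type*} [Field F] (φ : F →+* F)
variable {ι ι' : Type} [Fintype ι] [DecidableEq ι] [Fintype ι'] [DecidableEq ι']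

/-- conjugation by `T` followed by reindexing along `e` -/
noncomputable def conjReindex (T : GL ι F) (e : ι ≃ ι') : GL ι F ≃* GL ι' F :=
  (MulAut.conj T⁻¹).trans (Units.mapEquiv (Matrix.reindexAlgEquiv F F e).toMulEquiv)

theorem conjReindex_val (T : GL ι F) (e : ι ≃ ι') (g : GL ι F) :
    (conjReindex T e g : Matrix ι' ι' F) =
      ((T⁻¹ : GL ι F).val * g.val * T.val).submatrix e.symm e.symm := by
  simp [conjReindex, Matrix.reindex_apply]

theorem isU_submatrix_iff (e : ι ≃ ι') (M : Matrix ι ι F) :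
    IsU φ (M.submatrix e.symm e.symm) ↔ IsU φ M := by
  unfold IsU
  rw [Matrix.transpose_submatrix, ← Matrix.submatrix_map, Matrix.submatrix_mul_equiv]
  constructor
  · intro h
    have := congrArg (fun X => X.submatrix e e) h
    simpa using this
  · intro h
    rw [h, Matrix.submatrix_one_equiv]

theorem conjReindex_mem_UG_iff (T : GL ι F) (hT : T ∈ UG ι φ) (e : ι ≃ ι') (g : GL ι F) :
    g ∈ UG ι φ ↔ conjReindex T e g ∈ UG ι' φ := by
  rw [mem_UG_iff, mem_UG_iff, conjReindex_val, isU_submatrix_iff]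
  have h1 : ((T⁻¹ : GL ι F).val * g.val * T.val) = ((T⁻¹ * g * T : GL ι F) : Matrix ι ι F) := by
    simp
  rw [h1, ← mem_UG_iff, ← mem_UG_iff]
  rw [Subgroup.mul_mem_cancel_right _ hT, Subgroup.mul_mem_cancel_left _ (inv_mem hT)]

theorem conjReindex_mem_stab_iff (T : GL ι F) (e : ι ≃ ι') (W : Set (ι → F))
    (W' : Set (ι' → F)) (hWW' : ∀ u' : ι' → F, u' ∈ W' ↔ T.val *ᵥ (u' ∘ e) ∈ W) (g : GL ι F) :
    g ∈ Cfsg.stabilizing (Cfsg.glToMat ι F) W ↔
      conjReindex T e g ∈ Cfsg.stabilizing (Cfsg.glToMat ι' F) W' := by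
  have hkey : ∀ u' : ι' → F,
      T.val *ᵥ (((conjReindex T e g : Matrix ι' ι' F) *ᵥ u') ∘ e) = g.val *ᵥ (T.val *ᵥ (u' ∘ e)) := by
    intro u'
    rw [conjReindex_val, Matrix.submatrix_mulVec_equiv]
    have : (((T⁻¹ : GL ι F).val * g.val * T.val) *ᵥ (u' ∘ ⇑e.symm.symm)) ∘ ⇑e.symm ∘ ⇑e
        = ((T⁻¹ : GL ι F).val * g.val * T.val) *ᵥ (u' ∘ e) := by
      funext i
      simp
    rw [Function.comp_assoc, this, Matrix.mulVec_mulVec, ← Matrix.mul_assoc, ← Matrix.mul_assoc,
      ← Units.val_mul, mul_inv_cancel, Units.val_one, Matrix.one_mul, Matrix.mulVec_mulVec]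
  constructor
  · intro hg u'
    show u' ∈ W' ↔ (conjReindex T e g : Matrix ι' ι' F) *ᵥ u' ∈ W'
    rw [hWW', hWW', hkey]
    exact hg _
  · intro hg v
    show v ∈ W ↔ g.val *ᵥ v ∈ W
    obtain ⟨u', hu'⟩ : ∃ u' : ι' → F, T.val *ᵥ (u' ∘ e) = v := by
      refine ⟨((T⁻¹ : GL ι F).val *ᵥ v) ∘ e.symm, ?_⟩
      have : (((T⁻¹ : GL ι F).val *ᵥ v) ∘ e.symm) ∘ e = (T⁻¹ : GL ι F).val *ᵥ v := by
        funext i
        simp
      rw [this, Matrix.mulVec_mulVec, ← Units.val_mul, mul_inv_cancel, Units.val_one,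
        Matrix.one_mulVec]
    have h1 := hg u'
    change u' ∈ W' ↔ (conjReindex T e g : Matrix ι' ι' F) *ᵥ u' ∈ W' at h1
    rw [hWW', hWW', hkey, hu'] at h1
    exact h1

end transfer

section nondeg

variable {F : Type*} [Field F] [Finite F] (φ : F →+* F)
variable {ι κ₂ : Type} [Fintype ι] [DecidableEq ι] [Fintype κ₂] [DecidableEq κ₂]

/-- a unitary matrix carrying a coordinate subspace onto a given non-degenerate subspace -/
theorem exists_UG_map_W0 (hφ : φ ≠ RingHom.id F) (hφφ : ∀ x, φ (φ x) = x)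
    (hN1 : ∀ c : F, c ≠ 0 → φ c = c → ∃ l : F, l ≠ 0 ∧ l * φ l = c)
    (hN2 : ∃ μ : F, μ + φ μ ≠ 0)
    (W : Submodule F (ι → F))
    (hW : ∀ u ∈ W, (∀ v ∈ W, hdot φ u v = 0) → u = 0) (k : ℕ) (hk : Module.finrank F W = k)
    (e : ι ≃ Fin k ⊕ κ₂) :
    ∃ T : Matrix ι ι F, IsU φ T ∧
      ∀ u' : Fin k ⊕ κ₂ → F, u' ∈ W0 F (Fin k) κ₂ ↔ T *ᵥ (u' ∘ e) ∈ W := by
  classical
  obtain ⟨c, hcW, hc⟩ := exists_orthonormal_sub φ hφφ hN1 hN2 W hW k hk
  obtain ⟨x, hx⟩ : ∃ x : Fin k → ι → F, x = fun a => Pi.single (e.symm (Sum.inl a)) 1 :=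
    ⟨_, rfl⟩
  have hxo : ∀ i j, hdot φ (x i) (x j) = if i = j then 1 else 0 := by
    intro i j
    rw [hx, hdot_single_single]
    by_cases hij : i = j
    · rw [if_pos hij, if_pos (by rw [hij])]
    · rw [if_neg hij, if_neg]
      intro h
      exact hij (Sum.inl_injective (e.symm.injective h))
  have hxli := linearIndependent_of_orthonormal φ x hxo
  have hcli := linearIndependent_of_orthonormal φ c hc
  obtain ⟨T, hT, hTx⟩ := witt_family_UG φ hφ hφφ k x c hxli hcli
    (fun i j => by rw [hxo, hc])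
  have hspan : Submodule.span F (Set.range c) = W := by
    apply Submodule.eq_of_le_of_finrank_eq
    · rw [Submodule.span_le]
      rintro _ ⟨i, rfl⟩
      exact hcW i
    · rw [finrank_span_eq_card hcli, Fintype.card_fin, hk]
  have hdec : ∀ l : Fin k → F, T *ᵥ (∑ a, l a • x a) = ∑ a, l a • c a := by
    intro l
    rw [Matrix.mulVec_sum]
    apply Finset.sum_congr rfl
    intro a _
    rw [Matrix.mulVec_smul, hTx]
  have hTinj : Function.Injective (fun v => T *ᵥ v) :=
    Matrix.mulVec_injective_iff_isUnit.2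
      ((Matrix.isUnit_iff_isUnit_det T).2 (isUnit_iff_ne_zero.2 (hT.det_ne_zero φ)))
  have hxe : ∀ (l : Fin k → F) (s : Fin k ⊕ κ₂), (∑ a, l a • x a) (e.symm s) =
      Sum.elim l (fun _ => 0) s := by
    intro l s
    rw [Finset.sum_apply, hx]
    rcases s with a' | b
    · rw [Finset.sum_eq_single a']
      · simp
      · intro a _ ha
        have : e.symm (Sum.inl a') ≠ e.symm (Sum.inl a) := fun h =>
          ha (Sum.inl_injective (e.symm.injective h)).symm
        simp [Pi.single_eq_of_ne this]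
      · intro h; exact absurd (Finset.mem_univ _) h
    · apply Finset.sum_eq_zero
      intro a _
      have : e.symm (Sum.inr b) ≠ e.symm (Sum.inl a) := fun h => by
        have := e.symm.injective h
        exact Sum.inr_ne_inl this
      simp [Pi.single_eq_of_ne this]
  refine ⟨T, hT, ?_⟩
  intro u'
  constructor
  · intro hu'
    have h1 : u' ∘ e = ∑ a, u' (Sum.inl a) • x a := by
      funext i
      obtain ⟨s, rfl⟩ := e.symm.surjective i
      rw [hxe]
      rcases s with a' | b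
      · simp
      · simp only [Function.comp_apply, Equiv.apply_symm_apply, Sum.elim_inr]
        exact hu' b
    rw [h1, hdec]
    apply Submodule.sum_mem
    intro a _
    exact Submodule.smul_mem _ _ (hcW a)
  · intro hu' b
    rw [← hspan, Submodule.mem_span_range_iff_exists_fun] at hu'
    obtain ⟨l, hl⟩ := hu'
    rw [← hdec] at hl
    have h1 := hTinj hl
    have h2 := congrFun h1 (e.symm (Sum.inr b))
    rw [hxe] at h2
    simpa using h2.symm

/-- the stabiliser in the unitary group of a non-degenerate subspace of dimension `k` -/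
theorem nonempty_stab_nondeg_equiv (hφ : φ ≠ RingHom.id F) (hφφ : ∀ x, φ (φ x) = x)
    (hN1 : ∀ c : F, c ≠ 0 → φ c = c → ∃ l : F, l ≠ 0 ∧ l * φ l = c)
    (hN2 : ∃ μ : F, μ + φ μ ≠ 0)
    (W : Submodule F (ι → F))
    (hW : ∀ u ∈ W, (∀ v ∈ W, hdot φ u v = 0) → u = 0) (k : ℕ) (hk : Module.finrank F W = k)
    (e : ι ≃ Fin k ⊕ κ₂) :
    Nonempty (((Cfsg.stabilizing (Cfsg.glToMat ι F) (W : Set (ι → F))).subgroupOf (UG ι φ))
      ≃* UG (Fin k) φ × UG κ₂ φ) := by
  obtain ⟨T, hT, hTW⟩ := exists_UG_map_W0 φ hφ hφφ hN1 hN2 W hW k hk e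
  have hφinj : Function.Injective φ := φ.injective
  refine ⟨(subgroupOfEquiv (conjReindex (hT.toUG φ : GL ι F) e) _ _
    (Cfsg.stabilizing (Cfsg.glToMat (Fin k ⊕ κ₂) F) (W0 F (Fin k) κ₂)) (UG (Fin k ⊕ κ₂) φ)
    ?_ ?_).trans (stabW0Equiv φ hφinj)⟩
  · intro g
    exact conjReindex_mem_stab_iff _ e _ _ (fun u' => hTW u') g
  · intro g
    exact conjReindex_mem_UG_iff φ _ (hT.toUG φ).2 e g

end nondeg

section frob

variable {F : Type*} [Field F] [Fintype F] {q : ℕ}

theorem frob_ne_id (hF : Fintype.card F = q ^ 2) (φ : F →+* F) (hφ : ∀ x, φ x = x ^ q) :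
    φ ≠ RingHom.id F := by
  intro hid
  have hq := two_le_q hF
  obtain ⟨ζ, hζ⟩ := IsCyclic.exists_generator (α := Fˣ)
  have h1 : (ζ : F) ^ q = (ζ : F) := by
    rw [← hφ, hid]
    rfl
  have h3 : ζ ^ (q - 1) = 1 := by
    apply Units.ext
    rw [Units.val_pow_eq_pow_val, Units.val_one]
    have : (ζ : F) ^ (q - 1) * (ζ : F) = 1 * (ζ : F) := by
      rw [← pow_succ, Nat.sub_add_cancel (by omega), h1, one_mul]
    exact mul_right_cancel₀ ζ.ne_zero this
  have h4 := orderOf_dvd_of_pow_eq_one h3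
  rw [orderOf_eq_card_of_forall_mem_zpowers hζ, card_units_eq hF] at h4
  have h5 := Nat.le_of_dvd (by omega) h4
  have h6 : q < q ^ 2 := by nlinarith
  omega

end frob

end Cfsg.Agent.Helper11.Herm
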