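import Mathlib
import Cfsg.Agent.Lib.Helper11.UnitaryGeom
import Cfsg.Agent.Lib.Helper11.Unitary3
import Cfsg.Agent.Lib.Helper13.Transv

set_option autoImplicit false

/-! Unitary transvections and quasi-reflections `x ↦ x + c h(x, v) v`. -/

namespace Cfsg.Agent.Helper11.Herm

open Matrix

section general

variable {F : Type*} [Field F] {ι : Type*} [Fintype ι] [DecidableEq ι] (φ : F →+* F)

/-- the matrix of `x ↦ x + c h(x, v) v` -/
def tv (v : ι → F) (c : F) : Matrix ι ι F := 1 + c • Matrix.vecMulVec v (φ ∘ v)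

theorem tv_mulVec (v : ι → F) (c : F) (x : ι → F) :
    tv φ v c *ᵥ x = x + (c * hdot φ x v) • v := by
  funext i
  simp only [tv, Matrix.add_mulVec, Matrix.one_mulVec, Pi.add_apply, Matrix.smul_mulVec,
    Pi.smul_apply, smul_eq_mul]
  congr 1
  rw [Matrix.mulVec, dotProduct, hdot_def, mul_assoc, Finset.sum_mul]
  congr 1
  apply Finset.sum_congr rfl
  intro j _
  simp only [Matrix.vecMulVec_apply, Function.comp_apply]
  ring

theorem tv_zero_right (v : ι → F) : tv φ v 0 = 1 := by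
  unfold tv
  rw [zero_smul, add_zero]

theorem isU_tv (hφφ : ∀ x, φ (φ x) = x) (v : ι → F) (c : F)
    (hc : c + φ c + φ c * c * hdot φ v v = 0) : IsU φ (tv φ v c) := by
  apply isU_of_preserves
  intro x y
  rw [tv_mulVec, tv_mulVec]
  simp only [hdot_add_left, hdot_add_right, hdot_smul_left, hdot_smul_right, map_mul]
  rw [hdot_conj φ hφφ y v]
  linear_combination (hdot φ x v * hdot φ v y) * hc

theorem det_tv (v : ι → F) (c : F) : (tv φ v c).det = 1 + c * hdot φ v v := by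
  unfold tv
  have : c • Matrix.vecMulVec v (φ ∘ v) = Matrix.replicateCol Unit (c • v) *
      Matrix.replicateRow Unit (φ ∘ v) := by
    ext i j
    simp [Matrix.vecMulVec_apply, Matrix.mul_apply, mul_assoc]
  rw [this, Matrix.det_one_add_replicateCol_mul_replicateRow]
  unfold hdot
  rw [dotProduct_smul, dotProduct_comm, smul_eq_mul]

theorem tv_smul_left (b : F) (v : ι → F) (c : F) : tv φ (b • v) c = tv φ v (b * φ b * c) := by
  rw [Matrix.ext_iff_mulVec]
  intro x
  rw [tv_mulVec, tv_mulVec, hdot_smul_right, smul_smul]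
  congr 2
  ring

theorem tv_mul_tv (v : ι → F) (hv : hdot φ v v = 0) (c c' : F) :
    tv φ v c * tv φ v c' = tv φ v (c + c') := by
  rw [Matrix.ext_iff_mulVec]
  intro x
  rw [← Matrix.mulVec_mulVec, tv_mulVec, tv_mulVec, tv_mulVec, hdot_add_left, hdot_smul_left, hv,
    mul_zero, add_zero, add_assoc, ← add_smul]
  congr 2
  ring

/-- conjugation of a transvection by a unitary matrix -/
theorem isU_mul_tv {M : Matrix ι ι F} (hM : IsU φ M) (v : ι → F) (c : F) :
    M * tv φ v c = tv φ (M *ᵥ v) c * M := by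
  rw [Matrix.ext_iff_mulVec]
  intro x
  rw [← Matrix.mulVec_mulVec, ← Matrix.mulVec_mulVec, tv_mulVec, tv_mulVec, Matrix.mulVec_add,
    Matrix.mulVec_smul, hM.hdot_mulVec]

end general

section witt1

variable {F : Type*} [Field F] [Finite F] {ι : Type*} [Fintype ι] [DecidableEq ι] (φ : F →+* F)

/-- the unitary group is transitive on vectors of equal norm (nonzero) -/
theorem exists_isU_map (hφ : φ ≠ RingHom.id F) (hφφ : ∀ x, φ (φ x) = x) (x y : ι → F)
    (hx : x ≠ 0) (hy : y ≠ 0) (hxy : hdot φ x x = hdot φ y y) :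
    ∃ M : Matrix ι ι F, IsU φ M ∧ M *ᵥ x = y := by
  obtain ⟨M, hM, hMx⟩ := witt_family_UG φ hφ hφφ 1 (fun _ => x) (fun _ => y)
    (LinearIndependent.of_subsingleton (0 : Fin 1) hx)
    (LinearIndependent.of_subsingleton (0 : Fin 1) hy)
    (fun _ _ => hxy)
  exact ⟨M, hM, hMx 0⟩

/-- in dimension at least three, every isotropic vector is orthogonal to a vector of norm one -/
theorem exists_norm_one_orth (hφ : φ ≠ RingHom.id F) (hφφ : ∀ x, φ (φ x) = x)
    (hN1 : ∀ c : F, c ≠ 0 → φ c = c → ∃ l : F, l ≠ 0 ∧ l * φ l = c)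
    (hcard : 3 ≤ Fintype.card ι) (r : ι → F) (hr : hdot φ r r = 0) :
    ∃ m : ι → F, hdot φ m m = 1 ∧ hdot φ m r = 0 := by
  obtain ⟨i0, i1, i2, h01, h02, h12⟩ := Fintype.two_lt_card_iff.1 hcard
  by_cases hr0 : r = 0
  · refine ⟨Pi.single i0 1, ?_, ?_⟩
    · rw [hdot_single_single, if_pos rfl]
    · rw [hr0, hdot_zero_right]
  obtain ⟨ε, _, hε⟩ := hN1 (-1) (by simp) (by rw [map_neg, map_one])
  obtain ⟨u0, hu0⟩ : ∃ u0 : ι → F, u0 = Pi.single i0 1 + ε • Pi.single i1 1 := ⟨_, rfl⟩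
  have hu00 : hdot φ u0 u0 = 0 := by
    rw [hu0]
    simp only [hdot_add_left, hdot_add_right, hdot_smul_left, hdot_smul_right,
      hdot_single_single, if_true, if_neg h01, if_neg (Ne.symm h01)]
    linear_combination hε
  have hu0ne : u0 ≠ 0 := by
    intro h
    have := congrFun h i0
    rw [hu0] at this
    simp [Pi.single_eq_of_ne h01] at this
  obtain ⟨M, hM, hMu⟩ := exists_isU_map φ hφ hφφ u0 r hu0ne hr0 (by rw [hu00, hr])
  refine ⟨M *ᵥ Pi.single i2 1, ?_, ?_⟩
  · rw [hM.hdot_mulVec, hdot_single_single, if_pos rfl]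
  · rw [← hMu, hM.hdot_mulVec, hu0]
    simp only [hdot_add_right, hdot_smul_right, hdot_single_single, if_neg (Ne.symm h02),
      if_neg (Ne.symm h12)]
    ring

end witt1

section charact

variable {F : Type*} [Field F] {ι : Type*} [Fintype ι] [DecidableEq ι] (φ : F →+* F)

/-- a unitary matrix `M` with `M - 1` of rank one and square zero is a unitary transvection -/
theorem isU_transvection_eq_tv (hφφ : ∀ x, φ (φ x) = x) (M : Matrix ι ι F) (hM : IsU φ M)
    (hrk : (M - 1).rank = 1) (hsq : (M - 1) * (M - 1) = 0) :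
    ∃ (v : ι → F) (c : F), v ≠ 0 ∧ hdot φ v v = 0 ∧ c ≠ 0 ∧ c + φ c = 0 ∧ M = tv φ v c := by
  obtain ⟨v, ψ, u, hv, hψu, hψv, hT⟩ := Cfsg.Agent.Helper13.rank_one_data
    ((M - 1).mulVecLin) hrk (by
      rw [Module.End.mul_eq_comp, ← Matrix.mulVecLin_mul, hsq]
      ext x i
      simp)
  have hMx : ∀ x, M *ᵥ x = x + ψ x • v := by
    intro x
    have := hT x
    rw [Matrix.mulVecLin_apply, Matrix.sub_mulVec, Matrix.one_mulVec] at this
    rw [← this]
    abel
  have hE : ∀ x y, φ (ψ y) * hdot φ x v + ψ x * hdot φ v y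
      + ψ x * φ (ψ y) * hdot φ v v = 0 := by
    intro x y
    have := hM.hdot_mulVec φ x y
    rw [hMx, hMx] at this
    simp only [hdot_add_left, hdot_add_right, hdot_smul_left, hdot_smul_right] at this
    linear_combination this
  have hvv : hdot φ v v = 0 := by
    have := hE v u
    rw [hψv, hψu, map_one] at this
    linear_combination this
  have hE2 : ∀ x, hdot φ x v + ψ x * hdot φ v u = 0 := by
    intro x
    have := hE x u
    rw [hψu, map_one, hvv] at this
    linear_combination this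
  obtain ⟨β, hβ⟩ : ∃ β, β = hdot φ v u := ⟨_, rfl⟩
  have hβ0 : β ≠ 0 := by
    intro h0
    apply hv
    apply eq_zero_of_hdot_right φ v
    intro x
    have := hE2 x
    rw [← hβ, h0, mul_zero, add_zero] at this
    exact hdot_eq_zero_symm φ hφφ _ _ this
  have hφβ : φ β = -β := by
    have := hE2 u
    rw [hψu, one_mul, ← hβ] at this
    rw [hβ, hdot_conj φ hφφ]
    rw [hβ] at this
    linear_combination this
  refine ⟨v, -β⁻¹, hv, hvv, neg_ne_zero.2 (inv_ne_zero hβ0), ?_, ?_⟩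
  · rw [map_neg, map_inv₀, hφβ, inv_neg, neg_neg, neg_add_cancel]
  · rw [Matrix.ext_iff_mulVec]
    intro x
    rw [hMx, tv_mulVec]
    congr 2
    have := hE2 x
    rw [← hβ] at this
    have h1 : hdot φ x v = -(ψ x * β) := by linear_combination this
    rw [h1]
    field_simp

end charact

section conj

variable {F : Type*} [Field F] [Finite F] {ι : Type*} [Fintype ι] [DecidableEq ι] (φ : F →+* F)

/-- a unitary matrix of prescribed determinant fixing a given isotropic vector -/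
theorem exists_isU_det_fix (hφ : φ ≠ RingHom.id F) (hφφ : ∀ x, φ (φ x) = x)
    (hN1 : ∀ c : F, c ≠ 0 → φ c = c → ∃ l : F, l ≠ 0 ∧ l * φ l = c)
    (hcard : 3 ≤ Fintype.card ι) (r : ι → F) (hr : hdot φ r r = 0) (δ : F) (hδ : δ * φ δ = 1) :
    ∃ D : Matrix ι ι F, IsU φ D ∧ D.det = δ ∧ D *ᵥ r = r := by
  obtain ⟨m, hmm, hmr⟩ := exists_norm_one_orth φ hφ hφφ hN1 hcard r hr
  refine ⟨tv φ m (δ - 1), ?_, ?_, ?_⟩
  · apply isU_tv φ hφφ
    rw [hmm, map_sub, map_one]
    linear_combination hδ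
  · rw [det_tv, hmm]
    ring
  · rw [tv_mulVec, hdot_eq_zero_symm φ hφφ _ _ hmr, mul_zero, zero_smul, add_zero]

/-- any two unitary transvections are conjugate under a unitary matrix of determinant one -/
theorem exists_conj_tv (hφ : φ ≠ RingHom.id F) (hφφ : ∀ x, φ (φ x) = x)
    (hN1 : ∀ c : F, c ≠ 0 → φ c = c → ∃ l : F, l ≠ 0 ∧ l * φ l = c)
    (hcard : 3 ≤ Fintype.card ι) (v v' : ι → F) (c c' : F) (hv : v ≠ 0) (hvv : hdot φ v v = 0)
    (hv' : v' ≠ 0) (hvv' : hdot φ v' v' = 0) (hc : c ≠ 0) (hc' : c' ≠ 0) (hct : c + φ c = 0)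
    (hct' : c' + φ c' = 0) :
    ∃ G : Matrix ι ι F, IsU φ G ∧ G.det = 1 ∧ G * tv φ v c = tv φ v' c' * G := by
  have hρ : φ (c' / c) = c' / c := by
    have h1 : φ c = -c := by linear_combination hct
    have h2 : φ c' = -c' := by linear_combination hct'
    rw [map_div₀, h1, h2, neg_div_neg_eq]
  obtain ⟨a, ha0, ha⟩ := hN1 (c' / c) (div_ne_zero hc' hc) hρ
  have hav' : a • v' ≠ 0 := smul_ne_zero ha0 hv'
  obtain ⟨G0, hG0, hG0v⟩ := exists_isU_map φ hφ hφφ v (a • v') hv hav' (by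
    rw [hvv, hdot_smul_left, hdot_smul_right, hvv', mul_zero, mul_zero])
  have hdet0 := hG0.det_norm φ
  have hdet0ne : G0.det ≠ 0 := hG0.det_ne_zero φ
  obtain ⟨D, hD, hDdet, hDv⟩ := exists_isU_det_fix φ hφ hφφ hN1 hcard v' hvv' (G0.det)⁻¹ (by
    rw [map_inv₀, ← mul_inv, hdet0, inv_one])
  refine ⟨D * G0, hD.mul φ hG0, ?_, ?_⟩
  · rw [Matrix.det_mul, hDdet, inv_mul_cancel₀ hdet0ne]
  · rw [isU_mul_tv φ (hD.mul φ hG0), ← Matrix.mulVec_mulVec, hG0v, Matrix.mulVec_smul, hDv,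
      tv_smul_left, ha, div_mul_cancel₀ _ hc]

end conj

end Cfsg.Agent.Helper11.Herm
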