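import Mathlib
import Cfsg.Agent.Lib.Helper11.UnitaryTransv
import Cfsg.Agent.Lib.Helper11.HermCount

set_option autoImplicit false

/-! Counting totally isotropic lines (two-dimensional subspaces) of a Hermitian space. -/

namespace Cfsg.Agent.Helper11.Herm

open Matrix

section coords

variable {F : Type*} [Field F] {m : ℕ} (φ : F →+* F)

/-- drop the first two coordinates -/
def tail2 (v : Fin (m + 2) → F) : Fin m → F := fun i => v i.succ.succ

/-- prepend two coordinates -/
def cons2 (a b : F) (w : Fin m → F) : Fin (m + 2) → F := Fin.cons a (Fin.cons b w)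

theorem cons2_zero (a b : F) (w : Fin m → F) : cons2 a b w 0 = a := rfl

theorem cons2_one (a b : F) (w : Fin m → F) : cons2 a b w 1 = b := rfl

theorem tail2_cons2 (a b : F) (w : Fin m → F) : tail2 (cons2 a b w) = w := rfl

theorem cons2_tail2 (v : Fin (m + 2) → F) : cons2 (v 0) (v 1) (tail2 v) = v := by
  funext i
  refine Fin.cases ?_ (fun j => ?_) i
  · rfl
  · refine Fin.cases ?_ (fun k => ?_) j
    · rfl
    · rfl

theorem hdot_split (x y : Fin (m + 2) → F) :
    hdot φ x y = x 0 * φ (y 0) + x 1 * φ (y 1) + hdot φ (tail2 x) (tail2 y) := by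
  rw [hdot_def, Fin.sum_univ_succ, Fin.sum_univ_succ]
  exact (add_assoc _ _ _).symm

end coords

section model

variable {F : Type*} [Field F] {m : ℕ} (φ : F →+* F)

/-- the isotropic vectors orthogonal to, but not proportional to, `u` -/
def Bset {ι : Type*} [Fintype ι] (u : ι → F) : Type _ :=
  {v : ι → F // hdot φ u v = 0 ∧ hdot φ v v = 0 ∧ ∀ a : F, a • u ≠ v}

/-- the model: `u0 = (1, ε, 0, …, 0)` -/
noncomputable def modelEquiv (hφφ : ∀ x, φ (φ x) = x) (ε : F) (hε : ε * φ ε = -1) :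
    Bset φ (cons2 1 ε (0 : Fin m → F)) ≃ F × {w : Fin m → F // hdot φ w w = 0 ∧ w ≠ 0} where
  toFun v := (v.1 1, ⟨tail2 v.1, by
    obtain ⟨v, h1, h2, h3⟩ := v
    have e1 : v 0 = -(φ ε * v 1) := by
      rw [hdot_split, cons2_zero, cons2_one, tail2_cons2, hdot_zero_left, add_zero, one_mul] at h1
      have := congrArg φ h1
      rw [map_add, map_mul, hφφ, hφφ, map_zero] at this
      linear_combination this
    constructor
    · rw [hdot_split, e1] at h2
      simp only [map_neg, map_mul, hφφ] at h2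
      linear_combination h2 - (v 1 * φ (v 1)) * hε
    · intro h0
      apply h3 (-(φ ε * v 1))
      rw [← cons2_tail2 v, h0, e1]
      funext i
      refine Fin.cases ?_ (fun j => ?_) i
      · simp [cons2]
      · refine Fin.cases ?_ (fun k => ?_) j
        · simp [cons2]
          linear_combination (-(v 1)) * hε
        · simp [cons2]⟩)
  invFun p := ⟨cons2 (-(φ ε * p.1)) p.1 p.2.1, by
    refine ⟨?_, ?_, ?_⟩
    · rw [hdot_split, cons2_zero, cons2_one, cons2_zero, cons2_one, tail2_cons2, hdot_zero_left]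
      simp only [map_neg, map_mul, hφφ]
      ring
    · rw [hdot_split, cons2_zero, cons2_one, tail2_cons2, p.2.2.1]
      simp only [map_neg, map_mul, hφφ]
      linear_combination (p.1 * φ p.1) * hε
    · intro b hb
      apply p.2.2.2
      have := congrArg tail2 hb
      rw [tail2_cons2] at this
      rw [← this]
      funext i
      simp [tail2, cons2]⟩
  left_inv v := by
    obtain ⟨v, h1, h2, h3⟩ := v
    have e1 : v 0 = -(φ ε * v 1) := by
      rw [hdot_split, cons2_zero, cons2_one, tail2_cons2, hdot_zero_left, add_zero, one_mul] at h1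
      have := congrArg φ h1
      rw [map_add, map_mul, hφφ, hφφ, map_zero] at this
      linear_combination this
    apply Subtype.ext
    show cons2 (-(φ ε * v 1)) (v 1) (tail2 v) = v
    rw [← e1, cons2_tail2]
  right_inv p := by
    obtain ⟨a, w, hw, hw0⟩ := p
    rfl

end model

section transport

variable {F : Type*} [Field F] [Finite F] {ι : Type*} [Fintype ι] [DecidableEq ι] (φ : F →+* F)

instance instFiniteBset (u : ι → F) : Finite (Bset φ u) := by
  unfold Bset
  infer_instance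

theorem card_Bset_le (hφ : φ ≠ RingHom.id F) (hφφ : ∀ x, φ (φ x) = x) (u u' : ι → F)
    (hu : u ≠ 0) (hu' : u' ≠ 0) (huu : hdot φ u u = 0) (hu'u' : hdot φ u' u' = 0) :
    Nat.card (Bset φ u) ≤ Nat.card (Bset φ u') := by
  obtain ⟨M, hM, hMu⟩ := exists_isU_map φ hφ hφφ u u' hu hu' (by rw [huu, hu'u'])
  have hinj : ∀ x, M *ᵥ x = 0 → x = 0 := by
    intro x hx
    apply eq_zero_of_hdot_right φ
    intro y
    rw [← hM.hdot_mulVec, hx, hdot_zero_left]
  have hinj' : ∀ x y, M *ᵥ x = M *ᵥ y → x = y := by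
    intro x y hxy
    have : M *ᵥ (x - y) = 0 := by rw [Matrix.mulVec_sub, hxy, sub_self]
    exact sub_eq_zero.1 (hinj _ this)
  have hf : ∀ v : Bset φ u, hdot φ u' (M *ᵥ v.1) = 0 ∧ hdot φ (M *ᵥ v.1) (M *ᵥ v.1) = 0 ∧
      ∀ a : F, a • u' ≠ M *ᵥ v.1 := by
    intro v
    refine ⟨?_, ?_, ?_⟩
    · rw [← hMu, hM.hdot_mulVec]
      exact v.2.1
    · rw [hM.hdot_mulVec]
      exact v.2.2.1
    · intro a ha
      apply v.2.2.2 a
      apply hinj'
      rw [Matrix.mulVec_smul, hMu]
      exact ha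
  apply Nat.card_le_card_of_injective (fun v : Bset φ u => (⟨M *ᵥ v.1, hf v⟩ : Bset φ u'))
  intro v w hvw
  have := congrArg Subtype.val hvw
  exact Subtype.ext (hinj' _ _ this)

theorem card_Bset_eq (hφ : φ ≠ RingHom.id F) (hφφ : ∀ x, φ (φ x) = x) (u u' : ι → F)
    (hu : u ≠ 0) (hu' : u' ≠ 0) (huu : hdot φ u u = 0) (hu'u' : hdot φ u' u' = 0) :
    Nat.card (Bset φ u) = Nat.card (Bset φ u') :=
  le_antisymm (card_Bset_le φ hφ hφφ u u' hu hu' huu hu'u')
    (card_Bset_le φ hφ hφφ u' u hu' hu hu'u' huu)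

/-- ordered bases of totally isotropic lines -/
def Pset : Type _ :=
  {p : (ι → F) × (ι → F) // hdot φ p.1 p.1 = 0 ∧ hdot φ p.1 p.2 = 0 ∧ hdot φ p.2 p.2 = 0 ∧
    LinearIndependent F ![p.1, p.2]}

/-- nonzero isotropic vectors -/
def Aset : Type _ := {u : ι → F // hdot φ u u = 0 ∧ u ≠ 0}

instance instFiniteAset : Finite (Aset (ι := ι) φ) := by
  unfold Aset
  infer_instance

instance instFinitePset : Finite (Pset (ι := ι) φ) := by
  unfold Pset
  infer_instance

/-- decompose an ordered basis by its first vector -/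
def PsetEquiv : Pset (ι := ι) φ ≃ Σ u : Aset (ι := ι) φ, Bset φ u.1 where
  toFun p := ⟨⟨p.1.1, p.2.1, p.2.2.2.2.ne_zero 0⟩, ⟨p.1.2, p.2.2.1, p.2.2.2.1,
    (LinearIndependent.pair_iff' (p.2.2.2.2.ne_zero 0)).1 p.2.2.2.2⟩⟩
  invFun s := ⟨(s.1.1, s.2.1), s.1.2.1, s.2.2.1, s.2.2.2.1,
    (LinearIndependent.pair_iff' s.1.2.2).2 s.2.2.2.2⟩
  left_inv _ := rfl
  right_inv _ := rfl

theorem card_Pset (hφ : φ ≠ RingHom.id F) (hφφ : ∀ x, φ (φ x) = x) (u0 : ι → F) (hu0 : u0 ≠ 0)
    (hu0u0 : hdot φ u0 u0 = 0) :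
    Nat.card (Pset (ι := ι) φ) = Nat.card (Aset (ι := ι) φ) * Nat.card (Bset φ u0) := by
  classical
  have : Fintype (Aset (ι := ι) φ) := Fintype.ofFinite _
  rw [Nat.card_congr (PsetEquiv φ), Nat.card_sigma]
  rw [Finset.sum_congr rfl (fun u _ => card_Bset_eq φ hφ hφφ u.1 u0 u.2.2 hu0 u.2.1 hu0u0)]
  rw [Finset.sum_const, smul_eq_mul, Finset.card_univ,
    Nat.card_eq_fintype_card (α := Aset (ι := ι) φ)]

end transport

section lines

variable {F : Type*} [Field F] [Fintype F] {ι : Type*} [Fintype ι] [DecidableEq ι] (φ : F →+* F)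

/-- totally isotropic lines -/
def Tset : Type _ :=
  {W : Submodule F (ι → F) // Module.finrank F W = 2 ∧ ∀ u ∈ W, ∀ v ∈ W, hdot φ u v = 0}

instance instFiniteTset : Finite (Tset (ι := ι) φ) := by
  unfold Tset
  infer_instance

theorem hdot_span_pair (hφφ : ∀ x, φ (φ x) = x) (x y : ι → F) (hxx : hdot φ x x = 0)
    (hxy : hdot φ x y = 0) (hyy : hdot φ y y = 0) :
    ∀ u ∈ Submodule.span F (Set.range ![x, y]), ∀ v ∈ Submodule.span F (Set.range ![x, y]),
      hdot φ u v = 0 := by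
  have hyx : hdot φ y x = 0 := hdot_eq_zero_symm φ hφφ _ _ hxy
  intro u hu v hv
  rw [Submodule.mem_span_range_iff_exists_fun] at hu hv
  obtain ⟨c, rfl⟩ := hu
  obtain ⟨d, rfl⟩ := hv
  simp only [Fin.sum_univ_two, Matrix.cons_val_zero, Matrix.cons_val_one, hdot_add_left,
    hdot_add_right, hdot_smul_left, hdot_smul_right, hxx, hxy, hyx, hyy]
  ring

/-- the line spanned by an ordered basis -/
noncomputable def spanP (hφφ : ∀ x, φ (φ x) = x) (p : Pset (ι := ι) φ) : Tset (ι := ι) φ :=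
  ⟨Submodule.span F (Set.range ![p.1.1, p.1.2]), by
    rw [finrank_span_eq_card p.2.2.2.2, Fintype.card_fin],
    hdot_span_pair φ hφφ p.1.1 p.1.2 p.2.1 p.2.2.1 p.2.2.2.1⟩

/-- the fibre of `spanP` over a line is the set of ordered bases of the line -/
noncomputable def fiberEquiv (hφφ : ∀ x, φ (φ x) = x) (W : Tset (ι := ι) φ) :
    {p : Pset (ι := ι) φ // spanP φ hφφ p = W} ≃
      {s : Fin 2 → ↥W.1 // LinearIndependent F s} where
  toFun p := ⟨fun i => ⟨![p.1.1.1, p.1.1.2] i, by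
      have h1 : Submodule.span F (Set.range ![p.1.1.1, p.1.1.2]) = W.1 := congrArg Subtype.val p.2
      rw [← h1]
      exact Submodule.subset_span (Set.mem_range_self i)⟩, by
    apply LinearIndependent.of_comp W.1.subtype
    have h2 : (W.1.subtype ∘ fun i => (⟨![p.1.1.1, p.1.1.2] i, by
      have h1 : Submodule.span F (Set.range ![p.1.1.1, p.1.1.2]) = W.1 := congrArg Subtype.val p.2
      rw [← h1]
      exact Submodule.subset_span (Set.mem_range_self i)⟩ : ↥W.1)) = ![p.1.1.1, p.1.1.2] := by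
      funext i
      rfl
    rw [h2]
    exact p.1.2.2.2.2⟩
  invFun s := ⟨⟨((s.1 0 : ι → F), (s.1 1 : ι → F)), W.2.2 _ (s.1 0).2 _ (s.1 0).2,
      W.2.2 _ (s.1 0).2 _ (s.1 1).2, W.2.2 _ (s.1 1).2 _ (s.1 1).2, by
        have h1 := s.2.map' W.1.subtype (Submodule.ker_subtype _)
        have h2 : (W.1.subtype ∘ s.1) = ![(s.1 0 : ι → F), (s.1 1 : ι → F)] := by
          funext i
          fin_cases i <;> rfl
        rw [h2] at h1
        exact h1⟩, by
    apply Subtype.ext
    show Submodule.span F (Set.range ![(s.1 0 : ι → F), (s.1 1 : ι → F)]) = W.1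
    have hLI : LinearIndependent F ![(s.1 0 : ι → F), (s.1 1 : ι → F)] := by
      have h1 := s.2.map' W.1.subtype (Submodule.ker_subtype _)
      have h2 : (W.1.subtype ∘ s.1) = ![(s.1 0 : ι → F), (s.1 1 : ι → F)] := by
        funext i
        fin_cases i <;> rfl
      rw [h2] at h1
      exact h1
    apply Submodule.eq_of_le_of_finrank_eq
    · rw [Submodule.span_le]
      rintro _ ⟨i, rfl⟩
      fin_cases i
      · exact (s.1 0).2
      · exact (s.1 1).2
    · rw [finrank_span_eq_card hLI, Fintype.card_fin, W.2.1]⟩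
  left_inv p := by
    apply Subtype.ext
    apply Subtype.ext
    rfl
  right_inv s := by
    apply Subtype.ext
    funext i
    fin_cases i <;> rfl

theorem card_Pset_lines (hφφ : ∀ x, φ (φ x) = x) :
    Nat.card (Pset (ι := ι) φ) =
      Nat.card (Tset (ι := ι) φ) * ∏ i : Fin 2, (Fintype.card F ^ 2 - Fintype.card F ^ (i : ℕ)) := by
  classical
  have : Fintype (Tset (ι := ι) φ) := Fintype.ofFinite _
  rw [Nat.card_congr (Equiv.sigmaFiberEquiv (spanP φ hφφ)).symm, Nat.card_sigma]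
  have h1 : ∀ W : Tset (ι := ι) φ, Nat.card {p : Pset (ι := ι) φ // spanP φ hφφ p = W} =
      ∏ i : Fin 2, (Fintype.card F ^ 2 - Fintype.card F ^ (i : ℕ)) := by
    intro W
    rw [Nat.card_congr (fiberEquiv φ hφφ W), card_linearIndependent (by rw [W.2.1]), W.2.1]
  rw [Finset.sum_congr rfl (fun W _ => h1 W), Finset.sum_const, smul_eq_mul, Finset.card_univ,
    Nat.card_eq_fintype_card (α := Tset (ι := ι) φ)]

end lines

section final

variable {F : Type*} [Field F] [Fintype F] {q : ℕ}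

/-- nonzero isotropic vectors -/
theorem card_iso_ne_zero (n : ℕ) :
    Nat.card {w : Fin n → F // Cfsg.hermForm n F q w w = 0 ∧ w ≠ 0} + 1 = cnt F q n 0 := by
  classical
  unfold cnt
  rw [← Finite.card_option]
  apply Nat.card_congr
  refine
    { toFun := fun o => match o with
        | none => ⟨0, by simp [Cfsg.hermForm]⟩
        | some x => ⟨x.1, x.2.1⟩
      invFun := fun y => if h : y.1 = 0 then none else some ⟨y.1, y.2, h⟩
      left_inv := ?_
      right_inv := ?_ }
  · intro o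
    cases o with
    | none => simp
    | some x => simp [x.2.2]
  · intro y
    by_cases h : y.1 = 0
    · simp only [h, dif_pos]
      exact Subtype.ext h.symm
    · simp [h]

/-- the count of totally isotropic lines in terms of the counts of isotropic vectors -/
theorem card_TI2 (hF : Fintype.card F = q ^ 2) (m : ℕ) :
    Nat.card {W : Submodule F (Fin (m + 2) → F) // Module.finrank F W = 2 ∧
      ∀ u ∈ W, ∀ v ∈ W, Cfsg.hermForm (m + 2) F q u v = 0} *
        (((q ^ 2) ^ 2 - 1) * ((q ^ 2) ^ 2 - q ^ 2)) =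
      (cnt F q (m + 2) 0 - 1) * (q ^ 2 * (cnt F q m 0 - 1)) := by
  obtain ⟨φ, hφ⟩ := exists_frob hF
  have hφφ := frob_frob hF φ hφ
  have hN1 := frob_norm_surj hF φ hφ
  have hφid := frob_ne_id hF φ hφ
  obtain ⟨ε, hε0, hε⟩ := hN1 (-1) (by simp) (by rw [map_neg, map_one])
  obtain ⟨u0, hu0def⟩ : ∃ u0 : Fin (m + 2) → F, u0 = cons2 1 ε (0 : Fin m → F) := ⟨_, rfl⟩
  have hu0 : u0 ≠ 0 := by
    intro h
    have := congrFun h 0
    rw [hu0def, cons2_zero] at this
    exact one_ne_zero this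
  have hu0u0 : hdot φ u0 u0 = 0 := by
    rw [hu0def, hdot_split, cons2_zero, cons2_one, tail2_cons2, hdot_zero_left, map_one]
    linear_combination hε
  have hT : Nat.card {W : Submodule F (Fin (m + 2) → F) // Module.finrank F W = 2 ∧
      ∀ u ∈ W, ∀ v ∈ W, Cfsg.hermForm (m + 2) F q u v = 0} =
      Nat.card (Tset (ι := Fin (m + 2)) φ) := by
    unfold Tset
    simp only [hermForm_eq_hdot φ hφ]
  have hA : Nat.card (Aset (ι := Fin (m + 2)) φ) = cnt F q (m + 2) 0 - 1 := by
    have := card_iso_ne_zero (F := F) (q := q) (m + 2)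
    unfold Aset
    simp only [hermForm_eq_hdot φ hφ] at this
    omega
  have hB : Nat.card (Bset φ u0) = q ^ 2 * (cnt F q m 0 - 1) := by
    rw [hu0def, Nat.card_congr (modelEquiv φ hφφ ε hε), Nat.card_prod, Nat.card_eq_fintype_card,
      hF]
    have := card_iso_ne_zero (F := F) (q := q) m
    simp only [hermForm_eq_hdot φ hφ] at this
    congr 1
    omega
  have h1 := card_Pset_lines (ι := Fin (m + 2)) φ hφφ
  have h2 := card_Pset φ hφid hφφ u0 hu0 hu0u0
  rw [hT, ← hA, ← hB, ← h2, h1, Fin.prod_univ_two, hF]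
  simp

/-- the number of nonzero isotropic vectors, as an integer -/
theorem cnt_zero_sub_one (hF : Fintype.card F = q ^ 2) (k : ℕ) :
    ((cnt F q (k + 1) 0 : ℤ) - 1) =
      ((q : ℤ) ^ (k + 1) - (-1) ^ (k + 1)) * ((q : ℤ) ^ k + (-1) ^ (k + 1)) := by
  have hq := two_le_q hF
  have hq0 : (q : ℤ) ≠ 0 := by positivity
  have h1 := q_mul_cnt hF (k + 1)
  have h1' : (cnt F q (k + 1) 1 : ℤ) = (q : ℤ) ^ k * ((q : ℤ) ^ (k + 1) - (-1) ^ (k + 1)) := by
    apply mul_left_cancel₀ hq0
    rw [h1]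
    ring
  have h0 := cnt_zero_add hF (k + 1)
  zify [(by omega : 1 ≤ q)] at h0
  have hs : ((-1 : ℤ) ^ (k + 1)) ^ 2 = 1 := by
    rw [← pow_mul, mul_comm, pow_mul]
    simp
  rw [h1'] at h0
  linear_combination h0 + hs

/-- integer form of `card_TI2` -/
theorem card_TI2_int (hF : Fintype.card F = q ^ 2) (m : ℕ) :
    (Nat.card {W : Submodule F (Fin (m + 2) → F) // Module.finrank F W = 2 ∧
      ∀ u ∈ W, ∀ v ∈ W, Cfsg.hermForm (m + 2) F q u v = 0} : ℤ) *
        (((q : ℤ) ^ 4 - 1) * ((q : ℤ) ^ 4 - (q : ℤ) ^ 2)) =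
      ((cnt F q (m + 2) 0 : ℤ) - 1) * ((q : ℤ) ^ 2 * ((cnt F q m 0 : ℤ) - 1)) := by
  have hq := two_le_q hF
  have h := card_TI2 hF m
  have h1 : 1 ≤ cnt F q (m + 2) 0 := by
    have := card_iso_ne_zero (F := F) (q := q) (m + 2)
    omega
  have h2 : 1 ≤ cnt F q m 0 := by
    have := card_iso_ne_zero (F := F) (q := q) m
    omega
  have h3 : 1 ≤ (q ^ 2) ^ 2 := Nat.one_le_pow _ _ (by positivity)
  have h4 : q ^ 2 ≤ (q ^ 2) ^ 2 := by nlinarith
  obtain ⟨N, hN⟩ : ∃ N, N = Nat.card {W : Submodule F (Fin (m + 2) → F) //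
      Module.finrank F W = 2 ∧ ∀ u ∈ W, ∀ v ∈ W, Cfsg.hermForm (m + 2) F q u v = 0} := ⟨_, rfl⟩
  rw [← hN] at h ⊢
  zify [h1, h2, h3, h4] at h
  rw [← h]
  ring

end final

end Cfsg.Agent.Helper11.Herm
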