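import Mathlib
import Cfsg.Agent.Lib.Helper24.IPDefs
import Cfsg.Agent.Lib.Helper24.CharAlgebra
import Cfsg.Agent.Lib.Helper24.CharComplete
import Cfsg.Agent.Lib.Helper24.CharLinear

/-!
# Piece SUPP for helper24 (S4463, Isaacs–Passman)

An irreducible character of `N` of the maximal degree `b` vanishes off `K`, if `N / K` is abelian
and `K` contains every element of `N` that is central modulo `K` in `G`.
-/

set_option autoImplicit false
set_option linter.unusedVariables false
set_option linter.unusedSectionVars false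

namespace Cfsg.Agent.Helper11.IPSupp

open Cfsg Cfsg.Agent.Helper24 Cfsg.Agent.Helper24.IP

universe u

variable {G : Type u} [Group G] [Finite G]

theorem support_le_of_degree_eq {b : ℕ} (hb : Bdd G b) (K N : Subgroup G) [K.Normal] [N.Normal]
    (hKN : K ≤ N) (hab : ∀ x ∈ N, ∀ y ∈ N, x * y * x⁻¹ * y⁻¹ ∈ K)
    (hcen : ∀ n ∈ N, (∀ g : G, g * n * g⁻¹ * n⁻¹ ∈ K) → n ∈ K)
    {ψ : N → ℂ} (hψ : IsIrrCharacter N ψ) (hdeg : charDegree ψ = b) (n : N) (hne : ψ n ≠ 0) :
    (n : G) ∈ K := by
  classical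
  letI : Fintype G := Fintype.ofFinite G
  letI : Fintype N := Fintype.ofFinite N
  letI : Fintype (IrrCharacter N) := irrFintype
  apply hcen n n.2
  intro g
  by_contra hnot
  have hgn : g * n * g⁻¹ ∈ N := ‹N.Normal›.conj_mem n n.2 g
  set m : N := ⟨g * n * g⁻¹, hgn⟩ with hm
  set c : N := m * n⁻¹ with hc
  set K' : Subgroup N := K.subgroupOf N with hK'
  haveI : K'.Normal := by rw [hK']; infer_instance
  have hcK : c ∉ K' := by
    intro h
    apply hnot
    rw [hK', Subgroup.mem_subgroupOf] at h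
    simpa [hc, hm] using h
  -- the quotient is commutative
  have hcomm : ∀ a b : N ⧸ K', a * b = b * a := by
    intro a b
    obtain ⟨x, rfl⟩ := QuotientGroup.mk_surjective a
    obtain ⟨y, rfl⟩ := QuotientGroup.mk_surjective b
    rw [← QuotientGroup.mk_mul, ← QuotientGroup.mk_mul, QuotientGroup.eq]
    rw [hK', Subgroup.mem_subgroupOf]
    have := hab (y : G)⁻¹ (N.inv_mem y.2) (x : G)⁻¹ (N.inv_mem x.2)
    have e : (((x * y)⁻¹ * (y * x) : N) : G) =
        (y : G)⁻¹ * (x : G)⁻¹ * (y : G)⁻¹⁻¹ * (x : G)⁻¹⁻¹ := by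
      simp [mul_assoc]
    rw [e]
    exact this
  letI : CommGroup (N ⧸ K') := { (inferInstance : Group (N ⧸ K')) with mul_comm := hcomm }
  have hne1 : (QuotientGroup.mk c : N ⧸ K') ≠ 1 := by
    intro h
    exact hcK ((QuotientGroup.eq_one_iff c).1 h)
  obtain ⟨φ, hφ⟩ := CommGroup.exists_apply_ne_one_of_hasEnoughRootsOfUnity (N ⧸ K') ℂ hne1
  let lam : N →* ℂˣ := φ.comp (QuotientGroup.mk' K')
  set lamf : N → ℂ := fun x => ((lam x : ℂˣ) : ℂ) with hlamf
  have hlamirr : IsIrrCharacter N lamf := isIrrCharacter_of_monoidHom lam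
  have hlam1 : lamf 1 = 1 := by simp [hlamf]
  have hprod : IsIrrCharacter N (ψ * lamf) :=
    isIrrCharacter_mul_linear hψ (isCharacter_of_isIrrCharacter hlamirr) hlam1
  have hdeg' : charDegree (ψ * lamf) = b := by
    apply charDegree_natCast
    rw [Pi.mul_apply, hlam1, mul_one, irr_one_eq_charDegree hψ, hdeg]
  obtain ⟨χ1, hχ1, -, hres1⟩ := exists_ext hb N hψ hdeg
  obtain ⟨χ2, hχ2, -, hres2⟩ := exists_ext hb N hprod hdeg'
  have e1 : ψ m = ψ n := by
    have h0 := isClassFunction_of_isIrrCharacter hχ1 (n : G) g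
    have h1 := congrFun hres1 m
    have h2 := congrFun hres1 n
    rw [← h1, ← h2]
    exact h0
  have e2 : (ψ * lamf) m = (ψ * lamf) n := by
    have h0 := isClassFunction_of_isIrrCharacter hχ2 (n : G) g
    have h1 := congrFun hres2 m
    have h2 := congrFun hres2 n
    rw [← h1, ← h2]
    exact h0
  rw [Pi.mul_apply, Pi.mul_apply, e1] at e2
  have e3 : lamf m = lamf n := mul_left_cancel₀ hne e2
  have e4 : lam m = lam n := Units.ext e3
  apply hφ
  have : φ (QuotientGroup.mk c) = lam c := rfl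
  rw [this, hc, map_mul, map_inv, e4, mul_inv_cancel]

end Cfsg.Agent.Helper11.IPSupp
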