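import Mathlib

set_option autoImplicit false
set_option linter.unusedVariables false
set_option linter.unusedSectionVars false
set_option linter.unusedSimpArgs false

/-! Graphs of diameter two and the reduction of the odd-product graph on a conjugacy class
to a base point. -/

namespace Cfsg.Agent.Helper11.InvGraph

theorem connected_diam_two {V : Type*} (r : V → V → Prop)
    (h1 : ∃ u v : V, u ≠ v ∧ ¬ r u v ∧ ¬ r v u)
    (h2 : ∀ u v : V, u ≠ v → ¬ (r u v ∨ r v u) → ∃ w, w ≠ u ∧ w ≠ v ∧ r u w ∧ r w v) :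
    (SimpleGraph.fromRel r).Connected ∧ (SimpleGraph.fromRel r).diam = 2 := by
  set G := SimpleGraph.fromRel r with hG
  have hadj : ∀ a b, G.Adj a b ↔ a ≠ b ∧ (r a b ∨ r b a) := fun a b => SimpleGraph.fromRel_adj r a b
  -- every pair is joined by a walk of length at most two
  have hwalk : ∀ u v : V, ∃ p : G.Walk u v, p.length ≤ 2 := by
    intro u v
    by_cases huv : u = v
    · subst huv
      exact ⟨SimpleGraph.Walk.nil, by simp⟩
    · by_cases hr : r u v ∨ r v u
      · have ha : G.Adj u v := (hadj u v).2 ⟨huv, hr⟩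
        exact ⟨SimpleGraph.Walk.cons ha SimpleGraph.Walk.nil, by simp⟩
      · obtain ⟨w, hwu, hwv, h1', h2'⟩ := h2 u v huv hr
        have ha1 : G.Adj u w := (hadj u w).2 ⟨fun h => hwu h.symm, Or.inl h1'⟩
        have ha2 : G.Adj w v := (hadj w v).2 ⟨hwv, Or.inl h2'⟩
        exact ⟨SimpleGraph.Walk.cons ha1 (SimpleGraph.Walk.cons ha2 SimpleGraph.Walk.nil),
          by simp⟩
  have hreach : ∀ u v : V, G.Reachable u v := fun u v => ⟨(hwalk u v).choose⟩
  obtain ⟨u₀, v₀, hne, hr1, hr2⟩ := h1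
  have hconn : G.Connected := { preconnected := hreach, nonempty := ⟨u₀⟩ }
  refine ⟨hconn, ?_⟩
  have hle : ∀ u v : V, G.edist u v ≤ 2 := by
    intro u v
    obtain ⟨p, hp⟩ := hwalk u v
    calc G.edist u v ≤ (p.length : ℕ∞) := SimpleGraph.Walk.edist_le p
      _ ≤ 2 := by exact_mod_cast hp
  have hed : G.ediam ≤ 2 := SimpleGraph.ediam_le_of_edist_le hle
  have hnadj : ¬ G.Adj u₀ v₀ := by
    rw [hadj]
    rintro ⟨_, h | h⟩
    · exact hr1 h
    · exact hr2 h
  have hd2 : G.dist u₀ v₀ = 2 := by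
    have hcoe : (G.dist u₀ v₀ : ℕ∞) = G.edist u₀ v₀ := (hreach u₀ v₀).coe_dist_eq_edist
    have h2' : G.dist u₀ v₀ ≤ 2 := by
      have := hle u₀ v₀
      rw [← hcoe] at this
      exact_mod_cast this
    have h0 : G.dist u₀ v₀ ≠ 0 := by
      intro h
      exact hne (((hreach u₀ v₀).dist_eq_zero_iff).1 h)
    have h1' : G.dist u₀ v₀ ≠ 1 := by
      intro h
      exact hnadj (SimpleGraph.dist_eq_one_iff_adj.1 h)
    omega
  have hne_top : G.ediam ≠ ⊤ := by
    intro h
    rw [h] at hed
    exact absurd hed (by simp)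
  have h3 : G.dist u₀ v₀ ≤ G.diam := SimpleGraph.dist_le_diam hne_top
  have h4 : G.diam ≤ 2 := by
    have : G.diam = G.ediam.toNat := rfl
    rw [this]
    have h5 : G.ediam.toNat ≤ (2 : ℕ∞).toNat := ENat.toNat_le_toNat hed (by simp)
    simpa using h5
  omega

theorem orderOf_conj_eq {G : Type*} [Group G] (g x : G) : orderOf (g * x * g⁻¹) = orderOf x :=
  (MulAut.conj g).orderOf_eq x

theorem orderOf_mul_comm' {G : Type*} [Group G] (x y : G) : orderOf (x * y) = orderOf (y * x) := by
  have : x * y = x * (y * x) * x⁻¹ := by group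
  rw [this, orderOf_conj_eq]

/-- reduction to a base point -/
theorem invgraph_of_base {G : Type*} [Group G] (t t₀ : G) (htt : IsConj t t₀)
    (ha : ∃ y : G, IsConj t₀ y ∧ y ≠ t₀ ∧ ¬ Odd (orderOf (t₀ * y)))
    (hb : ∀ y : G, IsConj t₀ y → y ≠ t₀ → ¬ Odd (orderOf (t₀ * y)) →
      ∃ z : G, IsConj t₀ z ∧ Odd (orderOf (t₀ * z)) ∧ Odd (orderOf (z * y))) :
    (SimpleGraph.fromRel fun x y : {x : G // IsConj t x} => Odd (orderOf (x.1 * y.1))).Connected ∧
    (SimpleGraph.fromRel fun x y : {x : G // IsConj t x} => Odd (orderOf (x.1 * y.1))).diam = 2 := by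
  apply connected_diam_two
  · obtain ⟨y, hy, hne, hodd⟩ := ha
    refine ⟨⟨t₀, htt⟩, ⟨y, htt.trans hy⟩, ?_, hodd, ?_⟩
    · intro h
      apply hne
      exact (congrArg Subtype.val h).symm
    · show ¬ Odd (orderOf (y * t₀))
      rw [orderOf_mul_comm']
      exact hodd
  · rintro ⟨u, hu⟩ ⟨v, hv⟩ huv hr
    have huv' : u ≠ v := fun h => huv (Subtype.ext h)
    have hr' : ¬ Odd (orderOf (u * v)) := fun h => hr (Or.inl h)
    have hu0 : IsConj t₀ u := htt.symm.trans hu
    have hv0 : IsConj t₀ v := htt.symm.trans hv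
    obtain ⟨g, hg⟩ := isConj_iff.1 hu0
    -- u = g t₀ g⁻¹
    set y := g⁻¹ * v * g with hy
    have hyc : IsConj t₀ y := by
      refine hv0.trans ?_
      rw [isConj_iff]
      exact ⟨g⁻¹, by rw [hy, inv_inv]⟩
    have hyne : y ≠ t₀ := by
      intro h
      apply huv'
      rw [← hg, ← h, hy]
      group
    have hyodd : ¬ Odd (orderOf (t₀ * y)) := by
      intro h
      apply hr'
      have : u * v = g * (t₀ * y) * g⁻¹ := by
        rw [← hg, hy]; group
      rw [this, orderOf_conj_eq]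
      exact h
    obtain ⟨z, hz, hz1, hz2⟩ := hb y hyc hyne hyodd
    have hzc : IsConj t (g * z * g⁻¹) := by
      refine htt.trans (hz.trans ?_)
      rw [isConj_iff]
      exact ⟨g, rfl⟩
    refine ⟨⟨g * z * g⁻¹, hzc⟩, ?_, ?_, ?_, ?_⟩
    · intro h
      have h' : g * z * g⁻¹ = u := congrArg Subtype.val h
      have hzt : z = t₀ := by
        have : g * z * g⁻¹ = g * t₀ * g⁻¹ := by rw [h', hg]
        have := mul_right_cancel this
        exact mul_left_cancel this
      rw [hzt] at hz2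
      exact hyodd hz2
    · intro h
      have h' : g * z * g⁻¹ = v := congrArg Subtype.val h
      have hzy : z = y := by
        rw [hy, ← h']; group
      rw [hzy] at hz1
      exact hyodd hz1
    · show Odd (orderOf (u * (g * z * g⁻¹)))
      have : u * (g * z * g⁻¹) = g * (t₀ * z) * g⁻¹ := by
        rw [← hg]; group
      rw [this, orderOf_conj_eq]
      exact hz1
    · show Odd (orderOf (g * z * g⁻¹ * v))
      have : g * z * g⁻¹ * v = g * (z * y) * g⁻¹ := by
        rw [hy]; group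
      rw [this, orderOf_conj_eq]
      exact hz2

end Cfsg.Agent.Helper11.InvGraph
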