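import Mathlib
import Cfsg.Agent.Lib.Helper11.InvGraph1
import Cfsg.Agent.Lib.Helper11.DicksonN1
import Cfsg.Agent.Lib.Helper12.PSL2Orders
import Cfsg.Agent.Lib.Helper12.SL2Odd

set_option autoImplicit false
set_option linter.unusedVariables false
set_option linter.unusedSectionVars false
set_option linter.unusedSimpArgs false

/-! Order criteria in `PSL₂(F)` and the conjugacy of involutions. -/

namespace Cfsg.Agent.Helper11.InvGraph

open Matrix Matrix.SpecialLinearGroup
open scoped MatrixGroups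
open Cfsg.Agent.Helper2.SL2S
open Cfsg.Agent.Helper12
open Cfsg.Agent.Helper11.Dickson (sl2_ext sl2_det m00 m01 m10 m11 i00 i01 i10 i11 u00 u01 u10 u11
  v00 v01 v10 v11 dd dd_conj_u)

variable {F : Type*} [Field F] [Fintype F]

/-- the image in `PSL₂` -/
abbrev pr (m : SL(2, F)) : Matrix.ProjectiveSpecialLinearGroup (Fin 2) F :=
  ((m : SL(2, F)) : Matrix.ProjectiveSpecialLinearGroup (Fin 2) F)

theorem pr_mul (m n : SL(2, F)) : pr (m * n) = pr m * pr n := rfl

theorem pr_surjective : Function.Surjective (pr (F := F)) := QuotientGroup.mk_surjective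

theorem tr_eq (m : SL(2, F)) : (m : Matrix (Fin 2) (Fin 2) F).trace = m.1 0 0 + m.1 1 1 :=
  Matrix.trace_fin_two _

theorem odd_orderOf_of_double_root (p : ℕ) [Fact p.Prime] [CharP F p] (hp2 : p ≠ 2)
    (m : SL(2, F)) (l : F)
    (hl : l ^ 2 - (m : Matrix (Fin 2) (Fin 2) F).trace * l + 1 = 0) (hl1 : l ^ 2 = 1) :
    Odd (orderOf (pr m)) := by
  have hpp : p.Prime := Fact.out
  have h1 := pow_char_eq_smul_of_root (m : Matrix (Fin 2) (Fin 2) F) m.2 l hl hl1 p
  have h2 : (pr m) ^ p = 1 := by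
    rw [psl_pow_eq_one_iff]
    exact ⟨l ^ p, by rw [← pow_mul, mul_comm, pow_mul, hl1, one_pow], h1⟩
  have h3 := orderOf_dvd_of_pow_eq_one h2
  rcases (Nat.dvd_prime hpp).1 h3 with h | h
  · rw [h]; exact odd_one
  · rw [h]; exact hpp.odd_of_ne_two hp2

theorem odd_orderOf_of_trace_sq (p : ℕ) [Fact p.Prime] [CharP F p] (hp2 : p ≠ 2)
    (m : SL(2, F)) (ht : (m : Matrix (Fin 2) (Fin 2) F).trace ^ 2 = 4) :
    Odd (orderOf (pr m)) := by
  have hF : ringChar F ≠ 2 := by rw [ringChar.eq F p]; exact hp2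
  have h2 : (2 : F) ≠ 0 := Ring.two_ne_zero hF
  apply odd_orderOf_of_double_root p hp2 m ((m : Matrix (Fin 2) (Fin 2) F).trace / 2)
  · field_simp
    linear_combination (-1 : F) * ht
  · field_simp
    linear_combination ht

theorem odd_orderOf_of_root (p : ℕ) [Fact p.Prime] [CharP F p] (hp2 : p ≠ 2)
    (hq : Fintype.card F % 4 = 3) (m : SL(2, F)) (l : F)
    (hl : l ^ 2 - (m : Matrix (Fin 2) (Fin 2) F).trace * l + 1 = 0) :
    Odd (orderOf (pr m)) := by
  by_cases hl1 : l ^ 2 = 1
  · exact odd_orderOf_of_double_root p hp2 m l hl hl1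
  · have hl0 : l ≠ 0 := by
      rintro rfl
      simp at hl
    set k := (Fintype.card F - 1) / 2 with hk
    have hk2 : 2 * k = Fintype.card F - 1 := by omega
    have hlk : l ^ (2 * k) = 1 := by
      rw [hk2]; exact FiniteField.pow_card_sub_one_eq_one l hl0
    have h1 := pow_eq_smul_of_root (m : Matrix (Fin 2) (Fin 2) F) m.2 l hl hl1 k hlk
    have h2 : (pr m) ^ k = 1 := by
      rw [psl_pow_eq_one_iff]
      exact ⟨l ^ k, by rw [← pow_mul, mul_comm, hlk], h1⟩
    have h3 := orderOf_dvd_of_pow_eq_one h2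
    have hkodd : Odd k := by
      rw [Nat.odd_iff]; omega
    exact Odd.of_dvd_nat hkodd h3

theorem odd_orderOf_of_trace_ne_zero_two [CharP F 2] (m : SL(2, F))
    (ht : (m : Matrix (Fin 2) (Fin 2) F).trace ≠ 0) : Odd (orderOf (pr m)) := by
  haveI : Fact (Nat.Prime 2) := ⟨Nat.prime_two⟩
  have heven : Fintype.card F % 2 = 0 := FiniteField.even_card_of_char_two (ringChar.eq F 2)
  have hg : Nat.gcd 2 (Fintype.card F - 1) = 1 := gcd_two_card_sub_one_of_even heven
  have h1lt : 1 < Fintype.card F := Fintype.one_lt_card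
  have h2F : (2 : F) = 0 := CharTwo.two_eq_zero
  rcases psl_orderOf_dvd 2 (pr m) with h | h | h
  · rcases (Nat.dvd_prime Nat.prime_two).1 h with h' | h'
    · rw [h']; exact odd_one
    · exfalso
      have h2 : (pr m) ^ 2 = 1 := by
        have := pow_orderOf_eq_one (pr m)
        rwa [h'] at this
      rw [psl_pow_eq_one_iff] at h2
      obtain ⟨r, hr, hM⟩ := h2
      have hr1 : r = 1 := by
        have : (r - 1) ^ 2 = 0 := by linear_combination hr + (1 - r) * h2F
        have := pow_eq_zero_iff (n := 2) (by norm_num) |>.1 this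
        exact sub_eq_zero.1 this
      have hsq := sq_eq_of_det_one (m : Matrix (Fin 2) (Fin 2) F) m.2
      rw [pow_two, hsq, hr1, one_smul] at hM
      have hz : (m : Matrix (Fin 2) (Fin 2) F).trace • (m : Matrix (Fin 2) (Fin 2) F) = 0 := by
        have : (m : Matrix (Fin 2) (Fin 2) F).trace • (m : Matrix (Fin 2) (Fin 2) F) =
            (2 : F) • (1 : Matrix (Fin 2) (Fin 2) F) := by
          rw [two_smul]
          exact sub_eq_iff_eq_add.1 hM
        rw [this, h2F, zero_smul]
      have hm0 : (m : Matrix (Fin 2) (Fin 2) F) = 0 := by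
        rcases smul_eq_zero.1 hz with h0 | h0
        · exact absurd h0 ht
        · exact h0
      have hdet := m.2
      rw [hm0, Matrix.det_zero] at hdet
      exact zero_ne_one hdet
  · rw [hg, Nat.div_one] at h
    have hodd : Odd (Fintype.card F - 1) := by
      rw [Nat.odd_iff]; omega
    exact Odd.of_dvd_nat hodd h
  · rw [hg, Nat.div_one] at h
    have hodd : Odd (Fintype.card F + 1) := by
      rw [Nat.odd_iff]; omega
    exact Odd.of_dvd_nat hodd h

section oddchar

variable (hF : ringChar F ≠ 2)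

include hF in
theorem trace_zero_of_orderOf_two (g : SL(2, F)) (hx : orderOf (pr g) = 2) :
    (g : Matrix (Fin 2) (Fin 2) F).trace = 0 := by
  have h2 : (2 : F) ≠ 0 := Ring.two_ne_zero hF
  have hx2 : (pr g) ^ 2 = 1 := by
    have := pow_orderOf_eq_one (pr g)
    rwa [hx] at this
  rw [psl_pow_eq_one_iff] at hx2
  obtain ⟨r, hr, hM⟩ := hx2
  have hsq := sq_eq_of_det_one (g : Matrix (Fin 2) (Fin 2) F) g.2
  rw [pow_two, hsq] at hM
  by_contra ht
  -- then `g` is scalar
  have hscal : (g : Matrix (Fin 2) (Fin 2) F) =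
      ((r + 1) / (g : Matrix (Fin 2) (Fin 2) F).trace) • (1 : Matrix (Fin 2) (Fin 2) F) := by
    have h1 : (g : Matrix (Fin 2) (Fin 2) F).trace • (g : Matrix (Fin 2) (Fin 2) F) =
        (r + 1) • (1 : Matrix (Fin 2) (Fin 2) F) := by
      rw [add_smul, one_smul]
      exact sub_eq_iff_eq_add.1 hM
    rw [div_eq_inv_mul, mul_smul, ← h1, smul_smul, inv_mul_cancel₀ ht, one_smul]
  have hone : (pr g) ^ 1 = 1 := by
    rw [psl_pow_eq_one_iff]
    set s := (r + 1) / (g : Matrix (Fin 2) (Fin 2) F).trace with hs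
    refine ⟨s, ?_, by rw [pow_one]; exact hscal⟩
    have hdet := g.2
    rw [hscal, Matrix.det_smul, Matrix.det_one, Fintype.card_fin, mul_one] at hdet
    exact hdet
  have := orderOf_dvd_of_pow_eq_one hone
  rw [hx] at this
  omega

include hF in
theorem orderOf_two_of_trace_zero (g : SL(2, F))
    (ht : (g : Matrix (Fin 2) (Fin 2) F).trace = 0) : orderOf (pr g) = 2 := by
  have h2 : (2 : F) ≠ 0 := Ring.two_ne_zero hF
  have hsq := sq_eq_of_det_one (g : Matrix (Fin 2) (Fin 2) F) g.2
  rw [ht, zero_smul, zero_sub] at hsq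
  apply orderOf_eq_prime
  · rw [psl_pow_eq_one_iff]
    refine ⟨-1, by ring, ?_⟩
    rw [pow_two, hsq, neg_smul, one_smul]
  · intro h1
    have hone : (pr g) ^ 1 = 1 := by rw [pow_one]; exact h1
    rw [psl_pow_eq_one_iff] at hone
    obtain ⟨r, hr, hM⟩ := hone
    rw [pow_one] at hM
    have htr : (g : Matrix (Fin 2) (Fin 2) F).trace = 2 * r := by
      rw [hM, Matrix.trace_fin_two]
      simp
      ring
    rw [ht] at htr
    have hr0 : r = 0 := by
      rcases mul_eq_zero.1 htr.symm with h | h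
      · exact absurd h h2
      · exact h
    rw [hr0] at hr
    simp at hr

include hF in
theorem isConj_of_trace_zero (g h : SL(2, F))
    (hg : (g : Matrix (Fin 2) (Fin 2) F).trace = 0)
    (hh : (h : Matrix (Fin 2) (Fin 2) F).trace = 0) : IsConj (pr g) (pr h) := by
  have h2 : (2 : F) ≠ 0 := Ring.two_ne_zero hF
  have h4 : (4 : F) ≠ 0 := by
    have : (4 : F) = 2 * 2 := by norm_num
    rw [this]; exact mul_ne_zero h2 h2
  have hns : ∀ k : SL(2, F), (k : Matrix (Fin 2) (Fin 2) F).trace = 0 →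
      ¬ IsScalar2 (k : Matrix (Fin 2) (Fin 2) F) := by
    intro k hk ⟨h01, h10, h00⟩
    rw [Matrix.trace_fin_two, ← h00] at hk
    have hk0 : (k : Matrix (Fin 2) (Fin 2) F) 0 0 = 0 := by
      have : 2 * (k : Matrix (Fin 2) (Fin 2) F) 0 0 = 0 := by linear_combination hk
      rcases mul_eq_zero.1 this with h | h
      · exact absurd h h2
      · exact h
    have hdet := sl2_det k
    have e1 : k.1 0 0 = 0 := hk0
    have e2 : k.1 0 1 = 0 := h01
    rw [e1, e2] at hdet
    simp at hdet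
  have hrep : ∀ k : SL(2, F), (k : Matrix (Fin 2) (Fin 2) F).trace = 0 → Rep1 k := by
    intro k hk
    apply rep1_of_trace_sq_ne hF
    rw [hk]
    intro h
    apply h4
    rw [← h]; ring
  have hc : IsConj g h := by
    rw [SL2_isConj_iff hF g h (hns g hg) (hns h hh)]
    exact ⟨by rw [hg, hh], ⟨fun _ => hrep h hh, fun _ => hrep g hg⟩⟩
  exact (QuotientGroup.mk' (Subgroup.center SL(2, F))).map_isConj hc

end oddchar

section evenchar

variable [CharP F 2]

theorem exists_sqrt_two (a : F) : ∃ b : F, b ^ 2 = a := by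
  have hinj : Function.Injective fun x : F => x ^ 2 := CharTwo.sq_injective
  exact (Finite.injective_iff_surjective.1 hinj) a

theorem isConj_u_two {a b : F} (ha : a ≠ 0) (hb : b ≠ 0) : IsConj (u a) (u b) := by
  obtain ⟨t, ht⟩ := exists_sqrt_two (b / a)
  have ht0 : t ≠ 0 := by
    rintro rfl
    have : b / a = 0 := by rw [← ht]; ring
    rcases div_eq_zero_iff.1 this with h | h
    · exact hb h
    · exact ha h
  rw [isConj_iff]
  refine ⟨dd t, ?_⟩
  rw [dd_conj_u ht0, ht]
  congr 1
  field_simp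

theorem isConj_of_sq_eq_one_two (g h : SL(2, F)) (hg : g ^ 2 = 1) (hg1 : g ≠ 1)
    (hh : h ^ 2 = 1) (hh1 : h ≠ 1) : IsConj g h := by
  haveI : Fact (Nat.Prime 2) := ⟨Nat.prime_two⟩
  obtain ⟨s, a, ha, hs⟩ := Cfsg.Agent.Helper4.DSL.exists_conj_u 2 g hg hg1
  obtain ⟨s', b, hb, hs'⟩ := Cfsg.Agent.Helper4.DSL.exists_conj_u 2 h hh hh1
  have h1 : IsConj g (u a) := isConj_iff.2 ⟨s, hs⟩
  have h2 : IsConj h (u b) := isConj_iff.2 ⟨s', hs'⟩
  exact h1.trans ((isConj_u_two ha hb).trans h2.symm)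

/-- squares of lifts of involutions in characteristic two -/
theorem sq_eq_one_of_orderOf_two (g : SL(2, F)) (hx : orderOf (pr g) = 2) :
    g ^ 2 = 1 ∧ g ≠ 1 := by
  have h2F : (2 : F) = 0 := CharTwo.two_eq_zero
  constructor
  · have hx2 : (pr g) ^ 2 = 1 := by
      have := pow_orderOf_eq_one (pr g)
      rwa [hx] at this
    rw [psl_pow_eq_one_iff] at hx2
    obtain ⟨r, hr, hM⟩ := hx2
    have hr1 : r = 1 := by
      have : (r - 1) ^ 2 = 0 := by linear_combination hr + (1 - r) * h2F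
      have := pow_eq_zero_iff (n := 2) (by norm_num) |>.1 this
      exact sub_eq_zero.1 this
    apply Subtype.ext
    rw [Matrix.SpecialLinearGroup.coe_pow, hM, hr1, one_smul, Matrix.SpecialLinearGroup.coe_one]
  · rintro rfl
    have : orderOf (pr (1 : SL(2, F))) = 1 := by
      have : pr (1 : SL(2, F)) = 1 := rfl
      rw [this, orderOf_one]
    omega

theorem orderOf_two_of_sq_eq_one (g : SL(2, F)) (hg : g ^ 2 = 1) (hg1 : g ≠ 1) :
    orderOf (pr g) = 2 := by
  have h2F : (2 : F) = 0 := CharTwo.two_eq_zero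
  apply orderOf_eq_prime
  · have : pr g ^ 2 = pr (g ^ 2) := rfl
    rw [this, hg]; rfl
  · intro h1
    have hone : (pr g) ^ 1 = 1 := by rw [pow_one]; exact h1
    rw [psl_pow_eq_one_iff] at hone
    obtain ⟨r, hr, hM⟩ := hone
    rw [pow_one] at hM
    have hr1 : r = 1 := by
      have : (r - 1) ^ 2 = 0 := by linear_combination hr + (1 - r) * h2F
      have := pow_eq_zero_iff (n := 2) (by norm_num) |>.1 this
      exact sub_eq_zero.1 this
    apply hg1
    apply Subtype.ext
    rw [hM, hr1, one_smul, Matrix.SpecialLinearGroup.coe_one]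

end evenchar

end Cfsg.Agent.Helper11.InvGraph
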