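import Mathlib
import Cfsg.Agent.Lib.Helper11.InvGraph2

set_option autoImplicit false
set_option linter.unusedVariables false
set_option linter.unusedSectionVars false
set_option linter.unusedSimpArgs false

/-! The odd-product graph on involutions of `PSL₂(F)`: characteristic two, and the case where
`-1` is a square. -/

namespace Cfsg.Agent.Helper11.InvGraph

open Matrix Matrix.SpecialLinearGroup
open scoped MatrixGroups
open Cfsg.Agent.Helper2.SL2S
open Cfsg.Agent.Helper12
open Cfsg.Agent.Helper11.Dickson (sl2_ext sl2_det m00 m01 m10 m11 i00 i01 i10 i11 u00 u01 u10 u11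
  v00 v01 v10 v11 dd dd_conj_u)

variable {F : Type*} [Field F] [Fintype F]

theorem orderOf_eq_of_isConj {G : Type*} [Group G] {x y : G} (h : IsConj x y) :
    orderOf x = orderOf y := by
  obtain ⟨c, hc⟩ := isConj_iff.1 h
  rw [← hc, orderOf_conj_eq]

section evenchar

variable [CharP F 2]

theorem trace_zero_of_sq_eq_one_two (g : SL(2, F)) (hg : g ^ 2 = 1) :
    g.1 0 0 + g.1 1 1 = 0 := by
  have h2F : (2 : F) = 0 := CharTwo.two_eq_zero
  have hsq := sq_eq_of_det_one (g : Matrix (Fin 2) (Fin 2) F) g.2
  have hM : (g : Matrix (Fin 2) (Fin 2) F) * (g : Matrix (Fin 2) (Fin 2) F) = 1 := by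
    have := congrArg (fun x : SL(2, F) => (x : Matrix (Fin 2) (Fin 2) F)) hg
    simpa [pow_two] using this
  rw [hM] at hsq
  have hz : (g : Matrix (Fin 2) (Fin 2) F).trace • (g : Matrix (Fin 2) (Fin 2) F) = 0 := by
    have : (g : Matrix (Fin 2) (Fin 2) F).trace • (g : Matrix (Fin 2) (Fin 2) F) =
        (2 : F) • (1 : Matrix (Fin 2) (Fin 2) F) := by
      rw [two_smul]
      exact (sub_eq_iff_eq_add.1 hsq.symm)
    rw [this, h2F, zero_smul]
  rcases smul_eq_zero.1 hz with h0 | h0
  · rw [← tr_eq]; exact h0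
  · exfalso
    have hdet := g.2
    rw [h0, Matrix.det_zero] at hdet
    exact zero_ne_one hdet

theorem u_sq_two (a : F) : (u a) ^ 2 = 1 := by
  rw [Cfsg.Agent.Helper4.DSL.u_pow]
  have : ((2 : ℕ) : F) * a = 0 := by
    have h2F : (2 : F) = 0 := CharTwo.two_eq_zero
    push_cast
    rw [h2F, zero_mul]
  rw [this]
  exact (Cfsg.Agent.Helper4.DSL.u_eq_one_iff 0).2 rfl

theorem v_sq_two (a : F) : (v a) ^ 2 = 1 := by
  rw [Cfsg.Agent.Helper4.DSL.v_pow]
  have : ((2 : ℕ) : F) * a = 0 := by
    have h2F : (2 : F) = 0 := CharTwo.two_eq_zero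
    push_cast
    rw [h2F, zero_mul]
  rw [this]
  exact (Cfsg.Agent.Helper4.DSL.v_eq_one_iff 0).2 rfl

theorem invgraph_even (hF : 4 ≤ Fintype.card F)
    (t : Matrix.ProjectiveSpecialLinearGroup (Fin 2) F) (ht : orderOf t = 2) :
    (SimpleGraph.fromRel fun x y : {x : Matrix.ProjectiveSpecialLinearGroup (Fin 2) F // IsConj t x} =>
        Odd (orderOf (x.1 * y.1))).Connected ∧
      (SimpleGraph.fromRel fun x y : {x : Matrix.ProjectiveSpecialLinearGroup (Fin 2) F // IsConj t x} =>
        Odd (orderOf (x.1 * y.1))).diam = 2 := by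
  classical
  have h2F : (2 : F) = 0 := CharTwo.two_eq_zero
  obtain ⟨g, rfl⟩ := pr_surjective t
  obtain ⟨hg2, hg1⟩ := sq_eq_one_of_orderOf_two g ht
  have hu1 : u (1 : F) ≠ 1 := fun h => one_ne_zero ((Cfsg.Agent.Helper4.DSL.u_eq_one_iff (1 : F)).1 h)
  have hv1 : v (1 : F) ≠ 1 := fun h => one_ne_zero ((Cfsg.Agent.Helper4.DSL.v_eq_one_iff (1 : F)).1 h)
  have hconj : ∀ k : SL(2, F), k ^ 2 = 1 → k ≠ 1 → IsConj (pr (u (1 : F))) (pr k) := by
    intro k hk hk1
    exact (QuotientGroup.mk' (Subgroup.center SL(2, F))).map_isConj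
      (isConj_of_sq_eq_one_two (u 1) k (u_sq_two 1) hu1 hk hk1)
  have hord0 : orderOf (pr (u (1 : F))) = 2 := orderOf_two_of_sq_eq_one _ (u_sq_two 1) hu1
  apply invgraph_of_base (pr g) (pr (u 1)) (hconj g hg2 hg1).symm
  · -- two non-adjacent vertices
    obtain ⟨b, hb⟩ : ∃ b : F, b ∉ ({0, 1} : Finset F) := by
      by_contra hcon
      push Not at hcon
      have : (Finset.univ : Finset F) ⊆ {0, 1} := fun x _ => hcon x
      have := Finset.card_le_card this
      rw [Finset.card_univ] at this
      have h2 : ({0, 1} : Finset F).card ≤ 2 := Finset.card_le_two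
      omega
    have hb0 : b ≠ 0 := fun h => hb (by rw [h]; simp)
    have hb1 : b ≠ 1 := fun h => hb (by rw [h]; simp)
    have hub : u b ≠ 1 := fun h => hb0 ((Cfsg.Agent.Helper4.DSL.u_eq_one_iff b).1 h)
    have hprod : orderOf (pr (u (1 : F)) * pr (u b)) = 2 := by
      rw [← pr_mul]
      apply orderOf_two_of_sq_eq_one
      · have : u (1 : F) * u b = u (1 + b) := by
          apply sl2_ext <;> simp only [m00, m01, m10, m11, u00, u01, u10, u11] <;> ring
        rw [this]; exact u_sq_two _
      · intro h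
        have h01 := congrArg (fun x : SL(2, F) => x.1 0 1) h
        simp only [m00, m01, m10, m11, u00, u01, u10, u11] at h01
        have h01' : (1 : F) * b + 1 * 1 = 0 := by
          rw [h01]; simp
        apply hb1
        have : b + 1 = 0 := by linear_combination h01'
        have := CharTwo.add_eq_zero.1 this
        exact this
    refine ⟨pr (u b), hconj (u b) (u_sq_two b) hub, ?_, ?_⟩
    · intro h
      rw [h] at hprod
      have : pr (u (1 : F)) * pr (u (1 : F)) = 1 := by
        have h' := pow_orderOf_eq_one (pr (u (1 : F)))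
        rwa [hord0, pow_two] at h'
      rw [this, orderOf_one] at hprod
      omega
    · rw [hprod]; decide
  · -- common neighbours
    intro y hy hy0 hyodd
    obtain ⟨h, rfl⟩ := pr_surjective y
    have hordh : orderOf (pr h) = 2 := by rw [← orderOf_eq_of_isConj hy]; exact hord0
    obtain ⟨hh2, hh1⟩ := sq_eq_one_of_orderOf_two h hordh
    have htr := trace_zero_of_sq_eq_one_two h hh2
    -- lower left entry vanishes
    have h10 : h.1 1 0 = 0 := by
      by_contra hne
      apply hyodd
      rw [← pr_mul]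
      apply odd_orderOf_of_trace_ne_zero_two
      rw [tr_eq]
      simp only [m00, m01, m10, m11, u00, u01, u10, u11]
      intro h0
      apply hne
      linear_combination h0 - htr
    have h01 : h.1 0 1 ≠ 0 := by
      intro h01
      apply hh1
      have hdet := sl2_det h
      rw [h01, h10] at hdet
      have h00 : h.1 0 0 = h.1 1 1 := CharTwo.add_eq_zero.1 htr
      have hsq : (h.1 0 0 - 1) ^ 2 = 0 := by
        rw [← h00] at hdet
        linear_combination hdet + (1 - h.1 0 0) * h2F
      have h001 : h.1 0 0 = 1 := sub_eq_zero.1 (pow_eq_zero_iff (n := 2) (by norm_num) |>.1 hsq)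
      apply sl2_ext
      · rw [h001]; simp
      · rw [h01]; simp
      · rw [h10]; simp
      · rw [← h00, h001]; simp
    refine ⟨pr (v 1), hconj (v 1) (v_sq_two 1) hv1, ?_, ?_⟩
    · rw [← pr_mul]
      apply odd_orderOf_of_trace_ne_zero_two
      rw [tr_eq]
      simp only [m00, m01, m10, m11, u00, u01, u10, u11, v00, v01, v10, v11]
      intro h0
      have : (1 : F) = 0 := by linear_combination h0 - h2F
      exact one_ne_zero this
    · rw [← pr_mul]
      apply odd_orderOf_of_trace_ne_zero_two
      rw [tr_eq]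
      simp only [m00, m01, m10, m11, u00, u01, u10, u11, v00, v01, v10, v11]
      intro h0
      apply h01
      linear_combination h0 - htr

end evenchar

end Cfsg.Agent.Helper11.InvGraph
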