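import Mathlib
import Cfsg.Agent.Lib.Helper11.InvGraph2

set_option autoImplicit false
set_option linter.unusedVariables false
set_option linter.unusedSectionVars false
set_option linter.unusedSimpArgs false

/-! The odd-product graph on involutions of `PSL₂(F)` when `-1` is a square, odd characteristic. -/

namespace Cfsg.Agent.Helper11.InvGraph

open Matrix Matrix.SpecialLinearGroup
open scoped MatrixGroups
open Cfsg.Agent.Helper12
open Cfsg.Agent.Helper11.Dickson (sl2_ext sl2_det m00 m01 m10 m11)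

variable {F : Type*} [Field F]

/-- explicit elements of `SL₂` -/
def mk2 (a b c d : F) (h : a * d - b * c = 1) : SL(2, F) :=
  ⟨!![a, b; c, d], by rw [Matrix.det_fin_two_of]; exact h⟩

theorem mk2_00 (a b c d : F) (h : a * d - b * c = 1) : (mk2 a b c d h).1 0 0 = a := by simp [mk2]
theorem mk2_01 (a b c d : F) (h : a * d - b * c = 1) : (mk2 a b c d h).1 0 1 = b := by simp [mk2]
theorem mk2_10 (a b c d : F) (h : a * d - b * c = 1) : (mk2 a b c d h).1 1 0 = c := by simp [mk2]
theorem mk2_11 (a b c d : F) (h : a * d - b * c = 1) : (mk2 a b c d h).1 1 1 = d := by simp [mk2]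

/-- the standard element of order four -/
def x0 : SL(2, F) := mk2 0 (-1) 1 0 (by ring)

theorem x0_00 : (x0 : SL(2, F)).1 0 0 = 0 := mk2_00 _ _ _ _ _
theorem x0_01 : (x0 : SL(2, F)).1 0 1 = -1 := mk2_01 _ _ _ _ _
theorem x0_10 : (x0 : SL(2, F)).1 1 0 = 1 := mk2_10 _ _ _ _ _
theorem x0_11 : (x0 : SL(2, F)).1 1 1 = 0 := mk2_11 _ _ _ _ _

theorem orderOf_eq_of_isConj' {G : Type*} [Group G] {x y : G} (h : IsConj x y) :
    orderOf x = orderOf y := by
  obtain ⟨c, hc⟩ := isConj_iff.1 h
  rw [← hc, orderOf_conj_eq]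

variable [Fintype F]

theorem invgraph_sq (p : ℕ) [Fact p.Prime] [CharP F p] (hp2 : p ≠ 2) (i : F) (hi : i * i = -1)
    (t : Matrix.ProjectiveSpecialLinearGroup (Fin 2) F) (ht : orderOf t = 2) :
    (SimpleGraph.fromRel fun x y : {x : Matrix.ProjectiveSpecialLinearGroup (Fin 2) F // IsConj t x} =>
        Odd (orderOf (x.1 * y.1))).Connected ∧
      (SimpleGraph.fromRel fun x y : {x : Matrix.ProjectiveSpecialLinearGroup (Fin 2) F // IsConj t x} =>
        Odd (orderOf (x.1 * y.1))).diam = 2 := by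
  have hF : ringChar F ≠ 2 := by rw [ringChar.eq F p]; exact hp2
  have h2 : (2 : F) ≠ 0 := Ring.two_ne_zero hF
  obtain ⟨g, rfl⟩ := pr_surjective t
  have htr := trace_zero_of_orderOf_two hF g ht
  set d : SL(2, F) := mk2 i 0 0 (-i) (by linear_combination (-1 : F) * hi) with hd
  have hdtr : (d : Matrix (Fin 2) (Fin 2) F).trace = 0 := by
    rw [tr_eq, hd, mk2_00, mk2_11]; ring
  have hord0 : orderOf (pr d) = 2 := orderOf_two_of_trace_zero hF d hdtr
  have hsq0 : pr d * pr d = 1 := by
    have h' := pow_orderOf_eq_one (pr d)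
    rwa [hord0, pow_two] at h'
  apply invgraph_of_base (pr g) (pr d) (isConj_of_trace_zero hF g d htr hdtr)
  · have hx0tr : ((x0 : SL(2, F)) : Matrix (Fin 2) (Fin 2) F).trace = 0 := by
      rw [tr_eq, x0_00, x0_11]; ring
    have hprod : orderOf (pr d * pr (x0 : SL(2, F))) = 2 := by
      rw [← pr_mul]
      apply orderOf_two_of_trace_zero hF
      rw [tr_eq]
      simp only [m00, m01, m10, m11, hd, mk2_00, mk2_01, mk2_10, mk2_11, x0_00, x0_01, x0_10,
        x0_11]
      ring
    refine ⟨pr x0, isConj_of_trace_zero hF d x0 hdtr hx0tr, ?_, ?_⟩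
    · intro h
      rw [h, hsq0, orderOf_one] at hprod
      omega
    · rw [hprod]; decide
  · intro y hy hy0 hyodd
    obtain ⟨h, rfl⟩ := pr_surjective y
    have hordh : orderOf (pr h) = 2 := by rw [← orderOf_eq_of_isConj' hy]; exact hord0
    have hhtr := trace_zero_of_orderOf_two hF h hordh
    rw [tr_eq] at hhtr
    have h11 : h.1 1 1 = -h.1 0 0 := by linear_combination hhtr
    have hdet := sl2_det h
    rw [h11] at hdet
    by_cases hc : h.1 1 0 = 0
    · exfalso
      apply hyodd
      rw [← pr_mul]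
      apply odd_orderOf_of_trace_sq p hp2
      rw [tr_eq]
      simp only [m00, m01, m10, m11, hd, mk2_00, mk2_01, mk2_10, mk2_11, h11]
      rw [hc] at hdet
      linear_combination (4 : F) * hdet + (4 * h.1 0 0 ^ 2) * hi
    · set f : F := (2 - 2 * i * h.1 0 0) / h.1 1 0 with hf
      set k : SL(2, F) := mk2 i f 0 (-i) (by linear_combination (-1 : F) * hi) with hk
      have hktr : (k : Matrix (Fin 2) (Fin 2) F).trace = 0 := by
        rw [tr_eq, hk, mk2_00, mk2_11]; ring
      refine ⟨pr k, isConj_of_trace_zero hF d k hdtr hktr, ?_, ?_⟩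
      · rw [← pr_mul]
        apply odd_orderOf_of_trace_sq p hp2
        rw [tr_eq]
        simp only [m00, m01, m10, m11, hd, hk, mk2_00, mk2_01, mk2_10, mk2_11]
        linear_combination (4 * i * i - 4) * hi
      · rw [← pr_mul]
        apply odd_orderOf_of_trace_sq p hp2
        rw [tr_eq]
        simp only [m00, m01, m10, m11, hk, mk2_00, mk2_01, mk2_10, mk2_11, h11]
        have hfc : f * h.1 1 0 = 2 - 2 * i * h.1 0 0 := by
          rw [hf]; field_simp
        have : i * h.1 0 0 + f * h.1 1 0 + (0 * h.1 0 1 + -i * -h.1 0 0) = 2 := by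
          linear_combination hfc
        rw [this]; norm_num

end Cfsg.Agent.Helper11.InvGraph
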