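import Mathlib
import Cfsg.Agent.Lib.Helper11.InvGraph4

set_option autoImplicit false
set_option linter.unusedVariables false
set_option linter.unusedSectionVars false
set_option linter.unusedSimpArgs false

/-! The odd-product graph on involutions of `PSL₂(F)` when `-1` is not a square: the quartic
invariant and the tournament argument. -/

namespace Cfsg.Agent.Helper11.InvGraph

open Matrix Matrix.SpecialLinearGroup Polynomial
open scoped MatrixGroups
open Cfsg.Agent.Helper12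
open Cfsg.Agent.Helper11.Dickson (sl2_ext sl2_det m00 m01 m10 m11)

variable {F : Type*} [Field F]

/-- the quartic invariant of a pair of vectors `v`, `w` -/
def Phi (a b c v0 v1 w0 w1 : F) : F :=
  (w0 * v0 + w1 * v1) * ((a * w0 + b * w1) * v0 + (c * w0 - a * w1) * v1) *
    (w0 * v1 - w1 * v0) * ((a * w0 + b * w1) * v1 - (c * w0 - a * w1) * v0)

theorem Phi_swap (a b c v0 v1 w0 w1 : F) (hrel : a ^ 2 + b * c = -1) :
    Phi a b c (a * w0 + b * w1) (c * w0 - a * w1) v0 v1 =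
      ((a * w0 + b * w1) * v0 + (c * w0 - a * w1) * v1) *
      (-((-a * (b - c) * w0 - (a ^ 2 + b ^ 2) * w1) * v1 -
          ((a ^ 2 + c ^ 2) * w0 + a * (b - c) * w1) * v0)) *
      (-((a * w0 + b * w1) * v1 - (c * w0 - a * w1) * v0)) * (-(w0 * v1 - w1 * v0)) := by
  have R2 : (a * v0 + b * v1) * (c * w0 - a * w1) - (c * v0 - a * v1) * (a * w0 + b * w1) =
      v0 * w1 - v1 * w0 := by
    linear_combination (-(v0 * w1 - v1 * w0)) * hrel
  unfold Phi
  rw [R2]
  have f1 : v0 * (a * w0 + b * w1) + v1 * (c * w0 - a * w1) =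
      (a * w0 + b * w1) * v0 + (c * w0 - a * w1) * v1 := by ring
  have f2 : (a * v0 + b * v1) * (a * w0 + b * w1) + (c * v0 - a * v1) * (c * w0 - a * w1) =
      -((-a * (b - c) * w0 - (a ^ 2 + b ^ 2) * w1) * v1 -
          ((a ^ 2 + c ^ 2) * w0 + a * (b - c) * w1) * v0) := by ring
  have f3 : v0 * (c * w0 - a * w1) - v1 * (a * w0 + b * w1) =
      -((a * w0 + b * w1) * v1 - (c * w0 - a * w1) * v0) := by ring
  have f4 : v0 * w1 - v1 * w0 = -(w0 * v1 - w1 * v0) := by ring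
  rw [f1, f2, f3, f4]

theorem Phi_key (a b c v0 v1 w0 w1 : F) (hrel : a ^ 2 + b * c = -1) :
    Phi a b c v0 v1 w0 w1 * Phi a b c (a * w0 + b * w1) (c * w0 - a * w1) v0 v1 =
      -((w0 * v0 + w1 * v1) * ((a * w0 + b * w1) * v0 + (c * w0 - a * w1) * v1) ^ 2 *
        (w0 * v1 - w1 * v0) ^ 2 * ((a * w0 + b * w1) * v1 - (c * w0 - a * w1) * v0) ^ 2 *
        ((-a * (b - c) * w0 - (a ^ 2 + b ^ 2) * w1) * v1 -
          ((a ^ 2 + c ^ 2) * w0 + a * (b - c) * w1) * v0)) := by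
  rw [Phi_swap _ _ _ _ _ _ _ hrel]
  unfold Phi
  generalize w0 * v0 + w1 * v1 = D1
  generalize (a * w0 + b * w1) * v0 + (c * w0 - a * w1) * v1 = D2
  generalize w0 * v1 - w1 * v0 = B1
  generalize (a * w0 + b * w1) * v1 - (c * w0 - a * w1) * v0 = B2
  generalize (-a * (b - c) * w0 - (a ^ 2 + b ^ 2) * w1) * v1 -
          ((a ^ 2 + c ^ 2) * w0 + a * (b - c) * w1) * v0 = G1
  ring

theorem Phi_special (a b c v0 v1 t σ κ Ea Eb : F) (hrel : a ^ 2 + b * c = -1)
    (s1 : 1 * v0 + t * v1 = -((b - c) * κ))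
    (s2 : (a * 1 + b * t) * v0 + (c * 1 - a * t) * v1 = -Eb)
    (s3 : 1 * v1 - t * v0 = Ea)
    (s4 : (a * 1 + b * t) * v1 - (c * 1 - a * t) * v0 = (σ ^ 2 - 1) * κ)
    (s5 : (-a * (b - c) * 1 - (a ^ 2 + b ^ 2) * t) * v1 -
          ((a ^ 2 + c ^ 2) * 1 + a * (b - c) * t) * v0 = -(σ ^ 2 * (b - c) * κ)) :
    Phi a b c v0 v1 1 t * Phi a b c (a * 1 + b * t) (c * 1 - a * t) v0 v1 =
      -(σ * (b - c) * κ ^ 2 * Eb * Ea * (σ ^ 2 - 1)) ^ 2 := by
  rw [Phi_key _ _ _ _ _ _ _ hrel, s1, s2, s3, s4, s5]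
  ring

theorem Phi_comm (a b s : F) (hrel : a ^ 2 + b * b = -1) :
    Phi a b b s 1 1 0 * Phi a b b (a * 1 + b * 0) (b * 1 - a * 0) s 1 =
      -(s * (a * s + b) * (a - b * s)) ^ 2 := by
  rw [Phi_key _ _ _ _ _ _ _ hrel]
  have e1 : (1 : F) * s + 0 * 1 = s := by ring
  have e2 : (a * 1 + b * 0) * s + (b * 1 - a * 0) * 1 = a * s + b := by ring
  have e3 : (1 : F) * 1 - 0 * s = 1 := by ring
  have e4 : (a * 1 + b * 0) * 1 - (b * 1 - a * 0) * s = a - b * s := by ring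
  have e5 : (-a * (b - b) * 1 - (a ^ 2 + b ^ 2) * 0) * 1 -
      ((a ^ 2 + b ^ 2) * 1 + a * (b - b) * 0) * s = s := by
    linear_combination (-s) * hrel
  rw [e1, e2, e3, e4, e5]
  ring

section finite

variable [Fintype F]

theorem exists_ne_zero_of_quadratics (A1 B1 C1 A2 B2 C2 : F)
    (h1 : ¬(A1 = 0 ∧ B1 = 0 ∧ C1 = 0)) (h2 : ¬(A2 = 0 ∧ B2 = 0 ∧ C2 = 0))
    (hcard : 5 ≤ Fintype.card F) :
    ∃ t : F, A1 + B1 * t + C1 * t ^ 2 ≠ 0 ∧ A2 + B2 * t + C2 * t ^ 2 ≠ 0 := by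
  classical
  have hne : ∀ A B C' : F, ¬(A = 0 ∧ B = 0 ∧ C' = 0) →
      (C C' * X ^ 2 + C B * X + C A : F[X]) ≠ 0 := by
    intro A B C' h h0
    apply h
    have e0 := congrArg (fun p : F[X] => p.coeff 0) h0
    have e1 := congrArg (fun p : F[X] => p.coeff 1) h0
    have e2 := congrArg (fun p : F[X] => p.coeff 2) h0
    simp [Polynomial.coeff_X, Polynomial.coeff_C, Polynomial.coeff_X_pow] at e0 e1 e2
    exact ⟨e0, e1, e2⟩
  have hp1 := hne A1 B1 C1 h1
  have hp2 := hne A2 B2 C2 h2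
  have hd : ((C C1 * X ^ 2 + C B1 * X + C A1 : F[X]) *
      (C C2 * X ^ 2 + C B2 * X + C A2 : F[X])).natDegree < Fintype.card F := by
    calc _ ≤ (C C1 * X ^ 2 + C B1 * X + C A1 : F[X]).natDegree +
          (C C2 * X ^ 2 + C B2 * X + C A2 : F[X]).natDegree := natDegree_mul_le
      _ ≤ 2 + 2 := add_le_add natDegree_quadratic_le natDegree_quadratic_le
      _ < _ := by omega
  obtain ⟨t, ht⟩ := exists_eval_ne_zero_of_natDegree_lt_card _ (mul_ne_zero hp1 hp2)
    (by rw [Cardinal.mk_fintype]; exact_mod_cast hd)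
  rw [eval_mul] at ht
  refine ⟨t, ?_, ?_⟩
  · intro h
    apply ht
    have : (C C1 * X ^ 2 + C B1 * X + C A1 : F[X]).eval t = 0 := by
      simp only [eval_add, eval_mul, eval_C, eval_pow, eval_X]
      linear_combination h
    rw [this, zero_mul]
  · intro h
    apply ht
    have : (C C2 * X ^ 2 + C B2 * X + C A2 : F[X]).eval t = 0 := by
      simp only [eval_add, eval_mul, eval_C, eval_pow, eval_X]
      linear_combination h
    rw [this, mul_zero]

theorem exists_nonsquare_Phi (hm1 : ¬ IsSquare (-1 : F)) (hcard : 5 ≤ Fintype.card F)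
    (a b c : F) (hrel : a ^ 2 + b * c = -1) (hNA : ∀ l : F, l ^ 2 - (b - c) * l + 1 ≠ 0) :
    ∃ v0 v1 w0 w1 : F, ¬ IsSquare (Phi a b c v0 v1 w0 w1) := by
  by_contra hcon
  push Not at hcon
  have h2 : (2 : F) ≠ 0 := by
    intro h
    apply hm1
    refine ⟨1, ?_⟩
    linear_combination (-1 : F) * h
  have key : ∀ S X' : F, S ≠ 0 → IsSquare X' → X' = -S ^ 2 → False := by
    intro S X' hS hX hXS
    obtain ⟨r, hr⟩ := hX
    apply hm1
    refine ⟨r / S, ?_⟩
    field_simp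
    linear_combination (-1 : F) * hXS + hr
  by_cases hτ : b - c = 0
  · have hcb : c = b := (sub_eq_zero.1 hτ).symm
    subst hcb
    have hrel' : a ^ 2 + c * c = -1 := hrel
    obtain ⟨s, hs1, hs2⟩ := exists_ne_zero_of_quadratics 0 c a a (-c) 0
      (by
        rintro ⟨-, hc0, ha0⟩
        rw [hc0, ha0] at hrel'
        apply hm1
        refine ⟨0, ?_⟩
        linear_combination (-1 : F) * hrel')
      (by
        rintro ⟨ha0, hc0, -⟩
        have hc0' : c = 0 := neg_eq_zero.1 hc0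
        rw [hc0', ha0] at hrel'
        apply hm1
        refine ⟨0, ?_⟩
        linear_combination (-1 : F) * hrel') hcard
    have hS : s * (a * s + c) * (a - c * s) ≠ 0 := by
      intro h
      rcases mul_eq_zero.1 h with h | h
      · apply hs1
        linear_combination h
      · apply hs2
        linear_combination h
    exact key _ _ hS (IsSquare.mul (hcon s 1 1 0) (hcon (a * 1 + c * 0) (c * 1 - a * 0) s 1))
      (Phi_comm a c s hrel')
  · obtain ⟨σ, hσ0, hσ1⟩ := exists_ne_zero_of_quadratics 0 1 0 (-1) 0 1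
      (by rintro ⟨-, h, -⟩; exact one_ne_zero h)
      (by rintro ⟨-, -, h⟩; exact one_ne_zero h) hcard
    have hσ : σ ≠ 0 := by
      intro h; apply hσ0; rw [h]; ring
    have hL1 : σ ^ 2 - 1 ≠ 0 := by
      intro h; apply hσ1; linear_combination h
    have hLm1 : σ ^ 2 + 1 ≠ 0 := by
      intro h
      apply hm1
      refine ⟨σ, ?_⟩
      linear_combination (-1 : F) * h
    obtain ⟨t, ht1, ht2⟩ := exists_ne_zero_of_quadratics
      (a ^ 2 + c ^ 2 + σ ^ 2) (2 * a * (b - c)) (a ^ 2 + b ^ 2 + σ ^ 2)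
      (-c ^ 3 - 2 * a ^ 2 * c + a ^ 2 * b - σ ^ 2 * c)
      (2 * a * (a ^ 2 + b ^ 2 + c ^ 2 - b * c) + 2 * a * σ ^ 2)
      (-a ^ 2 * c + 2 * a ^ 2 * b + b ^ 3 + σ ^ 2 * b)
      (by
        rintro ⟨e1, e2, e3⟩
        have ha0 : a = 0 := by
          rcases mul_eq_zero.1 e2 with h | h
          · rcases mul_eq_zero.1 h with h' | h'
            · exact absurd h' h2
            · exact h'
          · exact absurd h hτ
        rw [ha0] at e1 e3 hrel
        have : (σ ^ 2 - 1) * (σ ^ 2 + 1) = 0 := by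
          linear_combination (-c ^ 2) * e3 + (σ ^ 2) * e1 + (b * c - 1) * hrel
        rcases mul_eq_zero.1 this with h | h
        · exact hL1 h
        · exact hLm1 h)
      (by
        rintro ⟨e1, e2, e3⟩
        have hid : (2 * a * (a ^ 2 + b ^ 2 + c ^ 2 - b * c)) ^ 2 -
            4 * (-c ^ 3 - 2 * a ^ 2 * c + a ^ 2 * b) * (-a ^ 2 * c + 2 * a ^ 2 * b + b ^ 3) =
            4 * (a ^ 2 + b * c) ^ 3 := by ring
        have e1' : -c ^ 3 - 2 * a ^ 2 * c + a ^ 2 * b = σ ^ 2 * c := by linear_combination e1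
        have e2' : 2 * a * (a ^ 2 + b ^ 2 + c ^ 2 - b * c) = -(2 * a * σ ^ 2) := by
          linear_combination e2
        have e3' : -a ^ 2 * c + 2 * a ^ 2 * b + b ^ 3 = -(σ ^ 2 * b) := by linear_combination e3
        rw [e1', e2', e3', hrel] at hid
        have h4 : (4 : F) ≠ 0 := by
          have : (4 : F) = 2 * 2 := by norm_num
          rw [this]; exact mul_ne_zero h2 h2
        have : 4 * ((σ ^ 2 - 1) * (σ ^ 2 + 1)) = 0 := by
          linear_combination (-1 : F) * hid + (4 * σ ^ 4) * hrel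
        rcases mul_eq_zero.1 this with h | h
        · exact h4 h
        · rcases mul_eq_zero.1 h with h' | h'
          · exact hL1 h'
          · exact hLm1 h') hcard
    have hκ : a + (b + c) * t - a * t ^ 2 ≠ 0 := by
      intro hκ
      apply hNA (a * t - c)
      linear_combination (-a) * hκ + hrel
    have hS : σ * (b - c) * (a + (b + c) * t - a * t ^ 2) ^ 2 *
        ((-c ^ 3 - 2 * a ^ 2 * c + a ^ 2 * b - σ ^ 2 * c) +
          (2 * a * (a ^ 2 + b ^ 2 + c ^ 2 - b * c) + 2 * a * σ ^ 2) * t +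
          (-a ^ 2 * c + 2 * a ^ 2 * b + b ^ 3 + σ ^ 2 * b) * t ^ 2) *
        ((a ^ 2 + c ^ 2 + σ ^ 2) + 2 * a * (b - c) * t + (a ^ 2 + b ^ 2 + σ ^ 2) * t ^ 2) *
        (σ ^ 2 - 1) ≠ 0 :=
      mul_ne_zero (mul_ne_zero (mul_ne_zero (mul_ne_zero (mul_ne_zero hσ hτ)
        (pow_ne_zero 2 hκ)) ht2) ht1) hL1
    refine key _ _ hS (IsSquare.mul
      (hcon (-a * (b - c) - (a ^ 2 + b ^ 2 + σ ^ 2) * t)
        (a * (b - c) * t + (a ^ 2 + c ^ 2 + σ ^ 2)) 1 t)
      (hcon (a * 1 + b * t) (c * 1 - a * t) (-a * (b - c) - (a ^ 2 + b ^ 2 + σ ^ 2) * t)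
        (a * (b - c) * t + (a ^ 2 + c ^ 2 + σ ^ 2))))
      (Phi_special a b c _ _ t σ _ _ _ hrel ?_ ?_ ?_ ?_ ?_)
    · ring
    · ring
    · ring
    · linear_combination (a + (b + c) * t - a * t ^ 2) * hrel
    · ring

end finite

theorem root_of_eigen (M : SL(2, F)) (x0 x1 l : F) (hx : x0 ≠ 0 ∨ x1 ≠ 0)
    (h0 : M.1 0 0 * x0 + M.1 0 1 * x1 = l * x0) (h1 : M.1 1 0 * x0 + M.1 1 1 * x1 = l * x1) :
    l ^ 2 - (M : Matrix (Fin 2) (Fin 2) F).trace * l + 1 = 0 := by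
  rw [Matrix.trace_fin_two]
  have hdet := sl2_det M
  have e0 : (l ^ 2 - (M.1 0 0 + M.1 1 1) * l + 1) * x0 = 0 := by
    linear_combination (M.1 1 1 - l) * h0 - M.1 0 1 * h1 + (-x0) * hdet
  have e1 : (l ^ 2 - (M.1 0 0 + M.1 1 1) * l + 1) * x1 = 0 := by
    linear_combination (M.1 0 0 - l) * h1 - M.1 1 0 * h0 + (-x1) * hdet
  rcases hx with hx | hx
  · rcases mul_eq_zero.1 e0 with h | h
    · exact h
    · exact absurd h hx
  · rcases mul_eq_zero.1 e1 with h | h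
    · exact h
    · exact absurd h hx

end Cfsg.Agent.Helper11.InvGraph
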