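import Mathlib
import Cfsg.Agent.Lib.Helper11.InvGraph5

set_option autoImplicit false
set_option linter.unusedVariables false
set_option linter.unusedSectionVars false
set_option linter.unusedSimpArgs false

/-! The odd-product graph on involutions of `PSL₂(F)` when `-1` is not a square: the common
neighbour and the assembly. -/

namespace Cfsg.Agent.Helper11.InvGraph

open Matrix Matrix.SpecialLinearGroup
open scoped MatrixGroups
open Cfsg.Agent.Helper12
open Cfsg.Agent.Helper11.Dickson (sl2_ext sl2_det m00 m01 m10 m11)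

variable {F : Type*} [Field F] [Fintype F]

/-- the common neighbour attached to a pair of vectors with non-square invariant -/
theorem exists_common (hF : ringChar F ≠ 2) (hm1 : ¬ IsSquare (-1 : F))
    (a b c v0 v1 w0 w1 : F) (hrel : a ^ 2 + b * c = -1)
    (hΦ : ¬ IsSquare (Phi a b c v0 v1 w0 w1)) :
    ∃ k : SL(2, F), k.1 0 0 + k.1 1 1 = 0 ∧
      (∃ l : F, l ^ 2 - ((x0 * k : SL(2, F)) : Matrix (Fin 2) (Fin 2) F).trace * l + 1 = 0) ∧
      (∃ l : F, l ^ 2 - ((k * mk2 a b c (-a) (by linear_combination (-1 : F) * hrel) : SL(2, F)) :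
        Matrix (Fin 2) (Fin 2) F).trace * l + 1 = 0) := by
  have hΦ0 : Phi a b c v0 v1 w0 w1 ≠ 0 := by
    intro h
    apply hΦ
    rw [h]
    exact ⟨0, by ring⟩
  obtain ⟨s, hs⟩ := isSquare_mul_of_not_isSquare hF (-1) (Phi a b c v0 v1 w0 w1) hm1 hΦ
  have hs0 : s ≠ 0 := by
    rintro rfl
    apply hΦ0
    linear_combination (-1 : F) * hs
  obtain ⟨P, hP⟩ : ∃ P : F, P = (w0 * v0 + w1 * v1) *
      ((a * w0 + b * w1) * v0 + (c * w0 - a * w1) * v1) := ⟨_, rfl⟩
  obtain ⟨Q, hQ⟩ : ∃ Q : F, Q = (w0 * v1 - w1 * v0) *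
      ((a * w0 + b * w1) * v1 - (c * w0 - a * w1) * v0) := ⟨_, rfl⟩
  have hPQ : P * Q = -(s * s) := by
    have : P * Q = Phi a b c v0 v1 w0 w1 := by
      rw [hP, hQ]; unfold Phi; ring
    rw [this]
    linear_combination (-1 : F) * hs
  obtain ⟨N, hN⟩ : ∃ N : F, N = v0 ^ 2 + v1 ^ 2 := ⟨_, rfl⟩
  have hv : v0 ≠ 0 ∨ v1 ≠ 0 := by
    by_contra hcon
    push Not at hcon
    apply hΦ0
    unfold Phi
    rw [hcon.1, hcon.2]
    ring
  have hN0 : N ≠ 0 := by
    intro h0
    rw [hN] at h0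
    by_cases h1 : v1 = 0
    · rw [h1] at h0
      have hv0 : v0 = 0 := by
        have : v0 ^ 2 = 0 := by linear_combination h0
        exact pow_eq_zero_iff (n := 2) (by norm_num) |>.1 this
      rcases hv with h | h
      · exact h hv0
      · exact h h1
    · apply hm1
      refine ⟨v0 / v1, ?_⟩
      field_simp
      linear_combination (-1 : F) * h0
  have hw : a * w0 + b * w1 ≠ 0 ∨ c * w0 - a * w1 ≠ 0 := by
    by_contra hcon
    push Not at hcon
    apply hΦ0
    unfold Phi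
    rw [hcon.1, hcon.2]
    ring
  obtain ⟨ν, hν⟩ : ∃ ν : F, ν * (s * N) = 1 := ⟨(s * N)⁻¹, inv_mul_cancel₀ (mul_ne_zero hs0 hN0)⟩
  have hdet : ν * (-(P + Q) * v0 * v1) * (ν * ((P + Q) * v0 * v1)) -
      ν * (P * v0 ^ 2 - Q * v1 ^ 2) * (ν * (-P * v1 ^ 2 + Q * v0 ^ 2)) = 1 := by
    have e : ν * (-(P + Q) * v0 * v1) * (ν * ((P + Q) * v0 * v1)) -
        ν * (P * v0 ^ 2 - Q * v1 ^ 2) * (ν * (-P * v1 ^ 2 + Q * v0 ^ 2)) =
        -(ν ^ 2 * (P * Q) * N ^ 2) := by
      rw [hN]; ring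
    rw [e, hPQ]
    linear_combination (ν * s * N + 1) * hν
  refine ⟨mk2 (ν * (-(P + Q) * v0 * v1)) (ν * (P * v0 ^ 2 - Q * v1 ^ 2))
    (ν * (-P * v1 ^ 2 + Q * v0 ^ 2)) (ν * ((P + Q) * v0 * v1)) hdet, ?_, ?_, ?_⟩
  · rw [mk2_00, mk2_11]; ring
  · refine ⟨-(ν * Q * N), ?_⟩
    apply root_of_eigen _ v0 v1 _ hv
    · simp only [m00, m01, m10, m11, x0_00, x0_01, x0_10, x0_11, mk2_00, mk2_01, mk2_10, mk2_11]
      rw [hN]; ring
    · simp only [m00, m01, m10, m11, x0_00, x0_01, x0_10, x0_11, mk2_00, mk2_01, mk2_10, mk2_11]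
      rw [hN]; ring
  · refine ⟨-(ν * (v0 * w1 - v1 * w0) * (w0 * v0 + w1 * v1) * N), ?_⟩
    apply root_of_eigen _ (a * w0 + b * w1) (c * w0 - a * w1) _ hw
    · simp only [m00, m01, m10, m11, mk2_00, mk2_01, mk2_10, mk2_11]
      have e1 : a * (a * w0 + b * w1) + b * (c * w0 - a * w1) = -w0 := by
        linear_combination w0 * hrel
      have e2 : c * (a * w0 + b * w1) + -a * (c * w0 - a * w1) = -w1 := by
        linear_combination w1 * hrel
      have e3 : (ν * (-(P + Q) * v0 * v1) * a + ν * (P * v0 ^ 2 - Q * v1 ^ 2) * c) *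
            (a * w0 + b * w1) +
          (ν * (-(P + Q) * v0 * v1) * b + ν * (P * v0 ^ 2 - Q * v1 ^ 2) * -a) *
            (c * w0 - a * w1) =
          ν * (-(P + Q) * v0 * v1) * (a * (a * w0 + b * w1) + b * (c * w0 - a * w1)) +
          ν * (P * v0 ^ 2 - Q * v1 ^ 2) * (c * (a * w0 + b * w1) + -a * (c * w0 - a * w1)) := by
        ring
      rw [e3, e1, e2, hP, hQ, hN]
      ring
    · simp only [m00, m01, m10, m11, mk2_00, mk2_01, mk2_10, mk2_11]
      have e1 : a * (a * w0 + b * w1) + b * (c * w0 - a * w1) = -w0 := by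
        linear_combination w0 * hrel
      have e2 : c * (a * w0 + b * w1) + -a * (c * w0 - a * w1) = -w1 := by
        linear_combination w1 * hrel
      have e3 : (ν * (-P * v1 ^ 2 + Q * v0 ^ 2) * a + ν * ((P + Q) * v0 * v1) * c) *
            (a * w0 + b * w1) +
          (ν * (-P * v1 ^ 2 + Q * v0 ^ 2) * b + ν * ((P + Q) * v0 * v1) * -a) *
            (c * w0 - a * w1) =
          ν * (-P * v1 ^ 2 + Q * v0 ^ 2) * (a * (a * w0 + b * w1) + b * (c * w0 - a * w1)) +
          ν * ((P + Q) * v0 * v1) * (c * (a * w0 + b * w1) + -a * (c * w0 - a * w1)) := by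
        ring
      rw [e3, e1, e2, hP, hQ, hN]
      ring

theorem invgraph_nonsq (p : ℕ) [Fact p.Prime] [CharP F p] (hm1 : ¬ IsSquare (-1 : F))
    (hcard : 4 ≤ Fintype.card F)
    (t : Matrix.ProjectiveSpecialLinearGroup (Fin 2) F) (ht : orderOf t = 2) :
    (SimpleGraph.fromRel fun x y : {x : Matrix.ProjectiveSpecialLinearGroup (Fin 2) F // IsConj t x} =>
        Odd (orderOf (x.1 * y.1))).Connected ∧
      (SimpleGraph.fromRel fun x y : {x : Matrix.ProjectiveSpecialLinearGroup (Fin 2) F // IsConj t x} =>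
        Odd (orderOf (x.1 * y.1))).diam = 2 := by
  have hp2 : p ≠ 2 := by
    rintro rfl
    apply hm1
    refine ⟨1, ?_⟩
    have h2F : (2 : F) = 0 := CharTwo.two_eq_zero
    linear_combination (-1 : F) * h2F
  have hF : ringChar F ≠ 2 := by rw [ringChar.eq F p]; exact hp2
  have h2 : (2 : F) ≠ 0 := Ring.two_ne_zero hF
  have hq : Fintype.card F % 4 = 3 := by
    by_contra h
    exact hm1 (FiniteField.isSquare_neg_one_iff.2 h)
  have hcard5 : 5 ≤ Fintype.card F := by omega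
  obtain ⟨g, rfl⟩ := pr_surjective t
  have htr := trace_zero_of_orderOf_two hF g ht
  have hx0tr : ((x0 : SL(2, F)) : Matrix (Fin 2) (Fin 2) F).trace = 0 := by
    rw [tr_eq, x0_00, x0_11]; ring
  have hord0 : orderOf (pr (x0 : SL(2, F))) = 2 := orderOf_two_of_trace_zero hF x0 hx0tr
  have hsq0 : pr (x0 : SL(2, F)) * pr x0 = 1 := by
    have h' := pow_orderOf_eq_one (pr (x0 : SL(2, F)))
    rwa [hord0, pow_two] at h'
  apply invgraph_of_base (pr g) (pr x0) (isConj_of_trace_zero hF g x0 htr hx0tr)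
  · obtain ⟨a, b, hab⟩ := exists_binary_one' hF (-1 : F) (-1) (by simp) (by simp)
    have hrel : a * -a - b * b = 1 := by linear_combination hab
    set h : SL(2, F) := mk2 a b b (-a) hrel with hh
    have hhtr : (h : Matrix (Fin 2) (Fin 2) F).trace = 0 := by
      rw [tr_eq, hh, mk2_00, mk2_11]; ring
    have hprod : orderOf (pr (x0 : SL(2, F)) * pr h) = 2 := by
      rw [← pr_mul]
      apply orderOf_two_of_trace_zero hF
      rw [tr_eq]
      simp only [m00, m01, m10, m11, hh, mk2_00, mk2_01, mk2_10, mk2_11, x0_00, x0_01, x0_10,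
        x0_11]
      ring
    refine ⟨pr h, isConj_of_trace_zero hF x0 h hx0tr hhtr, ?_, ?_⟩
    · intro h'
      rw [h', hsq0, orderOf_one] at hprod
      omega
    · rw [hprod]; decide
  · intro y hy hy0 hyodd
    obtain ⟨h, rfl⟩ := pr_surjective y
    have hordh : orderOf (pr h) = 2 := by rw [← orderOf_eq_of_isConj' hy]; exact hord0
    have hhtr := trace_zero_of_orderOf_two hF h hordh
    rw [tr_eq] at hhtr
    have h11 : h.1 1 1 = -h.1 0 0 := by linear_combination hhtr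
    have hdet := sl2_det h
    rw [h11] at hdet
    have hrel : h.1 0 0 ^ 2 + h.1 0 1 * h.1 1 0 = -1 := by linear_combination (-1 : F) * hdet
    have hh : h = mk2 (h.1 0 0) (h.1 0 1) (h.1 1 0) (-h.1 0 0)
        (by linear_combination (-1 : F) * hrel) := by
      apply sl2_ext
      · rw [mk2_00]
      · rw [mk2_01]
      · rw [mk2_10]
      · rw [mk2_11, h11]
    have hNA : ∀ l : F, l ^ 2 - (h.1 0 1 - h.1 1 0) * l + 1 ≠ 0 := by
      intro l hl
      apply hyodd
      rw [← pr_mul]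
      apply odd_orderOf_of_root p hp2 hq _ l
      rw [tr_eq]
      simp only [m00, m01, m10, m11, x0_00, x0_01, x0_10, x0_11, h11]
      linear_combination hl
    obtain ⟨v0, v1, w0, w1, hΦ⟩ := exists_nonsquare_Phi hm1 hcard5 _ _ _ hrel hNA
    obtain ⟨k, hktr, ⟨l1, hl1⟩, ⟨l2, hl2⟩⟩ := exists_common hF hm1 _ _ _ v0 v1 w0 w1 hrel hΦ
    have hktr' : (k : Matrix (Fin 2) (Fin 2) F).trace = 0 := by rw [tr_eq]; exact hktr
    refine ⟨pr k, isConj_of_trace_zero hF x0 k hx0tr hktr', ?_, ?_⟩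
    · rw [← pr_mul]
      exact odd_orderOf_of_root p hp2 hq _ l1 hl1
    · rw [← pr_mul]
      rw [← hh] at hl2
      exact odd_orderOf_of_root p hp2 hq _ l2 hl2

end Cfsg.Agent.Helper11.InvGraph
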