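import Mathlib
import Cfsg.Agent.Lib.Helper3.M24IdxDefs

/-!
# S1589 piece IDX-BLK8: a transitive subgroup of the group of the code cannot have a block of
size 8 when a point stabilizer has order divisible by 5.
-/

set_option autoImplicit false
open Cfsg

namespace Cfsg.Agent.Helper3.M24Idx

open Cfsg.Agent.Helper27 Cfsg.Agent.Helper29 Cfsg.Agent.Helper29.M24
open Cfsg.Agent.Helper29.M23Idx
open Cfsg.Agent.Helper29.FusM23 (Q23)
open Cfsg.Agent.Helper29.IdxTools
open Cfsg.Agent.S0358 (idx)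
open scoped Pointwise

/-- IDX-BLK8 -/
theorem block8_false (K : Subgroup (Equiv.Perm GolayPt)) (hKM : K ≤ Cfsg.M24) (htr : IsTrans K)
    (x : GolayPt) (D : Finset GolayPt) (hx : x ∈ D) (hD : D.card = 8)
    (hblk : ∀ w ∈ D, ∃ g ∈ K, g x = w ∧ g • D = D)
    (hstab : ∀ g ∈ K, g x = x → g • D = D)
    (hF5 : ∀ t ∈ Cfsg.M24, orderOf t = 5 → (fixF t).card = 4)
    (h5 : 5 ∣ Nat.card (stabIn K x)) : False := by
  classical
  obtain ⟨ρ, hρK, hρ5⟩ := exists_orderOf_eq (stabIn K x) 5 (by norm_num) h5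
  have hρ := (mem_stabIn K x ρ).1 hρK
  have hρM : ρ ∈ Cfsg.M24 := hKM hρ.1
  have hF : (fixF ρ).card = 4 := hF5 ρ hρM hρ5
  have hρpow : ρ ^ 5 = 1 := by rw [← hρ5]; exact pow_orderOf_eq_one ρ
  have hρD : ρ • D = D := hstab ρ hρ.1 hρ.2
  -- an invariant 8-set meets the fixed points in exactly 3 points
  have key : ∀ S : Finset GolayPt, S.card = 8 → ρ • S = S → (S ∩ fixF ρ).card = 3 := by
    intro S hS hρS
    have h1 := card_inv_modEq ρ 5 (by norm_num) hρpow S hρS
    have h2 : (S ∩ fixF ρ).card ≤ 4 := by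
      rw [← hF]; exact Finset.card_le_card Finset.inter_subset_right
    rw [hS] at h1
    unfold Nat.ModEq at h1
    omega
  have hDF := key D hD hρD
  -- a fixed point outside `D`
  have hex : ∃ u ∈ fixF ρ, u ∉ D := by
    by_contra hcon
    push Not at hcon
    have hsub : fixF ρ ⊆ D ∩ fixF ρ := fun u hu => Finset.mem_inter.2 ⟨hcon u hu, hu⟩
    have := Finset.card_le_card hsub
    omega
  obtain ⟨u, huF, huD⟩ := hex
  obtain ⟨k, hkK, hku⟩ := htr x u
  -- `B = k • D` is `ρ`-invariant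
  have hρB : ρ • (k • D) = k • D := by
    have h1 : (k⁻¹ * ρ * k) x = x := by
      simp only [Equiv.Perm.mul_apply]
      rw [hku, (mem_fixF ρ u).1 huF, ← hku]
      simp
    have h2 : (k⁻¹ * ρ * k) • D = D :=
      hstab _ (K.mul_mem (K.mul_mem (K.inv_mem hkK) hρ.1) hkK) h1
    calc ρ • (k • D) = k • ((k⁻¹ * ρ * k) • D) := by
          simp only [← mul_smul]; congr 1; group
      _ = k • D := by rw [h2]
  have hBcard : (k • D).card = 8 := by rw [Finset.card_smul_finset]; exact hD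
  have hBF := key (k • D) hBcard hρB
  -- `D` and `B` are disjoint
  have hdisj : Disjoint D (k • D) := by
    rw [Finset.disjoint_left]
    intro w hwD hwB
    obtain ⟨d, hdD, hdw⟩ := Finset.mem_smul_finset.1 hwB
    have hdw' : k d = w := hdw
    obtain ⟨gw, hgwK, hgwx, hgwD⟩ := hblk w hwD
    obtain ⟨gd, hgdK, hgdx, hgdD⟩ := hblk d hdD
    have hh : (gw⁻¹ * k * gd) x = x := by
      simp only [Equiv.Perm.mul_apply]
      rw [hgdx, hdw', ← hgwx]
      simp
    have hhD := hstab _ (K.mul_mem (K.mul_mem (K.inv_mem hgwK) hkK) hgdK) hh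
    have hgdinv : gd⁻¹ • D = D := by rw [inv_smul_eq_iff, hgdD]
    have hkD : k • D = D := by
      calc k • D = gw • ((gw⁻¹ * k * gd) • (gd⁻¹ • D)) := by
            simp only [← mul_smul]; congr 1; group
        _ = D := by rw [hgdinv, hhD, hgwD]
    apply huD
    rw [← hkD, ← hku]
    exact Finset.smul_mem_smul_finset hx
  -- count the fixed points
  have hsub : (D ∩ fixF ρ) ∪ ((k • D) ∩ fixF ρ) ⊆ fixF ρ :=
    Finset.union_subset Finset.inter_subset_right Finset.inter_subset_right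
  have hdisj2 : Disjoint (D ∩ fixF ρ) ((k • D) ∩ fixF ρ) :=
    Disjoint.mono Finset.inter_subset_left Finset.inter_subset_left hdisj
  have hle := Finset.card_le_card hsub
  rw [Finset.card_union_of_disjoint hdisj2] at hle
  omega

end Cfsg.Agent.Helper3.M24Idx
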