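import Mathlib

/-!
# Tools for "normalizers of non-normal subgroups are maximal" (helper11)

General finite-group lemmas: Sylow orders, Burnside's transfer nonexistence in simple groups,
normalizer criteria.
-/

set_option autoImplicit false

namespace Cfsg.Agent.Helper11.MaxNorm

open Subgroup

variable {G : Type*} [Group G]

/-- order of a Sylow subgroup from a factorisation of the group order -/
theorem sylow_card {p a m : ℕ} [Finite G] [hp : Fact p.Prime]
    (P : Sylow p G) (h : Nat.card G = p ^ a * m) (hm : ¬ p ∣ m) : Nat.card P = p ^ a := by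
  have hm0 : m ≠ 0 := by
    rintro rfl
    exact hm (dvd_zero p)
  rw [Sylow.card_eq_multiplicity, h]
  congr 1
  rw [Nat.factorization_mul (pow_ne_zero _ hp.out.ne_zero) hm0, Finsupp.add_apply,
    Nat.factorization_pow, Finsupp.smul_apply, hp.out.factorization_self,
    Nat.factorization_eq_zero_of_not_dvd hm]
  simp

/-- a subgroup whose order is the full `p`-part is a Sylow subgroup -/
theorem exists_sylow_eq {p a m : ℕ} [Finite G] [hp : Fact p.Prime] (P : Subgroup G)
    (h : Nat.card G = p ^ a * m) (hm : ¬ p ∣ m) (hP : Nat.card P = p ^ a) :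
    ∃ S : Sylow p G, (S : Subgroup G) = P := by
  have hPp : IsPGroup p P := IsPGroup.of_card hP
  obtain ⟨S, hS⟩ := hPp.exists_le_sylow
  refine ⟨S, ?_⟩
  have hc : Nat.card (S : Subgroup G) = p ^ a := sylow_card S h hm
  exact (Subgroup.eq_of_le_of_card_ge hS (by rw [hc, hP])).symm

/-- the index of the normalizer of a full `p`-part subgroup is `1` mod `p` -/
theorem index_normalizer_mod {p a m : ℕ} [Finite G] [hp : Fact p.Prime] (P : Subgroup G)
    (h : Nat.card G = p ^ a * m) (hm : ¬ p ∣ m) (hP : Nat.card P = p ^ a) :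
    (normalizer (P : Set G)).index % p = 1 := by
  obtain ⟨S, rfl⟩ := exists_sylow_eq P h hm hP
  have h1 := card_sylow_modEq_one p G
  rw [Sylow.card_eq_index_normalizer S] at h1
  have h2 : 1 % p = 1 := Nat.mod_eq_of_lt hp.out.one_lt
  unfold Nat.ModEq at h1
  rw [h2] at h1
  exact h1

/-- a criterion for `K ≤ N(H)` with only one inclusion to check -/
theorem le_normalizer_of_conj_mem (K H : Subgroup G)
    (h : ∀ k ∈ K, ∀ x ∈ H, k * x * k⁻¹ ∈ H) : K ≤ normalizer (H : Set G) := by
  intro k hk
  rw [mem_normalizer_iff]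
  intro x
  constructor
  · exact h k hk x
  · intro hx
    have := h k⁻¹ (K.inv_mem hk) _ hx
    have e : k⁻¹ * (k * x * k⁻¹) * k⁻¹⁻¹ = x := by group
    rwa [e] at this

/-- a subgroup of index two in `K` is normalized by `K` -/
theorem le_normalizer_of_card_two_mul [Finite G] (H K : Subgroup G) (hHK : H ≤ K)
    (hc : Nat.card K = 2 * Nat.card H) : K ≤ normalizer (H : Set G) := by
  rw [← normal_subgroupOf_iff_le_normalizer hHK]
  apply normal_of_index_eq_two
  have h1 := Subgroup.card_mul_index (H.subgroupOf K)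
  rw [Nat.card_congr (subgroupOfEquivOfLe hHK).toEquiv, hc] at h1
  have hpos : 0 < Nat.card H := Nat.card_pos
  have : Nat.card H * (H.subgroupOf K).index = Nat.card H * 2 := by rw [h1, mul_comm]
  exact Nat.eq_of_mul_eq_mul_left hpos this

/-- Burnside: in a finite simple group a nontrivial proper Sylow subgroup is not central in its
normalizer -/
theorem not_normalizer_le_centralizer {p : ℕ} [Finite G] [hp : Fact p.Prime] [IsSimpleGroup G]
    (P : Sylow p G) (h1 : 1 < Nat.card P) (h2 : Nat.card P < Nat.card G) :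
    ¬ normalizer ((P : Subgroup G) : Set G) ≤ centralizer ((P : Subgroup G) : Set G) := by
  intro hP
  have hc := MonoidHom.ker_transferSylow_isComplement' P hP
  have hcard := hc.card_mul
  rcases (MonoidHom.normal_ker (MonoidHom.transferSylow P hP)).eq_bot_or_eq_top with hk | hk
  · rw [hk, Subgroup.card_bot, one_mul] at hcard
    omega
  · rw [hk, Subgroup.card_top] at hcard
    have hpos : 0 < Nat.card G := Nat.card_pos
    have : Nat.card (P : Subgroup G) = 1 := by
      have h3 : Nat.card G * Nat.card (P : Subgroup G) = Nat.card G * 1 := by rw [hcard, mul_one]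
      exact Nat.eq_of_mul_eq_mul_left hpos h3
    omega

/-- commuting elements normalize each other's cyclic subgroups -/
theorem mem_normalizer_zpowers_of_commute {x z : G} (h : Commute x z) :
    x ∈ normalizer ((zpowers z : Subgroup G) : Set G) := by
  have : zpowers x ≤ normalizer ((zpowers z : Subgroup G) : Set G) := by
    apply le_normalizer_of_conj_mem
    intro k hk y hy
    obtain ⟨i, rfl⟩ := mem_zpowers_iff.mp hk
    obtain ⟨j, rfl⟩ := mem_zpowers_iff.mp hy
    have hc : Commute (x ^ i) (z ^ j) := (h.zpow_left i).zpow_right j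
    have e : x ^ i * z ^ j * (x ^ i)⁻¹ = z ^ j := by
      rw [hc.eq, mul_assoc, mul_inv_cancel, mul_one]
    rw [e]
    exact zpow_mem (mem_zpowers z) j
  exact this (mem_zpowers x)

/-- a subgroup with a unique Sylow `p`-subgroup (by counting) has a normal one, seen in `G` -/
theorem exists_normal_sub {p a m : ℕ} [Finite G] [hp : Fact p.Prime] (H : Subgroup G)
    (hcard : Nat.card H = p ^ a * m) (hpm : ¬ p ∣ m)
    (huniq : ∀ n, n ∣ m → n % p = 1 → n = 1) :
    ∃ R : Subgroup G, R ≤ H ∧ H ≤ normalizer (R : Set G) ∧ Nat.card R = p ^ a := by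
  obtain ⟨S⟩ : Nonempty (Sylow p H) := inferInstance
  have hS : Nat.card (S : Subgroup H) = p ^ a := sylow_card S hcard hpm
  have hidx : (S : Subgroup H).index = m := by
    have h1 := Subgroup.card_mul_index (S : Subgroup H)
    rw [hS, hcard] at h1
    exact Nat.eq_of_mul_eq_mul_left (pow_pos hp.out.pos a) h1
  have hn1 : Nat.card (Sylow p H) = 1 := by
    apply huniq
    · rw [← hidx]
      exact Sylow.card_dvd_index S
    · have h1 := card_sylow_modEq_one p H
      have h2 : 1 % p = 1 := Nat.mod_eq_of_lt hp.out.one_lt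
      unfold Nat.ModEq at h1
      rw [h1, h2]
  haveI : Subsingleton (Sylow p H) := (Nat.card_eq_one_iff_unique.mp hn1).1
  have hnorm : (S : Subgroup H).Normal := Sylow.normal_of_subsingleton S
  refine ⟨(S : Subgroup H).map H.subtype, ?_, ?_, ?_⟩
  · intro x hx
    obtain ⟨y, -, rfl⟩ := hx
    exact y.2
  · apply le_normalizer_of_conj_mem
    intro k hk x hx
    obtain ⟨y, hy, rfl⟩ := hx
    refine ⟨⟨k, hk⟩ * y * ⟨k, hk⟩⁻¹, hnorm.conj_mem y hy ⟨k, hk⟩, ?_⟩
    simp
  · rw [Subgroup.card_map_of_injective H.subtype_injective]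
    exact hS

end Cfsg.Agent.Helper11.MaxNorm
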