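import Mathlib
import Cfsg.Agent.Lib.Helper11.MaxNorm1

/-!
# Simple groups of order 1092 with maximal subgroups of orders 78, 14, 12 (helper11)

Local analysis: Sylow normalizers.
-/

set_option autoImplicit false

namespace Cfsg.Agent.Helper11.MaxNorm

open Subgroup

/-- hypotheses: order `1092`, all maximal subgroups of order `78`, `14` or `12` -/
structure Hyp (G : Type*) [Group G] : Prop where
  card : Nat.card G = 1092
  coatom : ∀ M : Subgroup G, IsCoatom M →
    Nat.card M = 78 ∨ Nat.card M = 14 ∨ Nat.card M = 12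

variable {G : Type*} [Group G] [Finite G] [IsSimpleGroup G]

theorem Hyp.card_dvd (h : Hyp G) (L : Subgroup G) (hL : L ≠ ⊤) :
    Nat.card L ∣ 78 ∨ Nat.card L ∣ 14 ∨ Nat.card L ∣ 12 := by
  obtain ⟨M, hM, hLM⟩ := (eq_top_or_exists_le_coatom L).resolve_left hL
  have hd := Subgroup.card_dvd_of_le hLM
  rcases h.coatom M hM with h1 | h1 | h1 <;> rw [h1] at hd
  · exact Or.inl hd
  · exact Or.inr (Or.inl hd)
  · exact Or.inr (Or.inr hd)

theorem Hyp.isCoatom_of_card (h : Hyp G) (L : Subgroup G)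
    (hc : Nat.card L = 78 ∨ Nat.card L = 14 ∨ Nat.card L = 12) : IsCoatom L := by
  have hL : L ≠ ⊤ := by
    rintro rfl
    rw [Subgroup.card_top, h.card] at hc
    omega
  obtain ⟨M, hM, hLM⟩ := (eq_top_or_exists_le_coatom L).resolve_left hL
  have hd := Subgroup.card_dvd_of_le hLM
  have hle : Nat.card M ≤ Nat.card L := by
    rcases h.coatom M hM with h1 | h1 | h1 <;> rcases hc with h2 | h2 | h2 <;>
      rw [h1, h2] at hd <;> omega
  have := Subgroup.eq_of_le_of_card_ge hLM hle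
  rw [this]
  exact hM

theorem Hyp.normalizer_ne_top (_h : Hyp G) (H : Subgroup G) (hb : H ≠ ⊥) (ht : H ≠ ⊤) :
    normalizer (H : Set G) ≠ ⊤ := by
  intro hN
  rw [normalizer_eq_top_iff] at hN
  rcases hN.eq_bot_or_eq_top with h1 | h1
  · exact hb h1
  · exact ht h1

/-- the final step: a subgroup of order 78, 14, 12 inside the normalizer -/
theorem Hyp.finish (h : Hyp G) (H L : Subgroup G) (hb : H ≠ ⊥) (ht : H ≠ ⊤)
    (hL : L ≤ normalizer (H : Set G))
    (hc : Nat.card L = 78 ∨ Nat.card L = 14 ∨ Nat.card L = 12) :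
    IsCoatom (normalizer (H : Set G)) := by
  have hco := h.isCoatom_of_card L hc
  rcases (hco.le_iff).mp hL with h1 | h1
  · exact absurd h1 (h.normalizer_ne_top H hb ht)
  · rw [h1]
    exact hco

theorem ne_bot_of_card {H : Subgroup G} {n : ℕ} (hH : Nat.card H = n) (hn : n ≠ 1) : H ≠ ⊥ := by
  rintro rfl
  rw [Subgroup.card_bot] at hH
  exact hn hH.symm

theorem Hyp.ne_top_of_card (h : Hyp G) {H : Subgroup G} {n : ℕ} (hH : Nat.card H = n)
    (hn : n ≠ 1092) : H ≠ ⊤ := by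
  rintro rfl
  rw [Subgroup.card_top, h.card] at hH
  exact hn hH.symm

/-! ### arithmetic -/

theorem arith_le {n : ℕ} (h1 : n ∣ 78 ∨ n ∣ 14 ∨ n ∣ 12) : n ≤ 78 := by
  rcases h1 with h | h | h
  · exact Nat.le_of_dvd (by norm_num) h
  · exact le_trans (Nat.le_of_dvd (by norm_num) h) (by norm_num)
  · exact le_trans (Nat.le_of_dvd (by norm_num) h) (by norm_num)

theorem arith13 {n i : ℕ} (h1 : n ∣ 78 ∨ n ∣ 14 ∨ n ∣ 12) (h2 : 13 ∣ n) (h3 : n * i = 1092)
    (h4 : i % 13 = 1) : n = 78 := by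
  have hle := arith_le h1
  obtain ⟨k, rfl⟩ := h2
  have hk : k ≤ 6 := by omega
  interval_cases k <;> omega

theorem arith7 {n i : ℕ} (h1 : n ∣ 78 ∨ n ∣ 14 ∨ n ∣ 12) (h2 : 7 ∣ n) (h3 : n * i = 1092)
    (h4 : i % 7 = 1) : n = 14 := by
  have hle := arith_le h1
  obtain ⟨k, rfl⟩ := h2
  have hk : k ≤ 11 := by omega
  interval_cases k <;> omega

theorem arith3 {n i : ℕ} (h1 : n ∣ 78 ∨ n ∣ 14 ∨ n ∣ 12) (h2 : 3 ∣ n) (h3 : n * i = 1092)
    (h4 : i % 3 = 1) (h5 : 2 ∣ n) : n = 12 := by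
  have hle := arith_le h1
  obtain ⟨k, rfl⟩ := h2
  have hk : k ≤ 26 := by omega
  interval_cases k <;> omega

theorem arith4 {n : ℕ} (h1 : n ∣ 78 ∨ n ∣ 14 ∨ n ∣ 12) (h2 : 4 ∣ n) : n ∣ 12 := by
  rcases h1 with h | h | h
  · have := h2.trans h
    omega
  · have := h2.trans h
    omega
  · exact h

theorem arith_cases {n : ℕ} (h : n ∣ 78 ∨ n ∣ 14 ∨ n ∣ 12) (h1 : n ≠ 1) :
    n = 2 ∨ n = 3 ∨ n = 4 ∨ n = 6 ∨ n = 7 ∨ n = 12 ∨ n = 13 ∨ n = 14 ∨ n = 26 ∨ n = 39 ∨
      n = 78 := by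
  have hle := arith_le h
  have h0 : n ≠ 0 := by
    rintro rfl
    omega
  interval_cases n <;> omega

/-! ### Sylow normalizers -/

theorem Hyp.norm13 (h : Hyp G) (P : Subgroup G) (hP : Nat.card P = 13) :
    Nat.card (normalizer (P : Set G)) = 78 := by
  haveI : Fact (Nat.Prime 13) := ⟨by norm_num⟩
  have hN := h.normalizer_ne_top P (ne_bot_of_card hP (by norm_num))
    (h.ne_top_of_card hP (by norm_num))
  have h1 := h.card_dvd _ hN
  have h2 : 13 ∣ Nat.card (normalizer (P : Set G)) := by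
    rw [← hP]
    exact Subgroup.card_dvd_of_le le_normalizer
  have h3 := Subgroup.card_mul_index (normalizer (P : Set G))
  rw [h.card] at h3
  have h4 := index_normalizer_mod (p := 13) (a := 1) (m := 84) P (by rw [h.card]; norm_num) (by norm_num)
    (by rw [hP]; norm_num)
  exact arith13 h1 h2 h3 h4

theorem Hyp.norm7 (h : Hyp G) (P : Subgroup G) (hP : Nat.card P = 7) :
    Nat.card (normalizer (P : Set G)) = 14 := by
  haveI : Fact (Nat.Prime 7) := ⟨by norm_num⟩
  have hN := h.normalizer_ne_top P (ne_bot_of_card hP (by norm_num))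
    (h.ne_top_of_card hP (by norm_num))
  have h1 := h.card_dvd _ hN
  have h2 : 7 ∣ Nat.card (normalizer (P : Set G)) := by
    rw [← hP]
    exact Subgroup.card_dvd_of_le le_normalizer
  have h3 := Subgroup.card_mul_index (normalizer (P : Set G))
  rw [h.card] at h3
  have h4 := index_normalizer_mod (p := 7) (a := 1) (m := 156) P (by rw [h.card]; norm_num) (by norm_num)
    (by rw [hP]; norm_num)
  exact arith7 h1 h2 h3 h4

end Cfsg.Agent.Helper11.MaxNorm
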