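import Mathlib
import Cfsg.Agent.Lib.Helper11.MaxNorm2

/-!
# Simple groups of order 1092: Sylow 2 and 3 normalizers (helper11)
-/

set_option autoImplicit false

namespace Cfsg.Agent.Helper11.MaxNorm

open Subgroup

variable {G : Type*} [Group G] [Finite G]

/-- `|N(R)| = |C(R)| * r` with `r ∣ φ(|R|)` for cyclic `R` -/
theorem card_normalizer_cyclic (R : Subgroup G) [IsCyclic R] :
    ∃ r, r ∣ Nat.totient (Nat.card R) ∧
      Nat.card (normalizer (R : Set G)) = Nat.card (centralizer (R : Set G)) * r := by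
  refine ⟨(R.normalizerMonoidHom).ker.index, ?_, ?_⟩
  · rw [Subgroup.index_ker, ← IsCyclic.card_mulAut R]
    exact Subgroup.card_subgroup_dvd_card _
  · have h1 := Subgroup.card_mul_index (R.normalizerMonoidHom).ker
    rw [← h1, normalizerMonoidHom_ker,
      Nat.card_congr (subgroupOfEquivOfLe (centralizer_le_normalizer (R : Set G))).toEquiv]

variable [IsSimpleGroup G]

theorem Hyp.norm4 (h : Hyp G) (Q : Subgroup G) (hQ : Nat.card Q = 4) :
    Nat.card (normalizer (Q : Set G)) = 12 ∧ Nat.card (centralizer (Q : Set G)) = 4 ∧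
      Q ≤ centralizer (Q : Set G) := by
  haveI : Fact (Nat.Prime 2) := ⟨by norm_num⟩
  have hcomm : ∀ a b : Q, a * b = b * a :=
    IsPGroup.commutative_of_card_eq_prime_sq (p := 2) (by rw [hQ]; norm_num)
  have hQC : Q ≤ centralizer (Q : Set G) := by
    intro x hx
    rw [mem_centralizer_iff]
    intro y hy
    have := hcomm ⟨y, hy⟩ ⟨x, hx⟩
    exact congrArg Subtype.val this
  obtain ⟨S, hS⟩ := exists_sylow_eq (p := 2) (a := 2) (m := 273) Q (by rw [h.card]; norm_num)
    (by norm_num) (by rw [hQ]; norm_num)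
  have hburn := not_normalizer_le_centralizer S (by rw [hS, hQ]; norm_num)
    (by rw [hS, hQ, h.card]; norm_num)
  rw [hS] at hburn
  have hN := h.normalizer_ne_top Q (ne_bot_of_card hQ (by norm_num))
    (h.ne_top_of_card hQ (by norm_num))
  have h1 := h.card_dvd _ hN
  have h2 : 4 ∣ Nat.card (normalizer (Q : Set G)) := by
    rw [← hQ]
    exact Subgroup.card_dvd_of_le le_normalizer
  have h3 := arith4 h1 h2
  have hCN := centralizer_le_normalizer (Q : Set G)
  have h4 : 4 ∣ Nat.card (centralizer (Q : Set G)) := by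
    rw [← hQ]
    exact Subgroup.card_dvd_of_le hQC
  have h5 := Subgroup.card_dvd_of_le hCN
  have hne : Nat.card (centralizer (Q : Set G)) ≠ Nat.card (normalizer (Q : Set G)) := by
    intro he
    apply hburn
    have := Subgroup.eq_of_le_of_card_ge hCN (le_of_eq he.symm)
    rw [this]
  have hle : Nat.card (normalizer (Q : Set G)) ≤ 12 := Nat.le_of_dvd (by norm_num) h3
  obtain ⟨a, ha⟩ := h2
  obtain ⟨b, hb⟩ := h4
  rw [ha] at h3 hle hne
  rw [hb] at h5 hne
  have ha3 : a ≤ 3 := by omega
  have ha0 : a ≠ 0 := by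
    rintro rfl
    have : 0 < Nat.card (normalizer (Q : Set G)) := Nat.card_pos
    omega
  have hb3 : b ≤ 3 := by
    have := Nat.le_of_dvd (by omega) h5
    omega
  have hb0 : b ≠ 0 := by
    rintro rfl
    have : 0 < Nat.card (centralizer (Q : Set G)) := Nat.card_pos
    omega
  refine ⟨?_, ?_, hQC⟩
  · rw [ha]
    interval_cases a <;> interval_cases b <;> omega
  · rw [hb]
    interval_cases a <;> interval_cases b <;> omega

theorem Hyp.norm3 (h : Hyp G) (R : Subgroup G) (hR : Nat.card R = 3) :
    Nat.card (normalizer (R : Set G)) = 12 ∧ Nat.card (centralizer (R : Set G)) = 6 := by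
  haveI : Fact (Nat.Prime 3) := ⟨by norm_num⟩
  haveI : IsCyclic R := isCyclic_of_prime_card (p := 3) hR
  obtain ⟨r, hr, hNC⟩ := card_normalizer_cyclic R
  rw [hR] at hr
  have hr2 : r ∣ 2 := by
    have : Nat.totient 3 = 2 := by decide
    rwa [this] at hr
  obtain ⟨S, hS⟩ := exists_sylow_eq (p := 3) (a := 1) (m := 364) R (by rw [h.card]; norm_num)
    (by norm_num) (by rw [hR]; norm_num)
  have hburn := not_normalizer_le_centralizer S (by rw [hS, hR]; norm_num)
    (by rw [hS, hR, h.card]; norm_num)
  rw [hS] at hburn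
  have hCN := centralizer_le_normalizer (R : Set G)
  have hne : Nat.card (centralizer (R : Set G)) ≠ Nat.card (normalizer (R : Set G)) := by
    intro he
    apply hburn
    have := Subgroup.eq_of_le_of_card_ge hCN (le_of_eq he.symm)
    rw [this]
  have hr' : r = 2 := by
    have hle : r ≤ 2 := Nat.le_of_dvd (by norm_num) hr2
    have h0 : r ≠ 0 := by
      rintro rfl
      omega
    have h1 : r ≠ 1 := by
      rintro rfl
      rw [mul_one] at hNC
      exact hne hNC.symm
    omega
  subst hr'
  have hN := h.normalizer_ne_top R (ne_bot_of_card hR (by norm_num))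
    (h.ne_top_of_card hR (by norm_num))
  have h1 := h.card_dvd _ hN
  have h2 : 3 ∣ Nat.card (normalizer (R : Set G)) := by
    rw [← hR]
    exact Subgroup.card_dvd_of_le le_normalizer
  have h3 := Subgroup.card_mul_index (normalizer (R : Set G))
  rw [h.card] at h3
  have h4 := index_normalizer_mod (p := 3) (a := 1) (m := 364) R (by rw [h.card]; norm_num)
    (by norm_num) (by rw [hR]; norm_num)
  have h5 : 2 ∣ Nat.card (normalizer (R : Set G)) := ⟨_, by rw [hNC, mul_comm]⟩
  have h12 := arith3 h1 h2 h3 h4 h5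
  refine ⟨h12, ?_⟩
  rw [h12] at hNC
  omega

end Cfsg.Agent.Helper11.MaxNorm
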