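import Mathlib
import Cfsg.Agent.Lib.Helper11.MaxNorm3

/-!
# Simple groups of order 1092: involutions (helper11)
-/

set_option autoImplicit false

namespace Cfsg.Agent.Helper11.MaxNorm

open Subgroup

variable {G : Type*} [Group G] [Finite G] [IsSimpleGroup G]

/-- every involution lies in a subgroup of order four -/
theorem Hyp.invol_mem (h : Hyp G) (s : G) (hs : orderOf s = 2) :
    ∃ Q : Subgroup G, Nat.card Q = 4 ∧ s ∈ Q := by
  haveI : Fact (Nat.Prime 2) := ⟨by norm_num⟩
  have hz : Nat.card (zpowers s) = 2 ^ 1 := by rw [Nat.card_zpowers, hs]; norm_num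
  obtain ⟨S, hS⟩ := (IsPGroup.of_card hz).exists_le_sylow
  refine ⟨S, ?_, hS (mem_zpowers s)⟩
  have := sylow_card (p := 2) (a := 2) (m := 273) S (by rw [h.card]; norm_num) (by norm_num)
  rw [this]; norm_num

/-- involutions: `4 ∣ |N(⟨s⟩)| ∣ 12` -/
theorem Hyp.invol_dvd (h : Hyp G) (s : G) (hs : orderOf s = 2) :
    4 ∣ Nat.card (normalizer ((zpowers s : Subgroup G) : Set G)) ∧
      Nat.card (normalizer ((zpowers s : Subgroup G) : Set G)) ∣ 12 := by
  obtain ⟨Q, hQ, hsQ⟩ := h.invol_mem s hs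
  obtain ⟨-, -, hQC⟩ := h.norm4 Q hQ
  have hz : Nat.card (zpowers s) = 2 := by rw [Nat.card_zpowers, hs]
  have hle : Q ≤ normalizer ((zpowers s : Subgroup G) : Set G) := by
    intro q hq
    apply mem_normalizer_zpowers_of_commute
    have := hQC hq
    rw [mem_centralizer_iff] at this
    exact (this s hsQ).symm
  have h4 : 4 ∣ Nat.card (normalizer ((zpowers s : Subgroup G) : Set G)) := by
    rw [← hQ]
    exact Subgroup.card_dvd_of_le hle
  have hN := h.normalizer_ne_top (zpowers s) (ne_bot_of_card hz (by norm_num))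
    (h.ne_top_of_card hz (by norm_num))
  exact ⟨h4, arith4 (h.card_dvd _ hN) h4⟩

/-- the property of commuting with an element of order three -/
def P3 (t : G) : Prop := ∃ x : G, orderOf x = 3 ∧ Commute x t

omit [Finite G] [IsSimpleGroup G] in
theorem P3_conj (g t : G) (ht : P3 t) : P3 (g * t * g⁻¹) := by
  obtain ⟨x, hx, hc⟩ := ht
  refine ⟨g * x * g⁻¹, ?_, ?_⟩
  · have : g * x * g⁻¹ = MulAut.conj g x := by simp
    rw [this, MulEquiv.orderOf_eq, hx]
  · unfold Commute SemiconjBy
    have := hc.eq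
    calc g * x * g⁻¹ * (g * t * g⁻¹) = g * (x * t) * g⁻¹ := by group
      _ = g * (t * x) * g⁻¹ := by rw [this]
      _ = g * t * g⁻¹ * (g * x * g⁻¹) := by group

theorem Hyp.invol_card (h : Hyp G) (s : G) (hs : orderOf s = 2) (h3 : P3 s) :
    Nat.card (normalizer ((zpowers s : Subgroup G) : Set G)) = 12 := by
  obtain ⟨h4, h12⟩ := h.invol_dvd s hs
  obtain ⟨x, hx, hc⟩ := h3
  have hmem := mem_normalizer_zpowers_of_commute hc
  have h3' : 3 ∣ Nat.card (normalizer ((zpowers s : Subgroup G) : Set G)) := by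
    rw [← hx]
    exact Subgroup.orderOf_dvd_natCard _ hmem
  have hle := Nat.le_of_dvd (by norm_num) h12
  have hpos : 0 < Nat.card (normalizer ((zpowers s : Subgroup G) : Set G)) := Nat.card_pos
  omega

theorem Hyp.exists_P3 (h : Hyp G) : ∃ s : G, orderOf s = 2 ∧ P3 s := by
  haveI : Fact (Nat.Prime 3) := ⟨by norm_num⟩
  haveI : Fact (Nat.Prime 2) := ⟨by norm_num⟩
  obtain ⟨R⟩ : Nonempty (Sylow 3 G) := inferInstance
  have hR : Nat.card (R : Subgroup G) = 3 := by
    have := sylow_card (p := 3) (a := 1) (m := 364) R (by rw [h.card]; norm_num) (by norm_num)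
    rw [this]; norm_num
  obtain ⟨-, hC⟩ := h.norm3 R hR
  obtain ⟨s, hs⟩ := exists_prime_orderOf_dvd_card' (G := centralizer ((R : Subgroup G) : Set G)) 2
    (by rw [hC]; norm_num)
  obtain ⟨x, hx⟩ := exists_prime_orderOf_dvd_card' (G := (R : Subgroup G)) 3
    (by rw [hR])
  refine ⟨(s : G), by rw [Subgroup.orderOf_coe, hs], (x : G), by rw [Subgroup.orderOf_coe, hx], ?_⟩
  have := s.2
  rw [mem_centralizer_iff] at this
  exact this x x.2

end Cfsg.Agent.Helper11.MaxNorm
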