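import Mathlib
import Cfsg.Agent.Lib.Helper11.MaxNorm4

/-!
# Simple groups of order 1092: all involutions are conjugate (helper11)
-/

set_option autoImplicit false

namespace Cfsg.Agent.Helper11.MaxNorm

open Subgroup

variable {G : Type*} [Group G] [Finite G] [IsSimpleGroup G]

/-- the nonidentity elements of a subgroup of order four are conjugate -/
theorem Hyp.klein_conj (h : Hyp G) (Q : Subgroup G) (hQ : Nat.card Q = 4) (t t' : G)
    (ht : t ∈ Q) (ht' : t' ∈ Q) (ht1 : t ≠ 1) (ht1' : t' ≠ 1) :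
    ∃ g : G, t' = g * t * g⁻¹ := by
  classical
  haveI : Fact (Nat.Prime 3) := ⟨by norm_num⟩
  obtain ⟨hN, hC, -⟩ := h.norm4 Q hQ
  obtain ⟨y, hy⟩ := exists_prime_orderOf_dvd_card' (G := normalizer (Q : Set G)) 3
    (by rw [hN]; norm_num)
  have hy3 : (y : G) ^ 3 = 1 := by
    have := pow_orderOf_eq_one y
    rw [hy] at this
    have h2 := congrArg Subtype.val this
    simpa using h2
  have hyo : orderOf (y : G) = 3 := by rw [Subgroup.orderOf_coe, hy]
  -- the conjugation map
  let f : Function.End Q := fun u => ⟨(y : G) * u * (y : G)⁻¹, (y.2 u).mp u.2⟩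
  have hf_val : ∀ u : Q, ((f u : Q) : G) = (y : G) * u * (y : G)⁻¹ := fun u => rfl
  have hf3' : ∀ u : Q, f (f (f u)) = u := by
    intro u
    apply Subtype.ext
    rw [hf_val, hf_val, hf_val]
    have e : ∀ a b : G, a * (a * (a * b * a⁻¹) * a⁻¹) * a⁻¹ = a ^ 3 * b * (a ^ 3)⁻¹ := by
      intro a b
      simp only [pow_succ, pow_zero, one_mul, mul_inv_rev, mul_assoc]
    rw [e, hy3]
    simp
  have hf3 : f ^ 3 ^ 1 = 1 := by
    rw [pow_one]
    funext u
    exact hf3' u
  haveI : Fintype Q := Fintype.ofFinite Q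
  have hmod := Equiv.Perm.card_fixedPoints_modEq (p := 3) (n := 1) hf3
  rw [Fintype.card_eq_nat_card, Fintype.card_eq_nat_card, hQ] at hmod
  -- Claim A: no nonidentity fixed points
  have hA : ∀ u : Q, u ≠ 1 → f u ≠ u := by
    intro u hu hfu
    have hsub : ({1, u} : Set Q) ⊆ Function.fixedPoints f := by
      intro v hv
      rcases hv with rfl | rfl
      · show f 1 = 1
        apply Subtype.ext
        rw [hf_val]
        simp
      · exact hfu
    have h2 : 2 ≤ Nat.card (Function.fixedPoints f) := by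
      rw [Nat.card_coe_set_eq, ← Set.ncard_pair (Ne.symm hu)]
      exact Set.ncard_le_ncard hsub (Set.toFinite _)
    have h4 : Nat.card (Function.fixedPoints f) ≤ 4 := by
      rw [← hQ]
      exact Nat.card_le_card_of_injective _ Subtype.val_injective
    have h4' : Nat.card (Function.fixedPoints f) = 4 := by
      unfold Nat.ModEq at hmod
      omega
    have huniv : Function.fixedPoints f = Set.univ := by
      apply Set.eq_of_subset_of_ncard_le (Set.subset_univ _) _ (Set.toFinite _)
      rw [Set.ncard_univ, hQ, ← Nat.card_coe_set_eq, h4']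
    have hyC : (y : G) ∈ centralizer (Q : Set G) := by
      rw [mem_centralizer_iff]
      intro q hq
      have : (⟨q, hq⟩ : Q) ∈ Function.fixedPoints f := by rw [huniv]; trivial
      have h5 : f ⟨q, hq⟩ = ⟨q, hq⟩ := this
      have h6 := congrArg Subtype.val h5
      rw [hf_val] at h6
      simp only at h6
      calc q * (y : G) = ((y : G) * q * (y : G)⁻¹) * (y : G) := by rw [h6]
        _ = (y : G) * q := by group
    have := Subgroup.orderOf_dvd_natCard _ hyC
    rw [hyo, hC] at this
    omega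
  have hf1 : ∀ u : Q, u ≠ 1 → f u ≠ 1 := by
    intro u hu hfu
    apply hu
    have h6 := congrArg Subtype.val hfu
    rw [hf_val] at h6
    apply Subtype.ext
    have : (u : G) = (y : G)⁻¹ * ((y : G) * u * (y : G)⁻¹) * (y : G) := by group
    rw [this, h6]
    simp
  -- the four elements
  set u : Q := ⟨t, ht⟩ with hu
  have hu1 : u ≠ 1 := by
    intro h1
    exact ht1 (congrArg Subtype.val h1)
  have hfu1 := hf1 u hu1
  have hffu1 := hf1 (f u) hfu1
  have d1 : f u ≠ u := hA u hu1
  have d2 : f (f u) ≠ f u := hA (f u) hfu1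
  have d3 : u ≠ f (f u) := by
    have := hA (f (f u)) hffu1
    rwa [hf3'] at this
  have hcard : ({1, u, f u, f (f u)} : Finset Q).card = 4 := by
    rw [Finset.card_insert_of_notMem, Finset.card_insert_of_notMem, Finset.card_pair d2.symm]
    · simp only [Finset.mem_insert, Finset.mem_singleton, not_or]
      exact ⟨d1.symm, d3⟩
    · simp only [Finset.mem_insert, Finset.mem_singleton, not_or]
      exact ⟨hu1.symm, hfu1.symm, hffu1.symm⟩
  have huniv : ({1, u, f u, f (f u)} : Finset Q) = Finset.univ := by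
    apply Finset.eq_univ_of_card
    rw [hcard, Fintype.card_eq_nat_card, hQ]
  have hmem : (⟨t', ht'⟩ : Q) ∈ ({1, u, f u, f (f u)} : Finset Q) := by
    rw [huniv]; exact Finset.mem_univ _
  simp only [Finset.mem_insert, Finset.mem_singleton] at hmem
  rcases hmem with h1 | h1 | h1 | h1
  · exact absurd (congrArg Subtype.val h1) ht1'
  · refine ⟨1, ?_⟩
    have := congrArg Subtype.val h1
    simp only [hu] at this
    rw [this]; simp
  · refine ⟨(y : G), ?_⟩
    have := congrArg Subtype.val h1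
    rw [hf_val] at this
    exact this
  · refine ⟨(y : G) * (y : G), ?_⟩
    have := congrArg Subtype.val h1
    rw [hf_val, hf_val] at this
    simp only at this
    rw [this]
    simp only [hu]
    group

/-- all involutions commute with an element of order three -/
theorem Hyp.P3_all (h : Hyp G) (s : G) (hs : orderOf s = 2) : P3 s := by
  haveI : Fact (Nat.Prime 2) := ⟨by norm_num⟩
  obtain ⟨s₀, hs₀, hP⟩ := h.exists_P3
  obtain ⟨Q₀, hQ₀, hsQ₀⟩ := h.invol_mem s₀ hs₀
  obtain ⟨Q, hQ, hsQ⟩ := h.invol_mem s hs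
  obtain ⟨S₀, hS₀⟩ := exists_sylow_eq (p := 2) (a := 2) (m := 273) Q₀ (by rw [h.card]; norm_num)
    (by norm_num) (by rw [hQ₀]; norm_num)
  obtain ⟨S, hS⟩ := exists_sylow_eq (p := 2) (a := 2) (m := 273) Q (by rw [h.card]; norm_num)
    (by norm_num) (by rw [hQ]; norm_num)
  obtain ⟨g, hg⟩ := MulAction.exists_smul_eq G S S₀
  -- `g s g⁻¹ ∈ Q₀`
  have hmem : g * s * g⁻¹ ∈ Q₀ := by
    rw [← hS₀, ← hg, Sylow.coe_subgroup_smul, Subgroup.mem_pointwise_smul_iff_inv_smul_mem]
    simp only [MulAut.smul_def, MulAut.conj_inv_apply]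
    have : g⁻¹ * (g * s * g⁻¹) * g = s := by group
    rw [this, hS]
    exact hsQ
  have hne : g * s * g⁻¹ ≠ 1 := by
    intro h1
    have : s = 1 := by
      have e : s = g⁻¹ * (g * s * g⁻¹) * g := by group
      rw [e, h1]; simp
    rw [this, orderOf_one] at hs
    omega
  have hne₀ : s₀ ≠ 1 := by
    rintro rfl
    rw [orderOf_one] at hs₀
    omega
  obtain ⟨k, hk⟩ := h.klein_conj Q₀ hQ₀ s₀ (g * s * g⁻¹) hsQ₀ hmem hne₀ hne
  have h1 : P3 (g * s * g⁻¹) := by
    rw [hk]
    exact P3_conj k s₀ hP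
  have h2 := P3_conj g⁻¹ _ h1
  have e : g⁻¹ * (g * s * g⁻¹) * g⁻¹⁻¹ = s := by group
  rwa [e] at h2

end Cfsg.Agent.Helper11.MaxNorm
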