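import Mathlib
import Cfsg.Agent.Lib.Helper11.MaxNorm5

/-!
# Simple groups of order 1092: every nontrivial proper subgroup has a maximal normalizer
(helper11)
-/

set_option autoImplicit false

namespace Cfsg.Agent.Helper11.MaxNorm

open Subgroup

variable {G : Type*} [Group G] [Finite G] [IsSimpleGroup G]

/-- elements of order `2` or `3` have normalizers of order dividing `12` -/
theorem Hyp.norm_prime_dvd (h : Hyp G) (z : G) (hz : orderOf z = 2 ∨ orderOf z = 3) :
    Nat.card (normalizer ((zpowers z : Subgroup G) : Set G)) ∣ 12 := by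
  rcases hz with hz | hz
  · exact (h.invol_dvd z hz).2
  · have hc : Nat.card (zpowers z) = 3 := by rw [Nat.card_zpowers, hz]
    rw [(h.norm3 _ hc).1]

/-- a subgroup of order 13 is self-centralizing -/
theorem Hyp.cent13 (h : Hyp G) (P : Subgroup G) (hP : Nat.card P = 13) :
    centralizer (P : Set G) = P := by
  haveI : Fact (Nat.Prime 13) := ⟨by norm_num⟩
  haveI : Fact (Nat.Prime 2) := ⟨by norm_num⟩
  haveI : Fact (Nat.Prime 3) := ⟨by norm_num⟩
  haveI : IsCyclic P := isCyclic_of_prime_card (p := 13) hP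
  have hPC : P ≤ centralizer (P : Set G) := by
    intro x hx
    rw [mem_centralizer_iff]
    intro y hy
    have hcomm : ∀ a b : P, a * b = b * a := fun a b => by
      letI := IsCyclic.commGroup (α := P)
      exact mul_comm a b
    exact congrArg Subtype.val (hcomm ⟨y, hy⟩ ⟨x, hx⟩)
  symm
  apply Subgroup.eq_of_le_of_card_ge hPC
  rw [hP]
  have hCN := centralizer_le_normalizer (P : Set G)
  have h1 := Subgroup.card_dvd_of_le hCN
  rw [h.norm13 P hP] at h1
  have h2 : 13 ∣ Nat.card (centralizer (P : Set G)) := by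
    rw [← hP]
    exact Subgroup.card_dvd_of_le hPC
  obtain ⟨g, hg⟩ := exists_prime_orderOf_dvd_card' (G := P) 13 (by rw [hP])
  have hg13 : orderOf (g : G) = 13 := by rw [Subgroup.orderOf_coe, hg]
  -- no element of order 2 or 3 in the centralizer
  have hno : ∀ z : G, z ∈ centralizer (P : Set G) → ¬ (orderOf z = 2 ∨ orderOf z = 3) := by
    intro z hz ho
    have h12 := h.norm_prime_dvd z ho
    rw [mem_centralizer_iff] at hz
    have hc : Commute (g : G) z := hz g g.2
    have := Subgroup.orderOf_dvd_natCard _ (mem_normalizer_zpowers_of_commute hc)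
    rw [hg13] at this
    have := this.trans h12
    omega
  have hn2 : ¬ 2 ∣ Nat.card (centralizer (P : Set G)) := by
    intro hd
    obtain ⟨z, hz⟩ := exists_prime_orderOf_dvd_card' (G := centralizer (P : Set G)) 2 hd
    exact hno z z.2 (Or.inl (by rw [Subgroup.orderOf_coe, hz]))
  have hn3 : ¬ 3 ∣ Nat.card (centralizer (P : Set G)) := by
    intro hd
    obtain ⟨z, hz⟩ := exists_prime_orderOf_dvd_card' (G := centralizer (P : Set G)) 3 hd
    exact hno z z.2 (Or.inr (by rw [Subgroup.orderOf_coe, hz]))
  have hle := Nat.le_of_dvd (by norm_num) h1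
  obtain ⟨k, hk⟩ := h2
  rw [hk] at h1 hn2 hn3 hle ⊢
  have hk6 : k ≤ 6 := by omega
  interval_cases k <;> omega

/-- commutators of elements of the normalizer of a subgroup of order 13 lie in it -/
theorem Hyp.comm13 (h : Hyp G) (P : Subgroup G) (hP : Nat.card P = 13) (a b : G)
    (ha : a ∈ normalizer (P : Set G)) (hb : b ∈ normalizer (P : Set G)) :
    a * b * a⁻¹ * b⁻¹ ∈ P := by
  haveI : Fact (Nat.Prime 13) := ⟨by norm_num⟩
  haveI : IsCyclic P := isCyclic_of_prime_card (p := 13) hP
  have hcomm : ∀ x y : MulAut P, x * y = y * x := by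
    intro x y
    apply (IsCyclic.mulAutMulEquiv P).injective
    rw [map_mul, map_mul, mul_comm]
  set φ := P.normalizerMonoidHom with hφ
  have hker : (⟨a, ha⟩ * ⟨b, hb⟩ * ⟨a, ha⟩⁻¹ * ⟨b, hb⟩⁻¹ : normalizer (P : Set G)) ∈ φ.ker := by
    rw [MonoidHom.mem_ker, map_mul, map_mul, map_mul, map_inv, map_inv,
      hcomm (φ ⟨a, ha⟩) (φ ⟨b, hb⟩)]
    group
  rw [hφ, normalizerMonoidHom_ker, mem_subgroupOf, h.cent13 P hP] at hker
  exact hker

/-- subgroups between a subgroup of order 13 and its normalizer are normal in the normalizer -/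
theorem Hyp.le_normalizer13 (h : Hyp G) (P H : Subgroup G) (hP : Nat.card P = 13)
    (hPH : P ≤ H) (hHN : H ≤ normalizer (P : Set G)) :
    normalizer (P : Set G) ≤ normalizer (H : Set G) := by
  apply le_normalizer_of_conj_mem
  intro k hk x hx
  have h1 := h.comm13 P hP k x hk (hHN hx)
  have e : k * x * k⁻¹ = (k * x * k⁻¹ * x⁻¹) * x := by group
  rw [e]
  exact H.mul_mem (hPH h1) hx

/-- **Main theorem**: every nontrivial proper subgroup has a maximal normalizer -/
theorem Hyp.main (h : Hyp G) (H : Subgroup G) (hb : H ≠ ⊥) (ht : H ≠ ⊤) :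
    IsCoatom (normalizer (H : Set G)) := by
  haveI : Fact (Nat.Prime 13) := ⟨by norm_num⟩
  haveI : Fact (Nat.Prime 2) := ⟨by norm_num⟩
  haveI : Fact (Nat.Prime 3) := ⟨by norm_num⟩
  have hd := h.card_dvd H ht
  have h1 : Nat.card H ≠ 1 := fun h1 => hb (Subgroup.card_eq_one.mp h1)
  rcases arith_cases hd h1 with hc | hc | hc | hc | hc | hc | hc | hc | hc | hc | hc
  · -- order 2
    obtain ⟨s, hs⟩ := exists_prime_orderOf_dvd_card' (G := H) 2 (by rw [hc])
    have hs2 : orderOf (s : G) = 2 := by rw [Subgroup.orderOf_coe, hs]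
    have hle : zpowers (s : G) ≤ H := by
      rw [zpowers_le]
      exact s.2
    have hH : zpowers (s : G) = H := by
      apply Subgroup.eq_of_le_of_card_ge hle
      rw [hc, Nat.card_zpowers, hs2]
    have := h.invol_card (s : G) hs2 (h.P3_all _ hs2)
    rw [hH] at this
    exact h.finish H _ hb ht le_rfl (Or.inr (Or.inr this))
  · -- order 3
    exact h.finish H _ hb ht le_rfl (Or.inr (Or.inr (h.norm3 H hc).1))
  · -- order 4
    exact h.finish H _ hb ht le_rfl (Or.inr (Or.inr (h.norm4 H hc).1))
  · -- order 6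
    obtain ⟨R, hRH, hHN, hR⟩ := exists_normal_sub (p := 3) (a := 1) (m := 2) H
      (by rw [hc]; norm_num) (by norm_num) (by
        intro n hn hmod
        have := Nat.le_of_dvd (by norm_num) hn
        interval_cases n <;> omega)
    rw [pow_one] at hR
    have hN := (h.norm3 R hR).1
    refine h.finish H (normalizer (R : Set G)) hb ht ?_ (Or.inr (Or.inr hN))
    exact le_normalizer_of_card_two_mul H _ hHN (by rw [hN, hc])
  · -- order 7
    exact h.finish H _ hb ht le_rfl (Or.inr (Or.inl (h.norm7 H hc)))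
  · -- order 12
    exact h.finish H H hb ht le_normalizer (Or.inr (Or.inr hc))
  · -- order 13
    exact h.finish H _ hb ht le_rfl (Or.inl (h.norm13 H hc))
  · -- order 14
    exact h.finish H H hb ht le_normalizer (Or.inr (Or.inl hc))
  · -- order 26
    obtain ⟨P, hPH, hHN, hP⟩ := exists_normal_sub (p := 13) (a := 1) (m := 2) H
      (by rw [hc]; norm_num) (by norm_num) (by
        intro n hn hmod
        have := Nat.le_of_dvd (by norm_num) hn
        interval_cases n <;> omega)
    rw [pow_one] at hP
    exact h.finish H (normalizer (P : Set G)) hb ht (h.le_normalizer13 P H hP hPH hHN)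
      (Or.inl (h.norm13 P hP))
  · -- order 39
    obtain ⟨P, hPH, hHN, hP⟩ := exists_normal_sub (p := 13) (a := 1) (m := 3) H
      (by rw [hc]; norm_num) (by norm_num) (by
        intro n hn hmod
        have := Nat.le_of_dvd (by norm_num) hn
        interval_cases n <;> omega)
    rw [pow_one] at hP
    have hN := h.norm13 P hP
    refine h.finish H (normalizer (P : Set G)) hb ht ?_ (Or.inl hN)
    exact le_normalizer_of_card_two_mul H _ hHN (by rw [hN, hc])
  · -- order 78
    exact h.finish H H hb ht le_normalizer (Or.inl hc)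

end Cfsg.Agent.Helper11.MaxNorm
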