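import Mathlib
import Cfsg.Agent.Lib.Helper11.MaxNorm1

/-!
# Maximal normalizers: reductions (isomorphism, central extension by the unique involution,
direct product with a coprime abelian group) (helper11)
-/

set_option autoImplicit false

namespace Cfsg.Agent.Helper11.MaxNorm

open Subgroup

/-- the property: non-normal subgroups have maximal normalizers -/
def MaxNormProp (G : Type*) [Group G] : Prop :=
  ∀ H : Subgroup G, ¬ H.Normal → IsCoatom (normalizer (H : Set G))

theorem MaxNormProp.of_equiv {G G' : Type*} [Group G] [Group G'] (e : G ≃* G')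
    (h : MaxNormProp G') : MaxNormProp G := by
  intro H hH
  have h1 : ¬ (H.map e.toMonoidHom).Normal := by
    intro hn
    apply hH
    have h2 : H = (H.map e.toMonoidHom).comap e.toMonoidHom := by
      rw [Subgroup.comap_map_eq_self_of_injective e.injective]
    rw [h2]
    exact hn.comap _
  have h3 := h _ h1
  rw [← map_equiv_normalizer_eq] at h3
  exact (OrderIso.isCoatom_iff e.mapSubgroup _).mp h3

/-- finishing: a coatom inside a proper normalizer -/
theorem isCoatom_normalizer_of_le {G : Type*} [Group G] (H L : Subgroup G) (hH : ¬ H.Normal)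
    (hL : IsCoatom L) (hLN : L ≤ normalizer (H : Set G)) : IsCoatom (normalizer (H : Set G)) := by
  rcases (hL.le_iff).mp hLN with h1 | h1
  · rw [normalizer_eq_top_iff] at h1
    exact absurd h1 hH
  · rw [h1]
    exact hL

/-- direct product with an abelian group of coprime order -/
theorem MaxNormProp.prod {K S : Type*} [Group K] [CommGroup S] [Finite K] [Finite S]
    (hKS : (Nat.card K).Coprime (Nat.card S)) (hK : MaxNormProp K) : MaxNormProp (K × S) := by
  intro H hH
  -- splitting of elements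
  have hsplit : ∀ k s, ((k, s) : K × S) ∈ H → ((k, 1) : K × S) ∈ H ∧ ((1, s) : K × S) ∈ H := by
    intro k s hks
    obtain ⟨e, he1, he0⟩ := Nat.chineseRemainder hKS 1 0
    have hk : k ^ e = k := by
      have : k ^ e = k ^ 1 := pow_eq_pow_iff_modEq.mpr (he1.of_dvd (orderOf_dvd_natCard k))
      rwa [pow_one] at this
    have hs : s ^ e = 1 := by
      have : s ^ e = s ^ 0 := pow_eq_pow_iff_modEq.mpr (he0.of_dvd (orderOf_dvd_natCard s))
      rwa [pow_zero] at this
    have h1 : ((k, 1) : K × S) ∈ H := by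
      have := H.pow_mem hks e
      rwa [Prod.pow_mk, hk, hs] at this
    refine ⟨h1, ?_⟩
    have := H.mul_mem (H.inv_mem h1) hks
    simpa using this
  have hjoin : ∀ k s, ((k, 1) : K × S) ∈ H → ((1, s) : K × S) ∈ H → ((k, s) : K × S) ∈ H := by
    intro k s h1 h2
    have := H.mul_mem h1 h2
    simpa using this
  set H₁ : Subgroup K := H.comap (MonoidHom.inl K S) with hH₁
  have hmem₁ : ∀ k, k ∈ H₁ ↔ ((k, 1) : K × S) ∈ H := fun k => Iff.rfl
  have hH₁n : ¬ H₁.Normal := by
    intro hn
    apply hH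
    constructor
    intro x hx g
    obtain ⟨k, s⟩ := x
    obtain ⟨a, b⟩ := g
    obtain ⟨h1, h2⟩ := hsplit k s hx
    have h3 : a * k * a⁻¹ ∈ H₁ := hn.conj_mem k ((hmem₁ k).mpr h1) a
    have e : (a, b) * (k, s) * (a, b)⁻¹ = ((a * k * a⁻¹, s) : K × S) := by
      ext
      · simp
      · simp
    rw [e]
    exact hjoin _ _ ((hmem₁ _).mp h3) h2
  have hM := hK H₁ hH₁n
  have hL : IsCoatom ((normalizer (H₁ : Set K)).comap (MonoidHom.fst K S)) :=
    Subgroup.isCoatom_comap_of_surjective (fun k => ⟨(k, 1), rfl⟩) hM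
  apply isCoatom_normalizer_of_le H _ hH hL
  apply le_normalizer_of_conj_mem
  rintro ⟨a, b⟩ hab ⟨k, s⟩ hks
  have ha : a ∈ normalizer (H₁ : Set K) := hab
  obtain ⟨h1, h2⟩ := hsplit k s hks
  have h3 : a * k * a⁻¹ ∈ H₁ := by
    rw [mem_normalizer_iff] at ha
    exact (ha k).mp ((hmem₁ k).mpr h1)
  have e : (a, b) * (k, s) * (a, b)⁻¹ = ((a * k * a⁻¹, s) : K × S) := by
    ext
    · simp
    · simp
  rw [e]
  exact hjoin _ _ ((hmem₁ _).mp h3) h2

/-- central extension by a group of order two generated by the unique involution -/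
theorem MaxNormProp.central_lift {E : Type*} [Group E] [Finite E] (Z : Subgroup E) [Z.Normal]
    (z : E) (hZc : Z ≤ center E) (hZ : ∀ c ∈ Z, c = 1 ∨ c = z) (hzZ : z ∈ Z) (hz2 : z * z = 1)
    (huniq : ∀ x : E, orderOf x = 2 → x = z)
    (hq : ∀ Hb : Subgroup (E ⧸ Z), Hb ≠ ⊥ → Hb ≠ ⊤ → IsCoatom (normalizer (Hb : Set (E ⧸ Z)))) :
    MaxNormProp E := by
  intro H hH
  have hcen : ∀ c ∈ Z, ∀ g : E, g * c = c * g := by
    intro c hc g
    have := hZc hc
    rw [Subgroup.mem_center_iff] at this
    exact this g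
  set π := QuotientGroup.mk' Z with hπ
  have hπs : Function.Surjective π := QuotientGroup.mk'_surjective Z
  have hker : π.ker = Z := QuotientGroup.ker_mk' Z
  -- lifting equalities in the quotient
  have hlift : ∀ a b : E, π a = π b → ∃ c ∈ Z, a = b * c := by
    intro a b hab
    refine ⟨b⁻¹ * a, ?_, by group⟩
    rw [← hker, MonoidHom.mem_ker, map_mul, map_inv, hab]
    simp
  -- the image is nontrivial and proper
  have hb : H.map π ≠ ⊥ := by
    intro h0
    rw [Subgroup.map_eq_bot_iff, hker] at h0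
    apply hH
    constructor
    intro x hx g
    have := hcen x (h0 hx) g
    rw [this, mul_assoc, mul_inv_cancel, mul_one]
    exact hx
  have ht : H.map π ≠ ⊤ := by
    intro h0
    apply hH
    constructor
    intro x hx g
    have hg : π g ∈ H.map π := by rw [h0]; trivial
    obtain ⟨h', hh', hh'g⟩ := hg
    obtain ⟨c, hc, rfl⟩ := hlift g h' hh'g.symm
    have e : h' * c * x * (h' * c)⁻¹ = h' * x * h'⁻¹ := by
      have h1 := hcen c hc x
      calc h' * c * x * (h' * c)⁻¹ = h' * (c * x) * c⁻¹ * h'⁻¹ := by group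
        _ = h' * (x * c) * c⁻¹ * h'⁻¹ := by rw [h1]
        _ = h' * x * h'⁻¹ := by group
    rw [e]
    exact H.mul_mem (H.mul_mem hh' hx) (H.inv_mem hh')
  have hco := hq _ hb ht
  have hL : IsCoatom ((normalizer ((H.map π : Subgroup (E ⧸ Z)) : Set (E ⧸ Z))).comap π) :=
    Subgroup.isCoatom_comap_of_surjective hπs hco
  apply isCoatom_normalizer_of_le H _ hH hL
  -- conjugates land in `H Z`
  have hconj : ∀ k ∈ (normalizer ((H.map π : Subgroup (E ⧸ Z)) : Set (E ⧸ Z))).comap π,
      ∀ w ∈ H, ∃ h' ∈ H, ∃ c ∈ Z, k * w * k⁻¹ = h' * c := by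
    intro k hk w hw
    have hk' : π k ∈ normalizer ((H.map π : Subgroup (E ⧸ Z)) : Set (E ⧸ Z)) := hk
    rw [mem_normalizer_iff] at hk'
    have h1 : π k * π w * (π k)⁻¹ ∈ H.map π := (hk' (π w)).mp ⟨w, hw, rfl⟩
    obtain ⟨h', hh', hh'e⟩ := h1
    have h2 : π (k * w * k⁻¹) = π h' := by
      rw [map_mul, map_mul, map_inv, hh'e]
    obtain ⟨c, hc, hc'⟩ := hlift _ _ h2
    exact ⟨h', hh', c, hc, hc'⟩
  apply le_normalizer_of_conj_mem
  intro k hk x hx
  by_cases hzH : z ∈ H
  · obtain ⟨h', hh', c, hc, e⟩ := hconj k hk x hx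
    rw [e]
    rcases hZ c hc with rfl | rfl
    · rw [mul_one]; exact hh'
    · exact H.mul_mem hh' hzH
  · -- `x` is a square in `H`
    have hsq : ∃ w ∈ H, w * w = x := by
      have hpos : 0 < orderOf x := orderOf_pos x
      rcases Nat.even_or_odd' (orderOf x) with ⟨m, hm | hm⟩
      · exfalso
        have hm0 : m ≠ 0 := by
          rintro rfl
          omega
        have h2 : orderOf (x ^ m) = 2 := by
          rw [orderOf_pow_of_dvd hm0 ⟨2, by rw [hm, mul_comm]⟩, hm]
          exact Nat.mul_div_cancel _ (Nat.pos_of_ne_zero hm0)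
        have := huniq _ h2
        exact hzH (this ▸ H.pow_mem hx m)
      · refine ⟨x ^ (m + 1), H.pow_mem hx _, ?_⟩
        rw [← pow_add]
        have : m + 1 + (m + 1) = orderOf x + 1 := by omega
        rw [this, pow_succ, pow_orderOf_eq_one, one_mul]
    obtain ⟨w, hw, rfl⟩ := hsq
    obtain ⟨h', hh', c, hc, e⟩ := hconj k hk w hw
    have e2 : k * (w * w) * k⁻¹ = (k * w * k⁻¹) * (k * w * k⁻¹) := by group
    rw [e2, e]
    have hcc : c * c = 1 := by
      rcases hZ c hc with rfl | rfl
      · simp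
      · exact hz2
    have h1 := hcen c hc h'
    have e3 : h' * c * (h' * c) = h' * h' := by
      calc h' * c * (h' * c) = h' * (c * h') * c := by group
        _ = h' * (h' * c) * c := by rw [← h1]
        _ = h' * h' * (c * c) := by group
        _ = h' * h' := by rw [hcc, mul_one]
    rw [e3]
    exact H.mul_mem hh' hh'

end Cfsg.Agent.Helper11.MaxNorm
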