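import Mathlib
import Cfsg.Agent.S5892
import Cfsg.Agent.Lib.Helper11.DicksonIdx
import Cfsg.Agent.Lib.Helper11.MaxNorm6
import Cfsg.Agent.Lib.Helper11.MaxNorm7

/-!
# `PSL(2,13)` and `SL(2,13)`: non-normal subgroups have maximal normalizers (helper11)
-/

set_option autoImplicit false

namespace Cfsg.Agent.Helper11.MaxNorm

open Subgroup

instance fact13 : Fact (Nat.Prime 13) := ⟨by norm_num⟩

theorem card_PSL13 :
    Nat.card (Matrix.ProjectiveSpecialLinearGroup (Fin 2) (ZMod 13)) = 1092 := by
  have h := Cfsg.Agent.Helper11.Dickson.card_PSL2_mul (F := ZMod 13)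
  rw [ZMod.card] at h
  have h2 : Nat.gcd 2 (13 - 1) = 2 := by decide
  rw [h2] at h
  omega

instance simple_PSL13 : IsSimpleGroup (Matrix.ProjectiveSpecialLinearGroup (Fin 2) (ZMod 13)) :=
  Matrix.ProjectiveSpecialLinearGroup.rank_two_simple (by
    rw [Nat.card_eq_fintype_card, ZMod.card]; norm_num)

theorem hyp_PSL13 : Hyp (Matrix.ProjectiveSpecialLinearGroup (Fin 2) (ZMod 13)) where
  card := card_PSL13
  coatom := by
    intro M hM
    have hres := Cfsg.Agent.S5892.result (F := ZMod 13) 13 (by rw [ZMod.card]; decide)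
      (by rw [ZMod.card]; norm_num) M hM
    simp only [ZMod.card] at hres
    rcases hres with h1 | ⟨-, k, hk, ⟨e⟩⟩ | ⟨-, -, k, hk, ⟨e⟩⟩ | ⟨F₀, _, _, hc, -⟩ |
      ⟨F₀, _, _, r, hr, hodd, hc, -⟩ | ⟨h10, -⟩ | ⟨-, -, -, ⟨e⟩⟩ | ⟨-, h8, -⟩
    · left; omega
    · right; right
      rw [Nat.card_congr e.toEquiv, DihedralGroup.nat_card]
      omega
    · right; left
      rw [Nat.card_congr e.toEquiv, DihedralGroup.nat_card]
      omega
    · exfalso
      generalize Fintype.card F₀ = c at hc
      have : c < 4 := by nlinarith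
      interval_cases c <;> omega
    · exfalso
      have h13 : Nat.Prime 13 := by norm_num
      have := (h13.pow_eq_iff).mp hc.symm
      rw [this.2] at hr
      exact Nat.not_prime_one hr
    · exfalso; omega
    · right; right
      rw [Nat.card_congr e.toEquiv, nat_card_alternatingGroup, Nat.card_eq_fintype_card,
        Fintype.card_fin]
      decide
    · exfalso; omega

/-- the property for `PSL(2,13)` -/
theorem maxNormProp_PSL13 :
    MaxNormProp (Matrix.ProjectiveSpecialLinearGroup (Fin 2) (ZMod 13)) := by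
  intro H hH
  apply hyp_PSL13.main H
  · rintro rfl
    exact hH inferInstance
  · rintro rfl
    exact hH inferInstance

/-- minus the identity -/
def zneg : Matrix.SpecialLinearGroup (Fin 2) (ZMod 13) :=
  ⟨!![-1, 0; 0, -1], by simp [Matrix.det_fin_two]⟩

theorem zneg_mul_self : zneg * zneg = 1 := by
  apply Subtype.ext
  rw [Matrix.SpecialLinearGroup.coe_mul]
  ext i j
  fin_cases i <;> fin_cases j <;> simp [zneg, Matrix.mul_apply, Fin.sum_univ_two]

theorem zneg_mem_center : zneg ∈ center (Matrix.SpecialLinearGroup (Fin 2) (ZMod 13)) := by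
  rw [Matrix.SpecialLinearGroup.mem_center_iff]
  refine ⟨-1, by simp, ?_⟩
  ext i j
  fin_cases i <;> fin_cases j <;> simp [zneg]

theorem center_cases (c : Matrix.SpecialLinearGroup (Fin 2) (ZMod 13))
    (hc : c ∈ center (Matrix.SpecialLinearGroup (Fin 2) (ZMod 13))) : c = 1 ∨ c = zneg := by
  rw [Matrix.SpecialLinearGroup.mem_center_iff] at hc
  obtain ⟨r, hr, hrc⟩ := hc
  rw [Fintype.card_fin] at hr
  have hsq : ∀ a : ZMod 13, a ^ 2 = 1 → a = 1 ∨ a = -1 := by decide
  have hr' : r = 1 ∨ r = -1 := hsq r hr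
  rcases hr' with rfl | rfl
  · left
    apply Subtype.ext
    rw [← hrc]
    simp
  · right
    apply Subtype.ext
    rw [← hrc]
    ext i j
    fin_cases i <;> fin_cases j <;> simp [zneg]

theorem invol_unique (x : Matrix.SpecialLinearGroup (Fin 2) (ZMod 13)) (hx : orderOf x = 2) :
    x = zneg := by
  have hx2 : x * x = 1 := by
    have := pow_orderOf_eq_one x
    rwa [hx, pow_two] at this
  have hx1 : x ≠ 1 := by
    rintro rfl
    rw [orderOf_one] at hx
    omega
  have hinv : x = x⁻¹ := eq_inv_of_mul_eq_one_left hx2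
  have hval : (x : Matrix (Fin 2) (Fin 2) (ZMod 13)) = Matrix.adjugate (x : Matrix _ _ _) := by
    conv_lhs => rw [hinv]
    rw [Matrix.SpecialLinearGroup.coe_inv]
  rw [Matrix.adjugate_fin_two] at hval
  have h00 : x.1 0 0 = x.1 1 1 := by
    have := congrFun (congrFun hval 0) 0
    simpa using this
  have h01 : x.1 0 1 = - x.1 0 1 := by
    have := congrFun (congrFun hval 0) 1
    simpa using this
  have h10 : x.1 1 0 = - x.1 1 0 := by
    have := congrFun (congrFun hval 1) 0
    simpa using this
  have hz : ∀ b : ZMod 13, b = -b → b = 0 := by decide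
  have h01' := hz _ h01
  have h10' := hz _ h10
  have hdet := x.2
  rw [Matrix.det_fin_two, h01', h10', ← h00] at hdet
  have hsq : ∀ a : ZMod 13, a * a - 0 * 0 = 1 → a = 1 ∨ a = -1 := by decide
  rcases hsq _ hdet with h1 | h1
  · exfalso
    apply hx1
    apply Subtype.ext
    ext i j
    fin_cases i <;> fin_cases j
    · simpa using h1
    · simpa using h01'
    · simpa using h10'
    · simpa using (h00.symm.trans h1)
  · apply Subtype.ext
    ext i j
    fin_cases i <;> fin_cases j
    · simpa [zneg] using h1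
    · simpa [zneg] using h01'
    · simpa [zneg] using h10'
    · simpa [zneg] using (h00.symm.trans h1)

/-- the property for `SL(2,13)` -/
theorem maxNormProp_SL13 :
    MaxNormProp (Matrix.SpecialLinearGroup (Fin 2) (ZMod 13)) := by
  apply MaxNormProp.central_lift (center (Matrix.SpecialLinearGroup (Fin 2) (ZMod 13))) zneg
    le_rfl center_cases zneg_mem_center zneg_mul_self invol_unique
  intro Hb hb ht
  exact hyp_PSL13.main Hb hb ht

end Cfsg.Agent.Helper11.MaxNorm
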