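import Mathlib

/-!
# Piece CARD12 for helper29 (S2036): a quotient of `ℤ/12` with an element whose fourth and sixth
powers are non-trivial is `ℤ/12`.
-/

set_option autoImplicit false

namespace Cfsg.Agent.Helper11.Card12

theorem mulEquiv_zmod12 {K : Type*} [Group K] (π : Multiplicative (ZMod 12) →* K)
    (hπ : Function.Surjective π) (z : K) (h4 : z ^ 4 ≠ 1) (h6 : z ^ 6 ≠ 1) :
    Nonempty (K ≃* Multiplicative (ZMod 12)) := by
  haveI : Finite K := Finite.of_surjective π hπ
  have hc12 : Nat.card (Multiplicative (ZMod 12)) = 12 := by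
    rw [Nat.card_eq_fintype_card]
    change Fintype.card (ZMod 12) = 12
    exact ZMod.card 12
  have hdvd : Nat.card K ∣ 12 := by
    rw [← hc12]; exact Subgroup.card_dvd_of_surjective π hπ
  have hz : orderOf z ∣ Nat.card K := orderOf_dvd_natCard z
  have hz12 : orderOf z ∣ 12 := hz.trans hdvd
  have hn4 : ¬ orderOf z ∣ 4 := fun h => h4 (orderOf_dvd_iff_pow_eq_one.1 h)
  have hn6 : ¬ orderOf z ∣ 6 := fun h => h6 (orderOf_dvd_iff_pow_eq_one.1 h)
  have ho : orderOf z = 12 := by
    have hle : orderOf z ≤ 12 := Nat.le_of_dvd (by norm_num) hz12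
    have hpos : 0 < orderOf z := Nat.pos_of_dvd_of_pos hz12 (by norm_num)
    interval_cases h : orderOf z <;> omega
  have hcard : Nat.card K = 12 := by
    apply Nat.dvd_antisymm hdvd
    rw [← ho]; exact hz
  have hbij : Function.Bijective π := by
    rw [Nat.bijective_iff_surjective_and_card]
    exact ⟨hπ, by rw [hc12, hcard]⟩
  exact ⟨(MulEquiv.ofBijective π hbij).symm⟩

end Cfsg.Agent.Helper11.Card12
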