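import Mathlib
import Cfsg.Agent.Lib.Helper12.NilSymNum2

/-!
# Numerics for nilpotent subgroups of alternating groups

`nsH n` is an exponent with `|G| ^ 2 ≤ 3 ^ nsH n` for nilpotent groups acting faithfully on `n`
points such that every point is moved by an element of odd order.
-/

set_option autoImplicit false

namespace Cfsg.Agent.Helper11.NilAlt

open Cfsg.Agent.Helper12.NilSym

/-- the exponent of `3` bounding the square of the order. -/
def nsH (n : ℕ) : ℕ := if n % 3 = 0 then n - 1 else n - 2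

theorem nsH_add (a b : ℕ) : nsH a + nsH b ≤ nsH (a + b) := by
  unfold nsH
  split_ifs <;> omega

theorem nsH_mono {a b : ℕ} (h : a ≤ b) : nsH a ≤ nsH b := by
  unfold nsH
  split_ifs <;> omega

theorem nsH_le (a : ℕ) : nsH a ≤ a - 1 := by
  unfold nsH
  split_ifs <;> omega

theorem nsH_mul_even {d d' : ℕ} (hd : 2 ≤ d) (hd' : 3 ≤ d') :
    2 * (d - 1) + nsH d' ≤ nsH (d * d') := by
  have h1 : 2 * d + d' ≤ d * d' + 1 := by nlinarith
  obtain ⟨e, he⟩ : ∃ e, e = d * d' := ⟨_, rfl⟩
  rw [← he] at h1 ⊢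
  unfold nsH
  split_ifs <;> omega

theorem nsH_mul_odd {d d' : ℕ} (hd : 2 ≤ d) (hd' : 2 ≤ d') :
    nsH d + nsH d' ≤ nsH (d * d') := by
  have h1 : d + d' ≤ d * d' := by nlinarith
  exact (nsH_add d d').trans (nsH_mono h1)

theorem sq_le_three_pow (p : ℕ) (hp : 5 ≤ p) : p ^ 2 ≤ 3 ^ (p - 2) := by
  induction p, hp using Nat.le_induction with
  | base => norm_num
  | succ p hp ih =>
    have e : p + 1 - 2 = (p - 2) + 1 := by omega
    rw [e, pow_succ 3]
    have h1 : (p + 1) ^ 2 ≤ 3 * p ^ 2 := by nlinarith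
    omega

/-- transitive `p`-groups, `p` odd. -/
theorem sq_pow_nsA_le (p : ℕ) [hp : Fact p.Prime] (hp2 : p ≠ 2) (j : ℕ) (hj : 1 ≤ j) :
    (p ^ nsA p j) ^ 2 ≤ 3 ^ nsH (p ^ j) := by
  have h1 := nsA_mul p j
  have hp1 : 2 ≤ p := hp.out.two_le
  have hpj : p ≤ p ^ j := by
    calc p = p ^ 1 := (pow_one p).symm
      _ ≤ p ^ j := Nat.pow_le_pow_right (by omega) hj
  by_cases hp3 : p = 3
  · subst hp3
    have h1' : 2 * nsA 3 j + 1 = 3 ^ j := h1
    have hmod : 3 ^ j % 3 = 0 := by
      obtain ⟨i, rfl⟩ : ∃ i, j = i + 1 := ⟨j - 1, by omega⟩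
      rw [pow_succ]
      exact Nat.mul_mod_left _ _
    have hH : nsH (3 ^ j) = 2 * nsA 3 j := by
      unfold nsH
      rw [if_pos hmod]
      omega
    rw [hH, ← pow_mul, mul_comm]
  · have hp5 : 5 ≤ p := by
      have hne4 : p ≠ 4 := by
        intro h
        rw [h] at hp
        exact absurd hp.out (by norm_num)
      omega
    have hmod : p ^ j % 3 ≠ 0 := by
      intro h
      have h3 : 3 ∣ p ^ j := Nat.dvd_of_mod_eq_zero h
      have h4 : 3 ∣ p := Nat.Prime.dvd_of_dvd_pow Nat.prime_three h3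
      have := (Nat.prime_dvd_prime_iff_eq Nat.prime_three hp.out).mp h4
      omega
    have hH : nsH (p ^ j) = p ^ j - 2 := by
      unfold nsH
      rw [if_neg hmod]
    obtain ⟨x, hx⟩ : ∃ x, x = nsA p j := ⟨_, rfl⟩
    rw [← hx] at h1 ⊢
    have hx1 : 1 ≤ x := by
      rcases Nat.eq_zero_or_pos x with h | h
      · rw [h, mul_zero, zero_add] at h1
        omega
      · exact h
    obtain ⟨q, rfl⟩ : ∃ q, p = q + 2 := ⟨p - 2, by omega⟩
    have h2 : (q + 2) ^ 2 ≤ 3 ^ q := by
      have := sq_le_three_pow (q + 2) hp5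
      simpa using this
    have h3 : q * x ≤ (q + 2) ^ j - 2 := by
      have e : (q + 2 - 1) * x = q * x + x := by
        have : q + 2 - 1 = q + 1 := by omega
        rw [this]
        ring
      rw [e] at h1
      omega
    rw [hH]
    calc ((q + 2) ^ x) ^ 2 = ((q + 2) ^ 2) ^ x := by rw [← pow_mul, ← pow_mul, mul_comm]
      _ ≤ (3 ^ q) ^ x := Nat.pow_le_pow_left h2 _
      _ = 3 ^ (q * x) := by rw [← pow_mul]
      _ ≤ 3 ^ ((q + 2) ^ j - 2) := Nat.pow_le_pow_right (by norm_num) h3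

theorem nsV_eval_two : nsV 2 = 1 := by
  rw [nsV_half 2]
  norm_num [nsV_one]

theorem nsV_eval_four : nsV 4 = 3 := by
  rw [nsV_half 4]
  norm_num [nsV_eval_two]

theorem nsV_eval_eight : nsV 8 = 7 := by
  rw [nsV_half 8]
  norm_num [nsV_eval_four]

theorem nsV_eval_three : nsV 3 = 1 := by
  rw [nsV_half 3]
  norm_num [nsV_one]

theorem nsV_eval_five : nsV 5 = 3 := by
  rw [nsV_half 5]
  norm_num [nsV_eval_two]

theorem nsV_eval_six : nsV 6 = 4 := by
  rw [nsV_half 6]
  norm_num [nsV_eval_three]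

theorem nsV_eval_seven : nsV 7 = 4 := by
  rw [nsV_half 7]
  norm_num [nsV_eval_three]

theorem nsV_eval_nine : nsV 9 = 7 := by
  rw [nsV_half 9]
  norm_num [nsV_eval_four]

theorem nsV_eval_ten : nsV 10 = 8 := by
  rw [nsV_half 10]
  norm_num [nsV_eval_five]

theorem nsV_eval_eleven : nsV 11 = 8 := by
  rw [nsV_half 11]
  norm_num [nsV_eval_five]

/-- the crude comparison for large degrees. -/
theorem three_pow_le_large (n : ℕ) (hn : 16 ≤ n) : 3 ^ (n - 1) ≤ 4 ^ (nsV n - 1) := by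
  induction n using Nat.strong_induction_on with
  | _ n ih =>
    rcases Nat.lt_or_ge n 24 with h | h
    · have hv : n / 2 - 1 + nsV (n / 2) ≤ nsV n - 1 := by
        rw [nsV_half n]
        omega
      refine le_trans ?_ (Nat.pow_le_pow_right (by norm_num) hv)
      interval_cases n
      · norm_num [nsV_eval_eight]
      · norm_num [nsV_eval_eight]
      · norm_num [nsV_eval_nine]
      · norm_num [nsV_eval_nine]
      · norm_num [nsV_eval_ten]
      · norm_num [nsV_eval_ten]
      · norm_num [nsV_eval_eleven]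
      · norm_num [nsV_eval_eleven]
    · obtain ⟨m, rfl⟩ : ∃ m, n = m + 8 := ⟨n - 8, by omega⟩
      have h1 := ih m (by omega) (by omega)
      have h2 : nsV m + 7 ≤ nsV (m + 8) := by
        have := nsV_add m 8
        rwa [nsV_eval_eight] at this
      have hm : 1 ≤ nsV m := by
        have := nsV_mono (show 2 ≤ m by omega)
        rw [nsV_eval_two] at this
        exact this
      have e1 : m + 8 - 1 = (m - 1) + 8 := by omega
      have e2 : nsV m - 1 + 7 ≤ nsV (m + 8) - 1 := by omega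
      calc 3 ^ (m + 8 - 1) = 3 ^ (m - 1) * 3 ^ 8 := by rw [e1, pow_add]
        _ ≤ 4 ^ (nsV m - 1) * 4 ^ 7 := Nat.mul_le_mul h1 (by norm_num)
        _ = 4 ^ (nsV m - 1 + 7) := by rw [pow_add]
        _ ≤ 4 ^ (nsV (m + 8) - 1) := Nat.pow_le_pow_right (by norm_num) e2

/-- the final comparison. -/
theorem three_pow_nsH_le (n : ℕ) (hn : n % 4 ≠ 3) (h5 : n ≠ 5) (h6 : n ≠ 6) (h9 : n ≠ 9) :
    3 ^ nsH n ≤ 4 ^ (nsV n - 1) := by
  rcases Nat.lt_or_ge n 3 with h3 | h3
  · have h0 : nsH n = 0 := by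
      unfold nsH
      split_ifs <;> omega
    rw [h0, pow_zero]
    exact Nat.one_le_pow _ _ (by norm_num)
  rcases Nat.lt_or_ge n 16 with h | h
  · have hv : n / 2 - 1 + nsV (n / 2) ≤ nsV n - 1 := by
      rw [nsV_half n]
      omega
    refine le_trans ?_ (Nat.pow_le_pow_right (by norm_num) hv)
    interval_cases n
    · omega
    · norm_num [nsH, nsV_eval_two]
    · omega
    · omega
    · omega
    · norm_num [nsH, nsV_eval_four]
    · omega
    · norm_num [nsH, nsV_eval_five]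
    · omega
    · norm_num [nsH, nsV_eval_six]
    · norm_num [nsH, nsV_eval_six]
    · norm_num [nsH, nsV_eval_seven]
    · omega
  · exact (Nat.pow_le_pow_right (by norm_num) (nsH_le n)).trans (three_pow_le_large n h)

end Cfsg.Agent.Helper11.NilAlt
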