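import Mathlib
import Cfsg.Agent.Lib.Helper12.NilSymMain2
import Cfsg.Agent.Lib.Helper11.NilAltNum

/-!
# Nilpotent groups all of whose points are moved by elements of odd order

If a finite nilpotent group `G` acts faithfully on `n` points and every point is moved by an
element of odd order, then `|G| ^ 2 ≤ 3 ^ nsH n`.
-/

set_option autoImplicit false

namespace Cfsg.Agent.Helper11.NilAlt

open MulAction Cfsg.Agent.Helper12.NilSym

/-- a nontrivial group of odd order acting faithfully on one of its orbits moves every point of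
it by an element of odd order. -/
theorem oddmove_orbit {G : Type} [Group G] [Finite G] {α : Type} [MulAction G α]
    (A : Subgroup G) (a : α) [FaithfulSMul A (orbit A a)] (hA : Nat.card A ≠ 1)
    (hodd : Odd (Nat.card A)) :
    ∀ c : orbit A a, ∃ g : A, Odd (orderOf g) ∧ g • c ≠ c := by
  have hx : ∃ x : A, ∃ c₀ : orbit A a, x • c₀ ≠ c₀ := by
    by_contra hcon
    push Not at hcon
    have : Subsingleton A := by
      constructor
      intro x y
      exact eq_of_smul_eq_smul (α := orbit A a) fun c => by rw [hcon x c, hcon y c]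
    exact hA (Nat.card_eq_one_iff_unique.mpr ⟨this, ⟨1⟩⟩)
  obtain ⟨x, c₀, hx⟩ := hx
  intro c
  obtain ⟨u, rfl⟩ := MulAction.exists_smul_eq A c₀ c
  refine ⟨u * x * u⁻¹, Odd.of_dvd_nat hodd (orderOf_dvd_natCard _), ?_⟩
  intro h
  apply hx
  have h1 : (u * x * u⁻¹) • u • c₀ = u • x • c₀ := by
    rw [smul_smul, smul_smul, inv_mul_cancel_right]
  rw [h1] at h
  exact smul_left_cancel u h

/-- the hypothesis passes to the image of the group in the symmetric group of an invariant
subset. -/
theorem range_oddmove {G : Type} [Group G] {α : Type} [MulAction G α] (S : SubMulAction G α)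
    (hS : ∀ s : S, ∃ g : G, Odd (orderOf g) ∧ g • (s : α) ≠ s) :
    ∀ s : S, ∃ r : (MulAction.toPermHom G S).range, Odd (orderOf r) ∧ r • s ≠ s := by
  intro s
  obtain ⟨g, hg, hgs⟩ := hS s
  refine ⟨(MulAction.toPermHom G S).rangeRestrict g, ?_, ?_⟩
  · exact Odd.of_dvd_nat hg (orderOf_map_dvd _ g)
  · intro h
    apply hgs
    have := congrArg Subtype.val h
    simpa [Subgroup.smul_def] using this

instance range_faithful {G : Type} [Group G] {α : Type} [MulAction G α] (S : SubMulAction G α) :
    FaithfulSMul (MulAction.toPermHom G S).range S := by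
  constructor
  intro x y h
  apply Subtype.ext
  apply Equiv.ext
  intro s
  exact h s

theorem range_nilpotent {G : Type} [Group G] [Group.IsNilpotent G] {α : Type} [MulAction G α]
    (S : SubMulAction G α) : Group.IsNilpotent (MulAction.toPermHom G S).range :=
  Group.nilpotent_of_surjective (MulAction.toPermHom G S).rangeRestrict
    (MulAction.toPermHom G S).rangeRestrict_surjective

/-- the order of a group acting faithfully on two invariant subsets covering everything is at
most the product of the orders of the two images. -/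
theorem card_le_range_mul {G : Type} [Group G] [Finite G] {α : Type} [MulAction G α]
    [FaithfulSMul G α] (S₁ S₂ : SubMulAction G α) (hcov : ∀ x : α, x ∈ S₁ ∨ x ∈ S₂) :
    Nat.card G ≤ Nat.card (MulAction.toPermHom G S₁).range *
      Nat.card (MulAction.toPermHom G S₂).range := by
  have fin1 : Finite (MulAction.toPermHom G S₁).range :=
    Finite.of_surjective _ (MulAction.toPermHom G S₁).rangeRestrict_surjective
  have fin2 : Finite (MulAction.toPermHom G S₂).range :=
    Finite.of_surjective _ (MulAction.toPermHom G S₂).rangeRestrict_surjective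
  rw [← Nat.card_prod]
  let f : G → (MulAction.toPermHom G S₁).range × (MulAction.toPermHom G S₂).range :=
    fun g => ((MulAction.toPermHom G S₁).rangeRestrict g,
      (MulAction.toPermHom G S₂).rangeRestrict g)
  apply Nat.card_le_card_of_injective f
  intro g g' h
  apply eq_of_smul_eq_smul (α := α)
  intro c
  have h1 : MulAction.toPermHom G S₁ g = MulAction.toPermHom G S₁ g' :=
    congrArg (fun z => (z.1 : Equiv.Perm S₁)) h
  have h2 : MulAction.toPermHom G S₂ g = MulAction.toPermHom G S₂ g' :=
    congrArg (fun z => (z.2 : Equiv.Perm S₂)) h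
  rcases hcov c with hc | hc
  · have := congrArg (fun σ => ((σ ⟨c, hc⟩ : S₁) : α)) h1
    simpa using this
  · have := congrArg (fun σ => ((σ ⟨c, hc⟩ : S₂) : α)) h2
    simpa using this

/-- the transitive case of the induction. -/
theorem oddBound_transitive (n : ℕ) (hn : 2 ≤ n)
    (ih : ∀ m < n, ∀ (G : Type) [Group G] [Finite G] [Group.IsNilpotent G] (α : Type) [Finite α]
      [MulAction G α] [FaithfulSMul G α], Nat.card α = m →
      (∀ a : α, ∃ g : G, Odd (orderOf g) ∧ g • a ≠ a) → Nat.card G ^ 2 ≤ 3 ^ nsH m)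
    (G : Type) [Group G] [Finite G] [Group.IsNilpotent G] (α : Type) [Finite α]
    [MulAction G α] [FaithfulSMul G α] [IsPretransitive G α] (hα : Nat.card α = n)
    (hodd : ∀ a : α, ∃ g : G, Odd (orderOf g) ∧ g • a ≠ a) :
    Nat.card G ^ 2 ≤ 3 ^ nsH n := by
  have hne : Nonempty α := by
    by_contra h
    rw [not_nonempty_iff] at h
    rw [Nat.card_of_isEmpty] at hα
    omega
  obtain ⟨a⟩ := hne
  obtain ⟨g₀, hg₀odd, hg₀a⟩ := hodd a
  have hg₀1 : g₀ ≠ 1 := by
    intro h
    rw [h, one_smul] at hg₀a
    exact hg₀a rfl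
  have hG1 : Nat.card G ≠ 1 := by
    intro h
    have hs : Subsingleton G := (Nat.card_eq_one_iff_unique.mp h).1
    exact hg₀1 (Subsingleton.elim _ _)
  have hp : (Nat.card G).minFac.Prime := Nat.minFac_prime hG1
  obtain ⟨p, hpdef⟩ : ∃ p, p = (Nat.card G).minFac := ⟨_, rfl⟩
  rw [← hpdef] at hp
  have : Fact p.Prime := ⟨hp⟩
  have hpdvd : p ∣ Nat.card G := hpdef ▸ Nat.minFac_dvd _
  let P : Sylow p G := default
  obtain ⟨Q, hc, hcop, hcomm⟩ := Cfsg.Agent.Helper24.exists_complement_centralizing p P
  have hcard : Nat.card (P : Subgroup G) * Nat.card Q = Nat.card G := hc.card_mul_card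
  obtain ⟨k, hk⟩ := IsPGroup.iff_card.mp P.isPGroup'
  by_cases hQ : Nat.card Q = 1
  · rw [hQ, mul_one, hk] at hcard
    -- `G` is a `p`-group, and `p` is odd
    have hp2 : p ≠ 2 := by
      intro hp2
      have h1 : orderOf g₀ ∣ 2 ^ k := by
        rw [← hp2, hcard]
        exact orderOf_dvd_natCard g₀
      obtain ⟨i, -, hi⟩ := (Nat.dvd_prime_pow Nat.prime_two).mp h1
      rcases Nat.eq_zero_or_pos i with h0 | h0
      · rw [h0, pow_zero, orderOf_eq_one_iff] at hi
        exact hg₀1 hi
      · rw [hi] at hg₀odd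
        have : Even (2 ^ i) := (Nat.even_pow' (by omega)).mpr even_two
        exact (Nat.not_even_iff_odd.mpr hg₀odd) this
    have h1 : Nat.card α ∣ p ^ k := by
      rw [hcard, ← MulAction.index_stabilizer_of_transitive G a]
      exact Subgroup.index_dvd_card _
    obtain ⟨j, -, hj⟩ := (Nat.dvd_prime_pow hp).mp h1
    have hj1 : 1 ≤ j := by
      rcases Nat.eq_zero_or_pos j with h | h
      · rw [hj, h, pow_zero] at hα
        omega
      · exact h
    have h2 : Nat.card G ∣ (Nat.card α).factorial := by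
      rw [← Nat.card_perm]
      exact Subgroup.card_dvd_of_injective (MulAction.toPermHom G α) MulAction.toPerm_injective
    rw [← hcard, hj] at h2
    have h3 : k ≤ nsA p j := (padicValNat_dvd_iff_le (Nat.factorial_ne_zero _)).mp h2
    rw [← hα, hj, ← hcard]
    exact (Nat.pow_le_pow_left (Nat.pow_le_pow_right hp.pos h3) 2).trans
      (sq_pow_nsA_le p hp2 j hj1)
  · have hP1 : Nat.card (P : Subgroup G) ≠ 1 := by
      intro h
      rw [h, one_mul] at hcard
      rw [← hcard] at hpdvd
      have := Nat.Coprime.eq_one_of_dvd hcop.symm hpdvd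
      exact hp.one_lt.ne' this
    have hprod : ∀ g : G, ∃ x ∈ (P : Subgroup G), ∃ y ∈ Q, g = x * y := by
      intro g
      obtain ⟨⟨x, y⟩, hxy⟩ := hc.2 g
      exact ⟨x.1, x.2, y.1, y.2, hxy.symm⟩
    have hprodQ : ∀ g : G, ∃ x ∈ (P : Subgroup G), ∃ y ∈ Q, g = y * x := by
      intro g
      obtain ⟨x, hx, y, hy, rfl⟩ := hprod g
      exact ⟨x, hx, y, hy, hcomm x hx y hy⟩
    have hprodP : ∀ g : G, ∃ y ∈ Q, ∃ x ∈ (P : Subgroup G), g = x * y := by
      intro g
      obtain ⟨x, hx, y, hy, rfl⟩ := hprod g
      exact ⟨y, hy, x, hx, rfl⟩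
    have hcomm' : ∀ y ∈ Q, ∀ x ∈ (P : Subgroup G), y * x = x * y :=
      fun y hy x hx => (hcomm x hx y hy).symm
    have nP : (P : Subgroup G).Normal := normal_of_comm_prod _ Q hcomm hprodQ
    have nQ : Q.Normal := normal_of_comm_prod Q _ hcomm' hprodP
    have F1 : FaithfulSMul (P : Subgroup G) (orbit (P : Subgroup G) a) :=
      faithful_orbit _ Q hcomm hprodQ a
    have F2 : FaithfulSMul Q (orbit Q a) := faithful_orbit Q _ hcomm' hprodP a
    obtain ⟨d, hd⟩ : ∃ d, d = Nat.card (orbit (P : Subgroup G) a) := ⟨_, rfl⟩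
    obtain ⟨d', hd'⟩ : ∃ d', d' = Nat.card (orbit Q a) := ⟨_, rfl⟩
    have hd2 : 2 ≤ d := hd ▸ two_le_card_orbit (P : Subgroup G) a hP1
    have hd2' : 2 ≤ d' := hd' ▸ two_le_card_orbit Q a hQ
    have hdP : d ∣ p ^ k := by
      rw [hd, ← hk]
      exact card_orbit_dvd _ a
    have hdQ : d' ∣ Nat.card Q := by
      rw [hd']
      exact card_orbit_dvd _ a
    have hdn : d ∣ n := by
      rw [hd, ← hα]
      exact card_orbit_dvd_of_normal _ a
    have hdn' : d' ∣ n := by
      rw [hd', ← hα]
      exact card_orbit_dvd_of_normal _ a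
    have hcopd : Nat.Coprime d d' := by
      apply Nat.Coprime.coprime_dvd_left hdP
      apply Nat.Coprime.coprime_dvd_right hdQ
      exact Nat.Coprime.pow_left k hcop.symm
    have hmul : d * d' ∣ n := hcopd.mul_dvd_of_dvd_of_dvd hdn hdn'
    have hle : d * d' ≤ n := Nat.le_of_dvd (by omega) hmul
    have hsum : d + d' ≤ d * d' := by nlinarith
    have hdlt : d < n := by nlinarith
    have hdlt' : d' < n := by nlinarith
    -- `Q` has odd order
    have hQodd : Odd (Nat.card Q) := by
      rw [← Nat.not_even_iff_odd]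
      intro hev
      have h2 : 2 ∣ Nat.card G := by
        rw [← hcard]
        exact Dvd.dvd.mul_left hev.two_dvd _
      have h3 : p ≤ 2 := by
        rw [hpdef]
        exact Nat.minFac_le_of_dvd (le_refl 2) h2
      have h4 : p = 2 := le_antisymm h3 hp.two_le
      rw [h4] at hcop
      have := Nat.Coprime.eq_one_of_dvd hcop.symm hev.two_dvd
      omega
    have b2 : Nat.card Q ^ 2 ≤ 3 ^ nsH d' :=
      ih d' hdlt' Q (orbit Q a) hd'.symm (oddmove_orbit Q a hQ hQodd)
    have hd3' : 3 ≤ d' := by
      rcases Nat.lt_or_ge d' 3 with h | h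
      · have h2 : d' = 2 := by omega
        rw [h2] at hdQ
        exact absurd (even_iff_two_dvd.mpr hdQ) (Nat.not_even_iff_odd.mpr hQodd)
      · exact h
    have b1 : Nat.card (P : Subgroup G) ^ 2 ≤ 3 ^ (2 * (d - 1)) := by
      by_cases hp2 : p = 2
      · -- a `2`-group acting faithfully on `d` points has order at most `2 ^ (d - 1)`
        have h2 : Nat.card (P : Subgroup G) ∣ d.factorial := by
          rw [hd, ← Nat.card_perm]
          exact Subgroup.card_dvd_of_injective
            (MulAction.toPermHom (P : Subgroup G) (orbit (P : Subgroup G) a))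
            MulAction.toPerm_injective
        rw [hk, hp2] at h2
        have h3 : k ≤ nsV d := (padicValNat_dvd_iff_le (Nat.factorial_ne_zero _)).mp h2
        have h4 : nsV d < d := nsV_lt (by omega)
        rw [hk, hp2, ← pow_mul, pow_mul 3 2 (d - 1)]
        calc 2 ^ (k * 2) = 4 ^ k := by rw [mul_comm, pow_mul]; norm_num
          _ ≤ 9 ^ k := Nat.pow_le_pow_left (by norm_num) _
          _ ≤ 9 ^ (d - 1) := Nat.pow_le_pow_right (by norm_num) (by omega)
          _ = (3 ^ 2) ^ (d - 1) := by norm_num
      · have hPodd : Odd (Nat.card (P : Subgroup G)) := by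
          rw [hk]
          exact Odd.pow (hp.eq_two_or_odd'.resolve_left hp2)
        have b := ih d hdlt (P : Subgroup G) (orbit (P : Subgroup G) a) hd.symm
          (oddmove_orbit (P : Subgroup G) a hP1 hPodd)
        refine b.trans (Nat.pow_le_pow_right (by norm_num) ?_)
        have := nsH_le d
        omega
    have hfin : 2 * (d - 1) + nsH d' ≤ nsH n :=
      (nsH_mul_even hd2 hd3').trans (nsH_mono hle)
    calc Nat.card G ^ 2 = Nat.card (P : Subgroup G) ^ 2 * Nat.card Q ^ 2 := by
          rw [← hcard, mul_pow]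
      _ ≤ 3 ^ (2 * (d - 1)) * 3 ^ nsH d' := Nat.mul_le_mul b1 b2
      _ = 3 ^ (2 * (d - 1) + nsH d') := by rw [pow_add]
      _ ≤ 3 ^ nsH n := Nat.pow_le_pow_right (by norm_num) hfin

/-- the intransitive case of the induction. -/
theorem oddBound_intransitive (n : ℕ)
    (ih : ∀ m < n, ∀ (G : Type) [Group G] [Finite G] [Group.IsNilpotent G] (α : Type) [Finite α]
      [MulAction G α] [FaithfulSMul G α], Nat.card α = m →
      (∀ a : α, ∃ g : G, Odd (orderOf g) ∧ g • a ≠ a) → Nat.card G ^ 2 ≤ 3 ^ nsH m)
    (G : Type) [Group G] [Finite G] [Group.IsNilpotent G] (α : Type) [Finite α]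
    [MulAction G α] [FaithfulSMul G α] (a b : α) (hab : b ∉ orbit G a) (hα : Nat.card α = n)
    (hodd : ∀ a : α, ∃ g : G, Odd (orderOf g) ∧ g • a ≠ a) :
    Nat.card G ^ 2 ≤ 3 ^ nsH n := by
  classical
  let S₁ : SubMulAction G α :=
    { carrier := orbit G a
      smul_mem' := fun g x hx => by
        obtain ⟨h, rfl⟩ := hx
        exact ⟨g * h, by simp [mul_smul]⟩ }
  let S₂ : SubMulAction G α :=
    { carrier := (orbit G a)ᶜ
      smul_mem' := fun g x hx hgx => by
        apply hx
        obtain ⟨h, hh⟩ := hgx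
        refine ⟨g⁻¹ * h, ?_⟩
        show (g⁻¹ * h) • a = x
        rw [mul_smul]
        have : h • a = g • x := hh
        rw [this, inv_smul_smul] }
  have hsum : Nat.card S₁ + Nat.card S₂ = n := by
    haveI := Fintype.ofFinite α
    rw [← hα, Nat.card_eq_fintype_card, Nat.card_eq_fintype_card, Nat.card_eq_fintype_card]
    have e1 : Fintype.card S₁ = Fintype.card {x : α // x ∈ orbit G a} :=
      Fintype.card_congr (Equiv.refl _)
    have e2 : Fintype.card S₂ = Fintype.card {x : α // ¬ (x ∈ orbit G a)} :=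
      Fintype.card_congr (Equiv.refl _)
    rw [e1, e2]
    exact Fintype.card_subtype_compl (fun x => x ∈ orbit G a) ▸ by
      have := Fintype.card_subtype_le (fun x : α => x ∈ orbit G a)
      omega
  have h1 : 1 ≤ Nat.card S₁ := by
    haveI : Nonempty S₁ := ⟨⟨a, mem_orbit_self a⟩⟩
    exact Nat.card_pos
  have h2 : 1 ≤ Nat.card S₂ := by
    haveI : Nonempty S₂ := ⟨⟨b, hab⟩⟩
    exact Nat.card_pos
  have hcov : ∀ x : α, x ∈ S₁ ∨ x ∈ S₂ := fun x => by
    by_cases hx : x ∈ orbit G a
    · exact Or.inl hx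
    · exact Or.inr hx
  have hle := card_le_range_mul S₁ S₂ hcov
  have nR1 := range_nilpotent (G := G) S₁
  have nR2 := range_nilpotent (G := G) S₂
  have b1 : Nat.card (MulAction.toPermHom G S₁).range ^ 2 ≤ 3 ^ nsH (Nat.card S₁) :=
    ih _ (by omega) (MulAction.toPermHom G S₁).range S₁ rfl
      (range_oddmove S₁ fun s => hodd s)
  have b2 : Nat.card (MulAction.toPermHom G S₂).range ^ 2 ≤ 3 ^ nsH (Nat.card S₂) :=
    ih _ (by omega) (MulAction.toPermHom G S₂).range S₂ rfl
      (range_oddmove S₂ fun s => hodd s)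
  calc Nat.card G ^ 2 ≤ (Nat.card (MulAction.toPermHom G S₁).range *
        Nat.card (MulAction.toPermHom G S₂).range) ^ 2 := Nat.pow_le_pow_left hle 2
    _ = Nat.card (MulAction.toPermHom G S₁).range ^ 2 *
        Nat.card (MulAction.toPermHom G S₂).range ^ 2 := mul_pow _ _ _
    _ ≤ 3 ^ nsH (Nat.card S₁) * 3 ^ nsH (Nat.card S₂) := Nat.mul_le_mul b1 b2
    _ = 3 ^ (nsH (Nat.card S₁) + nsH (Nat.card S₂)) := by rw [pow_add]
    _ ≤ 3 ^ nsH n := by
        apply Nat.pow_le_pow_right (by norm_num)
        rw [← hsum]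
        exact nsH_add _ _

/-- A finite nilpotent group acting faithfully on `n` points, every point being moved by some
element of odd order, satisfies `|G| ^ 2 ≤ 3 ^ nsH n`. -/
theorem oddBound : ∀ n : ℕ, ∀ (G : Type) [Group G] [Finite G] [Group.IsNilpotent G] (α : Type)
    [Finite α] [MulAction G α] [FaithfulSMul G α], Nat.card α = n →
    (∀ a : α, ∃ g : G, Odd (orderOf g) ∧ g • a ≠ a) → Nat.card G ^ 2 ≤ 3 ^ nsH n := by
  intro n
  induction n using Nat.strong_induction_on with
  | _ n ih =>
    intro G _ _ _ α _ _ _ hα hodd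
    rcases Nat.lt_or_ge n 2 with hn | hn
    · haveI : Subsingleton α := by
        rw [← Finite.card_le_one_iff_subsingleton]
        omega
      rw [bound_trivial (G := G) (α := α)]
      exact Nat.one_le_pow _ _ (by norm_num)
    · by_cases ht : IsPretransitive G α
      · exact oddBound_transitive n hn ih G α hα hodd
      · have : ∃ a b : α, b ∉ orbit G a := by
          by_contra hcon
          push Not at hcon
          apply ht
          constructor
          intro x y
          exact hcon x y
        obtain ⟨a, b, hab⟩ := this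
        exact oddBound_intransitive n ih G α a b hab hα hodd

end Cfsg.Agent.Helper11.NilAlt
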