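import Mathlib
import Cfsg.Agent.Lib.Helper12.NilSymMain2
import Cfsg.Agent.Lib.Helper11.NilAltOdd

/-!
# Nilpotent groups of even permutations

A finite nilpotent group acting faithfully by even permutations on `n` points (`n ≥ 2`,
`n % 4 ≠ 3`, `n ≠ 5, 6, 9`) has order at most `2 ^ (v₂(n!) - 1)`.
-/

set_option autoImplicit false

namespace Cfsg.Agent.Helper11.NilAlt

open MulAction Cfsg.Agent.Helper12.NilSym

/-- the set of points moved by some element of odd order. -/
def movedSet (G : Type) [Group G] (α : Type) [MulAction G α] : SubMulAction G α where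
  carrier := {a | ∃ g : G, Odd (orderOf g) ∧ g • a ≠ a}
  smul_mem' := fun h a ⟨g, hg, hga⟩ => by
    refine ⟨h * g * h⁻¹, ?_, ?_⟩
    · have : orderOf (h * g * h⁻¹) = orderOf g := (MulAut.conj h).orderOf_eq g
      rw [this]
      exact hg
    · intro hh
      apply hga
      have h1 : (h * g * h⁻¹) • h • a = h • g • a := by
        rw [smul_smul, smul_smul, inv_mul_cancel_right]
      rw [h1] at hh
      exact smul_left_cancel h hh

/-- the set of points fixed by all elements of odd order. -/
def fixedSet (G : Type) [Group G] (α : Type) [MulAction G α] : SubMulAction G α where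
  carrier := {a | ¬ a ∈ movedSet G α}
  smul_mem' := fun h a ha hha => ha (by
    have := (movedSet G α).smul_mem h⁻¹ hha
    rwa [inv_smul_smul] at this)

theorem mem_fixedSet_iff {G : Type} [Group G] {α : Type} [MulAction G α] (a : α) :
    a ∈ fixedSet G α ↔ ∀ g : G, Odd (orderOf g) → g • a = a := by
  show (¬ ∃ g : G, Odd (orderOf g) ∧ g • a ≠ a) ↔ _
  push Not
  rfl

theorem mem_or_mem {G : Type} [Group G] {α : Type} [MulAction G α] (a : α) :
    a ∈ movedSet G α ∨ a ∈ fixedSet G α := by
  by_cases h : a ∈ movedSet G α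
  · exact Or.inl h
  · exact Or.inr h

theorem card_moved_add_card_fixed (G : Type) [Group G] (α : Type) [MulAction G α] [Finite α] :
    Nat.card (movedSet G α) + Nat.card (fixedSet G α) = Nat.card α := by
  classical
  haveI := Fintype.ofFinite α
  rw [Nat.card_eq_fintype_card, Nat.card_eq_fintype_card, Nat.card_eq_fintype_card]
  have e1 : Fintype.card (movedSet G α) = Fintype.card {x : α // x ∈ movedSet G α} :=
    Fintype.card_congr (Equiv.refl _)
  have e2 : Fintype.card (fixedSet G α) = Fintype.card {x : α // ¬ (x ∈ movedSet G α)} :=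
    Fintype.card_congr (Equiv.refl _)
  rw [e1, e2]
  have h1 := Fintype.card_subtype_compl (fun x : α => x ∈ movedSet G α)
  have h2 := Fintype.card_subtype_le (fun x : α => x ∈ movedSet G α)
  omega

/-- elements of the kernel of the action on the moved set which have odd order are trivial. -/
theorem ker_odd_eq_one {G : Type} [Group G] {α : Type} [MulAction G α] [FaithfulSMul G α]
    (k : G) (hk : k ∈ (MulAction.toPermHom G (movedSet G α)).ker) (hodd : Odd (orderOf k)) :
    k = 1 := by
  apply eq_of_smul_eq_smul (α := α)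
  intro c
  rw [one_smul]
  rcases mem_or_mem (G := G) c with hc | hc
  · have h1 : MulAction.toPermHom G (movedSet G α) k = 1 := hk
    have := congrArg (fun σ => ((σ ⟨c, hc⟩ : movedSet G α) : α)) h1
    simpa using this
  · exact (mem_fixedSet_iff c).mp hc k hodd

theorem ker_isPGroup {G : Type} [Group G] [Finite G] {α : Type} [MulAction G α]
    [FaithfulSMul G α] : IsPGroup 2 (MulAction.toPermHom G (movedSet G α)).ker := by
  intro k
  have hpos : orderOf k ≠ 0 := (orderOf_pos k).ne'
  obtain ⟨j, m, hm, hjm⟩ := Nat.exists_eq_two_pow_mul_odd hpos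
  refine ⟨j, ?_⟩
  have h1 : orderOf (k ^ 2 ^ j) = m := by
    rw [orderOf_pow_of_dvd (by positivity) (Dvd.intro _ hjm.symm), hjm]
    exact Nat.mul_div_cancel_left m (by positivity)
  have h2 : ((k ^ 2 ^ j : (MulAction.toPermHom G (movedSet G α)).ker) : G) = 1 := by
    apply ker_odd_eq_one _ (SetLike.coe_mem _)
    rw [Subgroup.orderOf_coe, h1]
    exact hm
  exact Subtype.ext h2

/-- the sign of an element of the kernel, computed on the fixed set. -/
theorem sign_ker {G : Type} [Group G] {α : Type} [Fintype α] [DecidableEq α] [MulAction G α]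
    [Fintype (fixedSet G α)] [DecidableEq (fixedSet G α)]
    (k : G) (hk : k ∈ (MulAction.toPermHom G (movedSet G α)).ker) :
    Equiv.Perm.sign (MulAction.toPermHom G (fixedSet G α) k) =
      Equiv.Perm.sign (MulAction.toPermHom G α k) := by
  classical
  have h₁ : ∀ x, (MulAction.toPermHom G α k) x ∈ fixedSet G α ↔ x ∈ fixedSet G α := by
    intro x
    constructor
    · intro hx
      have := (fixedSet G α).smul_mem k⁻¹ hx
      simpa using this
    · intro hx
      exact (fixedSet G α).smul_mem k hx
  have h₂ : ∀ x, (MulAction.toPermHom G α k) x ≠ x → x ∈ fixedSet G α := by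
    intro x hx
    rcases mem_or_mem (G := G) x with hc | hc
    · exfalso
      apply hx
      have h1 : MulAction.toPermHom G (movedSet G α) k = 1 := hk
      have := congrArg (fun σ => ((σ ⟨x, hc⟩ : movedSet G α) : α)) h1
      simpa using this
    · exact hc
  have h3 := Equiv.Perm.sign_subtypePerm (MulAction.toPermHom G α k) h₁ h₂
  rw [← h3]
  have e : MulAction.toPermHom G (fixedSet G α) k =
      (MulAction.toPermHom G α k).subtypePerm h₁ := by
    ext x
    rfl
  rw [e]
  congr!

/-- the kernel of the action on the moved set has order at most half of `2 ^ v₂(f!)`, where `f`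
is the number of points fixed by all elements of odd order. -/
theorem two_mul_card_ker_le {G : Type} [Group G] [Finite G] {α : Type} [Fintype α]
    [DecidableEq α] [MulAction G α] [FaithfulSMul G α]
    (heven : ∀ g : G, Equiv.Perm.sign (MulAction.toPermHom G α g) = 1)
    (hf : 2 ≤ Nat.card (fixedSet G α)) :
    2 * Nat.card (MulAction.toPermHom G (movedSet G α)).ker ≤
      2 ^ nsV (Nat.card (fixedSet G α)) := by
  classical
  haveI : Fintype (fixedSet G α) := Fintype.ofFinite _
  haveI : Nontrivial (fixedSet G α) := by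
    rw [← Finite.one_lt_card_iff_nontrivial]
    omega
  obtain ⟨K, hK⟩ : ∃ K : Subgroup G, K = (MulAction.toPermHom G (movedSet G α)).ker := ⟨_, rfl⟩
  rw [← hK]
  let φ : K →* Equiv.Perm (fixedSet G α) := (MulAction.toPermHom G (fixedSet G α)).comp K.subtype
  have hφinj : Function.Injective φ := by
    rw [injective_iff_map_eq_one]
    intro k hk
    apply Subtype.ext
    apply eq_of_smul_eq_smul (α := α)
    intro c
    rw [Subgroup.coe_one, one_smul]
    rcases mem_or_mem (G := G) c with hc | hc
    · have h1 : MulAction.toPermHom G (movedSet G α) (k : G) = 1 := hK.le k.2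
      have := congrArg (fun σ => ((σ ⟨c, hc⟩ : movedSet G α) : α)) h1
      simpa using this
    · have := congrArg (fun σ => ((σ ⟨c, hc⟩ : fixedSet G α) : α)) hk
      simpa [φ] using this
  have hφrange : φ.range ≤ alternatingGroup (fixedSet G α) := by
    rintro _ ⟨k, rfl⟩
    rw [Equiv.Perm.mem_alternatingGroup]
    have hk : (k : G) ∈ (MulAction.toPermHom G (movedSet G α)).ker := hK.le k.2
    have := sign_ker (k : G) hk
    rw [heven] at this
    exact this
  have h1 : Nat.card K = Nat.card φ.range :=
    Nat.card_congr (MonoidHom.ofInjective hφinj).toEquiv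
  have h2 : Nat.card φ.range ∣ Nat.card (alternatingGroup (fixedSet G α)) :=
    Subgroup.card_dvd_of_le hφrange
  have h3 : 2 * Nat.card (alternatingGroup (fixedSet G α)) =
      (Nat.card (fixedSet G α)).factorial := by
    rw [two_mul_nat_card_alternatingGroup, Nat.card_perm]
  have hK2 : IsPGroup 2 K := by
    rw [hK]
    exact ker_isPGroup
  obtain ⟨j, hj⟩ := IsPGroup.iff_card.mp hK2
  have h4 : 2 ^ (j + 1) ∣ (Nat.card (fixedSet G α)).factorial := by
    rw [← h3, pow_succ', ← hj, h1]
    exact Nat.mul_dvd_mul_left 2 h2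
  have h5 : j + 1 ≤ nsV (Nat.card (fixedSet G α)) :=
    (padicValNat_dvd_iff_le (Nat.factorial_ne_zero _)).mp h4
  calc 2 * Nat.card K = 2 ^ (j + 1) := by rw [hj, pow_succ']
    _ ≤ 2 ^ nsV (Nat.card (fixedSet G α)) := Nat.pow_le_pow_right (by norm_num) h5

/-- The main bound for nilpotent groups of even permutations. -/
theorem alt_bound {G : Type} [Group G] [Finite G] [Group.IsNilpotent G] {α : Type} [Fintype α]
    [DecidableEq α] [MulAction G α] [FaithfulSMul G α] (n : ℕ) (hα : Nat.card α = n)
    (heven : ∀ g : G, Equiv.Perm.sign (MulAction.toPermHom G α g) = 1)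
    (hn : n % 4 ≠ 3) (h5 : n ≠ 5) (h6 : n ≠ 6) (h9 : n ≠ 9) (hn2 : 2 ≤ n) :
    2 * Nat.card G ≤ 2 ^ nsV n := by
  classical
  obtain ⟨ρ, hρ⟩ : ∃ ρ : G →* Equiv.Perm (movedSet G α),
      ρ = MulAction.toPermHom G (movedSet G α) := ⟨_, rfl⟩
  have hGcard : Nat.card ρ.ker * Nat.card ρ.range = Nat.card G := by
    rw [← Subgroup.index_ker]
    exact Subgroup.card_mul_index _
  have hsum := card_moved_add_card_fixed G α
  rw [hα] at hsum
  have nR : Group.IsNilpotent ρ.range := by
    rw [hρ]
    exact range_nilpotent _
  have fR : FaithfulSMul ρ.range (movedSet G α) := by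
    rw [hρ]
    exact range_faithful _
  have hv1 : 1 ≤ nsV n := by
    have := nsV_mono hn2
    rwa [nsV_eval_two] at this
  rcases Nat.lt_or_ge (Nat.card (fixedSet G α)) 2 with hf | hf
  · -- the kernel is trivial
    have hsub : Subsingleton (fixedSet G α) := by
      rw [← Finite.card_le_one_iff_subsingleton]
      omega
    have hK1 : Nat.card ρ.ker = 1 := by
      have : Subsingleton ρ.ker := by
        constructor
        intro x y
        apply Subtype.ext
        apply eq_of_smul_eq_smul (α := α)
        intro c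
        rcases mem_or_mem (G := G) c with hc | hc
        · have hx : MulAction.toPermHom G (movedSet G α) (x : G) = 1 := by
            rw [← hρ]
            exact x.2
          have hy : MulAction.toPermHom G (movedSet G α) (y : G) = 1 := by
            rw [← hρ]
            exact y.2
          have hx' := congrArg (fun σ => ((σ ⟨c, hc⟩ : movedSet G α) : α)) hx
          have hy' := congrArg (fun σ => ((σ ⟨c, hc⟩ : movedSet G α) : α)) hy
          simp only [MulAction.toPermHom_apply, MulAction.toPerm_apply, Equiv.Perm.coe_one, id_eq,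
            SubMulAction.val_smul] at hx' hy'
          rw [hx', hy']
        · have e1 : (⟨(x : G) • c, (fixedSet G α).smul_mem _ hc⟩ : fixedSet G α) = ⟨c, hc⟩ :=
            Subsingleton.elim _ _
          have e2 : (⟨(y : G) • c, (fixedSet G α).smul_mem _ hc⟩ : fixedSet G α) = ⟨c, hc⟩ :=
            Subsingleton.elim _ _
          have e1' := congrArg Subtype.val e1
          have e2' := congrArg Subtype.val e2
          simp only at e1' e2'
          rw [e1', e2']
      exact Nat.card_eq_one_iff_unique.mpr ⟨this, ⟨1⟩⟩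
    rw [hK1, one_mul] at hGcard
    have hodd : ∀ s : movedSet G α, ∃ r : ρ.range, Odd (orderOf r) ∧ r • s ≠ s := by
      rw [hρ]
      exact range_oddmove (movedSet G α) fun s => s.2
    have b := oddBound (Nat.card (movedSet G α)) ρ.range (movedSet G α) rfl hodd
    rw [hGcard] at b
    have b2 : 3 ^ nsH (Nat.card (movedSet G α)) ≤ 3 ^ nsH n :=
      Nat.pow_le_pow_right (by norm_num) (nsH_mono (by omega))
    have b3 := three_pow_nsH_le n hn h5 h6 h9
    have b4 : (2 * Nat.card G) ^ 2 ≤ (2 ^ nsV n) ^ 2 := by
      obtain ⟨w, hw⟩ : ∃ w, nsV n = w + 1 := ⟨nsV n - 1, by omega⟩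
      rw [hw, Nat.add_sub_cancel] at b3
      rw [hw, mul_pow, ← pow_mul, mul_comm (w + 1) 2, pow_mul, pow_succ]
      have : Nat.card G ^ 2 ≤ 4 ^ w := b.trans (b2.trans b3)
      norm_num
      omega
    exact (Nat.pow_le_pow_iff_left (by norm_num)).mp b4
  · have bK : 2 * Nat.card ρ.ker ≤ 2 ^ nsV (Nat.card (fixedSet G α)) := by
      rw [hρ]
      exact two_mul_card_ker_le heven hf
    have bR : Nat.card ρ.range ≤ nsF (Nat.card (movedSet G α)) :=
      bound (Nat.card (movedSet G α)) ρ.range (movedSet G α) rfl
    calc 2 * Nat.card G = (2 * Nat.card ρ.ker) * Nat.card ρ.range := by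
          rw [← hGcard, mul_assoc]
      _ ≤ 2 ^ nsV (Nat.card (fixedSet G α)) * nsF (Nat.card (movedSet G α)) :=
          Nat.mul_le_mul bK bR
      _ ≤ nsF (Nat.card (fixedSet G α)) * nsF (Nat.card (movedSet G α)) :=
          Nat.mul_le_mul_right _ (two_pow_nsV_le _)
      _ ≤ nsF (Nat.card (fixedSet G α) + Nat.card (movedSet G α)) := nsF_mul_le _ _
      _ = nsF n := by rw [add_comm, hsum]
      _ = 2 ^ nsV n := nsF_eq_of_mod hn

end Cfsg.Agent.Helper11.NilAlt
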