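import Mathlib
import Cfsg.Agent.Lib.Helper11.OGPLUSASM
import Cfsg.Agent.Lib.Helper4.OGNW
import Cfsg.Agent.Lib.Helper18.OGMINUSC1
import Cfsg.Agent.Lib.Helper18.OGMINUSC2
import Cfsg.Agent.Lib.Helper19.OGMINUSC3

/-!
# S2415, piece MINUSASM: two generators of `Ω` in type `²D` (helper11)
-/

set_option autoImplicit false
set_option linter.unusedSectionVars false
set_option linter.unusedVariables false

namespace Cfsg.Agent.Helper11.OG

open QuadraticMap Matrix Cfsg.Agent.Helper2.Orth Cfsg.Agent.Helper28.WittQuad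

variable {F : Type*} [Field F] {ι : Type} [Fintype ι] [DecidableEq ι]
variable {Q : QuadraticForm F (ι → F)}
variable {n : ℕ} {e f : Fin (n + 1) → (ι → F)}

theorem minusasm_perp_comb {w1 w2 : ι → F} (hw1 : Perp Q e f w1) (hw2 : Perp Q e f w2) (s t : F) :
    Perp Q e f (s • w1 + t • w2) := by
  intro i
  constructor
  · rw [polar_add_right, polar_smul_right, polar_smul_right, (hw1 i).1, (hw2 i).1]
    simp
  · rw [polar_add_right, polar_smul_right, polar_smul_right, (hw1 i).2, (hw2 i).2]
    simp

theorem minusasm_Q_comb {w1 w2 : ι → F} (hQ1 : Q w1 = 1) (s t : F) :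
    Q (s • w1 + t • w2) = s ^ 2 + s * t * polar Q w1 w2 + t ^ 2 * Q w2 := by
  have := QuadraticMap.map_add Q (s • w1) (t • w2)
  rw [this, QuadraticMap.map_smul, QuadraticMap.map_smul, polar_smul_left, polar_smul_right, hQ1]
  simp only [smul_eq_mul]
  ring

/-- the second basis vector is anisotropic -/
theorem minusasm_Q2_ne {w1 w2 : ι → F} (hw2 : Perp Q e f w2)
    (han : ∀ x, Perp Q e f x → Q x = 0 → x = 0)
    (hind : ∀ s t : F, s • w1 + t • w2 = 0 → s = 0 ∧ t = 0) : Q w2 ≠ 0 := by
  intro h
  have h0 := han w2 hw2 h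
  have := (hind 0 1 (by rw [h0]; simp)).2
  exact one_ne_zero this

/-- in characteristic two the polar form of the anisotropic plane does not vanish -/
theorem minusasm_a_ne_zero [Fintype F] (h2 : (2 : F) = 0) {w1 w2 : ι → F}
    (hw1 : Perp Q e f w1) (hw2 : Perp Q e f w2) (hQ1 : Q w1 = 1)
    (han : ∀ x, Perp Q e f x → Q x = 0 → x = 0)
    (hind : ∀ s t : F, s • w1 + t • w2 = 0 → s = 0 ∧ t = 0) : polar Q w1 w2 ≠ 0 := by
  intro ha
  have hc2 : CharP F 2 := CharTwo.of_one_ne_zero_of_two_eq_zero one_ne_zero h2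
  obtain ⟨c, hc⟩ := FiniteField.isSquare_of_char_two (ringChar.eq F 2) (Q w2)
  have hx : Q (c • w1 + (1 : F) • w2) = 0 := by
    rw [minusasm_Q_comb hQ1, ha, hc]
    linear_combination (c * c) * h2
  have h0 := han _ (minusasm_perp_comb hw1 hw2 c 1) hx
  exact one_ne_zero (hind c 1 h0).2

theorem minusasm_zero_or_one [Fintype F] (hcard : Fintype.card F = 2) (x : F) : x = 0 ∨ x = 1 := by
  classical
  by_contra h
  push_neg at h
  have h3 : ({0, 1, x} : Finset F).card = 3 := by
    rw [Finset.card_insert_of_notMem, Finset.card_insert_of_notMem, Finset.card_singleton]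
    · simp only [Finset.mem_singleton]
      exact fun h' => h.2 h'.symm
    · simp only [Finset.mem_insert, Finset.mem_singleton, not_or]
      exact ⟨zero_ne_one, fun h' => h.1 h'.symm⟩
  have := Finset.card_le_univ ({0, 1, x} : Finset F)
  omega

/-- the transvection of the Levi subgroup commutes with the Eichler elements supported away from
the indices `0, 1` -/
theorem minusasm_commute (fr : HypFrame Q e f) (h01 : (0 : Fin (n + 1)) ≠ 1) {z b : ι → F}
    (hz : Q z = 0) (hzb : polar Q z b = 0)
    (h1 : polar Q (e 0) z = 0) (h2 : polar Q (f 1) z = 0)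
    (h3 : polar Q (e 0) b = 0) (h4 : polar Q (f 1) b = 0) :
    Commute (eichG Q (e 0) ((1 : F) • f 1)) (eichG Q z b) := by
  have hb0 : polar Q (e (0 : Fin (n + 1))) ((1 : F) • f (1 : Fin (n + 1))) = 0 := by
    rw [polar_smul_right, fr.ef, if_neg h01, smul_zero]
  apply eichG_commute (fr.qe 0) hz h1 hb0
  · rw [polar_smul_right, polar_comm, h2, smul_zero]
  · exact h3
  · exact hzb
  · rw [polar_smul_left, h4, smul_zero]

/-- type `²D`: two-dimensional anisotropic kernel, at least three hyperbolic pairs -/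
theorem minus_two_gen [Fintype F] (hQ : (polarBilin Q).Nondegenerate) (hn : 2 ≤ n)
    (fr : HypFrame Q e f) (w1 w2 : ι → F) (hw1 : Perp Q e f w1) (hw2 : Perp Q e f w2)
    (hQ1 : Q w1 = 1)
    (hW : ∀ x, Perp Q e f x → ∃ s t : F, x = s • w1 + t • w2)
    (han : ∀ x, Perp Q e f x → Q x = 0 → x = 0)
    (hind : ∀ s t : F, s • w1 + t • w2 = 0 → s = 0 ∧ t = 0) :
    ∃ a b : Cfsg.isometryGroup F (⇑Q), a ∈ eichGroup Q ∧ b ∈ eichGroup Q ∧
      eichGroup Q ≤ Subgroup.closure {a, b} := by
  classical
  have hn1 : 1 ≤ n := by omega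
  have h01 : (0 : Fin (n + 1)) ≠ 1 := plusasm_zero_ne_one hn1
  obtain ⟨w, hw⟩ := exists_coxW n F
  obtain ⟨p, hpp, hp⟩ := plusasm_char (F := F)
  haveI := hp
  haveI : Fact p.Prime := ⟨hpp⟩
  set i2 : Fin (n + 1) := ⟨2, by omega⟩ with hi2
  have h20 : i2 ≠ 0 := plusasm_ne_zero _ (by omega)
  have h21 : i2 ≠ 1 := plusasm_ne_one hn1 _ (by omega)
  have hQ2 : Q w2 ≠ 0 := minusasm_Q2_ne hw2 han hind
  -- frame facts at `i2`
  have hqe2 : Q (e i2) = 0 := fr.qe i2
  have hqf2 : Q (f i2) = 0 := fr.qf i2
  have hef2 : polar Q (e i2) (f i2) = 1 := by rw [fr.ef, if_pos rfl]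
  by_cases hF : 3 < Fintype.card F
  · -- large fields: normalise `w1`
    obtain ⟨k, hk⟩ := IsCyclic.exists_generator (α := Fˣ)
    obtain ⟨s, hs2, hsa⟩ : ∃ s : F, s * s = 1 ∧ s * polar Q w1 w2 + 2 ≠ 0 := by
      by_cases ha : polar Q w1 w2 + 2 = 0
      · by_cases h2 : (2 : F) = 0
        · exfalso
          apply minusasm_a_ne_zero h2 hw1 hw2 hQ1 han hind
          rw [h2, add_zero] at ha
          exact ha
        · refine ⟨-1, by ring, ?_⟩
          have : polar Q w1 w2 = -2 := by linear_combination ha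
          rw [this]
          intro h4
          apply h2
          have h5 : (2 : F) * 2 = 0 := by linear_combination h4
          rcases mul_eq_zero.1 h5 with h | h <;> exact h
      · exact ⟨1, by ring, by rw [one_mul]; exact ha⟩
    set w1' : ι → F := s • w1 with hw1'
    have hw1p : Perp Q e f w1' := by
      have := minusasm_perp_comb hw1 hw2 s 0
      rw [zero_smul, add_zero] at this
      exact this
    have hQ1' : Q w1' = 1 := by
      rw [hw1', QuadraticMap.map_smul, hQ1, smul_eq_mul, mul_one, hs2]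
    have hpol : polar Q w1' w2 = s * polar Q w1 w2 := by
      rw [hw1', polar_smul_left, smul_eq_mul]
    have hW' : ∀ x, Perp Q e f x → ∃ s' t : F, x = s' • w1' + t • w2 := by
      intro x hx
      obtain ⟨s0, t0, rfl⟩ := hW x hx
      refine ⟨s0 * s, t0, ?_⟩
      rw [hw1', smul_smul, mul_assoc, hs2, mul_one]
    -- the element `c₁`
    have hz : Q (e i2 - f i2 + w1') = 0 := by
      have h1 := QuadraticMap.map_add Q (e i2 - f i2) w1'
      have h2 := QuadraticMap.map_add Q (e i2) (-(f i2))
      rw [← sub_eq_add_neg] at h2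
      rw [h1, h2, QuadraticMap.map_neg, hqe2, hqf2, polar_neg_right, hef2, hQ1',
        polar_sub_left, (hw1p i2).1, (hw1p i2).2]
      ring
    have hzb : polar Q (e i2 - f i2 + w1') (w2 - polar Q w1' w2 • f i2) = 0 := by
      rw [polar_add_left, polar_sub_left, polar_sub_right, polar_sub_right, polar_sub_right,
        polar_smul_right, polar_smul_right, polar_smul_right, (hw2 i2).1, (hw2 i2).2, hef2,
        fr.ff, polar_comm Q w1' (f i2), (hw1p i2).2]
      simp
    obtain ⟨he2, hf2⟩ := plusasm_diag_fix fr hn1 (k : F) k.ne_zero i2 h20 h21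
    refine levi_two_gen fr hn1 (Matrix.SpecialLinearGroup.diag2n h01 (k : F) k.ne_zero)
      (Matrix.SpecialLinearGroup.transvection h01 1 * w)
      (sl_top_big hF hn1 k hk h01 w hw)
      (eichG Q (e i2 - f i2 + w1') (w2 - polar Q w1' w2 • f i2)) (eichG_mem hz hzb) ?_
      (Fintype.card F - 1) p (diag2n_pow_card h01 _ _) (eichG_pow_char p hz hzb)
      (Cfsg.Agent.Helper28.SpTwo.coprime_char_card_sub_one p).symm ?_
    · apply commute_eichG_of_fix _ hz hzb
      · rw [smul_add_vec, smul_sub_vec, he2, hf2, leviG_smul_perp fr _ hw1p]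
      · rw [smul_sub_vec, smul_smul_vec, hf2, leviG_smul_perp fr _ hw2]
    · intro H hL hc
      exact minus_hgen_c1 hQ fr H hL 0 1 i2 h01.symm h20 h21.symm w1' w2 hw1p hw2 hQ1' hQ2
        (by rw [hpol]; exact hsa) hW' hc
  · -- small fields
    have hF' : Fintype.card F ≤ 3 := by omega
    have hcardp : Fintype.card F = p := by
      obtain ⟨k, hk1, hk2⟩ := FiniteField.card F p
      have hk : (k : ℕ) = 1 := by
        by_contra hne
        have h2 : 2 ≤ (k : ℕ) := by
          have := k.pos
          omega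
        have : p ^ 2 ≤ p ^ (k : ℕ) := Nat.pow_le_pow_right hpp.pos h2
        have h4 : 2 ^ 2 ≤ p ^ 2 := Nat.pow_le_pow_left hpp.two_le 2
        omega
      rw [hk2, hk, pow_one]
    have hp23 : p = 2 ∨ p = 3 := by
      have := hpp.two_le
      omega
    have hcomm_e : ∀ v : ι → F, Perp Q e f v →
        Commute (eichG Q (e 0) ((1 : F) • f 1)) (eichG Q (e i2) v) := by
      intro v hv
      apply minusasm_commute fr h01 hqe2 (hv i2).1 (fr.ee _ _)
      · rw [fr.fe, if_neg h21.symm]
      · exact (hv 0).1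
      · exact (hv 1).2
    have hcomm_f : ∀ v : ι → F, Perp Q e f v →
        Commute (eichG Q (e 0) ((1 : F) • f 1)) (eichG Q (f i2) v) := by
      intro v hv
      apply minusasm_commute fr h01 hqf2 (hv i2).2
      · rw [fr.ef, if_neg h20.symm]
      · exact fr.ff _ _
      · exact (hv 0).1
      · exact (hv 1).2
    by_cases h2 : (2 : F) = 0
    · -- the field with two elements
      have hp2 : p = 2 := by
        have : (p : ℕ) ∣ 2 := by
          rw [← CharP.cast_eq_zero_iff F p]
          exact_mod_cast h2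
        exact (Nat.prime_dvd_prime_iff_eq hpp Nat.prime_two).1 this
      have hcard : Fintype.card F = 2 := by rw [hcardp, hp2]
      have hb1 : Q w2 = 1 := (minusasm_zero_or_one hcard _).resolve_left hQ2
      have ha1 : polar Q w1 w2 = 1 :=
        (minusasm_zero_or_one hcard _).resolve_left
          (minusasm_a_ne_zero h2 hw1 hw2 hQ1 han hind)
      have htm : eichG Q (e i2) w1 * eichG Q (f i2) w2 ∈ eichGroup Q :=
        (eichGroup Q).mul_mem (eichG_mem hqe2 (hw1 i2).1) (eichG_mem hqf2 (hw2 i2).2)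
      refine levi_two_gen fr hn1 (Matrix.SpecialLinearGroup.transvection h01 1) w
        (sl_top_small hF' hn1 h01 w hw)
        (eichG Q (e i2) w1 * eichG Q (f i2) w2) htm ?_
        p 5 (transvection_pow_char p h01 1)
        (minus_t_pow_five h2 fr i2 w1 w2 hw1 hw2 hQ1 hb1 ha1 hW) (by rw [hp2]; decide) ?_
      · rw [leviG_transvection fr h01 1]
        exact Commute.mul_right (hcomm_e w1 hw1) (hcomm_f w2 hw2)
      · intro H hL hc
        exact minus_hgen_c2 h2 hQ fr H hL 0 i2 h20 w1 w2 hw1 hw2 hQ1 hb1 ha1 hW hc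
    · -- the field with three elements
      have hp3 : p = 3 := by
        rcases hp23 with h | h
        · exfalso
          apply h2
          have := CharP.cast_eq_zero F p
          rw [h] at this
          exact_mod_cast this
        · exact h
      obtain ⟨v, hv, hbv, hWv, hindv⟩ : ∃ v : ι → F, Perp Q e f v ∧ polar Q w1 v ≠ 0 ∧
          (∀ x, Perp Q e f x → ∃ s t : F, x = s • w1 + t • v) ∧
          (∀ s t : F, s • w1 + t • v = 0 → s = 0 ∧ t = 0) := by
        by_cases ha : polar Q w1 w2 = 0
        · refine ⟨w1 + w2, ?_, ?_, ?_, ?_⟩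
          · have := minusasm_perp_comb hw1 hw2 1 1
            rw [one_smul, one_smul] at this
            exact this
          · rw [polar_add_right, ha, add_zero, polar_self, hQ1]
            simpa using h2
          · intro x hx
            obtain ⟨s0, t0, rfl⟩ := hW x hx
            refine ⟨s0 - t0, t0, ?_⟩
            module
          · intro s t hst
            have h1 : (s + t) • w1 + t • w2 = 0 := by
              rw [← hst]
              module
            obtain ⟨h3, h4⟩ := hind _ _ h1
            rw [h4, add_zero] at h3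
            exact ⟨h3, h4⟩
        · exact ⟨w2, hw2, ha, hW, hind⟩
      have hnw : nW Q (e i2) (f i2) w1 1 ∈ eichGroup Q :=
        nW_mem hqe2 hqf2 (hw1 i2).1 (hw1 i2).2
      have hgm : eichG Q (f i2) v ∈ eichGroup Q := eichG_mem hqf2 (hv i2).2
      have hcm : eichG Q (f i2) v * nW Q (e i2) (f i2) w1 1 * (eichG Q (f i2) v)⁻¹ ∈ eichGroup Q :=
        (eichGroup Q).mul_mem ((eichGroup Q).mul_mem hgm hnw) ((eichGroup Q).inv_mem hgm)
      have hsq : (eichG Q (f i2) v * nW Q (e i2) (f i2) w1 1 * (eichG Q (f i2) v)⁻¹) ^ 2 = 1 := by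
        have h1 := nW_one_mul_self h2 hqe2 hqf2 hef2 (hw1 i2).1 (hw1 i2).2 hQ1
        rw [pow_two]
        calc eichG Q (f i2) v * nW Q (e i2) (f i2) w1 1 * (eichG Q (f i2) v)⁻¹ *
              (eichG Q (f i2) v * nW Q (e i2) (f i2) w1 1 * (eichG Q (f i2) v)⁻¹)
            = eichG Q (f i2) v * (nW Q (e i2) (f i2) w1 1 * nW Q (e i2) (f i2) w1 1) *
              (eichG Q (f i2) v)⁻¹ := by group
          _ = 1 := by rw [h1, mul_one, mul_inv_cancel]
      refine levi_two_gen fr hn1 (Matrix.SpecialLinearGroup.transvection h01 1) w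
        (sl_top_small hF' hn1 h01 w hw)
        (eichG Q (f i2) v * nW Q (e i2) (f i2) w1 1 * (eichG Q (f i2) v)⁻¹) hcm ?_
        p 2 (transvection_pow_char p h01 1) hsq (by rw [hp3]; decide) ?_
      · rw [leviG_transvection fr h01 1]
        have hw1s : Perp Q e f ((1 : F) • w1) := by rw [one_smul]; exact hw1
        have hw1s' : Perp Q e f ((1 : F)⁻¹ • w1) := by rw [inv_one, one_smul]; exact hw1
        have hcn : Commute (eichG Q (e 0) ((1 : F) • f 1)) (nW Q (e i2) (f i2) w1 1) := by
          unfold nW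
          exact Commute.mul_right (Commute.mul_right (hcomm_e _ hw1s) (hcomm_f _ hw1s'))
            (hcomm_e _ hw1s)
        exact Commute.mul_right (Commute.mul_right (hcomm_f v hv) hcn)
          (Commute.inv_right (hcomm_f v hv))
      · intro H hL hc
        exact minus_hgen_c3 h2 hQ fr H hL 0 1 i2 h01.symm h20 h21.symm w1 v hw1 hv hQ1 hbv hWv
          han hindv hc

end Cfsg.Agent.Helper11.OG
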