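import Mathlib
import Cfsg.Prelude
import Cfsg.Agent.Lib.Helper11.OGTransfer
import Cfsg.Agent.Lib.Helper11.OGMINUSASM

/-!
# Two-generation of `PΩ⁻_{2m}(q)` (helper11)
-/

set_option autoImplicit false
set_option linter.unusedSectionVars false
set_option linter.unusedVariables false

namespace Cfsg.Agent.Helper11.OG

open QuadraticMap Matrix Cfsg.Agent.Helper2.Orth Cfsg.Agent.Helper13

variable {F : Type*} [Field F] [Fintype F]

theorem minus_final (m : ℕ) (hm : 4 ≤ m) (a b : F)
    (hab : ∀ z₁ z₂ : F, z₁ ^ 2 + a * z₁ * z₂ + b * z₂ ^ 2 = 0 → z₁ = 0 ∧ z₂ = 0) :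
    ∃ g h : Cfsg.POmega F (Cfsg.quadFormMinus (m - 1) F a b),
      Subgroup.closure ({g, h} : Set (Cfsg.POmega F (Cfsg.quadFormMinus (m - 1) F a b))) = ⊤ := by
  classical
  obtain ⟨n, rfl⟩ : ∃ n, m = n + 2 := ⟨m - 2, by omega⟩
  have e1 : n + 2 - 1 = n + 1 := rfl
  rw [e1, quadFormMinus_eq]
  have fr := hypFrame_minus_full (F := F) (n + 1) a b
  have hQ := nondeg_minus (F := F) (n + 1) a b hab
  have hex : Fintype.card F ≠ 2 ∨ Fintype.card ((Fin (n + 1) ⊕ Fin (n + 1)) ⊕ Fin 2) ≠ 4 := by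
    right
    simp only [Fintype.card_sum, Fintype.card_fin]
    omega
  have fr2 := fr.comp (Fin.castLE (show 2 ≤ n + 1 by omega)) (Fin.castLE_injective _)
  apply two_gen_of_eich _ (Omega_eq_eichGroup hQ hex fr2)
  have hcoord : ∀ x : (Fin (n + 1) ⊕ Fin (n + 1)) ⊕ Fin 2 → F,
      Perp (matQ (minusMat (n + 1) a b)) (fun i : Fin (n + 1) => Pi.single (Sum.inl (Sum.inl i)) 1)
        (fun i : Fin (n + 1) => Pi.single (Sum.inl (Sum.inr i)) 1) x →
      x = x (Sum.inr 0) • Pi.single (Sum.inr 0) 1 + x (Sum.inr 1) • Pi.single (Sum.inr 1) 1 := by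
    intro x hx
    funext k
    rcases k with (i | i) | j
    · have := (hx i).2
      rw [polar_minus_f] at this
      simp [this]
    · have := (hx i).1
      rw [polar_minus_e] at this
      simp [this]
    · fin_cases j <;> simp
  refine minus_two_gen hQ (by omega) fr (Pi.single (Sum.inr 0) 1) (Pi.single (Sum.inr 1) 1)
    ?_ ?_ ?_ ?_ ?_ ?_
  · intro i
    constructor
    · rw [polar_minus_e]; simp
    · rw [polar_minus_f]; simp
  · intro i
    constructor
    · rw [polar_minus_e]; simp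
    · rw [polar_minus_f]; simp
  · rw [matQ_single]
    simp [minusMat]
  · intro x hx
    exact ⟨x (Sum.inr 0), x (Sum.inr 1), hcoord x hx⟩
  · intro x hx hQx
    have hx' := hcoord x hx
    rw [matQ_minusMat] at hQx
    have h0 : ∀ i : Fin (n + 1), x (Sum.inl (Sum.inl i)) = 0 := by
      intro i
      have := (hx i).2
      rw [polar_minus_f] at this
      exact this
    simp only [h0, zero_mul, Finset.sum_const_zero, zero_add] at hQx
    obtain ⟨h1, h2⟩ := hab _ _ hQx
    rw [hx', h1, h2]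
    simp
  · intro s t hst
    have h0 := congrFun hst (Sum.inr 0)
    have h1 := congrFun hst (Sum.inr 1)
    simp at h0 h1
    exact ⟨h0, h1⟩


end Cfsg.Agent.Helper11.OG
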