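import Mathlib
import Cfsg.Agent.Lib.Helper11.OGPLUSASM
import Cfsg.Agent.Lib.Helper4.OGTORUS
import Cfsg.Agent.Lib.Helper19.OGMG
import Cfsg.Agent.Lib.Helper19.OGODDORBIT

/-!
# S2413, piece ODDASM: two generators of `Ω` in type `B` (helper11)
-/

set_option autoImplicit false
set_option linter.unusedSectionVars false
set_option linter.unusedVariables false

namespace Cfsg.Agent.Helper11.OG

open QuadraticMap Matrix Cfsg.Agent.Helper2.Orth Cfsg.Agent.Helper28.WittQuad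

variable {F : Type*} [Field F] {ι : Type} [Fintype ι] [DecidableEq ι]
variable {Q : QuadraticForm F (ι → F)}
variable {n : ℕ} {e f : Fin (n + 1) → (ι → F)}

/-- type `B`: one-dimensional anisotropic kernel, odd characteristic, at least two hyperbolic
pairs -/
theorem odd_two_gen [Fintype F] (h2 : (2 : F) ≠ 0) (hQ : (polarBilin Q).Nondegenerate)
    (hn : 1 ≤ n) (fr : HypFrame Q e f) (w0 : ι → F) (hw0 : Perp Q e f w0) (hQw : Q w0 = 1)
    (hW : ∀ x, Perp Q e f x → ∃ c : F, x = c • w0) :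
    ∃ a b : Cfsg.isometryGroup F (⇑Q), a ∈ eichGroup Q ∧ b ∈ eichGroup Q ∧
      eichGroup Q ≤ Subgroup.closure {a, b} := by
  classical
  have h01 : (0 : Fin (n + 1)) ≠ 1 := plusasm_zero_ne_one hn
  obtain ⟨w, hw⟩ := exists_coxW n F
  obtain ⟨p, hpp, hp⟩ := plusasm_char (F := F)
  haveI := hp
  haveI : Fact p.Prime := ⟨hpp⟩
  obtain ⟨k, hk⟩ := IsCyclic.exists_generator (α := Fˣ)
  have hk0 : (k : F) ≠ 0 := k.ne_zero
  -- frame facts
  have hq1 : Q (e (1 : Fin (n + 1))) = 0 := fr.qe 1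
  have hqf1 : Q (f (1 : Fin (n + 1))) = 0 := fr.qf 1
  have hef1 : polar Q (e (1 : Fin (n + 1))) (f 1) = 1 := by rw [fr.ef, if_pos rfl]
  have hew : ∀ i, polar Q (e i) w0 = 0 := fun i => (hw0 i).1
  have hfw : ∀ i, polar Q (f i) w0 = 0 := fun i => (hw0 i).2
  set l : Fin (n + 1) := Fin.last n with hl
  -- the generators
  set a : Cfsg.isometryGroup F (⇑Q) := leviG fr w * nW Q (e l) (f l) w0 1 with ha
  set u : Cfsg.isometryGroup F (⇑Q) := eichG Q (e 0) w0 with hu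
  set σ : Cfsg.isometryGroup F (⇑Q) :=
    nW Q (e 1) (f 1) w0 (k : F) * (nW Q (e 1) (f 1) w0 1)⁻¹ with hσ
  have huE : u ∈ eichGroup Q := eichG_mem (fr.qe 0) (hew 0)
  have hσE : σ ∈ eichGroup Q :=
    (eichGroup Q).mul_mem (nW_mem hq1 hqf1 (hew 1) (hfw 1))
      ((eichGroup Q).inv_mem (nW_mem hq1 hqf1 (hew 1) (hfw 1)))
  refine ⟨a, u * σ, ?_, (eichGroup Q).mul_mem huE hσE, ?_⟩
  · exact (eichGroup Q).mul_mem (leviG_mem_eichGroup fr (by omega) w)
      (nW_mem (fr.qe l) (fr.qf l) (hew l) (hfw l))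
  set H := Subgroup.closure ({a, u * σ} : Set (Cfsg.isometryGroup F (⇑Q))) with hH
  have haH : a ∈ H := Subgroup.subset_closure (by simp)
  have hbH : u * σ ∈ H := Subgroup.subset_closure (by simp)
  -- the torus element fixes `e 0` and `w0`
  have hσ0 : σ • e 0 = e 0 := by
    apply torus_smul_perp hq1 hqf1 (hew 1) (hfw 1)
    · exact fr.ee _ _
    · rw [fr.fe, if_neg h01.symm]
    · rw [polar_comm]; exact hew 0
  have hσw : σ • w0 = w0 := torus_smul_w hq1 hqf1 hef1 (hew 1) (hfw 1) hQw hk0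
  have hσ1 : σ • e 1 = ((k : F) ^ 2) • e 1 :=
    torus_smul_u hq1 hqf1 hef1 (hew 1) (hfw 1) hQw hk0
  have hcomm : Commute u σ := (commute_eichG_of_fix σ (fr.qe 0) (hew 0) hσ0 hσw).symm
  have hup : u ^ p = 1 := eichG_pow_char p (fr.qe 0) (hew 0)
  have hσq : σ ^ (Fintype.card F - 1) = 1 :=
    torus_pow_card h2 hq1 hqf1 hef1 (hew 1) (hfw 1) hQw hk0
  obtain ⟨huH, hσH⟩ := Cfsg.Agent.Helper28.SpTwo.both_mem_of_mul_mem hcomm hup hσq
    (Cfsg.Agent.Helper28.SpTwo.coprime_char_card_sub_one p) hbH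
  have hS := odd_orbit fr hn w0 hw0 hQw hw H haH huH
  apply mono_gen h2 hQ fr w0 hw0 hQw hW H hS 0 1 h01 σ hσH ((k : F) ^ 2) hσ0 hσ1
  intro A ⟨c₀, hc₀, hne⟩ hA
  apply Cfsg.Agent.Helper28.SpTwo.addSubgroup_eq_top_of_sq k hk A _ c₀ hc₀ hne
  intro c hc
  have := hA c hc
  rw [pow_two] at this
  exact this

end Cfsg.Agent.Helper11.OG
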