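import Mathlib
import Cfsg.Prelude
import Cfsg.Agent.Lib.Helper11.OGTransfer
import Cfsg.Agent.Lib.Helper11.OGODDASM

/-!
# Two-generation of `PΩ_{2m+1}(q)`, `q` odd (helper11)
-/

set_option autoImplicit false
set_option linter.unusedSectionVars false
set_option linter.unusedVariables false

namespace Cfsg.Agent.Helper11.OG

open QuadraticMap Matrix Cfsg.Agent.Helper2.Orth Cfsg.Agent.Helper13

variable {F : Type*} [Field F] [Fintype F]

theorem odd_final (hodd : Odd (Fintype.card F)) (m : ℕ) (hm : 2 ≤ m) :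
    ∃ a b : Cfsg.POmega F (Cfsg.quadFormOdd m F),
      Subgroup.closure ({a, b} : Set (Cfsg.POmega F (Cfsg.quadFormOdd m F))) = ⊤ := by
  classical
  obtain ⟨n, rfl⟩ : ∃ n, m = n + 1 := ⟨m - 1, by omega⟩
  rw [quadFormOdd_eq]
  have h2 : (2 : F) ≠ 0 := by
    intro h2
    have : CharP F 2 := CharTwo.of_one_ne_zero_of_two_eq_zero one_ne_zero h2
    have heven : Even (Fintype.card F) :=
      Nat.even_iff.2 (FiniteField.even_card_of_char_two (ringChar.eq F 2))
    exact (Nat.not_even_iff_odd.2 hodd) heven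
  have fr := hypFrame_odd_full (F := F) (n + 1)
  have hQ := nondeg_odd (F := F) (n + 1) h2
  have hex : Fintype.card F ≠ 2 ∨ Fintype.card (Unit ⊕ (Fin (n + 1) ⊕ Fin (n + 1))) ≠ 4 := by
    right
    simp only [Fintype.card_sum, Fintype.card_fin, Fintype.card_unit]
    omega
  have fr2 := fr.comp (Fin.castLE (show 2 ≤ n + 1 by omega)) (Fin.castLE_injective _)
  apply two_gen_of_eich _ (Omega_eq_eichGroup hQ hex fr2)
  refine odd_two_gen h2 hQ (by omega) fr (Pi.single (Sum.inl ()) 1) ?_ ?_ ?_
  · intro i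
    constructor
    · rw [polar_odd_e]; simp
    · rw [polar_odd_f]; simp
  · rw [matQ_single]
    simp [oddMat]
  · intro x hx
    refine ⟨x (Sum.inl ()), ?_⟩
    funext k
    rcases k with u | i | i
    · simp
    · have := (hx i).2
      rw [polar_odd_f] at this
      simp [this]
    · have := (hx i).1
      rw [polar_odd_e] at this
      simp [this]


end Cfsg.Agent.Helper11.OG
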