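import Mathlib
import Cfsg.Agent.Lib.Helper11.SympCent1

set_option autoImplicit false

/-! The number of frames representing a given self-adjoint square-zero map of
non-alternating type (characteristic two). -/

namespace Cfsg.Agent.Helper11.SympInv

open Module Matrix
open Cfsg.Agent.Helper28.IsoFrames Cfsg.Agent.Helper28.IsoGrp Cfsg.Agent.Helper28.SympIso

section fibre

variable {F V : Type*} [Field F] [CharP F 2] [AddCommGroup V] [Module F V]
  [FiniteDimensional F V] {B : LinearMap.BilinForm F V}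

/-- the frames representing `N` -/
def Fib (B : LinearMap.BilinForm F V) (s : ℕ) (N : V →ₗ[F] V) : Set (Fin s → V) :=
  {w | IsFrame B s w ∧ Nfr B w = N}

theorem vadd_self (K : Type*) {W : Type*} [Field K] [CharP K 2] [AddCommGroup W] [Module K W]
    (v : W) : v + v = 0 := by
  rw [← two_smul K v, CharTwo.two_eq_zero, zero_smul]

omit [FiniteDimensional F V] in
theorem rk1_add_self (v : V) : rk1 B v + rk1 B v = 0 := by
  apply LinearMap.ext
  intro x
  rw [LinearMap.add_apply]
  exact vadd_self F _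

omit [CharP F 2] [FiniteDimensional F V] in
theorem Nfr_succ {n : ℕ} (w : Fin (n + 1) → V) :
    Nfr B w = rk1 B (w 0) + Nfr B (Fin.tail w) := by
  unfold Nfr
  rw [Fin.sum_univ_succ]
  rfl

omit [CharP F 2] [FiniteDimensional F V] in
theorem Nfr_cons {n : ℕ} (v : V) (w' : Fin n → V) :
    Nfr B (Fin.cons v w' : Fin (n + 1) → V) = rk1 B v + Nfr B w' := by
  rw [Nfr_succ, Fin.cons_zero, Fin.tail_cons]

omit [FiniteDimensional F V] in
theorem tail_mem_Fib {n : ℕ} {N : V →ₗ[F] V} {w : Fin (n + 1) → V}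
    (hw : w ∈ Fib B (n + 1) N) : Fin.tail w ∈ Fib B n (N + rk1 B (w 0)) := by
  refine ⟨isFrame_tail hw.1, ?_⟩
  rw [← hw.2, Nfr_succ, add_comm (rk1 B (w 0)), add_assoc, rk1_add_self, add_zero]

omit [CharP F 2] [FiniteDimensional F V] in
theorem range_add_rk1_le {N : V →ₗ[F] V} {v : V} (hv : v ∈ LinearMap.range N) :
    LinearMap.range (N + rk1 B v) ≤ LinearMap.range N := by
  rintro _ ⟨x, rfl⟩
  rw [LinearMap.add_apply, rk1_apply]
  exact Submodule.add_mem _ ⟨x, rfl⟩ (Submodule.smul_mem _ _ hv)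

theorem cons_mem_Fib (hB : B.Nondegenerate) {n : ℕ} {N : V →ₗ[F] V} (hN : IsSA B N)
    (hr : finrank F (LinearMap.range N) = n + 1) {v : V} (hv : v ∈ LinearMap.range N)
    {w' : Fin n → V} (hw' : w' ∈ Fib B n (N + rk1 B v)) :
    (Fin.cons v w' : Fin (n + 1) → V) ∈ Fib B (n + 1) N := by
  have hNfr : Nfr B (Fin.cons v w' : Fin (n + 1) → V) = N := by
    rw [Nfr_cons, hw'.2, add_comm N, ← add_assoc, rk1_add_self, zero_add]
  refine ⟨?_, hNfr⟩
  apply isFrame_nonalt hN hr
  · intro i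
    induction i using Fin.cases with
    | zero => rw [Fin.cons_zero]; exact hv
    | succ i =>
      rw [Fin.cons_succ]
      apply range_add_rk1_le hv
      rw [← hw'.2]
      exact mem_range_Nfr hB hw'.1 i
  · intro x
    rw [← Nfr_apply, hNfr]

/-- splitting off the first vector -/
def fibEquiv (hB : B.Nondegenerate) {n : ℕ} {N : V →ₗ[F] V} (hN : IsSA B N)
    (hr : finrank F (LinearMap.range N) = n + 1) :
    Fib B (n + 1) N ≃
      Σ v : {v : V // ∃ w ∈ Fib B (n + 1) N, w 0 = v}, Fib B n (N + rk1 B v.1) where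
  toFun w := ⟨⟨w.1 0, w.1, w.2, rfl⟩, ⟨Fin.tail w.1, tail_mem_Fib w.2⟩⟩
  invFun p := ⟨Fin.cons p.1.1 p.2.1, cons_mem_Fib hB hN hr (by
    obtain ⟨w, hw, hw0⟩ := p.1.2
    rw [← hw0, ← hw.2]
    exact mem_range_Nfr hB hw.1 0) p.2.2⟩
  left_inv w := by simp only [Fin.cons_self_tail, Subtype.coe_eta]
  right_inv := fun ⟨⟨v, hv⟩, ⟨w', hw'⟩⟩ => rfl

omit [FiniteDimensional F V] in
theorem B_Nfr_self (hA : B.IsAlt) {s : ℕ} (w : Fin s → V) (u : V) :
    B u (Nfr B w u) = (∑ i, B (w i) u) ^ 2 := by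
  rw [Nfr_apply, map_sum]
  have : Fact (Nat.Prime 2) := ⟨Nat.prime_two⟩
  rw [sum_pow_char 2]
  apply Finset.sum_congr rfl
  intro i _
  rw [map_smul, symm2 hA u (w i), smul_eq_mul, pow_two]

omit [CharP F 2] [FiniteDimensional F V] in
theorem B_sum_left {s : ℕ} (c : Fin s → F) (w : Fin s → V) (y : V) :
    B (∑ i, c i • w i) y = ∑ i, c i * B (w i) y := by
  rw [map_sum, LinearMap.sum_apply]
  apply Finset.sum_congr rfl
  intro i _
  rw [map_smul, LinearMap.smul_apply, smul_eq_mul]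

omit [CharP F 2] [FiniteDimensional F V] in
theorem B_dual_sum {s : ℕ} {w x : Fin s → V}
    (hx : ∀ i j, B (w i) (x j) = if i = j then 1 else 0) (c : Fin s → F) (i : Fin s) :
    B (w i) (∑ j, c j • x j) = c i := by
  rw [map_sum, Finset.sum_eq_single i]
  · rw [map_smul, hx, if_pos rfl, smul_eq_mul, mul_one]
  · intro j _ hji
    rw [map_smul, hx, if_neg (Ne.symm hji), smul_zero]
  · intro h
    exact absurd (Finset.mem_univ i) h

/-- admissible coordinate vectors for the first vector of a frame -/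
def goodSet (F : Type*) [Field F] (n : ℕ) : Set (Fin (n + 1) → F) :=
  {c | ∑ i, c i = 1 ∧ (n ≠ 0 → ∃ i, c i ≠ 1)}

theorem sq_eq_one {a : F} (h : a ^ 2 = 1) : a = 1 := by
  apply sq_inj
  rw [mul_one, ← pow_two, h]

theorem mem_X_of_good (hA : B.IsAlt) (hB : B.Nondegenerate)
    (hsq : ∀ c : F, ∃ d : F, d * d = c) {n : ℕ} {N : V →ₗ[F] V}
    (hN : IsSA B N) (hr : finrank F (LinearMap.range N) = n + 1) {w : Fin (n + 1) → V}
    (hfw : IsFrame B (n + 1) w) (hNw : Nfr B w = N) {c : Fin (n + 1) → F}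
    (hc : c ∈ goodSet F n) : ∃ w' ∈ Fib B (n + 1) N, w' 0 = ∑ i, c i • w i := by
  obtain ⟨x, hx⟩ := exists_dual hB hfw
  obtain ⟨u, hu⟩ : ∃ u, u = ∑ j, c j • x j := ⟨_, rfl⟩
  have hcu : ∀ i, B (w i) u = c i := by
    intro i
    rw [hu]
    exact B_dual_sum hx c i
  have hNu : N u = ∑ i, c i • w i := by
    rw [← hNw, Nfr_apply]
    apply Finset.sum_congr rfl
    intro i _
    rw [hcu]
  have hu1 : B u (N u) = 1 := by
    rw [← hNw, B_Nfr_self hA]
    have : ∑ i, B (w i) u = 1 := by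
      rw [← hc.1]
      apply Finset.sum_congr rfl
      intro i _
      rw [hcu]
    rw [this, one_pow]
  have hN' := isSA_step1 hA hN u
  have hr' : finrank F (LinearMap.range (N + rk1 B (N u))) = n := by
    have := finrank_step1 hN hu1
    omega
  have hna' : n ≠ 0 → ∃ y, B y ((N + rk1 B (N u)) y) ≠ 0 := by
    intro hn
    obtain ⟨i, hi⟩ := hc.2 hn
    refine ⟨x i, ?_⟩
    have h1 : B (x i) (N (x i)) = 1 := by
      rw [← hNw, B_Nfr_self hA]
      have : ∑ j, B (w j) (x i) = 1 := by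
        rw [Finset.sum_eq_single i]
        · rw [hx, if_pos rfl]
        · intro j _ hji
          rw [hx, if_neg hji]
        · intro h
          exact absurd (Finset.mem_univ i) h
      rw [this, one_pow]
    have h2 : B (N u) (x i) = c i := by
      rw [hNu, B_sum_left, Finset.sum_eq_single i]
      · rw [hx, if_pos rfl, mul_one]
      · intro j _ hji
        rw [hx, if_neg hji, mul_zero]
      · intro h
        exact absurd (Finset.mem_univ i) h
    rw [LinearMap.add_apply, rk1_apply, map_add, map_smul, h1, h2, symm2 hA (x i) (N u), h2,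
      smul_eq_mul]
    intro h0
    apply hi
    apply sq_eq_one
    have h3 : (1 : F) + 1 = 0 := CharTwo.add_self_eq_zero _
    linear_combination h0 - h3
  obtain ⟨w', hw'1, hw'2⟩ := nonalt_decomp hA hB hsq n _ hN' hr' hna'
  have hfw' := isFrame_nonalt hN' hr' w' hw'1 hw'2
  have hw'F : w' ∈ Fib B n (N + rk1 B (N u)) := by
    refine ⟨hfw', ?_⟩
    apply LinearMap.ext
    intro y
    rw [Nfr_apply, hw'2]
  refine ⟨Fin.cons (N u) w', cons_mem_Fib hB hN hr ⟨u, rfl⟩ hw'F, ?_⟩
  rw [Fin.cons_zero, hNu]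

theorem good_of_mem_X (hA : B.IsAlt) (hB : B.Nondegenerate) {n : ℕ} {N : V →ₗ[F] V}
    {w : Fin (n + 1) → V} (hNw : Nfr B w = N) {w₁ : Fin (n + 1) → V}
    (hw₁ : w₁ ∈ Fib B (n + 1) N) : ∃ c ∈ goodSet F n, w₁ 0 = ∑ i, c i • w i := by
  obtain ⟨x, hx⟩ := exists_dual hB hw₁.1
  obtain ⟨y, hy⟩ : ∃ y, y = x 0 := ⟨_, rfl⟩
  have hNy : N y = w₁ 0 := by
    rw [hy, ← hw₁.2]
    exact Nfr_dual hx 0
  have hexp : w₁ 0 = ∑ i, B (w i) y • w i := by
    rw [← hNy, ← hNw, Nfr_apply]
  have hsum : ∑ i, B (w i) y = 1 := by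
    apply sq_eq_one
    rw [← B_Nfr_self hA, hNw, hNy, symm2 hA, hy, hx, if_pos rfl]
  refine ⟨fun i => B (w i) y, ⟨hsum, ?_⟩, hexp⟩
  intro hn
  by_contra hcon
  push Not at hcon
  have htail := tail_mem_Fib hw₁
  obtain ⟨z, hz⟩ := nonalt_Nfr hA hB htail.1 hn
  apply hz
  rw [htail.2, LinearMap.add_apply, rk1_apply, map_add, map_smul, ← hNw, B_Nfr_self hA,
    symm2 hA z (w₁ 0), smul_eq_mul]
  have h1 : B (w₁ 0) z = ∑ i, B (w i) z := by
    rw [hexp, B_sum_left]
    apply Finset.sum_congr rfl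
    intro i _
    rw [hcon i, one_mul]
  rw [h1, pow_two]
  exact CharTwo.add_self_eq_zero _

theorem card_X [Fintype F] (hA : B.IsAlt) (hB : B.Nondegenerate) {n : ℕ} {N : V →ₗ[F] V}
    (hN : IsSA B N) (hr : finrank F (LinearMap.range N) = n + 1) (hna : ∃ u, B u (N u) ≠ 0) :
    Nat.card {v : V // ∃ w ∈ Fib B (n + 1) N, w 0 = v} = Nat.card (goodSet F n) := by
  obtain ⟨w, hw1, hw2⟩ := nonalt_decomp hA hB exists_sqrt (n + 1) N hN hr (fun _ => hna)
  have hfw := isFrame_nonalt hN hr w hw1 hw2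
  have hNw : Nfr B w = N := by
    apply LinearMap.ext
    intro y
    rw [Nfr_apply, hw2]
  symm
  apply Nat.card_eq_of_bijective (fun c : goodSet F n =>
    (⟨∑ i, c.1 i • w i, mem_X_of_good hA hB exists_sqrt hN hr hfw hNw c.2⟩ :
      {v : V // ∃ w ∈ Fib B (n + 1) N, w 0 = v}))
  constructor
  · intro c c' h
    have h1 : ∑ i, c.1 i • w i = ∑ i, c'.1 i • w i := congrArg Subtype.val h
    have h2 : ∑ i, (c.1 i - c'.1 i) • w i = 0 := by
      rw [← sub_eq_zero, ← Finset.sum_sub_distrib] at h1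
      rw [← h1]
      apply Finset.sum_congr rfl
      intro i _
      rw [sub_smul]
    have h3 := Fintype.linearIndependent_iff.1 hfw.1 _ h2
    apply Subtype.ext
    funext i
    exact sub_eq_zero.1 (h3 i)
  · rintro ⟨v, w₁, hw₁, rfl⟩
    obtain ⟨c, hc, hcv⟩ := good_of_mem_X hA hB hNw hw₁
    exact ⟨⟨c, hc⟩, Subtype.ext hcv.symm⟩

/-- the number of admissible coordinate vectors -/
def good (q n : ℕ) : ℕ := q ^ (n - 1) - (if n % 2 = 1 ∧ 3 ≤ n then 1 else 0)

omit [AddCommGroup V] [Module F V] [FiniteDimensional F V] in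
theorem card_goodSet [Fintype F] (n : ℕ) :
    Nat.card (goodSet F n) = good (Fintype.card F) (n + 1) := by
  have hS := card_sum_eq (F := F) n 1
  have hS' : Nat.card ↑{c : Fin (n + 1) → F | ∑ i, c i = 1} = Fintype.card F ^ n := hS
  have hone : ∑ _i : Fin (n + 1), (1 : F) = ((n + 1 : ℕ) : F) := by
    rw [Finset.sum_const, Finset.card_univ, Fintype.card_fin, nsmul_eq_mul, mul_one]
  unfold good
  rw [Nat.add_sub_cancel]
  by_cases hn : n = 0
  · subst hn
    have : goodSet F 0 = {c : Fin (0 + 1) → F | ∑ i, c i = 1} := by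
      ext c
      constructor
      · intro h; exact h.1
      · intro h; exact ⟨h, fun h0 => absurd rfl h0⟩
    rw [this, hS']
    simp
  by_cases hpar : (n + 1) % 2 = 1
  · -- odd
    have h3 : 3 ≤ n + 1 := by omega
    rw [if_pos ⟨hpar, h3⟩]
    have hcast : ((n + 1 : ℕ) : F) = 1 := by
      obtain ⟨k, hk⟩ : ∃ k, n + 1 = 2 * k + 1 := ⟨(n + 1) / 2, by omega⟩
      rw [hk, Nat.cast_add, Nat.cast_mul, Nat.cast_two, CharTwo.two_eq_zero, zero_mul, zero_add,
        Nat.cast_one]
    have hins : {c : Fin (n + 1) → F | ∑ i, c i = 1} = insert (fun _ => (1 : F)) (goodSet F n) := by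
      ext c
      rw [Set.mem_insert_iff]
      constructor
      · intro h
        by_cases hc : ∀ i, c i = 1
        · left; funext i; exact hc i
        · right
          push Not at hc
          exact ⟨h, fun _ => hc⟩
      · rintro (h | h)
        · rw [h]
          show ∑ _i : Fin (n + 1), (1 : F) = 1
          rw [hone, hcast]
        · exact h.1
    have hnot : (fun _ => (1 : F)) ∉ goodSet F n := by
      intro h
      obtain ⟨i, hi⟩ := h.2 hn
      exact hi rfl
    have := Set.ncard_insert_of_notMem hnot (Set.toFinite _)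
    rw [← hins, ← Nat.card_coe_set_eq, ← Nat.card_coe_set_eq, hS'] at this
    omega
  · -- even
    have : ¬ ((n + 1) % 2 = 1 ∧ 3 ≤ n + 1) := fun h => hpar h.1
    rw [if_neg this, Nat.sub_zero, ← hS']
    have hcast : ((n + 1 : ℕ) : F) = 0 := by
      rw [CharP.cast_eq_zero_iff F 2]
      omega
    have : goodSet F n = {c : Fin (n + 1) → F | ∑ i, c i = 1} := by
      ext c
      constructor
      · intro h; exact h.1
      · intro h
        refine ⟨h, fun _ => ?_⟩
        by_contra hcon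
        push Not at hcon
        have h2 : ∑ i, c i = 0 := by
          rw [← hcast, ← hone]
          apply Finset.sum_congr rfl
          intro i _
          exact hcon i
        have h3 : ∑ i, c i = 1 := h
        rw [h2] at h3
        exact zero_ne_one h3
    rw [this]

/-- the number of frames representing a map of non-alternating type of rank `s` -/
def ofib (q : ℕ) : ℕ → ℕ
  | 0 => 1
  | (n + 1) => good q (n + 1) * ofib q n

theorem card_Fib [Fintype F] (hA : B.IsAlt) (hB : B.Nondegenerate) :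
    ∀ (s : ℕ) (N : V →ₗ[F] V), IsSA B N → finrank F (LinearMap.range N) = s →
      (s ≠ 0 → ∃ u, B u (N u) ≠ 0) → Nat.card (Fib B s N) = ofib (Fintype.card F) s := by
  have : Finite V := Module.finite_of_finite F
  intro s
  induction s with
  | zero =>
    intro N hN hr _
    have hN0 : N = 0 := by
      have h0 : LinearMap.range N = ⊥ := Submodule.finrank_eq_zero.1 hr
      exact LinearMap.range_eq_bot.1 h0
    have : Unique (Fib B 0 N) :=
      { default := ⟨Fin.elim0, ⟨linearIndependent_empty_type, fun i => i.elim0⟩, by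
          rw [hN0]
          unfold Nfr
          rw [Finset.univ_eq_empty, Finset.sum_empty]⟩
        uniq := fun x => Subtype.ext (funext fun i => i.elim0) }
    rw [Nat.card_unique]
    rfl
  | succ n ih =>
    intro N hN hr hna
    have : Fintype {v : V // ∃ w ∈ Fib B (n + 1) N, w 0 = v} := Fintype.ofFinite _
    rw [Nat.card_congr (fibEquiv hB hN hr), Nat.card_sigma]
    have hconst : ∀ v : {v : V // ∃ w ∈ Fib B (n + 1) N, w 0 = v},
        Nat.card (Fib B n (N + rk1 B v.1)) = ofib (Fintype.card F) n := by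
      rintro ⟨v, w₁, hw₁, rfl⟩
      have ht := tail_mem_Fib hw₁
      apply ih
      · rw [← ht.2]; exact isSA_Nfr hA ht.1
      · rw [← ht.2]; exact finrank_range_Nfr hB ht.1
      · intro hn; rw [← ht.2]; exact nonalt_Nfr hA hB ht.1 hn
    rw [Finset.sum_congr rfl (fun v _ => hconst v), Finset.sum_const, Finset.card_univ,
      smul_eq_mul, ← Nat.card_eq_fintype_card, card_X hA hB hN hr (hna (Nat.succ_ne_zero n)),
      card_goodSet]
    rfl

/-- the order of `Sp_{2k}(q)` -/
def spOrd (q k : ℕ) : ℕ := q ^ (k ^ 2) * ∏ i ∈ Finset.range k, (q ^ (2 * (i + 1)) - 1)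

theorem spOrd_succ (q k : ℕ) :
    spOrd q (k + 1) = (q ^ (2 * k + 2) - 1) * (q ^ (2 * k + 1) * spOrd q k) := by
  unfold spOrd
  rw [Finset.prod_range_succ]
  have : q ^ ((k + 1) ^ 2) = q ^ (k ^ 2) * q ^ (2 * k + 1) := by
    rw [← pow_add]
    congr 1
    ring
  rw [this]
  have h2 : 2 * (k + 1) = 2 * k + 2 := by ring
  rw [h2]
  ring

theorem ofib_closed (q j : ℕ) :
    ofib q (2 * j + 1) = spOrd q j ∧ ofib q (2 * j + 2) = q ^ (2 * j + 1) * spOrd q j := by
  induction j with
  | zero =>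
    constructor
    · show good q 1 * 1 = spOrd q 0
      unfold good spOrd
      simp
    · show good q 2 * (good q 1 * 1) = q ^ 1 * spOrd q 0
      unfold good spOrd
      simp
  | succ j ih =>
    have h1 : ofib q (2 * (j + 1) + 1) = spOrd q (j + 1) := by
      show good q (2 * j + 2 + 1) * ofib q (2 * j + 2) = _
      rw [ih.2, spOrd_succ]
      unfold good
      have hc : (2 * j + 2 + 1) % 2 = 1 ∧ 3 ≤ 2 * j + 2 + 1 := by omega
      rw [if_pos hc, Nat.add_sub_cancel]
    refine ⟨h1, ?_⟩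
    show good q (2 * (j + 1) + 1 + 1) * ofib q (2 * (j + 1) + 1) = _
    rw [h1]
    unfold good
    have hc : ¬ ((2 * (j + 1) + 1 + 1) % 2 = 1 ∧ 3 ≤ 2 * (j + 1) + 1 + 1) := by omega
    rw [if_neg hc, Nat.add_sub_cancel, Nat.sub_zero]

end fibre

end Cfsg.Agent.Helper11.SympInv
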