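import Mathlib
import Cfsg.Agent.Lib.Helper11.SympCent2
import Cfsg.Agent.Lib.Helper2.OrthFrame
import Cfsg.Agent.Lib.Helper17.OrthPlus
import Cfsg.Agent.Lib.Helper17.OrthMinus

set_option autoImplicit false

/-! Involutions of orthogonal groups in characteristic two: conjugacy in the orthogonal
group is the same as conjugacy in the symplectic group of the polar form. -/

namespace Cfsg.Agent.Helper11.OrthInv

open QuadraticMap Matrix Module
open Cfsg.Agent.Helper11.SympInv Cfsg.Agent.Helper28.IsoFrames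

variable {F : Type*} [Field F] [CharP F 2] {ι : Type} [Fintype ι] [DecidableEq ι]
  (Q : QuadraticForm F (ι → F))

omit [Fintype ι] [DecidableEq ι] in
theorem polarBilin_isAlt : (polarBilin Q).IsAlt := by
  intro x
  rw [polarBilin_apply_apply]
  unfold QuadraticMap.polar
  rw [vadd_self F x, map_zero]
  have : Q x + Q x = 0 := CharTwo.add_self_eq_zero _
  linear_combination -this

omit [CharP F 2] in
theorem Q_mulVec (g : Cfsg.isometryGroup F (⇑Q)) (v : ι → F) :
    Q ((g.1.1 : Matrix ι ι F) *ᵥ v) = Q v :=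
  Cfsg.Agent.Helper2.Orth.Q_smul Q g v

omit [CharP F 2] in
theorem polar_mulVec (g : Cfsg.isometryGroup F (⇑Q)) (u v : ι → F) :
    polar Q ((g.1.1 : Matrix ι ι F) *ᵥ u) ((g.1.1 : Matrix ι ι F) *ᵥ v) = polar Q u v :=
  Cfsg.Agent.Helper2.Orth.polar_smul_smul Q g u v

/-- the map `t - 1` -/
def Nmap (t : Cfsg.isometryGroup F (⇑Q)) : (ι → F) →ₗ[F] (ι → F) :=
  ((t.1.1 : Matrix ι ι F) - 1).mulVecLin

omit [CharP F 2] in
theorem Nmap_apply (t : Cfsg.isometryGroup F (⇑Q)) (x : ι → F) :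
    Nmap Q t x = (t.1.1 : Matrix ι ι F) *ᵥ x - x := by
  show ((t.1.1 : Matrix ι ι F) - 1) *ᵥ x = _
  rw [Matrix.sub_mulVec, Matrix.one_mulVec]

omit [CharP F 2] in
theorem mulVec_mulVec_self {t : Cfsg.isometryGroup F (⇑Q)} (ht : t * t = 1) (x : ι → F) :
    (t.1.1 : Matrix ι ι F) *ᵥ ((t.1.1 : Matrix ι ι F) *ᵥ x) = x := by
  have h1 : (t.1.1 : Matrix ι ι F) * t.1.1 = 1 := by
    have := congrArg (fun g : Cfsg.isometryGroup F (⇑Q) => (g.1.1 : Matrix ι ι F)) ht
    exact this
  rw [Matrix.mulVec_mulVec, h1, Matrix.one_mulVec]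

theorem isSA_Nmap {t : Cfsg.isometryGroup F (⇑Q)} (ht : t * t = 1) :
    IsSA (polarBilin Q) (Nmap Q t) := by
  constructor
  · intro x y
    rw [Nmap_apply, Nmap_apply, polarBilin_apply_apply, polarBilin_apply_apply, polar_sub_left,
      polar_sub_right]
    congr 1
    rw [← polar_mulVec Q t ((t.1.1 : Matrix ι ι F) *ᵥ x) y, mulVec_mulVec_self Q ht]
  · intro x
    rw [Nmap_apply, Nmap_apply, Matrix.mulVec_sub, mulVec_mulVec_self Q ht]
    have h1 := vadd_self F x
    have h2 := vadd_self F ((t.1.1 : Matrix ι ι F) *ᵥ x)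
    have h3 : x - (t.1.1 : Matrix ι ι F) *ᵥ x - ((t.1.1 : Matrix ι ι F) *ᵥ x - x)
        = (x + x) - ((t.1.1 : Matrix ι ι F) *ᵥ x + (t.1.1 : Matrix ι ι F) *ᵥ x) := by abel
    rw [h3, h1, h2, sub_zero]

theorem Q_Nmap (t : Cfsg.isometryGroup F (⇑Q)) (x : ι → F) :
    Q (Nmap Q t x) = polar Q x (Nmap Q t x) := by
  rw [Nmap_apply]
  have hneg : (t.1.1 : Matrix ι ι F) *ᵥ x - x = (t.1.1 : Matrix ι ι F) *ᵥ x + x := by
    have := vadd_self F x
    rw [sub_eq_add_neg]
    congr 1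
    exact neg_eq_of_add_eq_zero_left this
  have halt : polar Q x x = 0 := by
    have := polarBilin_isAlt Q x
    rwa [polarBilin_apply_apply] at this
  rw [hneg, QuadraticMap.map_add Q ((t.1.1 : Matrix ι ι F) *ᵥ x) x, Q_mulVec, polar_add_right,
    halt, add_zero, polar_comm Q x]
  have : Q x + Q x = 0 := CharTwo.add_self_eq_zero _
  rw [this, zero_add]

omit [CharP F 2] in
theorem isConj_of_intertwine (t s h : Cfsg.isometryGroup F (⇑Q))
    (hh : ∀ x, (h.1.1 : Matrix ι ι F) *ᵥ (Nmap Q t x)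
      = Nmap Q s ((h.1.1 : Matrix ι ι F) *ᵥ x)) : IsConj t s := by
  rw [isConj_iff]
  refine ⟨h, ?_⟩
  have key : h * t = s * h := by
    apply Subtype.ext
    apply Units.ext
    show (h.1.1 : Matrix ι ι F) * t.1.1 = s.1.1 * h.1.1
    rw [Matrix.ext_iff_mulVec]
    intro x
    rw [← Matrix.mulVec_mulVec, ← Matrix.mulVec_mulVec]
    have h1 := hh x
    rw [Nmap_apply, Nmap_apply, Matrix.mulVec_sub] at h1
    exact sub_left_injective h1
  rw [key, mul_assoc, mul_inv_cancel, mul_one]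

section main

variable [Fintype F]

omit [CharP F 2] [Fintype F] in
theorem witt_mulVec (hQ : (polarBilin Q).Nondegenerate) (k : ℕ) (x y : Fin k → (ι → F))
    (hx : LinearIndependent F x) (hy : LinearIndependent F y) (hQxy : ∀ i, Q (x i) = Q (y i))
    (hp : ∀ i j, polar Q (x i) (x j) = polar Q (y i) (y j)) :
    ∃ g : Cfsg.isometryGroup F (⇑Q), ∀ i, (g.1.1 : Matrix ι ι F) *ᵥ x i = y i := by
  obtain ⟨g, hg⟩ := Cfsg.Agent.Helper2.Orth.exists_smul_family hQ k x y hx hy hQxy hp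
  exact ⟨g, fun i => hg i⟩

omit [Fintype F] in
theorem Q_frame_nonalt (hQ : (polarBilin Q).Nondegenerate) {t : Cfsg.isometryGroup F (⇑Q)}
    {r : ℕ} {w : Fin r → (ι → F)} (hfw : IsFrame (polarBilin Q) r w)
    (hNw : Nfr (polarBilin Q) w = Nmap Q t) (i : Fin r) : Q (w i) = 1 := by
  obtain ⟨x, hx⟩ := exists_dual hQ hfw
  have h1 : Nmap Q t (x i) = w i := by rw [← hNw]; exact Nfr_dual hx i
  rw [← h1, Q_Nmap, h1, ← polarBilin_apply_apply, symm2 (polarBilin_isAlt Q), hx, if_pos rfl]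

/-- involutions conjugate under the symplectic group of the polar form are conjugate in the
orthogonal group -/
theorem isConj_of_sp_conj (hQ : (polarBilin Q).Nondegenerate)
    (t s : Cfsg.isometryGroup F (⇑Q)) (ht : t * t = 1) (hs : s * s = 1) (g : GL ι F)
    (hg : ∀ u v, polar Q ((g.1 : Matrix ι ι F) *ᵥ u) ((g.1 : Matrix ι ι F) *ᵥ v) = polar Q u v)
    (hgts : (g.1 : Matrix ι ι F) * t.1.1 = s.1.1 * g.1) : IsConj t s := by
  have hA := polarBilin_isAlt Q
  have hNt := isSA_Nmap Q ht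
  have hNs := isSA_Nmap Q hs
  have hgN : ∀ x, (g.1 : Matrix ι ι F) *ᵥ (Nmap Q t x) = Nmap Q s ((g.1 : Matrix ι ι F) *ᵥ x) := by
    intro x
    rw [Nmap_apply, Nmap_apply, Matrix.mulVec_sub, Matrix.mulVec_mulVec, Matrix.mulVec_mulVec,
      hgts]
  have hginv : ∀ y, (g.1 : Matrix ι ι F) *ᵥ ((g⁻¹.1 : Matrix ι ι F) *ᵥ y) = y := by
    intro y
    have : (g.1 : Matrix ι ι F) * g⁻¹.1 = 1 := by
      have := congrArg (fun u : GL ι F => (u.1 : Matrix ι ι F)) (mul_inv_cancel g)
      exact this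
    rw [Matrix.mulVec_mulVec, this, Matrix.one_mulVec]
  have hform : ∀ x, polarBilin Q ((g.1 : Matrix ι ι F) *ᵥ x)
      (Nmap Q s ((g.1 : Matrix ι ι F) *ᵥ x)) = polarBilin Q x (Nmap Q t x) := by
    intro x
    rw [← hgN, polarBilin_apply_apply, polarBilin_apply_apply, hg]
  obtain ⟨r, hrt⟩ : ∃ r, finrank F (LinearMap.range (Nmap Q t)) = r := ⟨_, rfl⟩
  have hrs : finrank F (LinearMap.range (Nmap Q s)) = r := by
    rw [← hrt]
    show ((s.1.1 : Matrix ι ι F) - 1).rank = ((t.1.1 : Matrix ι ι F) - 1).rank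
    have hdet : IsUnit (g.1 : Matrix ι ι F).det := Matrix.isUnits_det_units g
    have h1 : (g.1 : Matrix ι ι F) * ((t.1.1 : Matrix ι ι F) - 1) =
        ((s.1.1 : Matrix ι ι F) - 1) * g.1 := by
      rw [Matrix.mul_sub, Matrix.sub_mul, hgts, Matrix.mul_one, Matrix.one_mul]
    rw [← Matrix.rank_mul_eq_right_of_isUnit_det (g.1 : Matrix ι ι F) ((t.1.1 : Matrix ι ι F) - 1)
      hdet, h1, Matrix.rank_mul_eq_left_of_isUnit_det (g.1 : Matrix ι ι F) _ hdet]
  by_cases halt : ∀ x, polarBilin Q x (Nmap Q t x) = 0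
  · -- alternating type
    have halts : ∀ y, polarBilin Q y (Nmap Q s y) = 0 := by
      intro y
      rw [← hginv y, hform]
      exact halt _
    obtain ⟨k, hk, w, w', hw1, hw2⟩ := alt_decomp hA hQ r _ hNt hrt halt
    obtain ⟨k', hk', v, v', hv1, hv2⟩ := alt_decomp hA hQ r _ hNs hrs halts
    have hkk : k' = k := by omega
    subst hkk
    have hfw := isFrame_alt hNt (hrt.trans hk) w w' hw1 hw2
    have hfv := isFrame_alt hNs (hrs.trans hk) v v' hv1 hv2
    have hmemw : ∀ j, comb w w' j ∈ LinearMap.range (Nmap Q t) := by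
      intro j
      obtain ⟨a, rfl⟩ := finSumFinEquiv.surjective j
      rcases a with i | i
      · rw [comb_inl]; exact (hw1 i).1
      · rw [comb_inr]; exact (hw1 i).2
    have hmemv : ∀ j, comb v v' j ∈ LinearMap.range (Nmap Q s) := by
      intro j
      obtain ⟨a, rfl⟩ := finSumFinEquiv.surjective j
      rcases a with i | i
      · rw [comb_inl]; exact (hv1 i).1
      · rw [comb_inr]; exact (hv1 i).2
    have hQw : ∀ j, Q (comb w w' j) = 0 := by
      intro j
      obtain ⟨x, hx⟩ := hmemw j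
      rw [← hx, Q_Nmap, ← polarBilin_apply_apply, halt]
    have hQv : ∀ j, Q (comb v v' j) = 0 := by
      intro j
      obtain ⟨x, hx⟩ := hmemv j
      rw [← hx, Q_Nmap, ← polarBilin_apply_apply, halts]
    obtain ⟨h, hh⟩ := witt_mulVec Q hQ _ (comb w w') (comb v v') hfw.1 hfv.1
      (fun j => by rw [hQw, hQv]) (fun i j => by
        rw [← polarBilin_apply_apply, ← polarBilin_apply_apply, hfw.2, hfv.2])
    apply isConj_of_intertwine Q t s h
    intro x
    rw [hw2, hv2, ← Matrix.mulVecLin_apply, map_sum]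
    apply Finset.sum_congr rfl
    intro i _
    have hi : (h.1.1 : Matrix ι ι F) *ᵥ (w i) = v i := by
      have := hh (finSumFinEquiv (Sum.inl i))
      rwa [comb_inl, comb_inl] at this
    have hi' : (h.1.1 : Matrix ι ι F) *ᵥ (w' i) = v' i := by
      have := hh (finSumFinEquiv (Sum.inr i))
      rwa [comb_inr, comb_inr] at this
    rw [map_add, map_smul, map_smul, Matrix.mulVecLin_apply, Matrix.mulVecLin_apply, hi, hi',
      ← hi, ← hi', polarBilin_apply_apply, polarBilin_apply_apply, polarBilin_apply_apply,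
      polarBilin_apply_apply, polar_mulVec, polar_mulVec]
  · -- non-alternating type
    push Not at halt
    obtain ⟨u, hu⟩ := halt
    have hnas : ∃ y, polarBilin Q y (Nmap Q s y) ≠ 0 :=
      ⟨(g.1 : Matrix ι ι F) *ᵥ u, by rw [hform]; exact hu⟩
    obtain ⟨w, hw1, hw2⟩ := nonalt_decomp hA hQ exists_sqrt r _ hNt hrt (fun _ => ⟨u, hu⟩)
    obtain ⟨v, hv1, hv2⟩ := nonalt_decomp hA hQ exists_sqrt r _ hNs hrs (fun _ => hnas)
    have hfw := isFrame_nonalt hNt hrt w hw1 hw2
    have hfv := isFrame_nonalt hNs hrs v hv1 hv2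
    have hNw : Nfr (polarBilin Q) w = Nmap Q t := by
      apply LinearMap.ext
      intro y
      rw [Nfr_apply, hw2]
    have hNv : Nfr (polarBilin Q) v = Nmap Q s := by
      apply LinearMap.ext
      intro y
      rw [Nfr_apply, hv2]
    obtain ⟨h, hh⟩ := witt_mulVec Q hQ r w v hfw.1 hfv.1
      (fun j => by rw [Q_frame_nonalt Q hQ hfw hNw, Q_frame_nonalt Q hQ hfv hNv]) (fun i j => by
        rw [← polarBilin_apply_apply, ← polarBilin_apply_apply, hfw.2, hfv.2])
    apply isConj_of_intertwine Q t s h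
    intro x
    rw [hw2, hv2, ← Matrix.mulVecLin_apply, map_sum]
    apply Finset.sum_congr rfl
    intro i _
    rw [map_smul, Matrix.mulVecLin_apply, hh i, ← hh i, polarBilin_apply_apply,
      polarBilin_apply_apply, polar_mulVec]

end main

end Cfsg.Agent.Helper11.OrthInv
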