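import Mathlib
import Cfsg.Agent.Lib.Helper11.OrthInvConj
import Cfsg.Agent.Lib.Helper17.OmegaElts
import Cfsg.Agent.S0760

set_option autoImplicit false

/-! Involutions of orthogonal groups in characteristic two: conjugacy under `Ω`. -/

namespace Cfsg.Agent.Helper11.OrthInv

open QuadraticMap Matrix Module
open Cfsg.Agent.Helper17.Spinor Cfsg.Agent.Helper11.SympInv

section general

variable {F : Type*} [Field F] [Fintype F] [CharP F 2] {ι : Type} [Fintype ι] [DecidableEq ι]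
  (Q : QuadraticForm F (ι → F))

omit [CharP F 2] in
/-- multiplying an element outside `Ω` by a reflection lands in `Ω` -/
theorem mul_tG_mem_Omega [CharP F 2] (hQ : (polarBilin Q).Nondegenerate)
    (hex : Fintype.card F ≠ 2 ∨ Fintype.card ι ≠ 4) {g : ↥(Cfsg.isometryGroup F (⇑Q))}
    (hg : g ∉ Cfsg.Omega F (⇑Q)) {v : ι → F} (hv : Q v ≠ 0) :
    g * tG Q v ∈ Cfsg.Omega F (⇑Q) := by
  obtain ⟨vs, hvs, rfl⟩ := exists_prod_tG Q hQ hex g
  have h1 : (vs.map (tG Q)).prod * tG Q v = ((vs ++ [v]).map (tG Q)).prod := by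
    rw [List.map_append, List.prod_append]; simp
  have hvs' : ∀ u ∈ vs ++ [v], Q u ≠ 0 := by
    intro u hu
    rcases List.mem_append.1 hu with h | h
    · exact hvs u h
    · rw [List.mem_singleton] at h; rw [h]; exact hv
  show _ ∈ commutator ↥(Cfsg.isometryGroup F (⇑Q))
  rw [h1, prod_tG_mem_commutator_iff Q hQ hex _ hvs', List.length_append, List.length_singleton]
  have : ¬ Even vs.length := fun h => hg ((prod_tG_mem_commutator_iff Q hQ hex vs hvs).2 h)
  exact (Nat.not_even_iff_odd.1 this).add_one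

omit [Fintype F] [CharP F 2] in
/-- a reflection in a fixed vector commutes -/
theorem tG_commute {t : ↥(Cfsg.isometryGroup F (⇑Q))} {v : ι → F} (hv : Q v ≠ 0)
    (htv : (t.1.1 : Matrix ι ι F) *ᵥ v = v) : tG Q v * t = t * tG Q v := by
  apply toEnd_injective
  rw [map_mul, map_mul, toEnd_tG Q hv]
  apply LinearMap.ext
  intro x
  rw [Module.End.mul_apply, Module.End.mul_apply, toEnd_apply, toEnd_apply, refl_apply, refl_apply,
    Matrix.mulVec_sub, Matrix.mulVec_smul, htv]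
  have := polar_mulVec Q t v x
  rw [htv] at this
  rw [this]

/-- conjugacy under `Ω` from a fixed non-singular vector -/
theorem exists_Omega_conj (hQ : (polarBilin Q).Nondegenerate)
    (hex : Fintype.card F ≠ 2 ∨ Fintype.card ι ≠ 4) {t s g : ↥(Cfsg.isometryGroup F (⇑Q))}
    (hg : g * t * g⁻¹ = s) {v : ι → F} (hv : Q v ≠ 0)
    (htv : (t.1.1 : Matrix ι ι F) *ᵥ v = v) :
    ∃ g' ∈ Cfsg.Omega F (⇑Q), g' * t * g'⁻¹ = s := by
  by_cases hgO : g ∈ Cfsg.Omega F (⇑Q)
  · exact ⟨g, hgO, hg⟩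
  · refine ⟨g * tG Q v, mul_tG_mem_Omega Q hQ hex hgO hv, ?_⟩
    have hc := tG_commute Q hv htv
    have h1 : tG Q v * t * (tG Q v)⁻¹ = t := by rw [hc, mul_assoc, mul_inv_cancel, mul_one]
    rw [← hg]
    calc g * tG Q v * t * (g * tG Q v)⁻¹ = g * (tG Q v * t * (tG Q v)⁻¹) * g⁻¹ := by group
      _ = g * t * g⁻¹ := by rw [h1]

omit [Fintype F] [CharP F 2] in
theorem exists_fixed_nonsingular {t : ↥(Cfsg.isometryGroup F (⇑Q))}
    (h : ¬ IsTS Q (LinearMap.ker (Nmap Q t))) :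
    ∃ v, Q v ≠ 0 ∧ (t.1.1 : Matrix ι ι F) *ᵥ v = v := by
  unfold IsTS at h
  push Not at h
  obtain ⟨w, hw, hQw⟩ := h
  refine ⟨w, hQw, ?_⟩
  rw [LinearMap.mem_ker, Nmap_apply, sub_eq_zero] at hw
  exact hw

omit [Fintype F] in
theorem range_le_ker {t : ↥(Cfsg.isometryGroup F (⇑Q))} (ht : t * t = 1) :
    LinearMap.range (Nmap Q t) ≤ LinearMap.ker (Nmap Q t) := by
  rintro _ ⟨x, rfl⟩
  exact (isSA_Nmap Q ht).sq x

omit [Fintype F] in
theorem card_le_two_mul_finrank_ker {t : ↥(Cfsg.isometryGroup F (⇑Q))} (ht : t * t = 1) :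
    Fintype.card ι ≤ 2 * finrank F (LinearMap.ker (Nmap Q t)) := by
  have h1 := LinearMap.finrank_range_add_finrank_ker (Nmap Q t)
  have h2 := Submodule.finrank_mono (range_le_ker Q ht)
  rw [Module.finrank_fintype_fun_eq_card] at h1
  omega

end general

section maximal

variable {F : Type*} [Field F] {V : Type*} [AddCommGroup V] [Module F V] [FiniteDimensional F V]
  (Q : QuadraticForm F V)

theorem exists_maximal_isTS {W : Submodule F V} (hW : IsTS Q W) :
    ∃ W', W ≤ W' ∧ IsTS Q W' ∧ ∀ W'', W' ≤ W'' → IsTS Q W'' → W'' = W' := by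
  obtain ⟨W', ⟨h1, h2⟩, h3⟩ := (wellFounded_gt (α := Submodule F V)).has_min
    {W' | W ≤ W' ∧ IsTS Q W'} ⟨W, le_refl W, hW⟩
  refine ⟨W', h1, h2, fun W'' hle hts => ?_⟩
  have := h3 W'' ⟨h1.trans hle, hts⟩
  exact (eq_of_le_of_not_lt hle this).symm

theorem two_mul_finrank_le_of_isTS (hQ : (polarBilin Q).Nondegenerate) {W : Submodule F V}
    (hW : IsTS Q W) : 2 * finrank F W ≤ finrank F V := by
  have hle : W ≤ LinearMap.BilinForm.orthogonal (polarBilin Q) W := by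
    intro x hx w hw
    show polarBilin Q w x = 0
    rw [polarBilin_apply_apply]
    exact hW.polar_eq_zero Q hw hx
  have h1 := Submodule.finrank_mono hle
  rw [LinearMap.BilinForm.finrank_orthogonal hQ] at h1
  have h2 : finrank F W ≤ finrank F V := Submodule.finrank_le _
  omega

end maximal

section plus

variable {F : Type*} [Field F] [Fintype F] [CharP F 2] {ι : Type} [Fintype ι] [DecidableEq ι]
  (Q : QuadraticForm F (ι → F))

omit [Fintype F] in
theorem Nmap_eq_add (t : ↥(Cfsg.isometryGroup F (⇑Q))) (x : ι → F) :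
    Nmap Q t x = x + (t.1.1 : Matrix ι ι F) *ᵥ x := by
  rw [Nmap_apply, add_comm, sub_eq_add_neg]
  congr 1
  exact neg_eq_of_add_eq_zero_left (vadd_self F x)

omit [Fintype F] in
/-- if the fixed space is totally singular, the involution is of type `a_m` -/
theorem type_of_isTS_ker (hQ : (polarBilin Q).Nondegenerate) {m : ℕ}
    (hcard : Fintype.card ι = 2 * m) {t : ↥(Cfsg.isometryGroup F (⇑Q))} (ht : t * t = 1)
    (hts : IsTS Q (LinearMap.ker (Nmap Q t))) :
    ((t.1.1 : Matrix ι ι F) - 1).rank = m ∧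
      ∀ v : ι → F, Q (v + (t.1.1 : Matrix ι ι F) *ᵥ v) = 0 := by
  constructor
  · have h1 := LinearMap.finrank_range_add_finrank_ker (Nmap Q t)
    have h2 := card_le_two_mul_finrank_ker Q ht
    have h3 := two_mul_finrank_le_of_isTS Q hQ hts
    rw [Module.finrank_fintype_fun_eq_card] at h1 h3
    show finrank F (LinearMap.range (Nmap Q t)) = m
    omega
  · intro v
    rw [← Nmap_eq_add]
    exact hts _ (range_le_ker Q ht ⟨v, rfl⟩)

/-- involutions not of type `a_m`: conjugacy in `O` implies conjugacy in `Ω` -/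
theorem omega_conj_of_not_am (hQ : (polarBilin Q).Nondegenerate)
    (hex : Fintype.card F ≠ 2 ∨ Fintype.card ι ≠ 4) {m : ℕ} (hcard : Fintype.card ι = 2 * m)
    {t s : ↥(Cfsg.isometryGroup F (⇑Q))} (ht : t * t = 1) (hconj : IsConj t s)
    (h : ¬ (((t.1.1 : Matrix ι ι F) - 1).rank = m ∧
      ∀ v : ι → F, Q (v + (t.1.1 : Matrix ι ι F) *ᵥ v) = 0)) :
    ∃ g ∈ Cfsg.Omega F (⇑Q), g * t * g⁻¹ = s := by
  have hker : ¬ IsTS Q (LinearMap.ker (Nmap Q t)) := fun hts =>
    h (type_of_isTS_ker Q hQ hcard ht hts)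
  obtain ⟨v, hv, htv⟩ := exists_fixed_nonsingular Q hker
  obtain ⟨g, hg⟩ := isConj_iff.1 hconj
  exact exists_Omega_conj Q hQ hex hg hv htv

omit [Fintype F] [CharP F 2] in
theorem range_Nmap_conj {t s g : ↥(Cfsg.isometryGroup F (⇑Q))} (hg : g * t * g⁻¹ = s) :
    LinearMap.range (Nmap Q s) = (LinearMap.range (Nmap Q t)).map (toEnd Q g) := by
  have hgt : g * t = s * g := by rw [← hg]; group
  have hmat : (g.1.1 : Matrix ι ι F) * t.1.1 = s.1.1 * g.1.1 :=
    congrArg (fun u : ↥(Cfsg.isometryGroup F (⇑Q)) => (u.1.1 : Matrix ι ι F)) hgt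
  have hgN : ∀ x, (g.1.1 : Matrix ι ι F) *ᵥ (Nmap Q t x)
      = Nmap Q s ((g.1.1 : Matrix ι ι F) *ᵥ x) := by
    intro x
    rw [Nmap_apply, Nmap_apply, Matrix.mulVec_sub, Matrix.mulVec_mulVec, Matrix.mulVec_mulVec,
      hmat]
  have hginv : ∀ y, (g.1.1 : Matrix ι ι F) *ᵥ ((g⁻¹.1.1 : Matrix ι ι F) *ᵥ y) = y := by
    intro y
    have : (g.1.1 : Matrix ι ι F) * g⁻¹.1.1 = 1 :=
      congrArg (fun u : ↥(Cfsg.isometryGroup F (⇑Q)) => (u.1.1 : Matrix ι ι F)) (mul_inv_cancel g)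
    rw [Matrix.mulVec_mulVec, this, Matrix.one_mulVec]
  ext z
  constructor
  · rintro ⟨y, rfl⟩
    refine ⟨Nmap Q t ((g⁻¹.1.1 : Matrix ι ι F) *ᵥ y), ⟨_, rfl⟩, ?_⟩
    rw [toEnd_apply]
    show (g.1.1 : Matrix ι ι F) *ᵥ _ = _
    rw [hgN, hginv]
  · rintro ⟨_, ⟨x, rfl⟩, rfl⟩
    rw [toEnd_apply]
    show (g.1.1 : Matrix ι ι F) *ᵥ _ ∈ _
    rw [hgN]
    exact ⟨_, rfl⟩

/-- involutions of type `a_m` in `Ω`: conjugacy under `Ω` is detected by the parity of the
dimension of the intersection of the images -/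
theorem omega_conj_am_iff (hQ : (polarBilin Q).Nondegenerate)
    (hex : Fintype.card F ≠ 2 ∨ Fintype.card ι ≠ 4) {m : ℕ} (hcard : Fintype.card ι = 2 * m)
    {t s : ↥(Cfsg.isometryGroup F (⇑Q))} (htO : t ∈ Cfsg.Omega F (⇑Q)) (hconj : IsConj t s)
    (h : ((t.1.1 : Matrix ι ι F) - 1).rank = m ∧
      ∀ v : ι → F, Q (v + (t.1.1 : Matrix ι ι F) *ᵥ v) = 0) :
    (∃ g ∈ Cfsg.Omega F (⇑Q), g * t * g⁻¹ = s) ↔
      Even (finrank F ↥(LinearMap.range (Nmap Q t) ⊓ LinearMap.range (Nmap Q s))) := by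
  have hU : IsTS Q (LinearMap.range (Nmap Q t)) := by
    rintro _ ⟨x, rfl⟩
    rw [Nmap_eq_add]
    exact h.2 x
  have hrk : finrank F (LinearMap.range (Nmap Q t)) = m := h.1
  have hU2 : 2 * finrank F ↥(LinearMap.range (Nmap Q t)) = finrank F (ι → F) := by
    rw [hrk, Module.finrank_fintype_fun_eq_card, hcard]
  have hmeven : Even m := by
    have := (mem_Omega_iff_even_rank_sub_one Q hQ hex t).1 htO
    rw [h.1] at this
    exact this
  constructor
  · rintro ⟨g, hgO, hg⟩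
    rw [range_Nmap_conj Q hg]
    have := Cfsg.Agent.Helper17.OmegaElts.finrank_inf_map_of_mem_Omega Q hQ hex hU hU2 hgO
    rw [hrk] at this
    rw [Nat.even_iff] at hmeven ⊢
    omega
  · intro hev
    obtain ⟨g, hg⟩ := isConj_iff.1 hconj
    refine ⟨g, ?_, hg⟩
    rw [range_Nmap_conj Q hg] at hev
    obtain ⟨vs, hvs, rfl⟩ := exists_prod_tG Q hQ hex g
    obtain ⟨-, hpar⟩ := finrank_inf_map_prod_refl_add_length Q hQ hU hU2 vs hvs
    rw [toEnd_prod_tG Q vs hvs] at hev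
    show _ ∈ commutator ↥(Cfsg.isometryGroup F (⇑Q))
    rw [prod_tG_mem_commutator_iff Q hQ hex vs hvs]
    rw [hrk] at hpar
    rw [Nat.even_iff] at hmeven hev ⊢
    omega

end plus

section minus

variable {F : Type*} [Field F] [Fintype F] {k : ℕ}

/-- the standard totally singular subspace of the elliptic form -/
def minusU (k : ℕ) (F : Type*) [Field F] : Submodule F ((Fin k ⊕ Fin k) ⊕ Fin 2 → F) where
  carrier := {v | (∀ i, v (Sum.inl (Sum.inr i)) = 0) ∧ ∀ j, v (Sum.inr j) = 0}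
  add_mem' {a b} ha hb := by
    refine ⟨fun i => ?_, fun j => ?_⟩
    · rw [Pi.add_apply, ha.1, hb.1, add_zero]
    · rw [Pi.add_apply, ha.2, hb.2, add_zero]
  zero_mem' := ⟨fun _ => rfl, fun _ => rfl⟩
  smul_mem' c a ha := by
    refine ⟨fun i => ?_, fun j => ?_⟩
    · rw [Pi.smul_apply, ha.1, smul_zero]
    · rw [Pi.smul_apply, ha.2, smul_zero]

omit [Fintype F] in
theorem minusQ_apply (a b : F) (v : (Fin k ⊕ Fin k) ⊕ Fin 2 → F) :
    minusQ k a b v = (∑ i : Fin k, v (Sum.inl (Sum.inl i)) * v (Sum.inl (Sum.inr i)))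
      + (v (Sum.inr 0) ^ 2 + a * v (Sum.inr 0) * v (Sum.inr 1) + b * v (Sum.inr 1) ^ 2) :=
  Cfsg.Agent.Helper13.matQ_minusMat a b v

omit [Fintype F] in
theorem isTS_minusU (a b : F) : IsTS (minusQ k a b) (minusU k F) := by
  intro v hv
  rw [minusQ_apply, hv.2 0, hv.2 1]
  have : ∑ i : Fin k, v (Sum.inl (Sum.inl i)) * v (Sum.inl (Sum.inr i)) = 0 := by
    apply Finset.sum_eq_zero
    intro i _
    rw [hv.1 i, mul_zero]
  rw [this]
  ring

omit [Fintype F] in
theorem finrank_minusU_le : finrank F (minusU k F) ≤ k := by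
  have h := LinearMap.finrank_le_finrank_of_injective
    (f := (LinearMap.funLeft F F (fun i : Fin k => (Sum.inl (Sum.inl i) :
      (Fin k ⊕ Fin k) ⊕ Fin 2))) ∘ₗ (minusU k F).subtype) (by
      intro x y hxy
      apply Subtype.ext
      funext c
      have h1 : ∀ i : Fin k, (x : (Fin k ⊕ Fin k) ⊕ Fin 2 → F) (Sum.inl (Sum.inl i))
          = (y : (Fin k ⊕ Fin k) ⊕ Fin 2 → F) (Sum.inl (Sum.inl i)) := fun i => congrFun hxy i
      rcases c with (i | i) | j
      · exact h1 i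
      · rw [x.2.1 i, y.2.1 i]
      · rw [x.2.2 j, y.2.2 j])
  rw [Module.finrank_fintype_fun_eq_card, Fintype.card_fin] at h
  exact h

omit [Fintype F] in
theorem minusU_maximal (a b : F)
    (hab : ∀ z₁ z₂ : F, z₁ ^ 2 + a * z₁ * z₂ + b * z₂ ^ 2 = 0 → z₁ = 0 ∧ z₂ = 0)
    (W : Submodule F ((Fin k ⊕ Fin k) ⊕ Fin 2 → F)) (hle : minusU k F ≤ W)
    (hW : IsTS (minusQ k a b) W) : W = minusU k F := by
  apply le_antisymm _ hle
  intro w hw
  have h1 : ∀ i, w (Sum.inl (Sum.inr i)) = 0 := by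
    intro i
    have he : (Pi.single (Sum.inl (Sum.inl i)) (1 : F) : (Fin k ⊕ Fin k) ⊕ Fin 2 → F)
        ∈ minusU k F := by
      refine ⟨fun i' => ?_, fun j => ?_⟩
      · rw [Pi.single_apply, if_neg (by simp)]
      · rw [Pi.single_apply, if_neg (by simp)]
    have h2 := hW _ (W.add_mem (hle he) hw)
    have h3 := hW w hw
    rw [minusQ_apply] at h2 h3
    simp only [Pi.add_apply] at h2
    have e1 : ∀ j : Fin 2, (Pi.single (Sum.inl (Sum.inl i)) (1 : F) :
        (Fin k ⊕ Fin k) ⊕ Fin 2 → F) (Sum.inr j) = 0 := fun j => by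
      rw [Pi.single_apply, if_neg (by simp)]
    have e2 : ∀ i' : Fin k, (Pi.single (Sum.inl (Sum.inl i)) (1 : F) :
        (Fin k ⊕ Fin k) ⊕ Fin 2 → F) (Sum.inl (Sum.inr i')) = 0 := fun i' => by
      rw [Pi.single_apply, if_neg (by simp)]
    rw [e1, e1] at h2
    simp only [e2, zero_add] at h2
    have e3 : ∑ x : Fin k, ((Pi.single (Sum.inl (Sum.inl i)) (1 : F) :
        (Fin k ⊕ Fin k) ⊕ Fin 2 → F) (Sum.inl (Sum.inl x)) + w (Sum.inl (Sum.inl x))) *
          w (Sum.inl (Sum.inr x))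
        = w (Sum.inl (Sum.inr i)) +
          ∑ x : Fin k, w (Sum.inl (Sum.inl x)) * w (Sum.inl (Sum.inr x)) := by
      simp only [add_mul, Finset.sum_add_distrib]
      congr 1
      rw [Finset.sum_eq_single i]
      · rw [Pi.single_eq_same, one_mul]
      · intro j _ hji
        rw [Pi.single_apply, if_neg (by simpa using hji), zero_mul]
      · intro h
        exact absurd (Finset.mem_univ i) h
    rw [e3] at h2
    linear_combination h2 - h3
  have h3 := hW w hw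
  rw [minusQ_apply] at h3
  have h4 : ∑ i : Fin k, w (Sum.inl (Sum.inl i)) * w (Sum.inl (Sum.inr i)) = 0 := by
    apply Finset.sum_eq_zero
    intro i _
    rw [h1 i, mul_zero]
  rw [h4, zero_add] at h3
  obtain ⟨h5, h6⟩ := hab _ _ h3
  refine ⟨h1, fun j => ?_⟩
  fin_cases j
  · exact h5
  · exact h6

/-- the Witt index of the elliptic form -/
theorem finrank_le_of_isTS_minus (a b : F)
    (hab : ∀ z₁ z₂ : F, z₁ ^ 2 + a * z₁ * z₂ + b * z₂ ^ 2 = 0 → z₁ = 0 ∧ z₂ = 0)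
    {W : Submodule F ((Fin k ⊕ Fin k) ⊕ Fin 2 → F)} (hW : IsTS (minusQ k a b) W) :
    finrank F W ≤ k := by
  obtain ⟨W', hle, hts, hmax⟩ := exists_maximal_isTS (minusQ k a b) hW
  have h := Cfsg.Agent.S0760.result (minusQ k a b) (minusQ_nondeg a b hab) W' (minusU k F)
    hts (isTS_minusU a b) hmax (fun W'' h1 h2 => minusU_maximal a b hab W'' h1 h2)
  have h1 := Submodule.finrank_mono hle
  have h2 := finrank_minusU_le (F := F) (k := k)
  omega

end minus

end Cfsg.Agent.Helper11.OrthInv
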