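import Mathlib
import Cfsg.Agent.Lib.Helper11.OrthInvOmega

set_option autoImplicit false

/-! Involutions of orthogonal groups in characteristic two: construction, invariants and
the number of conjugacy classes. -/

namespace Cfsg.Agent.Helper11.OrthInv

open QuadraticMap Matrix Module
open Cfsg.Agent.Helper17.Spinor Cfsg.Agent.Helper11.SympInv Cfsg.Agent.Helper28.IsoFrames

section build

variable {F : Type*} [Field F] [CharP F 2] {ι : Type} [Fintype ι] [DecidableEq ι]
  (Q : QuadraticForm F (ι → F))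

omit [CharP F 2] [Fintype ι] [DecidableEq ι] in
theorem Q_sum_orth {κ : Type*} (z : κ → (ι → F)) (hz : ∀ a b, polar Q (z a) (z b) = 0)
    (c : κ → F) (s : Finset κ) :
    Q (∑ a ∈ s, c a • z a) = ∑ a ∈ s, c a ^ 2 * Q (z a) := by
  classical
  induction s using Finset.induction_on with
  | empty => simp
  | insert a s ha ih =>
    rw [Finset.sum_insert ha, Finset.sum_insert ha, QuadraticMap.map_add Q, ih,
      QuadraticMap.map_smul]
    have h0 : polar Q (c a • z a) (∑ b ∈ s, c b • z b) = 0 := by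
      rw [← polarBilin_apply_apply, map_sum]
      apply Finset.sum_eq_zero
      intro b _
      rw [map_smul, map_smul, LinearMap.smul_apply, polarBilin_apply_apply, hz, smul_zero,
        smul_zero]
    rw [h0, add_zero, smul_eq_mul, pow_two]

/-- the involution `1 + N` -/
noncomputable def invOfN (N : (ι → F) →ₗ[F] (ι → F)) (hN : IsSA (polarBilin Q) N)
    (hQN : ∀ x, Q (N x) = polar Q x (N x)) : ↥(Cfsg.isometryGroup F (⇑Q)) :=
  Cfsg.Agent.Helper28.Siegel.ofEnd Q (1 + N) (1 + N)
    (by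
      apply LinearMap.ext
      intro x
      rw [Module.End.mul_apply, LinearMap.add_apply, LinearMap.add_apply, Module.End.one_apply,
        Module.End.one_apply, map_add, hN.sq]
      have := vadd_self F (N x)
      rw [add_zero, add_assoc, this, add_zero])
    (by
      apply LinearMap.ext
      intro x
      rw [Module.End.mul_apply, LinearMap.add_apply, LinearMap.add_apply, Module.End.one_apply,
        Module.End.one_apply, map_add, hN.sq]
      have := vadd_self F (N x)
      rw [add_zero, add_assoc, this, add_zero])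
    (by
      intro x
      rw [LinearMap.add_apply, Module.End.one_apply, QuadraticMap.map_add Q, hQN]
      have : polar Q x (N x) + polar Q x (N x) = 0 := CharTwo.add_self_eq_zero _
      rw [add_assoc, this, add_zero])

theorem Nmap_invOfN (N : (ι → F) →ₗ[F] (ι → F)) (hN : IsSA (polarBilin Q) N)
    (hQN : ∀ x, Q (N x) = polar Q x (N x)) : Nmap Q (invOfN Q N hN hQN) = N := by
  apply LinearMap.ext
  intro x
  rw [Nmap_apply]
  have h1 : toEnd Q (invOfN Q N hN hQN) = 1 + N := Cfsg.Agent.Helper28.Siegel.toEnd_ofEnd Q _ _ _ _ _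
  have h2 : ((invOfN Q N hN hQN).1.1 : Matrix ι ι F) *ᵥ x = (1 + N) x := by
    rw [← h1]
    rfl
  rw [h2, LinearMap.add_apply, Module.End.one_apply, add_sub_cancel_left]

theorem invOfN_mul_self (N : (ι → F) →ₗ[F] (ι → F)) (hN : IsSA (polarBilin Q) N)
    (hQN : ∀ x, Q (N x) = polar Q x (N x)) : invOfN Q N hN hQN * invOfN Q N hN hQN = 1 := by
  apply toEnd_injective
  have h1 : toEnd Q (invOfN Q N hN hQN) = 1 + N := Cfsg.Agent.Helper28.Siegel.toEnd_ofEnd Q _ _ _ _ _
  rw [map_mul, h1, map_one]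
  apply LinearMap.ext
  intro x
  rw [Module.End.mul_apply, LinearMap.add_apply, LinearMap.add_apply, Module.End.one_apply,
    Module.End.one_apply, map_add, hN.sq]
  have := vadd_self F (N x)
  rw [add_zero, add_assoc, this, add_zero]

omit [Fintype ι] [DecidableEq ι] in
/-- the quadratic form on the image of a frame map, non-alternating case -/
theorem Q_Nfr {s : ℕ} {w : Fin s → (ι → F)} (hw : ∀ i j, polar Q (w i) (w j) = 0)
    (hQw : ∀ i, Q (w i) = 1) (x : ι → F) :
    Q (Nfr (polarBilin Q) w x) = polar Q x (Nfr (polarBilin Q) w x) := by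
  rw [← polarBilin_apply_apply, B_Nfr_self (polarBilin_isAlt Q), Nfr_apply,
    Q_sum_orth Q w hw (fun i => polarBilin Q (w i) x) Finset.univ]
  have : Fact (Nat.Prime 2) := ⟨Nat.prime_two⟩
  rw [sum_pow_char 2]
  apply Finset.sum_congr rfl
  intro i _
  rw [hQw, mul_one]

omit [DecidableEq ι] in
/-- the quadratic form on the image of a frame map, alternating case -/
theorem Q_Nfr2 {k : ℕ} {w w' : Fin k → (ι → F)}
    (hw : IsFrame (polarBilin Q) (k + k) (comb w w')) (hQw : ∀ i, Q (w i) = 0)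
    (hQw' : ∀ i, Q (w' i) = 0) (x : ι → F) :
    Q (Nfr2 (polarBilin Q) w w' x) = polar Q x (Nfr2 (polarBilin Q) w w' x) := by
  rw [← polarBilin_apply_apply, alt_Nfr2 (polarBilin_isAlt Q), Nfr2_apply,
    Finset.sum_add_distrib]
  obtain ⟨h1, h2, h3, h4⟩ := frame_comb hw
  have hz : ∀ a b : Fin k ⊕ Fin k, polar Q (Sum.elim w w' a) (Sum.elim w w' b) = 0 := by
    rintro (i | i) (j | j)
    · simpa using h1 i j
    · simpa using h2 i j
    · simpa using h3 i j
    · simpa using h4 i j
  have key := Q_sum_orth Q (Sum.elim w w') hz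
    (Sum.elim (fun i => polarBilin Q (w' i) x) (fun i => polarBilin Q (w i) x)) Finset.univ
  rw [Fintype.sum_sum_type, Fintype.sum_sum_type] at key
  simp only [Sum.elim_inl, Sum.elim_inr] at key
  rw [key]
  simp [hQw, hQw']

/-- involutions of non-alternating type from frames of vectors of norm one -/
theorem exists_nonalt_invol_orth (hQ : (polarBilin Q).Nondegenerate) {s : ℕ} (hs : s ≠ 0)
    {w : Fin s → (ι → F)} (hfw : IsFrame (polarBilin Q) s w) (hQw : ∀ i, Q (w i) = 1) :
    ∃ t : ↥(Cfsg.isometryGroup F (⇑Q)), t * t = 1 ∧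
      finrank F (LinearMap.range (Nmap Q t)) = s ∧ ∃ u, polarBilin Q u (Nmap Q t u) ≠ 0 := by
  have hw : ∀ i j, polar Q (w i) (w j) = 0 := fun i j => by
    rw [← polarBilin_apply_apply]; exact hfw.2 i j
  have hN := isSA_Nfr (polarBilin_isAlt Q) hfw
  refine ⟨invOfN Q _ hN (Q_Nfr Q hw hQw), invOfN_mul_self Q _ hN _, ?_, ?_⟩
  · rw [Nmap_invOfN]
    exact finrank_range_Nfr hQ hfw
  · rw [Nmap_invOfN]
    exact nonalt_Nfr (polarBilin_isAlt Q) hQ hfw hs

/-- involutions of alternating type from totally singular frames -/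
theorem exists_alt_invol_orth (hQ : (polarBilin Q).Nondegenerate) {k : ℕ}
    {w w' : Fin k → (ι → F)} (hfw : IsFrame (polarBilin Q) (k + k) (comb w w'))
    (hQw : ∀ i, Q (w i) = 0) (hQw' : ∀ i, Q (w' i) = 0) :
    ∃ t : ↥(Cfsg.isometryGroup F (⇑Q)), t * t = 1 ∧
      finrank F (LinearMap.range (Nmap Q t)) = k + k ∧ ∀ u, polarBilin Q u (Nmap Q t u) = 0 := by
  have hN := isSA_Nfr2 (polarBilin_isAlt Q) hfw
  refine ⟨invOfN Q _ hN (Q_Nfr2 Q hfw hQw hQw'), invOfN_mul_self Q _ hN _, ?_, ?_⟩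
  · rw [Nmap_invOfN]
    exact finrank_range_Nfr2 hQ hfw
  · rw [Nmap_invOfN]
    exact alt_Nfr2 (polarBilin_isAlt Q) w w'

end build

section conj

variable {F : Type*} [Field F] [Fintype F] [CharP F 2] {ι : Type} [Fintype ι] [DecidableEq ι]
  (Q : QuadraticForm F (ι → F))

omit [Fintype F] [CharP F 2] in
/-- rank and type are invariants of conjugacy -/
theorem invariants_of_conj {t s g : ↥(Cfsg.isometryGroup F (⇑Q))} (hg : g * t * g⁻¹ = s) :
    finrank F (LinearMap.range (Nmap Q s)) = finrank F (LinearMap.range (Nmap Q t)) ∧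
    ((∀ x, polarBilin Q x (Nmap Q t x) = 0) ↔ ∀ y, polarBilin Q y (Nmap Q s y) = 0) := by
  have hgt : g * t = s * g := by rw [← hg]; group
  have hmat : (g.1.1 : Matrix ι ι F) * t.1.1 = s.1.1 * g.1.1 :=
    congrArg (fun u : ↥(Cfsg.isometryGroup F (⇑Q)) => (u.1.1 : Matrix ι ι F)) hgt
  have hgN : ∀ x, (g.1.1 : Matrix ι ι F) *ᵥ (Nmap Q t x)
      = Nmap Q s ((g.1.1 : Matrix ι ι F) *ᵥ x) := by
    intro x
    rw [Nmap_apply, Nmap_apply, Matrix.mulVec_sub, Matrix.mulVec_mulVec, Matrix.mulVec_mulVec,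
      hmat]
  have hginv : ∀ y, (g.1.1 : Matrix ι ι F) *ᵥ ((g⁻¹.1.1 : Matrix ι ι F) *ᵥ y) = y := by
    intro y
    have : (g.1.1 : Matrix ι ι F) * g⁻¹.1.1 = 1 :=
      congrArg (fun u : ↥(Cfsg.isometryGroup F (⇑Q)) => (u.1.1 : Matrix ι ι F)) (mul_inv_cancel g)
    rw [Matrix.mulVec_mulVec, this, Matrix.one_mulVec]
  have hform : ∀ x, polarBilin Q ((g.1.1 : Matrix ι ι F) *ᵥ x)
      (Nmap Q s ((g.1.1 : Matrix ι ι F) *ᵥ x)) = polarBilin Q x (Nmap Q t x) := by
    intro x
    rw [← hgN, polarBilin_apply_apply, polarBilin_apply_apply, polar_mulVec]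
  refine ⟨?_, ?_, ?_⟩
  · show ((s.1.1 : Matrix ι ι F) - 1).rank = ((t.1.1 : Matrix ι ι F) - 1).rank
    have hdet : IsUnit (g.1.1 : Matrix ι ι F).det := Matrix.isUnits_det_units g.1
    have h1 : (g.1.1 : Matrix ι ι F) * ((t.1.1 : Matrix ι ι F) - 1) =
        ((s.1.1 : Matrix ι ι F) - 1) * g.1.1 := by
      rw [Matrix.mul_sub, Matrix.sub_mul, hmat, Matrix.mul_one, Matrix.one_mul]
    rw [← Matrix.rank_mul_eq_right_of_isUnit_det (g.1.1 : Matrix ι ι F)
      ((t.1.1 : Matrix ι ι F) - 1) hdet, h1,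
      Matrix.rank_mul_eq_left_of_isUnit_det (g.1.1 : Matrix ι ι F) _ hdet]
  · intro h y
    rw [← hginv y, hform]
    exact h _
  · intro h x
    rw [← hform]
    exact h _

/-- involutions with the same rank and type are conjugate in the orthogonal group -/
theorem isConj_of_rank_type (hQ : (polarBilin Q).Nondegenerate)
    (t s : ↥(Cfsg.isometryGroup F (⇑Q))) (ht : t * t = 1) (hs : s * s = 1)
    (hr : finrank F (LinearMap.range (Nmap Q s)) = finrank F (LinearMap.range (Nmap Q t)))
    (htype : (∀ x, polarBilin Q x (Nmap Q t x) = 0) ↔ ∀ y, polarBilin Q y (Nmap Q s y) = 0) :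
    IsConj t s := by
  have hA := polarBilin_isAlt Q
  have hNt := isSA_Nmap Q ht
  have hNs := isSA_Nmap Q hs
  obtain ⟨r, hrt⟩ : ∃ r, finrank F (LinearMap.range (Nmap Q t)) = r := ⟨_, rfl⟩
  have hrs : finrank F (LinearMap.range (Nmap Q s)) = r := by rw [hr, hrt]
  by_cases halt : ∀ x, polarBilin Q x (Nmap Q t x) = 0
  · have halts := htype.1 halt
    obtain ⟨k, hk, w, w', hw1, hw2⟩ := alt_decomp hA hQ r _ hNt hrt halt
    obtain ⟨k', hk', v, v', hv1, hv2⟩ := alt_decomp hA hQ r _ hNs hrs halts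
    have hkk : k' = k := by omega
    subst hkk
    have hfw := isFrame_alt hNt (hrt.trans hk) w w' hw1 hw2
    have hfv := isFrame_alt hNs (hrs.trans hk) v v' hv1 hv2
    have hmemw : ∀ j, comb w w' j ∈ LinearMap.range (Nmap Q t) := by
      intro j
      obtain ⟨a, rfl⟩ := finSumFinEquiv.surjective j
      rcases a with i | i
      · rw [comb_inl]; exact (hw1 i).1
      · rw [comb_inr]; exact (hw1 i).2
    have hmemv : ∀ j, comb v v' j ∈ LinearMap.range (Nmap Q s) := by
      intro j
      obtain ⟨a, rfl⟩ := finSumFinEquiv.surjective j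
      rcases a with i | i
      · rw [comb_inl]; exact (hv1 i).1
      · rw [comb_inr]; exact (hv1 i).2
    have hQw : ∀ j, Q (comb w w' j) = 0 := by
      intro j
      obtain ⟨x, hx⟩ := hmemw j
      rw [← hx, Q_Nmap, ← polarBilin_apply_apply, halt]
    have hQv : ∀ j, Q (comb v v' j) = 0 := by
      intro j
      obtain ⟨x, hx⟩ := hmemv j
      rw [← hx, Q_Nmap, ← polarBilin_apply_apply, halts]
    obtain ⟨h, hh⟩ := witt_mulVec Q hQ _ (comb w w') (comb v v') hfw.1 hfv.1
      (fun j => by rw [hQw, hQv]) (fun i j => by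
        rw [← polarBilin_apply_apply, ← polarBilin_apply_apply, hfw.2, hfv.2])
    apply isConj_of_intertwine Q t s h
    intro x
    rw [hw2, hv2, ← Matrix.mulVecLin_apply, map_sum]
    apply Finset.sum_congr rfl
    intro i _
    have hi : (h.1.1 : Matrix ι ι F) *ᵥ (w i) = v i := by
      have := hh (finSumFinEquiv (Sum.inl i))
      rwa [comb_inl, comb_inl] at this
    have hi' : (h.1.1 : Matrix ι ι F) *ᵥ (w' i) = v' i := by
      have := hh (finSumFinEquiv (Sum.inr i))
      rwa [comb_inr, comb_inr] at this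
    rw [map_add, map_smul, map_smul, Matrix.mulVecLin_apply, Matrix.mulVecLin_apply, hi, hi',
      ← hi, ← hi', polarBilin_apply_apply, polarBilin_apply_apply, polarBilin_apply_apply,
      polarBilin_apply_apply, polar_mulVec, polar_mulVec]
  · have hnas : ¬ ∀ y, polarBilin Q y (Nmap Q s y) = 0 := fun h => halt (htype.2 h)
    push Not at halt hnas
    obtain ⟨w, hw1, hw2⟩ := nonalt_decomp hA hQ exists_sqrt r _ hNt hrt (fun _ => halt)
    obtain ⟨v, hv1, hv2⟩ := nonalt_decomp hA hQ exists_sqrt r _ hNs hrs (fun _ => hnas)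
    have hfw := isFrame_nonalt hNt hrt w hw1 hw2
    have hfv := isFrame_nonalt hNs hrs v hv1 hv2
    have hNw : Nfr (polarBilin Q) w = Nmap Q t := by
      apply LinearMap.ext
      intro y
      rw [Nfr_apply, hw2]
    have hNv : Nfr (polarBilin Q) v = Nmap Q s := by
      apply LinearMap.ext
      intro y
      rw [Nfr_apply, hv2]
    obtain ⟨h, hh⟩ := witt_mulVec Q hQ r w v hfw.1 hfv.1
      (fun j => by rw [Q_frame_nonalt Q hQ hfw hNw, Q_frame_nonalt Q hQ hfv hNv]) (fun i j => by
        rw [← polarBilin_apply_apply, ← polarBilin_apply_apply, hfw.2, hfv.2])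
    apply isConj_of_intertwine Q t s h
    intro x
    rw [hw2, hv2, ← Matrix.mulVecLin_apply, map_sum]
    apply Finset.sum_congr rfl
    intro i _
    rw [map_smul, Matrix.mulVecLin_apply, hh i, ← hh i, polarBilin_apply_apply,
      polarBilin_apply_apply, polar_mulVec]

omit [Fintype F] [CharP F 2] in
theorem orderOf_two_of_sq {g : ↥(Cfsg.isometryGroup F (⇑Q))} (hgg : g * g = 1)
    (hr : 1 ≤ finrank F (LinearMap.range (Nmap Q g))) : orderOf g = 2 := by
  apply orderOf_eq_prime
  · rw [pow_two]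
    exact hgg
  · intro h
    have h0 : Nmap Q g = 0 := by
      apply LinearMap.ext
      intro x
      rw [Nmap_apply, h]
      show (1 : Matrix ι ι F) *ᵥ x - x = 0
      rw [Matrix.one_mulVec, sub_self]
    rw [h0, LinearMap.range_zero, finrank_bot] at hr
    omega

omit [Fintype F] [CharP F 2] in
theorem rank_pos_of_ne_one {g : ↥(Cfsg.isometryGroup F (⇑Q))} (hg : g ≠ 1) :
    1 ≤ finrank F (LinearMap.range (Nmap Q g)) := by
  by_contra h
  have h0 : finrank F (LinearMap.range (Nmap Q g)) = 0 := by omega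
  rw [Submodule.finrank_eq_zero, LinearMap.range_eq_bot] at h0
  apply hg
  apply Subtype.ext
  apply Units.ext
  show (g.1.1 : Matrix ι ι F) = 1
  rw [Matrix.ext_iff_mulVec]
  intro x
  have := LinearMap.congr_fun h0 x
  rw [Nmap_apply, LinearMap.zero_apply, sub_eq_zero] at this
  rw [this, Matrix.one_mulVec]

omit [Fintype F] in
theorem rank_le_half {m : ℕ} (hcard : Fintype.card ι = 2 * m)
    {g : ↥(Cfsg.isometryGroup F (⇑Q))} (hgg : g * g = 1) :
    finrank F (LinearMap.range (Nmap Q g)) ≤ m := by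
  have h1 := LinearMap.finrank_range_add_finrank_ker (Nmap Q g)
  have h2 := Submodule.finrank_mono (range_le_ker Q hgg)
  rw [Module.finrank_fintype_fun_eq_card, hcard] at h1
  omega

omit [Fintype F] in
theorem isTS_range_of_alt {g : ↥(Cfsg.isometryGroup F (⇑Q))}
    (halt : ∀ x, polarBilin Q x (Nmap Q g x) = 0) : IsTS Q (LinearMap.range (Nmap Q g)) := by
  rintro _ ⟨x, rfl⟩
  rw [Q_Nmap, ← polarBilin_apply_apply, halt]

omit [Fintype F] [CharP F 2] [Fintype ι] [DecidableEq ι] in
theorem isFrame_castLE {n s : ℕ} (h : s ≤ n) {w : Fin n → (ι → F)}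
    (hw : IsFrame (polarBilin Q) n w) : IsFrame (polarBilin Q) s (w ∘ Fin.castLE h) :=
  ⟨hw.1.comp _ (Fin.castLE_injective h), fun _ _ => hw.2 _ _⟩

omit [Fintype F] [CharP F 2] [Fintype ι] [DecidableEq ι] in
theorem comb_split {k : ℕ} (z : Fin (k + k) → (ι → F)) :
    comb (fun i => z (finSumFinEquiv (Sum.inl i))) (fun i => z (finSumFinEquiv (Sum.inr i))) = z := by
  funext a
  obtain ⟨b, rfl⟩ := finSumFinEquiv.surjective a
  rcases b with i | i
  · rw [comb_inl]
  · rw [comb_inr]

omit [Fintype F] in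
/-- the representatives of the classes of involutions -/
theorem exists_reps (hQ : (polarBilin Q).Nondegenerate) {m ν : ℕ}
    (w₀ : Fin m → (ι → F)) (hw₀ : IsFrame (polarBilin Q) m w₀) (hQw₀ : ∀ i, Q (w₀ i) = 1)
    (z₀ : Fin ν → (ι → F)) (hz₀ : IsFrame (polarBilin Q) ν z₀) (hQz₀ : ∀ a, Q (z₀ a) = 0) :
    (∀ i : Fin m, ∃ g : ↥(Cfsg.isometryGroup F (⇑Q)), g * g = 1 ∧
      finrank F (LinearMap.range (Nmap Q g)) = (i : ℕ) + 1 ∧
      ∃ u, polarBilin Q u (Nmap Q g u) ≠ 0) ∧
    (∀ j : Fin (ν / 2), ∃ g : ↥(Cfsg.isometryGroup F (⇑Q)), g * g = 1 ∧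
      finrank F (LinearMap.range (Nmap Q g)) = ((j : ℕ) + 1) + ((j : ℕ) + 1) ∧
      ∀ u, polarBilin Q u (Nmap Q g u) = 0) := by
  constructor
  · intro i
    have h : (i : ℕ) + 1 ≤ m := i.2
    exact exists_nonalt_invol_orth Q hQ (Nat.succ_ne_zero _) (isFrame_castLE Q h hw₀)
      (fun a => hQw₀ _)
  · intro j
    have h : ((j : ℕ) + 1) + ((j : ℕ) + 1) ≤ ν := by have := j.2; omega
    have hf := isFrame_castLE Q h hz₀
    rw [← comb_split (z₀ ∘ Fin.castLE h)] at hf
    exact exists_alt_invol_orth Q hQ hf (fun a => hQz₀ _) (fun a => hQz₀ _)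

/-- the number of classes of involutions in the orthogonal group -/
theorem card_invol_classes (hQ : (polarBilin Q).Nondegenerate) {m ν : ℕ}
    (hcard : Fintype.card ι = 2 * m)
    (hν : ∀ W : Submodule F (ι → F), IsTS Q W → finrank F W ≤ ν)
    (w₀ : Fin m → (ι → F)) (hw₀ : IsFrame (polarBilin Q) m w₀) (hQw₀ : ∀ i, Q (w₀ i) = 1)
    (z₀ : Fin ν → (ι → F)) (hz₀ : IsFrame (polarBilin Q) ν z₀) (hQz₀ : ∀ a, Q (z₀ a) = 0) :
    Nat.card {C : ConjClasses ↥(Cfsg.isometryGroup F (⇑Q)) //
      ∃ g : ↥(Cfsg.isometryGroup F (⇑Q)), ConjClasses.mk g = C ∧ orderOf g = 2} = m + ν / 2 := by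
  classical
  obtain ⟨hex1, hex2⟩ := exists_reps Q hQ w₀ hw₀ hQw₀ z₀ hz₀ hQz₀
  choose g1 hg1a hg1b hg1c using hex1
  choose g2 hg2a hg2b hg2c using hex2
  let ψ : Fin m ⊕ Fin (ν / 2) → {C : ConjClasses ↥(Cfsg.isometryGroup F (⇑Q)) //
      ∃ g : ↥(Cfsg.isometryGroup F (⇑Q)), ConjClasses.mk g = C ∧ orderOf g = 2} :=
    fun t => match t with
    | Sum.inl i => ⟨ConjClasses.mk (g1 i), g1 i, rfl,
        orderOf_two_of_sq Q (hg1a i) (by rw [hg1b i]; omega)⟩
    | Sum.inr j => ⟨ConjClasses.mk (g2 j), g2 j, rfl,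
        orderOf_two_of_sq Q (hg2a j) (by rw [hg2b j]; omega)⟩
  have hconj : ∀ a b : ↥(Cfsg.isometryGroup F (⇑Q)), ConjClasses.mk a = ConjClasses.mk b →
      ∃ c : ↥(Cfsg.isometryGroup F (⇑Q)), c * a * c⁻¹ = b := by
    intro a b h
    rw [ConjClasses.mk_eq_mk_iff_isConj, isConj_iff] at h
    exact h
  have hψ : Function.Bijective ψ := by
    constructor
    · rintro (i | j) (i' | j') h
      · have h1 := congrArg Subtype.val h
        obtain ⟨c, hc⟩ := hconj _ _ h1
        have := (invariants_of_conj Q hc).1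
        rw [hg1b, hg1b] at this
        congr 1
        exact Fin.ext (by omega)
      · exfalso
        have h1 := congrArg Subtype.val h
        obtain ⟨c, hc⟩ := hconj _ _ h1
        obtain ⟨u, hu⟩ := hg1c i
        exact hu ((invariants_of_conj Q hc).2.2 (hg2c j') u)
      · exfalso
        have h1 := congrArg Subtype.val h
        obtain ⟨c, hc⟩ := hconj _ _ h1
        obtain ⟨u, hu⟩ := hg1c i'
        exact hu ((invariants_of_conj Q hc).2.1 (hg2c j) u)
      · have h1 := congrArg Subtype.val h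
        obtain ⟨c, hc⟩ := hconj _ _ h1
        have := (invariants_of_conj Q hc).1
        rw [hg2b, hg2b] at this
        congr 1
        exact Fin.ext (by omega)
    · rintro ⟨C, g, rfl, hg⟩
      have hgg : g * g = 1 := by
        have := pow_orderOf_eq_one g
        rw [hg, pow_two] at this
        exact this
      have hg1 : g ≠ 1 := by
        intro h
        rw [h, orderOf_one] at hg
        omega
      have hr1 := rank_pos_of_ne_one Q hg1
      have hrm := rank_le_half Q hcard hgg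
      by_cases halt : ∀ v, polarBilin Q v (Nmap Q g v) = 0
      · obtain ⟨k, hk, -⟩ := alt_decomp (polarBilin_isAlt Q) hQ _ _ (isSA_Nmap Q hgg) rfl halt
        have hk2 := hν _ (isTS_range_of_alt Q halt)
        have hk1 : 1 ≤ k := by omega
        have hkm : k - 1 < ν / 2 := by omega
        refine ⟨Sum.inr ⟨k - 1, hkm⟩, ?_⟩
        apply Subtype.ext
        show ConjClasses.mk (g2 ⟨k - 1, hkm⟩) = ConjClasses.mk g
        rw [ConjClasses.mk_eq_mk_iff_isConj]
        apply isConj_of_rank_type Q hQ _ _ (hg2a _) hgg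
        · rw [hg2b, hk]
          show 2 * k = k - 1 + 1 + (k - 1 + 1)
          omega
        · exact ⟨fun _ => halt, fun _ => hg2c _⟩
      · have hrm' : finrank F (LinearMap.range (Nmap Q g)) - 1 < m := by omega
        refine ⟨Sum.inl ⟨_, hrm'⟩, ?_⟩
        apply Subtype.ext
        show ConjClasses.mk (g1 ⟨_, hrm'⟩) = ConjClasses.mk g
        rw [ConjClasses.mk_eq_mk_iff_isConj]
        apply isConj_of_rank_type Q hQ _ _ (hg1a _) hgg
        · rw [hg1b]
          show _ = finrank F (LinearMap.range (Nmap Q g)) - 1 + 1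
          omega
        · constructor
          · intro h
            obtain ⟨u, hu⟩ := hg1c ⟨_, hrm'⟩
            exact absurd (h u) hu
          · intro h
            exact absurd h halt
  rw [← Nat.card_congr (Equiv.ofBijective ψ hψ), Nat.card_eq_fintype_card, Fintype.card_sum,
    Fintype.card_fin, Fintype.card_fin]

end conj

end Cfsg.Agent.Helper11.OrthInv
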