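import Mathlib
import Cfsg.Agent.Lib.Helper11.OrthInvClasses

set_option autoImplicit false

/-! Standard frames of the hyperbolic and elliptic quadratic forms. -/

namespace Cfsg.Agent.Helper11.OrthInv

open QuadraticMap Matrix Module
open Cfsg.Agent.Helper17.Spinor Cfsg.Agent.Helper11.SympInv Cfsg.Agent.Helper28.IsoFrames

section plus

variable {F : Type*} [Field F] {m : ℕ}

/-- the vectors `e_i + f_i` -/
def plusW (m : ℕ) (F : Type*) [Field F] (i : Fin m) : Fin m ⊕ Fin m → F :=
  fun c => Sum.elim (fun j => if j = i then 1 else 0) (fun j => if j = i then 1 else 0) c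

/-- the vectors `e_i` -/
def plusE (m : ℕ) (F : Type*) [Field F] (i : Fin m) : Fin m ⊕ Fin m → F :=
  fun c => Sum.elim (fun j => if j = i then 1 else 0) (fun _ => 0) c

theorem plusQ_plusW (i : Fin m) : plusQ m F (plusW m F i) = 1 := by
  rw [plusQ_apply]
  simp [plusW]

theorem plusQ_plusE (i : Fin m) : plusQ m F (plusE m F i) = 0 := by
  rw [plusQ_apply]
  simp [plusE]

theorem polar_plusW [CharP F 2] (i j : Fin m) :
    polar (plusQ m F) (plusW m F i) (plusW m F j) = 0 := by
  rw [polar_plusQ]
  simp only [plusW, Sum.elim_inl, Sum.elim_inr]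
  rw [Finset.sum_add_distrib]
  simp only [ite_mul, one_mul, zero_mul, Finset.sum_ite_eq', Finset.mem_univ, if_true]
  by_cases h : i = j
  · subst h
    simp only [if_true]
    exact CharTwo.add_self_eq_zero _
  · rw [if_neg h, if_neg (Ne.symm h), add_zero]

theorem polar_plusE (i j : Fin m) :
    polar (plusQ m F) (plusE m F i) (plusE m F j) = 0 := by
  rw [polar_plusQ]
  simp [plusE]

theorem linearIndependent_plusW : LinearIndependent F (plusW m F) := by
  rw [Fintype.linearIndependent_iff]
  intro c hc j
  have := congrFun hc (Sum.inl j)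
  simpa [plusW, Finset.sum_apply] using this

theorem linearIndependent_plusE : LinearIndependent F (plusE m F) := by
  rw [Fintype.linearIndependent_iff]
  intro c hc j
  have := congrFun hc (Sum.inl j)
  simpa [plusE, Finset.sum_apply] using this

end plus

section minus

variable {F : Type*} [Field F] {k : ℕ}

theorem polar_minusQ (a b : F) (u v : (Fin k ⊕ Fin k) ⊕ Fin 2 → F) :
    polar (minusQ k a b) u v =
      ∑ i : Fin k, (u (Sum.inl (Sum.inl i)) * v (Sum.inl (Sum.inr i)) +
        v (Sum.inl (Sum.inl i)) * u (Sum.inl (Sum.inr i))) +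
      (2 * u (Sum.inr 0) * v (Sum.inr 0) + a * (u (Sum.inr 0) * v (Sum.inr 1) +
        v (Sum.inr 0) * u (Sum.inr 1)) + 2 * b * u (Sum.inr 1) * v (Sum.inr 1)) := by
  unfold polar
  rw [minusQ_apply, minusQ_apply, minusQ_apply]
  simp only [Pi.add_apply]
  have hsum : ∑ i : Fin k, (u (Sum.inl (Sum.inl i)) + v (Sum.inl (Sum.inl i))) *
      (u (Sum.inl (Sum.inr i)) + v (Sum.inl (Sum.inr i)))
      = ∑ i : Fin k, u (Sum.inl (Sum.inl i)) * u (Sum.inl (Sum.inr i)) +
        ∑ i : Fin k, v (Sum.inl (Sum.inl i)) * v (Sum.inl (Sum.inr i)) +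
        ∑ i : Fin k, (u (Sum.inl (Sum.inl i)) * v (Sum.inl (Sum.inr i)) +
          v (Sum.inl (Sum.inl i)) * u (Sum.inl (Sum.inr i))) := by
    rw [← Finset.sum_add_distrib, ← Finset.sum_add_distrib]
    apply Finset.sum_congr rfl
    intro i _
    ring
  rw [hsum]
  ring

/-- the vectors `e_i + f_i` of the hyperbolic part -/
def minusEF (k : ℕ) (F : Type*) [Field F] (i : Fin k) : (Fin k ⊕ Fin k) ⊕ Fin 2 → F :=
  fun c => Sum.elim (Sum.elim (fun j => if j = i then 1 else 0) (fun j => if j = i then 1 else 0))
    (fun _ => 0) c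

/-- the first vector of the anisotropic part -/
def minusU0 (k : ℕ) (F : Type*) [Field F] : (Fin k ⊕ Fin k) ⊕ Fin 2 → F :=
  fun c => Sum.elim (fun _ => 0) (fun j => if j = 0 then 1 else 0) c

/-- a frame of `k + 1` vectors of norm one -/
def minusW (k : ℕ) (F : Type*) [Field F] : Fin (k + 1) → ((Fin k ⊕ Fin k) ⊕ Fin 2 → F) :=
  Fin.cons (minusU0 k F) (minusEF k F)

/-- the vectors `e_i` -/
def minusE (k : ℕ) (F : Type*) [Field F] (i : Fin k) : (Fin k ⊕ Fin k) ⊕ Fin 2 → F :=
  fun c => Sum.elim (Sum.elim (fun j => if j = i then 1 else 0) (fun _ => 0)) (fun _ => 0) c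

theorem minusQ_minusEF (a b : F) (i : Fin k) : minusQ k a b (minusEF k F i) = 1 := by
  rw [minusQ_apply]
  simp [minusEF]

theorem minusQ_minusU0 (a b : F) : minusQ k a b (minusU0 k F) = 1 := by
  rw [minusQ_apply]
  simp [minusU0]

theorem minusQ_minusE (a b : F) (i : Fin k) : minusQ k a b (minusE k F i) = 0 := by
  rw [minusQ_apply]
  simp [minusE]

theorem minusQ_minusW (a b : F) (i : Fin (k + 1)) : minusQ k a b (minusW k F i) = 1 := by
  induction i using Fin.cases with
  | zero => exact minusQ_minusU0 a b
  | succ i => exact minusQ_minusEF a b i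

theorem polar_minusE (a b : F) (i j : Fin k) :
    polar (minusQ k a b) (minusE k F i) (minusE k F j) = 0 := by
  rw [polar_minusQ]
  simp [minusE]

theorem polar_minusW [CharP F 2] (a b : F) (i j : Fin (k + 1)) :
    polar (minusQ k a b) (minusW k F i) (minusW k F j) = 0 := by
  have h2 : (2 : F) = 0 := CharTwo.two_eq_zero
  induction i using Fin.cases with
  | zero =>
    induction j using Fin.cases with
    | zero =>
      rw [polar_minusQ]
      simp [minusW, minusU0, h2]
    | succ j =>
      rw [polar_minusQ]
      simp [minusW, minusU0, minusEF]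
  | succ i =>
    induction j using Fin.cases with
    | zero =>
      rw [polar_minusQ]
      simp [minusW, minusU0, minusEF]
    | succ j =>
      rw [polar_minusQ]
      simp only [minusW, Fin.cons_succ, minusEF, Sum.elim_inl, Sum.elim_inr, mul_zero, add_zero]
      rw [Finset.sum_add_distrib]
      simp only [ite_mul, one_mul, zero_mul, Finset.sum_ite_eq', Finset.mem_univ, if_true]
      by_cases h : i = j
      · subst h
        simp only [if_true]
        exact CharTwo.add_self_eq_zero _
      · rw [if_neg h, if_neg (Ne.symm h), add_zero]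

theorem linearIndependent_minusE : LinearIndependent F (minusE k F) := by
  rw [Fintype.linearIndependent_iff]
  intro c hc j
  have := congrFun hc (Sum.inl (Sum.inl j))
  simpa [minusE, Finset.sum_apply] using this

theorem linearIndependent_minusW : LinearIndependent F (minusW k F) := by
  rw [Fintype.linearIndependent_iff]
  intro c hc j
  rw [Fin.sum_univ_succ] at hc
  induction j using Fin.cases with
  | zero =>
    have := congrFun hc (Sum.inr 0)
    simpa [minusW, minusU0, minusEF, Finset.sum_apply] using this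
  | succ j =>
    have := congrFun hc (Sum.inl (Sum.inl j))
    simpa [minusW, minusU0, minusEF, Finset.sum_apply] using this

end minus

end Cfsg.Agent.Helper11.OrthInv
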