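import Mathlib
import Cfsg.Agent.Lib.Helper11.OrthStdFrames

set_option autoImplicit false

/-! The number of conjugacy classes of involutions of `Ω` in characteristic two. -/

namespace Cfsg.Agent.Helper11.OrthInv

open QuadraticMap Matrix Module
open Cfsg.Agent.Helper17.Spinor Cfsg.Agent.Helper11.SympInv Cfsg.Agent.Helper28.IsoFrames

variable {F : Type*} [Field F] [Fintype F] [CharP F 2] {ι : Type} [Fintype ι] [DecidableEq ι]
  (Q : QuadraticForm F (ι → F))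

omit [Fintype F] in
theorem am_iff (t : ↥(Cfsg.isometryGroup F (⇑Q))) (m : ℕ) :
    (((t.1.1 : Matrix ι ι F) - 1).rank = m ∧
      ∀ v : ι → F, Q (v + (t.1.1 : Matrix ι ι F) *ᵥ v) = 0) ↔
    (finrank F (LinearMap.range (Nmap Q t)) = m ∧ ∀ x, polarBilin Q x (Nmap Q t x) = 0) := by
  have h : ∀ v : ι → F, Q (v + (t.1.1 : Matrix ι ι F) *ᵥ v) = polarBilin Q v (Nmap Q t v) := by
    intro v
    rw [← Nmap_eq_add, Q_Nmap, polarBilin_apply_apply]
  constructor
  · rintro ⟨h1, h2⟩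
    exact ⟨h1, fun x => by rw [← h]; exact h2 x⟩
  · rintro ⟨h1, h2⟩
    exact ⟨h1, fun x => by rw [h]; exact h2 x⟩

/-- a reflection moves an involution of type `a_m` to a different class of `Ω` -/
theorem not_omega_conj_refl (hQ : (polarBilin Q).Nondegenerate)
    (hex : Fintype.card F ≠ 2 ∨ Fintype.card ι ≠ 4) {m : ℕ} (hcard : Fintype.card ι = 2 * m)
    {t : ↥(Cfsg.isometryGroup F (⇑Q))} (htO : t ∈ Cfsg.Omega F (⇑Q))
    (ham : finrank F (LinearMap.range (Nmap Q t)) = m ∧ ∀ x, polarBilin Q x (Nmap Q t x) = 0)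
    {v : ι → F} (hv : Q v ≠ 0) :
    ¬ ∃ g ∈ Cfsg.Omega F (⇑Q), g * t * g⁻¹ = tG Q v * t * (tG Q v)⁻¹ := by
  have ham' := (am_iff Q t m).2 ham
  have hconj : IsConj t (tG Q v * t * (tG Q v)⁻¹) := isConj_iff.2 ⟨tG Q v, rfl⟩
  rw [omega_conj_am_iff Q hQ hex hcard htO hconj ham']
  have hU : IsTS Q (LinearMap.range (Nmap Q t)) := isTS_range_of_alt Q ham.2
  have hU2 : 2 * finrank F ↥(LinearMap.range (Nmap Q t)) = finrank F (ι → F) := by
    rw [ham.1, Module.finrank_fintype_fun_eq_card, hcard]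
  have hmeven : Even m := by
    have := (mem_Omega_iff_even_rank_sub_one Q hQ hex t).1 htO
    rw [ham'.1] at this
    exact this
  rw [range_Nmap_conj Q (rfl : tG Q v * t * (tG Q v)⁻¹ = _), toEnd_tG Q hv]
  obtain ⟨-, hpar⟩ := finrank_inf_map_prod_refl_add_length Q hQ hU hU2 [v] (by
    intro u hu
    rw [List.mem_singleton] at hu
    rw [hu]; exact hv)
  have hprod : ([v].map (refl Q)).prod = refl Q v := by
    rw [List.map_cons, List.map_nil, List.prod_cons, List.prod_nil, mul_one]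
  rw [hprod, List.length_singleton, ham.1] at hpar
  rw [Nat.even_iff] at hmeven ⊢
  omega

omit [Fintype F] [CharP F 2] in
/-- conjugacy under `Ω` from a fixed non-singular vector (abstract version) -/
theorem exists_Omega_conj'
    (hmul : ∀ g : ↥(Cfsg.isometryGroup F (⇑Q)), g ∉ Cfsg.Omega F (⇑Q) →
      ∀ v : ι → F, Q v ≠ 0 → g * tG Q v ∈ Cfsg.Omega F (⇑Q))
    {t s g : ↥(Cfsg.isometryGroup F (⇑Q))}
    (hg : g * t * g⁻¹ = s) {v : ι → F} (hv : Q v ≠ 0)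
    (htv : (t.1.1 : Matrix ι ι F) *ᵥ v = v) :
    ∃ g' ∈ Cfsg.Omega F (⇑Q), g' * t * g'⁻¹ = s := by
  by_cases hgO : g ∈ Cfsg.Omega F (⇑Q)
  · exact ⟨g, hgO, hg⟩
  · refine ⟨g * tG Q v, hmul g hgO v hv, ?_⟩
    have hc := tG_commute Q hv htv
    have h1 : tG Q v * t * (tG Q v)⁻¹ = t := by rw [hc, mul_assoc, mul_inv_cancel, mul_one]
    rw [← hg]
    calc g * tG Q v * t * (g * tG Q v)⁻¹ = g * (tG Q v * t * (tG Q v)⁻¹) * g⁻¹ := by group
      _ = g * t * g⁻¹ := by rw [h1]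

omit [Fintype F] in
/-- involutions not of type `a_m`: conjugacy in `O` implies conjugacy in `Ω` (abstract version) -/
theorem omega_conj_of_not_am' (hQ : (polarBilin Q).Nondegenerate)
    (hmul : ∀ g : ↥(Cfsg.isometryGroup F (⇑Q)), g ∉ Cfsg.Omega F (⇑Q) →
      ∀ v : ι → F, Q v ≠ 0 → g * tG Q v ∈ Cfsg.Omega F (⇑Q))
    {m : ℕ} (hcard : Fintype.card ι = 2 * m)
    {t s : ↥(Cfsg.isometryGroup F (⇑Q))} (ht : t * t = 1) (hconj : IsConj t s)
    (h : ¬ (finrank F (LinearMap.range (Nmap Q t)) = m ∧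
      ∀ x, polarBilin Q x (Nmap Q t x) = 0)) :
    ∃ g ∈ Cfsg.Omega F (⇑Q), g * t * g⁻¹ = s := by
  have hker : ¬ IsTS Q (LinearMap.ker (Nmap Q t)) := fun hts =>
    h ((am_iff Q t m).1 (type_of_isTS_ker Q hQ hcard ht hts))
  obtain ⟨v, hv, htv⟩ := exists_fixed_nonsingular Q hker
  obtain ⟨g, hg⟩ := isConj_iff.1 hconj
  exact exists_Omega_conj' Q hmul hg hv htv

/-- the number of classes of involutions in `Ω` -/
theorem card_invol_classes_Omega (hQ : (polarBilin Q).Nondegenerate) {m ν : ℕ} (hm : 1 ≤ m)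
    (hcard : Fintype.card ι = 2 * m) (hνm : ν ≤ m)
    (hOm : ∀ g : ↥(Cfsg.isometryGroup F (⇑Q)), g ∈ Cfsg.Omega F (⇑Q) ↔
      Even (finrank F (LinearMap.range (Nmap Q g))))
    (hmul : ∀ g : ↥(Cfsg.isometryGroup F (⇑Q)), g ∉ Cfsg.Omega F (⇑Q) →
      ∀ v : ι → F, Q v ≠ 0 → g * tG Q v ∈ Cfsg.Omega F (⇑Q))
    (hex : ν = m → Even m → (Fintype.card F ≠ 2 ∨ Fintype.card ι ≠ 4))
    (hν : ∀ W : Submodule F (ι → F), IsTS Q W → finrank F W ≤ ν)
    (w₀ : Fin m → (ι → F)) (hw₀ : IsFrame (polarBilin Q) m w₀) (hQw₀ : ∀ i, Q (w₀ i) = 1)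
    (z₀ : Fin ν → (ι → F)) (hz₀ : IsFrame (polarBilin Q) ν z₀) (hQz₀ : ∀ a, Q (z₀ a) = 0) :
    Nat.card {C : ConjClasses ↥(Cfsg.Omega F (⇑Q)) //
      ∃ g : ↥(Cfsg.Omega F (⇑Q)), ConjClasses.mk g = C ∧ orderOf g = 2} =
      m / 2 + ν / 2 + (if ν = m ∧ Even m then 1 else 0) := by
  classical
  obtain ⟨hex1, hex2⟩ := exists_reps Q hQ w₀ hw₀ hQw₀ z₀ hz₀ hQz₀
  choose g1 hg1a hg1b hg1c using hex1
  choose g2 hg2a hg2b hg2c using hex2
  have hr0 : Q (w₀ ⟨0, hm⟩) ≠ 0 := by rw [hQw₀]; exact one_ne_zero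
  obtain ⟨r, hr⟩ : ∃ r, r = tG Q (w₀ ⟨0, hm⟩) := ⟨_, rfl⟩
  have hrinv : r⁻¹ = r := by rw [hr]; exact tG_inv Q hr0
  have hnormal : (Cfsg.Omega F (⇑Q)).Normal := by
    show (commutator ↥(Cfsg.isometryGroup F (⇑Q))).Normal
    infer_instance
  have hi1 : ∀ i : Fin (m / 2), 2 * (i : ℕ) + 1 < m := fun i => by have := i.2; omega
  have hj3 : ν = m ∧ Even m → ν / 2 - 1 < ν / 2 := by
    rintro ⟨h1, k, hk⟩
    omega
  -- the invariants of the representatives
  let rk : Fin (m / 2) ⊕ Fin (ν / 2) ⊕ {x : Unit // ν = m ∧ Even m} → ℕ :=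
    Sum.elim (fun i => 2 * (i : ℕ) + 2) (Sum.elim (fun j => 2 * (j : ℕ) + 2) (fun _ => m))
  let isAlt : Fin (m / 2) ⊕ Fin (ν / 2) ⊕ {x : Unit // ν = m ∧ Even m} → Prop :=
    Sum.elim (fun _ => False) (fun _ => True)
  let rep : Fin (m / 2) ⊕ Fin (ν / 2) ⊕ {x : Unit // ν = m ∧ Even m} →
      ↥(Cfsg.isometryGroup F (⇑Q)) :=
    Sum.elim (fun i => g1 ⟨2 * (i : ℕ) + 1, hi1 i⟩)
      (Sum.elim (fun j => g2 j) (fun x => r * g2 ⟨ν / 2 - 1, hj3 x.2⟩ * r⁻¹))
  have hrep_sq : ∀ x, rep x * rep x = 1 := by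
    rintro (i | j | x)
    · exact hg1a _
    · exact hg2a _
    · show r * g2 ⟨ν / 2 - 1, hj3 x.2⟩ * r⁻¹ * (r * g2 ⟨ν / 2 - 1, hj3 x.2⟩ * r⁻¹) = 1
      have := hg2a ⟨ν / 2 - 1, hj3 x.2⟩
      calc r * g2 ⟨ν / 2 - 1, hj3 x.2⟩ * r⁻¹ * (r * g2 ⟨ν / 2 - 1, hj3 x.2⟩ * r⁻¹)
          = r * (g2 ⟨ν / 2 - 1, hj3 x.2⟩ * g2 ⟨ν / 2 - 1, hj3 x.2⟩) * r⁻¹ := by group
        _ = 1 := by rw [this]; group
  have hrep_rank : ∀ x, finrank F (LinearMap.range (Nmap Q (rep x))) = rk x := by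
    rintro (i | j | x)
    · show finrank F (LinearMap.range (Nmap Q (g1 ⟨2 * (i : ℕ) + 1, hi1 i⟩))) = 2 * (i : ℕ) + 2
      rw [hg1b]
    · show finrank F (LinearMap.range (Nmap Q (g2 j))) = 2 * (j : ℕ) + 2
      rw [hg2b]; omega
    · show finrank F (LinearMap.range (Nmap Q (r * g2 ⟨ν / 2 - 1, hj3 x.2⟩ * r⁻¹))) = m
      rw [(invariants_of_conj Q (rfl : r * g2 ⟨ν / 2 - 1, hj3 x.2⟩ * r⁻¹ = _)).1, hg2b]
      obtain ⟨h1, k, hk⟩ := x.2
      show ν / 2 - 1 + 1 + (ν / 2 - 1 + 1) = m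
      omega
  have hrep_alt : ∀ x, (∀ u, polarBilin Q u (Nmap Q (rep x) u) = 0) ↔ isAlt x := by
    rintro (i | j | x)
    · show (∀ u, polarBilin Q u (Nmap Q (g1 ⟨2 * (i : ℕ) + 1, hi1 i⟩) u) = 0) ↔ False
      constructor
      · intro h
        obtain ⟨u, hu⟩ := hg1c ⟨2 * (i : ℕ) + 1, hi1 i⟩
        exact hu (h u)
      · exact False.elim
    · show (∀ u, polarBilin Q u (Nmap Q (g2 j) u) = 0) ↔ True
      exact ⟨fun _ => trivial, fun _ => hg2c j⟩
    · show (∀ u, polarBilin Q u (Nmap Q (r * g2 ⟨ν / 2 - 1, hj3 x.2⟩ * r⁻¹) u) = 0) ↔ True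
      refine ⟨fun _ => trivial, fun _ => ?_⟩
      exact (invariants_of_conj Q (rfl : r * g2 ⟨ν / 2 - 1, hj3 x.2⟩ * r⁻¹ = _)).2.1 (hg2c _)
  have hrep_mem : ∀ x, rep x ∈ Cfsg.Omega F (⇑Q) := by
    intro x
    rw [hOm, hrep_rank]
    rcases x with i | j | x
    · exact ⟨(i : ℕ) + 1, by show 2 * (i : ℕ) + 2 = _; omega⟩
    · exact ⟨(j : ℕ) + 1, by show 2 * (j : ℕ) + 2 = _; omega⟩
    · exact x.2.2
  have hconjΩ : ∀ a b : ↥(Cfsg.Omega F (⇑Q)), ConjClasses.mk a = ConjClasses.mk b ↔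
      ∃ c ∈ Cfsg.Omega F (⇑Q), c * a.1 * c⁻¹ = b.1 := by
    intro a b
    rw [ConjClasses.mk_eq_mk_iff_isConj, isConj_iff]
    constructor
    · rintro ⟨c, hc⟩
      exact ⟨c.1, c.2, congrArg Subtype.val hc⟩
    · rintro ⟨c, hcO, hc⟩
      exact ⟨⟨c, hcO⟩, Subtype.ext hc⟩
  let ψ : Fin (m / 2) ⊕ Fin (ν / 2) ⊕ {x : Unit // ν = m ∧ Even m} →
      {C : ConjClasses ↥(Cfsg.Omega F (⇑Q)) //
        ∃ g : ↥(Cfsg.Omega F (⇑Q)), ConjClasses.mk g = C ∧ orderOf g = 2} :=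
    fun x => ⟨ConjClasses.mk ⟨rep x, hrep_mem x⟩, ⟨rep x, hrep_mem x⟩, rfl, by
      rw [← Subgroup.orderOf_coe]
      apply orderOf_two_of_sq Q (hrep_sq x)
      rw [hrep_rank]
      rcases x with i | j | x
      · show 1 ≤ 2 * (i : ℕ) + 2
        omega
      · show 1 ≤ 2 * (j : ℕ) + 2
        omega
      · exact hm⟩
  -- the last alternating representative and its twin
  have hlast : ∀ (j : Fin (ν / 2)) (x : {x : Unit // ν = m ∧ Even m}), rk (Sum.inr (Sum.inl j)) = m →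
      ¬ ∃ c ∈ Cfsg.Omega F (⇑Q), c * rep (Sum.inr (Sum.inl j)) * c⁻¹ = rep (Sum.inr (Sum.inr x)) := by
    intro j x hj
    have hj' : j = ⟨ν / 2 - 1, hj3 x.2⟩ := by
      apply Fin.ext
      have : 2 * (j : ℕ) + 2 = m := hj
      have := x.2.1
      show (j : ℕ) = ν / 2 - 1
      omega
    subst hj'
    show ¬ ∃ c ∈ Cfsg.Omega F (⇑Q), c * g2 ⟨ν / 2 - 1, hj3 x.2⟩ * c⁻¹
      = r * g2 ⟨ν / 2 - 1, hj3 x.2⟩ * r⁻¹
    rw [hr]
    apply not_omega_conj_refl Q hQ (hex x.2.1 x.2.2) hcard (hrep_mem (Sum.inr (Sum.inl _))) _ hr0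
    exact ⟨(hrep_rank (Sum.inr (Sum.inl _))).trans hj, hg2c _⟩
  have hψ : Function.Bijective ψ := by
    constructor
    · intro x y h
      have h1 := congrArg Subtype.val h
      obtain ⟨c, hcO, hc⟩ := (hconjΩ _ _).1 h1
      have hc' : c * rep x * c⁻¹ = rep y := hc
      have hinv := invariants_of_conj Q hc'
      have hrkxy : rk y = rk x := by rw [← hrep_rank, ← hrep_rank]; exact hinv.1
      have haltxy : isAlt x ↔ isAlt y := by rw [← hrep_alt, ← hrep_alt]; exact hinv.2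
      rcases x with i | j | x <;> rcases y with i' | j' | y
      · have : 2 * (i' : ℕ) + 2 = 2 * (i : ℕ) + 2 := hrkxy
        exact congrArg Sum.inl (Fin.ext (by omega))
      · exact absurd (haltxy.2 trivial) (fun h => h)
      · exact absurd (haltxy.2 trivial) (fun h => h)
      · exact absurd (haltxy.1 trivial) (fun h => h)
      · have : 2 * (j' : ℕ) + 2 = 2 * (j : ℕ) + 2 := hrkxy
        exact congrArg (fun t => Sum.inr (Sum.inl t)) (Fin.ext (by omega))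
      · exfalso
        have h2 : rk (Sum.inr (Sum.inl j)) = m := hrkxy.symm
        exact hlast j y h2 ⟨c, hcO, hc'⟩
      · exact absurd (haltxy.1 trivial) (fun h => h)
      · exfalso
        have h2 : rk (Sum.inr (Sum.inl j')) = m := hrkxy
        refine hlast j' x h2 ⟨c⁻¹, (Cfsg.Omega F (⇑Q)).inv_mem hcO, ?_⟩
        rw [← hc']
        group
      · exact congrArg (fun t => Sum.inr (Sum.inr t)) (Subsingleton.elim _ _)
    · rintro ⟨C, g, rfl, hg⟩
      have hg' : orderOf (g : ↥(Cfsg.isometryGroup F (⇑Q))) = 2 := by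
        rw [Subgroup.orderOf_coe]; exact hg
      have hgg : g.1 * g.1 = 1 := by
        have := pow_orderOf_eq_one g.1
        rw [hg', pow_two] at this
        exact this
      have hg1 : g.1 ≠ 1 := by
        intro h
        rw [h, orderOf_one] at hg'
        omega
      have hr1 := rank_pos_of_ne_one Q hg1
      have hrm := rank_le_half Q hcard hgg
      have hev : Even (finrank F (LinearMap.range (Nmap Q g.1))) := (hOm g.1).1 g.2
      obtain ⟨k, hk⟩ := hev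
      -- reduction: it suffices to find `x` with `rep x` conjugate under `Ω`
      have key : (∃ x, ∃ c ∈ Cfsg.Omega F (⇑Q), c * rep x * c⁻¹ = g.1) →
          ∃ a, ψ a = ⟨ConjClasses.mk g, g, rfl, hg⟩ := by
        rintro ⟨x, c, hcO, hc⟩
        refine ⟨x, ?_⟩
        apply Subtype.ext
        show ConjClasses.mk (⟨rep x, hrep_mem x⟩ : ↥(Cfsg.Omega F (⇑Q))) = ConjClasses.mk g
        rw [hconjΩ]
        exact ⟨c, hcO, hc⟩
      apply key
      by_cases halt : ∀ v, polarBilin Q v (Nmap Q g.1 v) = 0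
      · have hk2 := hν _ (isTS_range_of_alt Q halt)
        have hkν : k - 1 < ν / 2 := by omega
        have hconj : IsConj (rep (Sum.inr (Sum.inl ⟨k - 1, hkν⟩))) g.1 := by
          apply isConj_of_rank_type Q hQ _ _ (hrep_sq _) hgg
          · rw [hrep_rank, hk]
            show k + k = 2 * (k - 1) + 2
            omega
          · rw [hrep_alt]
            exact ⟨fun _ => halt, fun _ => trivial⟩
        by_cases ham : finrank F (LinearMap.range (Nmap Q g.1)) = m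
        · -- type `a_m`
          have hp : ν = m ∧ Even m := ⟨by omega, ⟨k, by omega⟩⟩
          obtain ⟨c, hc⟩ := isConj_iff.1 hconj
          by_cases hcO : c ∈ Cfsg.Omega F (⇑Q)
          · exact ⟨_, c, hcO, hc⟩
          · refine ⟨Sum.inr (Sum.inr ⟨(), hp⟩), c * r, ?_, ?_⟩
            · rw [hr]; exact hmul c hcO _ hr0
            · have hkk : (⟨k - 1, hkν⟩ : Fin (ν / 2)) = ⟨ν / 2 - 1, hj3 hp⟩ := by
                apply Fin.ext
                show k - 1 = ν / 2 - 1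
                omega
              show c * r * (r * g2 ⟨ν / 2 - 1, hj3 hp⟩ * r⁻¹) * (c * r)⁻¹ = g.1
              rw [← hc]
              show _ = c * g2 ⟨k - 1, hkν⟩ * c⁻¹
              rw [hkk, _root_.mul_inv_rev, hrinv]
              have hrr : r * r = 1 := by rw [hr]; exact tG_mul_self Q hr0
              calc c * r * (r * g2 ⟨ν / 2 - 1, hj3 hp⟩ * r) * (r * c⁻¹)
                  = c * (r * r) * g2 ⟨ν / 2 - 1, hj3 hp⟩ * (r * r) * c⁻¹ := by group
                _ = c * g2 ⟨ν / 2 - 1, hj3 hp⟩ * c⁻¹ := by rw [hrr, mul_one, mul_one]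
        · refine ⟨_, omega_conj_of_not_am' Q hQ hmul hcard (hrep_sq _) hconj ?_⟩
          rintro ⟨h1, -⟩
          apply ham
          rw [← (invariants_of_conj Q (isConj_iff.1 hconj).choose_spec).1] at h1
          exact h1
      · have hkm : k - 1 < m / 2 := by omega
        have hconj : IsConj (rep (Sum.inl ⟨k - 1, hkm⟩)) g.1 := by
          apply isConj_of_rank_type Q hQ _ _ (hrep_sq _) hgg
          · rw [hrep_rank, hk]
            show k + k = 2 * (k - 1) + 2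
            omega
          · rw [hrep_alt]
            exact ⟨fun h => absurd h (fun h => h), fun h => absurd h halt⟩
        refine ⟨_, omega_conj_of_not_am' Q hQ hmul hcard (hrep_sq _) hconj ?_⟩
        rintro ⟨-, h2⟩
        exact (hrep_alt (Sum.inl ⟨k - 1, hkm⟩)).1 h2
  rw [← Nat.card_congr (Equiv.ofBijective ψ hψ), Nat.card_eq_fintype_card, Fintype.card_sum,
    Fintype.card_sum, Fintype.card_fin, Fintype.card_fin]
  by_cases hp : ν = m ∧ Even m
  · rw [if_pos hp]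
    have : Fintype.card {x : Unit // ν = m ∧ Even m} = 1 := by
      rw [Fintype.card_eq_one_iff]
      exact ⟨⟨(), hp⟩, fun y => Subsingleton.elim _ _⟩
    rw [this]
    ring
  · rw [if_neg hp]
    have : Fintype.card {x : Unit // ν = m ∧ Even m} = 0 := by
      rw [Fintype.card_eq_zero_iff]
      exact ⟨fun y => hp y.2⟩
    rw [this]
    ring

/-- the version of `card_invol_classes_Omega` outside the exceptional case -/
theorem card_invol_classes_Omega_of_hex (hQ : (polarBilin Q).Nondegenerate)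
    (hex : Fintype.card F ≠ 2 ∨ Fintype.card ι ≠ 4) {m ν : ℕ} (hm : 1 ≤ m)
    (hcard : Fintype.card ι = 2 * m) (hνm : ν ≤ m)
    (hν : ∀ W : Submodule F (ι → F), IsTS Q W → finrank F W ≤ ν)
    (w₀ : Fin m → (ι → F)) (hw₀ : IsFrame (polarBilin Q) m w₀) (hQw₀ : ∀ i, Q (w₀ i) = 1)
    (z₀ : Fin ν → (ι → F)) (hz₀ : IsFrame (polarBilin Q) ν z₀) (hQz₀ : ∀ a, Q (z₀ a) = 0) :
    Nat.card {C : ConjClasses ↥(Cfsg.Omega F (⇑Q)) //
      ∃ g : ↥(Cfsg.Omega F (⇑Q)), ConjClasses.mk g = C ∧ orderOf g = 2} =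
      m / 2 + ν / 2 + (if ν = m ∧ Even m then 1 else 0) := by
  apply card_invol_classes_Omega Q hQ hm hcard hνm _ _ (fun _ _ => hex) hν w₀ hw₀ hQw₀ z₀ hz₀ hQz₀
  · intro g
    exact mem_Omega_iff_even_rank_sub_one Q hQ hex g
  · intro g hg v hv
    exact mul_tG_mem_Omega Q hQ hex hg hv

end Cfsg.Agent.Helper11.OrthInv
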