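import Mathlib
import Cfsg.Agent.Lib.Helper11.OrthInvClassesOmega

set_option autoImplicit false

/-! Cartan--Dieudonné for forms of Witt index at most one in characteristic two (this covers
the elliptic form of dimension four over the field of two elements), and the description of `Ω`
from the Cartan--Dieudonné property.  The proofs follow helper17's `OrthCD2Final`/`OmegaChar2`. -/

namespace Cfsg.Agent.Helper11.OrthCD

open QuadraticMap Module
open Cfsg.Agent.Helper17.Spinor

section cd

variable {F : Type*} [Field F] {V : Type*} [AddCommGroup V] [Module F V] (Q : QuadraticForm F V)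

section CharTwo

variable [Fintype F] [CharP F 2] [FiniteDimensional F V]

/-- second step when the Witt index is at most one -/
theorem exists_fix_second_minus (hQ : (polarBilin Q).Nondegenerate)
    (hno : ∀ W : Submodule F V, IsTS Q W → finrank F ↥W ≤ 1) (U : Submodule F V)
    (hU : U ⊓ LinearMap.BilinForm.orthogonal (polarBilin Q) U = ⊥) {e f f' : V} (he : e ∈ U)
    (hf : f ∈ U) (hf' : f' ∈ U) (hQe : Q e = 0) (hQf : Q f = 0) (hQf' : Q f' = 0)
    (hef : polar Q e f = 1) (hef' : polar Q e f' = 1) :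
    ∃ ws : List V, (∀ w ∈ ws, Q w ≠ 0) ∧
      (∀ p, (∀ u ∈ U, polar Q u p = 0) → (ws.map (refl Q)).prod p = p) ∧
      (ws.map (refl Q)).prod e = e ∧ (ws.map (refl Q)).prod f' = f := by
  by_cases hff : f' = f
  · exact ⟨[], by simp, by simp, by simp, by simp [hff]⟩
  by_cases hp : polar Q f' f ≠ 0
  · have hQd : Q (f' - f) ≠ 0 := by
      rw [Q_sub_of_singular Q hQf' hQf]; exact neg_ne_zero.2 hp
    refine ⟨[f' - f], ?_, ?_, ?_, ?_⟩
    · intro w hw
      rw [List.mem_singleton] at hw
      rw [hw]; exact hQd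
    · intro p hp'
      exact prod_refl_apply_of_orth Q U [f' - f] (by
        intro w hw
        rw [List.mem_singleton] at hw
        rw [hw]; exact U.sub_mem hf' hf) p hp'
    · rw [List.map_cons, List.map_nil, List.prod_cons, List.prod_nil, mul_one]
      apply refl_apply_of_polar_eq_zero
      rw [polar_sub_left, polar_comm Q f' e, polar_comm Q f e, hef, hef', sub_self]
    · rw [List.map_cons, List.map_nil, List.prod_cons, List.prod_nil, mul_one]
      exact refl_sub_apply_of_eq Q (hQf'.trans hQf.symm) hQd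
  exfalso
  push Not at hp
  obtain ⟨d, hd⟩ : ∃ d, d = f' - f := ⟨_, rfl⟩
  have hd0 : d ≠ 0 := by
    rw [hd]; exact sub_ne_zero.2 hff
  have hQd : Q d = 0 := by
    rw [hd, Q_sub_of_singular Q hQf' hQf, hp, neg_zero]
  have hde : polar Q d e = 0 := by
    rw [hd, polar_sub_left, polar_comm Q f' e, polar_comm Q f e, hef, hef', sub_self]
  have hdf : polar Q d f = 0 := by
    rw [hd, polar_sub_left, hp, polar_self_of_singular Q hQf, sub_self]
  have he0 : e ≠ 0 := by
    rintro rfl
    rw [polar_zero_left] at hef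
    exact zero_ne_one hef
  have hTS : IsTS Q (Submodule.span F {e, d}) := by
    intro x hx
    obtain ⟨s, t, rfl⟩ := Submodule.mem_span_pair.1 hx
    rw [Q_add Q, QuadraticMap.map_smul, QuadraticMap.map_smul, hQe, hQd,
      polar_smul_left, polar_smul_right, polar_comm Q e d, hde]
    simp
  have h1 := hno _ hTS
  have hle : Submodule.span F {e} ≤ Submodule.span F {e, d} :=
    Submodule.span_mono (by simp)
  have h2 : finrank F ↥(Submodule.span F {e}) = 1 := finrank_span_singleton he0
  have heq : Submodule.span F {e} = Submodule.span F {e, d} :=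
    Submodule.eq_of_le_of_finrank_le hle (by rw [h2]; exact h1)
  have hdmem : d ∈ Submodule.span F {e} := by
    rw [heq]; exact Submodule.subset_span (by simp)
  obtain ⟨c, hc⟩ := Submodule.mem_span_singleton.1 hdmem
  rw [← hc, polar_smul_left, hef, smul_eq_mul, mul_one] at hdf
  rw [hdf, zero_smul] at hc
  exact hd0 hc.symm

/-- restore a pair `e, f ∈ U` with `polar e f = 1` after an isometry preserving `U` -/
theorem exists_fix_pair_minus (hQ : (polarBilin Q).Nondegenerate)
    (hno : ∀ W : Submodule F V, IsTS Q W → finrank F ↥W ≤ 1) (U : Submodule F V)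
    (hU : U ⊓ LinearMap.BilinForm.orthogonal (polarBilin Q) U = ⊥) (hU0 : U ≠ ⊥)
    (g : Module.End F V) (hg : ∀ x, Q (g x) = Q x) (hgU : ∀ x ∈ U, g x ∈ U) :
    ∃ e f : V, e ∈ U ∧ f ∈ U ∧ polar Q e f = 1 ∧
      ∃ ws : List V, (∀ w ∈ ws, Q w ≠ 0) ∧
        (∀ p, (∀ u ∈ U, polar Q u p = 0) → (ws.map (refl Q)).prod p = p) ∧
        (ws.map (refl Q)).prod (g e) = e ∧ (ws.map (refl Q)).prod (g f) = f := by
  by_cases hs : ∃ e ∈ U, e ≠ 0 ∧ Q e = 0
  · -- hyperbolic pair
    obtain ⟨e, he, he0, hQe⟩ := hs
    obtain ⟨f, hf, hQf, hef⟩ := exists_partner Q U hU he he0 hQe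
    have hge0 : g e ≠ 0 := by
      intro h0
      have h1 := polar_isometry Q g hg e f
      rw [h0, polar_zero_left, hef] at h1
      exact zero_ne_one h1
    obtain ⟨ws₁, hws₁, h1e⟩ := exists_refl_list_map_singular Q U hU (hgU e he) he hge0 he0
      (by rw [hg, hQe]) hQe
    have hiso₁ := isometry_prod_refl Q ws₁ (fun w hw => (hws₁ w hw).1)
    obtain ⟨f', hf'def⟩ : ∃ f', f' = (ws₁.map (refl Q)).prod (g f) := ⟨_, rfl⟩
    have hf'U : f' ∈ U := hf'def ▸ prod_refl_mem Q U ws₁ (fun w hw => (hws₁ w hw).2) (hgU f hf)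
    have hQf' : Q f' = 0 := by rw [hf'def, hiso₁, hg, hQf]
    have hef' : polar Q e f' = 1 := by
      rw [hf'def, ← h1e, polar_isometry Q _ hiso₁, polar_isometry Q g hg, hef]
    obtain ⟨ws₂, hws₂, hfix₂, h2e, h2f⟩ := exists_fix_second_minus Q hQ hno U hU he hf hf'U hQe hQf hQf'
      hef hef'
    refine ⟨e, f, he, hf, hef, ws₂ ++ ws₁, ?_, ?_, ?_, ?_⟩
    · intro w hw
      rcases List.mem_append.1 hw with h | h
      · exact hws₂ w h
      · exact (hws₁ w h).1
    · intro p hp
      rw [List.map_append, List.prod_append, Module.End.mul_apply,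
        prod_refl_apply_of_orth Q U ws₁ (fun w hw => (hws₁ w hw).2) p hp, hfix₂ p hp]
    · rw [List.map_append, List.prod_append, Module.End.mul_apply, h1e, h2e]
    · rw [List.map_append, List.prod_append, Module.End.mul_apply, ← hf'def, h2f]
  · -- anisotropic
    push Not at hs
    have hs' : ∀ x ∈ U, x ≠ 0 → Q x ≠ 0 := fun x hx hx0 => hs x hx hx0
    obtain ⟨e, he, he0⟩ := Submodule.exists_mem_ne_zero_of_ne_bot hU0
    obtain ⟨f, hf, hef⟩ := exists_polar_eq_one Q U hU he he0
    -- first step
    have step1 : ∃ ws₁ : List V, (∀ w ∈ ws₁, Q w ≠ 0 ∧ w ∈ U) ∧ (ws₁.map (refl Q)).prod (g e) = e := by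
      by_cases h : g e = e
      · exact ⟨[], by simp, by simpa using h⟩
      · have hne : Q (g e - e) ≠ 0 := hs' _ (U.sub_mem (hgU e he) he) (sub_ne_zero.2 h)
        refine ⟨[g e - e], ?_, ?_⟩
        · intro w hw
          rw [List.mem_singleton] at hw
          rw [hw]; exact ⟨hne, U.sub_mem (hgU e he) he⟩
        · rw [List.map_cons, List.map_nil, List.prod_cons, List.prod_nil, mul_one]
          exact refl_sub_apply_of_eq Q (hg e) hne
    obtain ⟨ws₁, hws₁, h1e⟩ := step1
    have hiso₁ := isometry_prod_refl Q ws₁ (fun w hw => (hws₁ w hw).1)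
    obtain ⟨f', hf'def⟩ : ∃ f', f' = (ws₁.map (refl Q)).prod (g f) := ⟨_, rfl⟩
    have hf'U : f' ∈ U := hf'def ▸ prod_refl_mem Q U ws₁ (fun w hw => (hws₁ w hw).2) (hgU f hf)
    have hQf' : Q f' = Q f := by rw [hf'def, hiso₁, hg]
    have hef' : polar Q e f' = 1 := by
      rw [hf'def, ← h1e, polar_isometry Q _ hiso₁, polar_isometry Q g hg, hef]
    have step2 : ∃ ws₂ : List V, (∀ w ∈ ws₂, Q w ≠ 0 ∧ w ∈ U) ∧
        (ws₂.map (refl Q)).prod e = e ∧ (ws₂.map (refl Q)).prod f' = f := by
      by_cases h : f' = f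
      · exact ⟨[], by simp, by simp, by simpa using h⟩
      · have hne : Q (f' - f) ≠ 0 := hs' _ (U.sub_mem hf'U hf) (sub_ne_zero.2 h)
        refine ⟨[f' - f], ?_, ?_, ?_⟩
        · intro w hw
          rw [List.mem_singleton] at hw
          rw [hw]; exact ⟨hne, U.sub_mem hf'U hf⟩
        · rw [List.map_cons, List.map_nil, List.prod_cons, List.prod_nil, mul_one]
          apply refl_apply_of_polar_eq_zero
          rw [polar_sub_left, polar_comm Q f' e, polar_comm Q f e, hef, hef', sub_self]
        · rw [List.map_cons, List.map_nil, List.prod_cons, List.prod_nil, mul_one]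
          exact refl_sub_apply_of_eq Q hQf' hne
    obtain ⟨ws₂, hws₂, h2e, h2f⟩ := step2
    refine ⟨e, f, he, hf, hef, ws₂ ++ ws₁, ?_, ?_, ?_, ?_⟩
    · intro w hw
      rcases List.mem_append.1 hw with h | h
      · exact (hws₂ w h).1
      · exact (hws₁ w h).1
    · intro p hp
      rw [List.map_append, List.prod_append, Module.End.mul_apply,
        prod_refl_apply_of_orth Q U ws₁ (fun w hw => (hws₁ w hw).2) p hp,
        prod_refl_apply_of_orth Q U ws₂ (fun w hw => (hws₂ w hw).2) p hp]
    · rw [List.map_append, List.prod_append, Module.End.mul_apply, h1e, h2e]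
    · rw [List.map_append, List.prod_append, Module.End.mul_apply, ← hf'def, h2f]

theorem cd2_aux_minus (hQ : (polarBilin Q).Nondegenerate)
    (hno : ∀ W : Submodule F V, IsTS Q W → finrank F ↥W ≤ 1) :
    ∀ (k : ℕ) (P : Submodule F V) (g : Module.End F V),
      finrank F ↥(LinearMap.BilinForm.orthogonal (polarBilin Q) P) = k →
      P ⊓ LinearMap.BilinForm.orthogonal (polarBilin Q) P = ⊥ →
      (∀ x, Q (g x) = Q x) → (∀ p ∈ P, g p = p) →
      ∃ vs : List V, (∀ v ∈ vs, Q v ≠ 0) ∧ g = (vs.map (refl Q)).prod := by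
  have hrefl : (polarBilin Q).IsRefl := (polarBilin_isSymm Q).isRefl
  intro k
  induction k using Nat.strong_induction_on with
  | _ k ih =>
  intro P g hk hP hg hfix
  obtain ⟨U, hU⟩ : ∃ U, U = LinearMap.BilinForm.orthogonal (polarBilin Q) P := ⟨_, rfl⟩
  rw [← hU] at hk hP
  have hmemU : ∀ x, x ∈ U ↔ ∀ p ∈ P, polar Q p x = 0 := by
    intro x; rw [hU]; exact mem_orthogonal_iff' Q P x
  by_cases hU0 : U = ⊥
  · have hPtop : P = ⊤ := by
      have h1 := LinearMap.BilinForm.orthogonal_orthogonal hQ hrefl P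
      rw [← hU, hU0, LinearMap.BilinForm.orthogonal_bot] at h1
      exact h1.symm
    refine ⟨[], by simp, ?_⟩
    apply LinearMap.ext
    intro x
    rw [List.map_nil, List.prod_nil, Module.End.one_apply]
    exact hfix x (hPtop ▸ Submodule.mem_top)
  · have hUU : U ⊓ LinearMap.BilinForm.orthogonal (polarBilin Q) U = ⊥ := by
      rw [hU, LinearMap.BilinForm.orthogonal_orthogonal hQ hrefl P, ← hU, inf_comm]
      exact hP
    have hgU : ∀ x ∈ U, g x ∈ U := by
      intro x hx
      rw [hmemU]
      intro p hp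
      have h1 := polar_isometry Q g hg p x
      rw [hfix p hp] at h1
      rw [h1]
      exact (hmemU x).1 hx p hp
    obtain ⟨e, f, he, hf, hef, ws, hws, hwsfix, hwse, hwsf⟩ :=
      exists_fix_pair_minus Q hQ hno U hUU hU0 g hg hgU
    obtain ⟨g', hg'def⟩ : ∃ g' : Module.End F V, g' = (ws.map (refl Q)).prod * g := ⟨_, rfl⟩
    have hg' : ∀ x, Q (g' x) = Q x := by
      intro x
      rw [hg'def, Module.End.mul_apply, isometry_prod_refl Q ws hws, hg]
    have hg'e : g' e = e := by rw [hg'def, Module.End.mul_apply]; exact hwse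
    have hg'f : g' f = f := by rw [hg'def, Module.End.mul_apply]; exact hwsf
    have hPorth : ∀ p ∈ P, ∀ u ∈ U, polar Q u p = 0 := by
      intro p hp u hu
      rw [polar_comm]
      exact (hmemU u).1 hu p hp
    have hfix' : ∀ p ∈ P ⊔ Submodule.span F {e, f}, g' p = p := by
      intro p hp
      rw [Submodule.mem_sup] at hp
      obtain ⟨p₁, hp₁, p₂, hp₂, rfl⟩ := hp
      rw [Submodule.mem_span_pair] at hp₂
      obtain ⟨s, t, rfl⟩ := hp₂
      rw [map_add, map_add, map_smul, map_smul, hg'e, hg'f, hg'def, Module.End.mul_apply,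
        hfix p₁ hp₁, hwsfix p₁ (hPorth p₁ hp₁)]
    have hee : polar Q e e = 0 := polar_self_char_two Q e
    have hff : polar Q f f = 0 := polar_self_char_two Q f
    have hP' : (P ⊔ Submodule.span F {e, f}) ⊓ LinearMap.BilinForm.orthogonal
        (polarBilin Q) (P ⊔ Submodule.span F {e, f}) = ⊥ := by
      rw [eq_bot_iff]
      intro x hx
      obtain ⟨hx1, hx2⟩ := Submodule.mem_inf.1 hx
      rw [mem_orthogonal_iff'] at hx2
      rw [Submodule.mem_sup] at hx1
      obtain ⟨p, hp, y, hy, rfl⟩ := hx1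
      obtain ⟨s, t, rfl⟩ := Submodule.mem_span_pair.1 hy
      have hpU : p ∈ U := by
        rw [hmemU]
        intro p' hp'
        have h1 : polar Q p' (p + (s • e + t • f)) = 0 := hx2 p' (le_sup_left (a := P) hp')
        have h3 : polar Q p' e = 0 := (hmemU e).1 he p' hp'
        have h4 : polar Q p' f = 0 := (hmemU f).1 hf p' hp'
        rw [polar_add_right, polar_add_right, polar_smul_right, polar_smul_right, h3, h4,
          smul_zero, smul_zero, add_zero, add_zero] at h1
        exact h1
      have hp0 : p = 0 := by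
        have : p ∈ P ⊓ U := Submodule.mem_inf.2 ⟨hp, hpU⟩
        rw [hP] at this
        exact (Submodule.mem_bot F).1 this
      subst hp0
      have heS : e ∈ P ⊔ Submodule.span F {e, f} :=
        le_sup_right (a := P) (Submodule.subset_span (by simp))
      have hfS : f ∈ P ⊔ Submodule.span F {e, f} :=
        le_sup_right (a := P) (Submodule.subset_span (by simp))
      have h5 : polar Q e (0 + (s • e + t • f)) = 0 := hx2 e heS
      have h6 : polar Q f (0 + (s • e + t • f)) = 0 := hx2 f hfS
      rw [zero_add, polar_add_right, polar_smul_right, polar_smul_right, hee, hef] at h5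
      rw [zero_add, polar_add_right, polar_smul_right, polar_smul_right, hff, polar_comm Q f e,
        hef] at h6
      simp only [smul_eq_mul, mul_zero, mul_one, zero_add, add_zero] at h5 h6
      rw [h5, h6]
      simp
    have hlt : finrank F ↥(LinearMap.BilinForm.orthogonal (polarBilin Q)
        (P ⊔ Submodule.span F {e, f})) < k := by
      rw [← hk]
      apply Submodule.finrank_lt_finrank_of_lt
      rw [lt_iff_le_and_ne]
      refine ⟨hU ▸ LinearMap.BilinForm.orthogonal_le le_sup_left, ?_⟩
      intro heq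
      have h1 : e ∈ LinearMap.BilinForm.orthogonal (polarBilin Q)
          (P ⊔ Submodule.span F {e, f}) := heq ▸ he
      rw [mem_orthogonal_iff'] at h1
      have hfS : f ∈ P ⊔ Submodule.span F {e, f} :=
        le_sup_right (a := P) (Submodule.subset_span (by simp))
      have := h1 f hfS
      rw [polar_comm, hef] at this
      exact one_ne_zero this
    obtain ⟨vs', hvs', hg'eq⟩ := ih _ hlt (P ⊔ Submodule.span F {e, f}) g' rfl hP' hg' hfix'
    refine ⟨ws.reverse ++ vs', ?_, ?_⟩
    · intro u hu
      rw [List.mem_append, List.mem_reverse] at hu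
      rcases hu with hu | hu
      · exact hws u hu
      · exact hvs' u hu
    · have h1 : (ws.reverse.map (refl Q)).prod * (ws.map (refl Q)).prod = 1 := by
        have := prod_refl_mul_prod_reverse' Q ws.reverse
          (fun w hw => hws w (List.mem_reverse.1 hw))
        rwa [List.reverse_reverse] at this
      rw [List.map_append, List.prod_append, ← hg'eq, hg'def, ← mul_assoc, h1, one_mul]


/-- **Cartan–Dieudonné in characteristic two** for forms of Witt index at most one -/
theorem cartan_dieudonne_minus (hQ : (polarBilin Q).Nondegenerate)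
    (hno : ∀ W : Submodule F V, IsTS Q W → finrank F ↥W ≤ 1) (g : Module.End F V)
    (hg : ∀ x, Q (g x) = Q x) :
    ∃ vs : List V, (∀ v ∈ vs, Q v ≠ 0) ∧ g = (vs.map (refl Q)).prod := by
  refine cd2_aux_minus Q hQ hno _ ⊥ g rfl (bot_inf_eq _) hg ?_
  intro p hp
  rw [(Submodule.mem_bot F).1 hp, map_zero]

end CharTwo

end cd

section chain

variable {F : Type*} [Field F] {ι : Type} [Fintype ι] [DecidableEq ι] (Q : QuadraticForm F (ι → F))

/-- the Cartan--Dieudonné property -/
def HasCD : Prop :=
  ∀ h : Module.End F (ι → F), (∀ x, Q (h x) = Q x) →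
    ∃ vs : List (ι → F), (∀ v ∈ vs, Q v ≠ 0) ∧ h = (vs.map (refl Q)).prod

theorem exists_prod_tG_cd (_hQ : (polarBilin Q).Nondegenerate) (hCD : HasCD Q)
    (g : ↥(Cfsg.isometryGroup F (⇑Q))) :
    ∃ vs : List (ι → F), (∀ v ∈ vs, Q v ≠ 0) ∧ g = (vs.map (tG Q)).prod := by
  obtain ⟨vs, hvs, hgv⟩ := hCD (toEnd Q g) (toEnd_isometry Q g)
  refine ⟨vs, hvs, ?_⟩
  apply toEnd_injective
  rw [hgv, toEnd_prod_tG Q vs hvs]

theorem exists_toEnd_eq_cd (_hQ : (polarBilin Q).Nondegenerate) (hCD : HasCD Q)
    (h : Module.End F (ι → F))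
    (hh : ∀ x, Q (h x) = Q x) : ∃ g : ↥(Cfsg.isometryGroup F (⇑Q)), toEnd Q g = h := by
  obtain ⟨vs, hvs, hgv⟩ := hCD h hh
  exact ⟨(vs.map (tG Q)).prod, by rw [toEnd_prod_tG Q vs hvs, hgv]⟩

section CharTwo

variable [Fintype F] [CharP F 2]

/-- all orthogonal transvections are conjugate -/
theorem exists_conj_tG_cd (hQ : (polarBilin Q).Nondegenerate)
    (hCD : HasCD Q) {u w : ι → F} (hu : Q u ≠ 0) (hw : Q w ≠ 0) :
    ∃ h : ↥(Cfsg.isometryGroup F (⇑Q)), h * tG Q w = tG Q u * h := by
  have hchar : ringChar F = 2 := ringChar.eq F 2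
  obtain ⟨c, hc⟩ := FiniteField.isSquare_of_char_two hchar (Q u / Q w)
  have hc0 : c ≠ 0 := by
    rintro rfl
    rw [mul_zero] at hc
    exact div_ne_zero hu hw hc
  have hQcw : Q (c • w) = Q u := by
    rw [QuadraticMap.map_smul, ← hc, smul_eq_mul]
    field_simp
  have hQcw0 : Q (c • w) ≠ 0 := by rw [hQcw]; exact hu
  obtain ⟨h₀, hh₀, hh₀w⟩ := exists_isometry_map_nonsingular Q hQ hQcw0 hQcw
  obtain ⟨h, hh⟩ := exists_toEnd_eq_cd Q hQ hCD h₀ hh₀
  refine ⟨h, ?_⟩
  have h1 := mul_tG Q h hQcw0
  rw [hh, hh₀w] at h1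
  have h3 : tG Q (c • w) = tG Q w := by
    apply toEnd_injective
    rw [toEnd_tG Q hQcw0, toEnd_tG Q hw, refl_smul Q hc0]
  rw [h3] at h1
  exact h1

theorem tG_mul_tG_mem_commutator_cd (hQ : (polarBilin Q).Nondegenerate)
    (hCD : HasCD Q) {u w : ι → F} (hu : Q u ≠ 0) (hw : Q w ≠ 0) :
    tG Q u * tG Q w ∈ commutator ↥(Cfsg.isometryGroup F (⇑Q)) := by
  obtain ⟨h, hh⟩ := exists_conj_tG_cd Q hQ hCD hu hw
  rw [← Abelianization.ker_of, MonoidHom.mem_ker, map_mul]
  have h1 := congrArg Abelianization.of hh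
  rw [map_mul, map_mul, mul_comm] at h1
  have h2 : Abelianization.of (tG Q w) = Abelianization.of (tG Q u) := mul_right_cancel h1
  rw [h2, ← map_mul, tG_mul_self Q hu, map_one]

theorem prod_tG_mem_commutator_of_even_cd (hQ : (polarBilin Q).Nondegenerate)
    (hCD : HasCD Q) :
    ∀ (m : ℕ) (vs : List (ι → F)), vs.length = 2 * m → (∀ v ∈ vs, Q v ≠ 0) →
      (vs.map (tG Q)).prod ∈ commutator ↥(Cfsg.isometryGroup F (⇑Q)) := by
  intro m
  induction m with
  | zero =>
    intro vs hlen _
    have : vs = [] := List.length_eq_zero_iff.1 (by omega)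
    subst this
    simp
  | succ m ih =>
    intro vs hlen hvs
    match vs, hlen, hvs with
    | [], hlen, _ => simp at hlen
    | [u], hlen, _ => simp at hlen; omega
    | u :: v :: rest, hlen, hvs =>
      have hu : Q u ≠ 0 := hvs u (by simp)
      have hv : Q v ≠ 0 := hvs v (by simp)
      rw [List.map_cons, List.prod_cons, List.map_cons, List.prod_cons, ← mul_assoc]
      exact Subgroup.mul_mem _ (tG_mul_tG_mem_commutator_cd Q hQ hCD hu hv)
        (ih rest (by simp at hlen; omega) (fun w hw => hvs w (by simp [hw])))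

/-- a product of `k` orthogonal transvections lies in `Ω` iff `k` is even -/
theorem prod_tG_mem_commutator_iff_cd (hQ : (polarBilin Q).Nondegenerate)
    (hCD : HasCD Q) (vs : List (ι → F))
    (hvs : ∀ v ∈ vs, Q v ≠ 0) :
    (vs.map (tG Q)).prod ∈ commutator ↥(Cfsg.isometryGroup F (⇑Q)) ↔ Even vs.length := by
  constructor
  · intro hmem
    -- the even-length products form a subgroup containing all commutators
    let S : Subgroup ↥(Cfsg.isometryGroup F (⇑Q)) :=
      { carrier := {g | Even (finrank F ↥(LinearMap.range (1 - toEnd Q g)))}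
        mul_mem' := by
          intro a b ha hb
          obtain ⟨as, has, rfl⟩ := exists_prod_tG_cd Q hQ hCD a
          obtain ⟨bs, hbs, rfl⟩ := exists_prod_tG_cd Q hQ hCD b
          have h1 := rank_mod_two_prod_tG Q hQ as has
          have h2 := rank_mod_two_prod_tG Q hQ bs hbs
          have h3 := rank_mod_two_prod_tG Q hQ (as ++ bs) (by
            intro v hv
            rcases List.mem_append.1 hv with h | h
            · exact has v h
            · exact hbs v h)
          rw [List.map_append, List.prod_append, List.length_append] at h3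
          rw [Set.mem_setOf_eq, Nat.even_iff] at ha hb ⊢
          omega
        one_mem' := by
          rw [Set.mem_setOf_eq, map_one, sub_self, LinearMap.range_zero, finrank_bot]
          exact ⟨0, rfl⟩
        inv_mem' := by
          intro a ha
          obtain ⟨as, has, rfl⟩ := exists_prod_tG_cd Q hQ hCD a
          have h1 := rank_mod_two_prod_tG Q hQ as has
          have h2 := rank_mod_two_prod_tG Q hQ as.reverse (fun v hv => has v (List.mem_reverse.1 hv))
          rw [List.length_reverse] at h2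
          rw [Set.mem_setOf_eq, Nat.even_iff] at ha ⊢
          rw [prod_tG_inv Q as has]
          omega }
    have hle : commutator ↥(Cfsg.isometryGroup F (⇑Q)) ≤ S := by
      rw [commutator_def, Subgroup.commutator_le]
      intro a _ b _
      obtain ⟨as, has, rfl⟩ := exists_prod_tG_cd Q hQ hCD a
      obtain ⟨bs, hbs, rfl⟩ := exists_prod_tG_cd Q hQ hCD b
      have h3 := rank_mod_two_prod_tG Q hQ (as ++ bs ++ as.reverse ++ bs.reverse) (by
        intro v hv
        simp only [List.mem_append, List.mem_reverse] at hv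
        rcases hv with ((h | h) | h) | h
        · exact has v h
        · exact hbs v h
        · exact has v h
        · exact hbs v h)
      rw [List.map_append, List.map_append, List.map_append, List.prod_append, List.prod_append,
        List.prod_append, List.length_append, List.length_append, List.length_append,
        List.length_reverse, List.length_reverse] at h3
      show Even _
      rw [commutatorElement_def, prod_tG_inv Q as has, prod_tG_inv Q bs hbs, Nat.even_iff]
      omega
    have := hle hmem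
    have h1 := rank_mod_two_prod_tG Q hQ vs hvs
    change Even _ at this
    rw [Nat.even_iff] at this ⊢
    omega
  · rintro ⟨m, hm⟩
    exact prod_tG_mem_commutator_of_even_cd Q hQ hCD m vs (by omega) hvs

/-- **Ω in characteristic two**: `g ∈ Ω` iff `rank (1 - g)` is even -/
theorem mem_commutator_iff_even_rank_cd (hQ : (polarBilin Q).Nondegenerate)
    (hCD : HasCD Q) (g : ↥(Cfsg.isometryGroup F (⇑Q))) :
    g ∈ commutator ↥(Cfsg.isometryGroup F (⇑Q)) ↔
      Even (finrank F ↥(LinearMap.range (1 - toEnd Q g))) := by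
  obtain ⟨vs, hvs, rfl⟩ := exists_prod_tG_cd Q hQ hCD g
  rw [prod_tG_mem_commutator_iff_cd Q hQ hCD vs hvs]
  have h1 := rank_mod_two_prod_tG Q hQ vs hvs
  rw [Nat.even_iff, Nat.even_iff]
  omega

/-- in characteristic two, `g ∈ Ω` iff the matrix `g - 1` has even rank -/
theorem mem_Omega_iff_even_rank_sub_one_cd (hQ : (polarBilin Q).Nondegenerate)
    (hCD : HasCD Q) (g : ↥(Cfsg.isometryGroup F (⇑Q))) :
    g ∈ Cfsg.Omega F (⇑Q) ↔
      Even (((g : Matrix.GeneralLinearGroup ι F) : Matrix ι ι F) - 1).rank := by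
  have h1 : g ∈ Cfsg.Omega F (⇑Q) ↔ Even (finrank F ↥(LinearMap.range (1 - toEnd Q g))) :=
    mem_commutator_iff_even_rank_cd Q hQ hCD g
  rw [h1, Matrix.rank]
  have h2 : (((g : Matrix.GeneralLinearGroup ι F) : Matrix ι ι F) - 1).mulVecLin
      = -(1 - toEnd Q g) := by
    rw [neg_sub]
    apply LinearMap.ext
    intro x
    rw [Matrix.mulVecLin_apply, Matrix.sub_mulVec, Matrix.one_mulVec, LinearMap.sub_apply,
      toEnd_apply, Module.End.one_apply]
  rw [h2, LinearMap.range_neg]

/-- multiplying an element outside `Ω` by a reflection lands in `Ω` -/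
theorem mul_tG_mem_Omega_cd (hQ : (polarBilin Q).Nondegenerate)
    (hCD : HasCD Q) {g : ↥(Cfsg.isometryGroup F (⇑Q))}
    (hg : g ∉ Cfsg.Omega F (⇑Q)) {v : ι → F} (hv : Q v ≠ 0) :
    g * tG Q v ∈ Cfsg.Omega F (⇑Q) := by
  obtain ⟨vs, hvs, rfl⟩ := exists_prod_tG_cd Q hQ hCD g
  have h1 : (vs.map (tG Q)).prod * tG Q v = ((vs ++ [v]).map (tG Q)).prod := by
    rw [List.map_append, List.prod_append]; simp
  have hvs' : ∀ u ∈ vs ++ [v], Q u ≠ 0 := by
    intro u hu
    rcases List.mem_append.1 hu with h | h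
    · exact hvs u h
    · rw [List.mem_singleton] at h; rw [h]; exact hv
  show _ ∈ commutator ↥(Cfsg.isometryGroup F (⇑Q))
  rw [h1, prod_tG_mem_commutator_iff_cd Q hQ hCD _ hvs', List.length_append, List.length_singleton]
  have : ¬ Even vs.length := fun h => hg ((prod_tG_mem_commutator_iff_cd Q hQ hCD vs hvs).2 h)
  exact (Nat.not_even_iff_odd.1 this).add_one


end CharTwo

end chain

end Cfsg.Agent.Helper11.OrthCD
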