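import Mathlib
import Cfsg.Agent.Lib.Helper11.SympCent2
import Cfsg.Agent.Lib.Helper2.SympCard

set_option autoImplicit false

/-! Centraliser orders of involutions of non-alternating type in `Sp_{2m}(q)`, `q` even. -/

namespace Cfsg.Agent.Helper11.SympInv

open Module Matrix
open Cfsg.Agent.Helper28.IsoFrames Cfsg.Agent.Helper28.IsoGrp Cfsg.Agent.Helper28.SympIso

section arith

theorem tri_aux (s : ℕ) : ∃ t, 3 * s ^ 2 - s = 2 * t ∧
    3 * (s + 1) ^ 2 - (s + 1) = 2 * (t + 3 * s + 1) ∧ t ≤ 2 * s ^ 2 ∧ (s ≠ 0 → s ≤ t) := by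
  obtain ⟨p, hp⟩ : ∃ p, p = s ^ 2 := ⟨_, rfl⟩
  have h1 : s ≤ p := by rw [hp]; nlinarith
  have h2 : (s + 1) ^ 2 = p + 2 * s + 1 := by rw [hp]; ring
  rw [h2, ← hp]
  rcases Nat.even_or_odd' s with ⟨a, ha | ha⟩
  · have h3 : p = 2 * (2 * a ^ 2) := by rw [hp, ha]; ring
    refine ⟨(3 * p - s) / 2, ?_, ?_, ?_, ?_⟩ <;> omega
  · have h3 : p = 2 * (2 * a ^ 2 + 2 * a) + 1 := by rw [hp, ha]; ring
    refine ⟨(3 * p - s) / 2, ?_, ?_, ?_, ?_⟩ <;> omega

theorem spOrd_pos {q : ℕ} (hq : 2 ≤ q) (k : ℕ) : 0 < spOrd q k := by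
  unfold spOrd
  apply Nat.mul_pos
  · exact pow_pos (by omega) _
  · apply Finset.prod_pos
    intro i _
    have : 1 < q ^ (2 * (i + 1)) := Nat.one_lt_pow (by omega) (by omega)
    omega

/-- frames times the order of the stabiliser-type factor -/
theorem frames_mul (q m : ℕ) : ∀ s, s ≤ m →
    (∏ i ∈ Finset.range s, (q ^ (2 * m - i) - q ^ i)) *
      (q ^ (2 * m * s - (3 * s ^ 2 - s) / 2) * spOrd q (m - s)) = spOrd q m := by
  intro s
  induction s with
  | zero =>
    intro _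
    simp
  | succ s ih =>
    intro hs
    have ih' := ih (by omega)
    rw [← ih', Finset.prod_range_succ]
    obtain ⟨t, ht1, ht2, ht3, _⟩ := tri_aux s
    rw [ht1, ht2, Nat.mul_div_cancel_left _ (by norm_num : 0 < 2),
      Nat.mul_div_cancel_left _ (by norm_num : 0 < 2)]
    have hms : m - s = (m - (s + 1)) + 1 := by omega
    rw [hms, spOrd_succ]
    have hfac : q ^ (2 * m - s) - q ^ s = q ^ s * (q ^ (2 * (m - (s + 1)) + 2) - 1) := by
      rw [Nat.mul_sub, mul_one, ← pow_add]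
      congr 2
      omega
    rw [hfac]
    obtain ⟨a, ha⟩ : ∃ a, a = m * s := ⟨_, rfl⟩
    have ha2 : s ^ 2 ≤ a := by rw [ha, pow_two]; exact Nat.mul_le_mul_right s (by omega)
    have e1 : 2 * m * s = 2 * a := by rw [ha]; ring
    have e2 : 2 * m * (s + 1) = 2 * a + 2 * m := by rw [ha]; ring
    rw [e1, e2]
    have hexp : q ^ s * q ^ (2 * a + 2 * m - (t + 3 * s + 1)) =
        q ^ (2 * a - t) * q ^ (2 * (m - (s + 1)) + 1) := by
      rw [← pow_add, ← pow_add]
      congr 1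
      have : (s + 1) ^ 2 ≤ m * (s + 1) := by
        rw [pow_two]; exact Nat.mul_le_mul_right _ hs
      have h5 : (s + 1) ^ 2 = s ^ 2 + 2 * s + 1 := by ring
      have h6 : m * (s + 1) = a + m := by rw [ha]; ring
      omega
    calc (∏ x ∈ Finset.range s, (q ^ (2 * m - x) - q ^ x)) *
          (q ^ s * (q ^ (2 * (m - (s + 1)) + 2) - 1)) *
          (q ^ (2 * a + 2 * m - (t + 3 * s + 1)) * spOrd q (m - (s + 1)))
        = (∏ x ∈ Finset.range s, (q ^ (2 * m - x) - q ^ x)) *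
          ((q ^ s * q ^ (2 * a + 2 * m - (t + 3 * s + 1))) *
            ((q ^ (2 * (m - (s + 1)) + 2) - 1) * spOrd q (m - (s + 1)))) := by ring
      _ = _ := by rw [hexp]; ring

end arith

section assemble

variable {F : Type*} [Field F] [Fintype F] [CharP F 2] {m : ℕ}

omit [CharP F 2] in
theorem card_isoGrp_sympBil :
    Nat.card (isoGrp (sympBil m F)) = spOrd (Fintype.card F) m := by
  rw [← Nat.card_congr (sympMulEquiv (F := F) m).toEquiv,
    Cfsg.Agent.Helper2.Symp.card_symplecticGroup]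
  rfl

omit [CharP F 2] in
theorem card_frames_sympBil (s : ℕ) :
    Nat.card {y : Fin s → (Fin m ⊕ Fin m → F) // IsFrame (sympBil m F) s y}
      = ∏ i ∈ Finset.range s, (Fintype.card F ^ (2 * m - i) - Fintype.card F ^ i) := by
  rw [card_frames (sympBil_isAlt m) (sympBil_nondegenerate m) s]
  have : finrank F (Fin m ⊕ Fin m → F) = 2 * m := by
    rw [Module.finrank_fintype_fun_eq_card, Fintype.card_sum, Fintype.card_fin]
    ring
  rw [this]

omit [Fintype F] [CharP F 2] in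
theorem Nfr_equivariant {V : Type*} [AddCommGroup V] [Module F V] {B : LinearMap.BilinForm F V}
    {k : ℕ} (g : isoGrp B) (w : Fin k → V) (x : V) :
    Nfr B (g • w) ((g : V ≃ₗ[F] V) x) = (g : V ≃ₗ[F] V) (Nfr B w x) := by
  rw [Nfr_apply, Nfr_apply, map_sum]
  apply Finset.sum_congr rfl
  intro i _
  rw [smul_frame_apply, g.2, map_smul]

/-- the centraliser count in the non-alternating case -/
theorem card_centralizer_nonalt (t : Matrix.symplecticGroup (Fin m) F)
    (ht : (t : Matrix (Fin m ⊕ Fin m) (Fin m ⊕ Fin m) F) * t = 1) {s : ℕ}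
    (hs : ((t : Matrix (Fin m ⊕ Fin m) (Fin m ⊕ Fin m) F) - 1).rank = s)
    (hna : ∃ u, Cfsg.sympForm m F u
      ((t : Matrix (Fin m ⊕ Fin m) (Fin m ⊕ Fin m) F) *ᵥ u) ≠ 0) :
    Nat.card (Subgroup.centralizer ({t} : Set (Matrix.symplecticGroup (Fin m) F))) *
      ∏ i ∈ Finset.range s, (Fintype.card F ^ (2 * m - i) - Fintype.card F ^ i)
      = ofib (Fintype.card F) s * spOrd (Fintype.card F) m := by
  have hA := sympBil_isAlt (F := F) m
  have hB := sympBil_nondegenerate (F := F) m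
  have hN := isSA_Nmat t.2 ht
  have hr : finrank F (LinearMap.range
      (Nmat (t : Matrix (Fin m ⊕ Fin m) (Fin m ⊕ Fin m) F))) = s := by
    rw [finrank_range_Nmat, hs]
  have hna' : ∃ u, sympBil m F u
      (Nmat (t : Matrix (Fin m ⊕ Fin m) (Fin m ⊕ Fin m) F) u) ≠ 0 := by
    obtain ⟨u, hu⟩ := hna
    exact ⟨u, by rw [sympBil_Nmat]; exact hu⟩
  obtain ⟨w, hw1, hw2⟩ := nonalt_decomp hA hB exists_sqrt s _ hN hr (fun _ => hna')
  have hfw := isFrame_nonalt hN hr w hw1 hw2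
  have hNw : Nfr (sympBil m F) w = Nmat (t : Matrix (Fin m ⊕ Fin m) (Fin m ⊕ Fin m) F) := by
    apply LinearMap.ext
    intro y
    rw [Nfr_apply, hw2]
  have key := card_cent_mul hA hB (Nfr (sympBil m F)) Nfr_equivariant hfw
  rw [hNw, card_frames_sympBil, card_isoGrp_sympBil] at key
  rw [card_centralizer_eq, key]
  congr 1
  exact card_Fib hA hB s _ hN hr (fun _ => hna')

omit [Fintype F] in
/-- odd rank forces non-alternating type -/
theorem nonalt_of_odd (t : Matrix.symplecticGroup (Fin m) F)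
    (ht : (t : Matrix (Fin m ⊕ Fin m) (Fin m ⊕ Fin m) F) * t = 1) {s : ℕ}
    (hs : ((t : Matrix (Fin m ⊕ Fin m) (Fin m ⊕ Fin m) F) - 1).rank = s) (hodd : Odd s) :
    ∃ u, Cfsg.sympForm m F u ((t : Matrix (Fin m ⊕ Fin m) (Fin m ⊕ Fin m) F) *ᵥ u) ≠ 0 := by
  by_contra hcon
  push Not at hcon
  have hA := sympBil_isAlt (F := F) m
  have hB := sympBil_nondegenerate (F := F) m
  have hN := isSA_Nmat t.2 ht
  have hr : finrank F (LinearMap.range
      (Nmat (t : Matrix (Fin m ⊕ Fin m) (Fin m ⊕ Fin m) F))) = s := by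
    rw [finrank_range_Nmat, hs]
  obtain ⟨k, hk, -⟩ := alt_decomp hA hB s _ hN hr (fun x => by rw [sympBil_Nmat]; exact hcon x)
  rw [hk] at hodd
  exact (Nat.not_odd_iff_even.2 (even_two_mul k)) hodd

end assemble

end Cfsg.Agent.Helper11.SympInv
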