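import Mathlib
import Cfsg.Agent.Lib.Helper11.OrthInvClassesOmega
import Cfsg.Agent.Lib.Helper11.SympCent3

set_option autoImplicit false

/-! Centralisers of involutions in orthogonal groups in characteristic two: frames of vectors of
norm one and the orbit count. -/

namespace Cfsg.Agent.Helper11.OrthCent

open QuadraticMap Matrix Module
open Cfsg.Agent.Helper17.Spinor Cfsg.Agent.Helper11.SympInv Cfsg.Agent.Helper28.IsoFrames
  Cfsg.Agent.Helper11.OrthInv

section orbit

/-- orbit counting for a subgroup containing the stabiliser -/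
theorem card_mul_orbit {G X : Type*} [Group G] [Finite G] [MulAction G X] (w : X)
    (P : Subgroup G) (hle : MulAction.stabilizer G w ≤ P) :
    Nat.card P * (MulAction.orbit G w).ncard = (MulAction.orbit P w).ncard * Nat.card G := by
  have h1 := Subgroup.card_mul_index (MulAction.stabilizer G w)
  rw [MulAction.index_stabilizer] at h1
  have h2 := Subgroup.card_mul_index (MulAction.stabilizer P w)
  rw [MulAction.index_stabilizer] at h2
  have h4 : MulAction.stabilizer P w = (MulAction.stabilizer G w).subgroupOf P := by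
    ext g
    rfl
  rw [h4, Nat.card_congr (Subgroup.subgroupOfEquivOfLe hle).toEquiv] at h2
  rw [← h1, ← h2]
  ring

end orbit

section count

variable {F : Type*} [Field F] [Fintype F] [CharP F 2] {V : Type*} [AddCommGroup V] [Module F V]
  [FiniteDimensional F V] (Q : QuadraticForm F V)

/-- a square root -/
noncomputable def sq (c : F) : F := Classical.choose (exists_sqrt c)

omit [FiniteDimensional F V] in
theorem sq_mul_self (c : F) : sq c * sq c = c := Classical.choose_spec (exists_sqrt c)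

/-- on a subspace whose radical contains a vector of norm one, the level sets of `Q` have equal
size -/
theorem card_level (S : Submodule F V) {u : V} (hu : u ∈ S) (hQu : Q u = 1)
    (hrad : ∀ v ∈ S, polar Q v u = 0) :
    Nat.card {v : V // v ∈ S ∧ Q v = 1} * Fintype.card F = Fintype.card F ^ finrank F S := by
  have hQadd : ∀ v ∈ S, ∀ c : F, Q (v + sq c • u) = Q v + c := by
    intro v hv c
    rw [Q_add Q, QuadraticMap.map_smul, sq_mul_self, hQu, smul_eq_mul, mul_one, polar_smul_right,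
      hrad v hv, smul_zero, add_zero]
  have e : S ≃ F × {v : V // v ∈ S ∧ Q v = 1} :=
    { toFun := fun v => (Q v.1, ⟨v.1 + sq (Q v.1 + 1) • u, S.add_mem v.2 (S.smul_mem _ hu), by
        rw [hQadd v.1 v.2, ← add_assoc, CharTwo.add_self_eq_zero, zero_add]⟩)
      invFun := fun p => ⟨p.2.1 + sq (p.1 + 1) • u, S.add_mem p.2.2.1 (S.smul_mem _ hu)⟩
      left_inv := fun v => by
        apply Subtype.ext
        show v.1 + sq (Q v.1 + 1) • u + sq (Q v.1 + 1) • u = v.1
        rw [add_assoc, vadd_self F, add_zero]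
      right_inv := fun p => by
        obtain ⟨c, a, ha1, ha2⟩ := p
        have h1 : Q (a + sq (c + 1) • u) = c := by
          rw [hQadd a ha1, ha2, add_comm c 1, ← add_assoc, CharTwo.add_self_eq_zero, zero_add]
        apply Prod.ext
        · exact h1
        · apply Subtype.ext
          show a + sq (c + 1) • u + sq (Q (a + sq (c + 1) • u) + 1) • u = a
          rw [h1, add_assoc, vadd_self F, add_zero] }
  have h1 := Nat.card_congr e
  rw [Nat.card_prod, Module.natCard_eq_pow_finrank (K := F), Nat.card_eq_fintype_card (α := F)]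
    at h1
  rw [h1]
  ring

/-- frames of vectors of norm one -/
def QFrame (k : ℕ) : Set (Fin k → V) := {x | IsFrame (polarBilin Q) k x ∧ ∀ i, Q (x i) = 1}

omit [Fintype F] [CharP F 2] [FiniteDimensional F V] in
theorem mem_orthogonal_span {k : ℕ} (s : Fin k → V) (v : V) :
    (∀ i, polarBilin Q (s i) v = 0) ↔
      v ∈ LinearMap.BilinForm.orthogonal (polarBilin Q) (Submodule.span F (Set.range s)) := by
  constructor
  · intro h u hu
    refine Submodule.span_induction (p := fun u _ => polarBilin Q u v = 0) ?_ ?_ ?_ ?_ hu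
    · rintro _ ⟨i, rfl⟩
      exact h i
    · simp
    · intro a b _ _ ha hb
      rw [map_add, LinearMap.add_apply, ha, hb, add_zero]
    · intro c a _ ha
      rw [map_smul, LinearMap.smul_apply, ha, smul_zero]
  · intro h i
    exact h (s i) (Submodule.subset_span ⟨i, rfl⟩)

theorem card_qfibre (hQ : (polarBilin Q).Nondegenerate) {k : ℕ} {s : Fin (k + 1) → V}
    (hs : s ∈ QFrame Q (k + 1)) :
    Nat.card {v : V // ((∀ i, polarBilin Q (s i) v = 0) ∧
        v ∉ Submodule.span F (Set.range s)) ∧ Q v = 1}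
      = Fintype.card F ^ (finrank F V - (k + 1) - 1) - Fintype.card F ^ k := by
  have : Finite V := Module.finite_of_finite F
  have hq : 2 ≤ Fintype.card F := Fintype.one_lt_card
  obtain ⟨U, hU⟩ : ∃ U, U = Submodule.span F (Set.range s) := ⟨_, rfl⟩
  have hUk : finrank F U = k + 1 := by
    rw [hU, finrank_span_eq_card hs.1.1, Fintype.card_fin]
  have hle : U ≤ LinearMap.BilinForm.orthogonal (polarBilin Q) U := by
    intro u hu
    rw [hU, ← mem_orthogonal_span]
    intro i
    rw [hU] at hu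
    exact isotropic_span hs.1 _ (Submodule.subset_span ⟨i, rfl⟩) _ hu
  have hu : s 0 ∈ U := by rw [hU]; exact Submodule.subset_span ⟨0, rfl⟩
  have hrad : ∀ v ∈ LinearMap.BilinForm.orthogonal (polarBilin Q) U, polar Q v (s 0) = 0 := by
    intro v hv
    have h := hv (s 0) hu
    rw [polar_comm]
    exact h
  have h1 := card_level Q (LinearMap.BilinForm.orthogonal (polarBilin Q) U) (hle hu) (hs.2 0) hrad
  have h2 := card_level Q U hu (hs.2 0) (fun v hv => hrad v (hle hv))
  rw [LinearMap.BilinForm.finrank_orthogonal hQ, hUk] at h1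
  rw [hUk] at h2
  obtain ⟨A, hA⟩ : ∃ A : Set V, A = {v | v ∈ LinearMap.BilinForm.orthogonal (polarBilin Q) U ∧ Q v = 1} := ⟨_, rfl⟩
  obtain ⟨A', hA'⟩ : ∃ A' : Set V, A' = {v | v ∈ U ∧ Q v = 1} := ⟨_, rfl⟩
  have hsub : A' ⊆ A := by
    rw [hA, hA']
    rintro v ⟨hv1, hv2⟩
    exact ⟨hle hv1, hv2⟩
  have hcA : A.ncard = Nat.card {v : V // v ∈ LinearMap.BilinForm.orthogonal (polarBilin Q) U ∧ Q v = 1} := by
    rw [← Nat.card_coe_set_eq, hA]
    rfl
  have hcA' : A'.ncard = Nat.card {v : V // v ∈ U ∧ Q v = 1} := by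
    rw [← Nat.card_coe_set_eq, hA']
    rfl
  have h3 : Nat.card {v : V // ((∀ i, polarBilin Q (s i) v = 0) ∧
      v ∉ Submodule.span F (Set.range s)) ∧ Q v = 1} = (A \ A').ncard := by
    rw [← Nat.card_coe_set_eq]
    apply Nat.card_congr
    refine Equiv.subtypeEquivRight (fun v => ?_)
    rw [Set.mem_sdiff, hA, hA', Set.mem_setOf_eq, Set.mem_setOf_eq, mem_orthogonal_span, ← hU]
    constructor
    · rintro ⟨⟨h1, h2⟩, h3⟩
      exact ⟨⟨h1, h3⟩, fun h => h2 h.1⟩
    · rintro ⟨⟨h1, h3⟩, h2⟩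
      exact ⟨⟨h1, fun h => h2 ⟨h, h3⟩⟩, h3⟩
  rw [h3, Set.ncard_sdiff hsub (Set.toFinite _), hcA, hcA']
  have h4 : Nat.card {v : V // v ∈ U ∧ Q v = 1} = Fintype.card F ^ k := by
    apply Nat.eq_of_mul_eq_mul_right (by omega : 0 < Fintype.card F)
    rw [h2, pow_succ]
  have hpos : 0 < Nat.card {v : V // v ∈ LinearMap.BilinForm.orthogonal (polarBilin Q) U ∧ Q v = 1} := by
    rw [← hcA]
    have := Set.ncard_le_ncard hsub (Set.toFinite _)
    rw [hcA', h4] at this
    have : 0 < Fintype.card F ^ k := pow_pos (by omega) _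
    omega
  have hne : finrank F V - (k + 1) ≠ 0 := by
    intro h0
    rw [h0, pow_zero] at h1
    have := Nat.eq_one_of_mul_eq_one_left h1
    omega
  have h5 : Nat.card {v : V // v ∈ LinearMap.BilinForm.orthogonal (polarBilin Q) U ∧ Q v = 1}
      = Fintype.card F ^ (finrank F V - (k + 1) - 1) := by
    apply Nat.eq_of_mul_eq_mul_right (by omega : 0 < Fintype.card F)
    rw [h1, ← pow_succ]
    congr 1
    omega
  rw [h4, h5]

omit [Fintype F] [FiniteDimensional F V] in
theorem polarBilin_isAlt' : (polarBilin Q).IsAlt := by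
  intro v
  rw [polarBilin_apply_apply]
  exact polar_self_char_two Q v

omit [Fintype F] [FiniteDimensional F V] in
theorem qframe_cons {k : ℕ} {s : Fin k → V} (hs : s ∈ QFrame Q k) {v : V}
    (hv : ((∀ i, polarBilin Q (s i) v = 0) ∧ v ∉ Submodule.span F (Set.range s)) ∧ Q v = 1) :
    (Fin.cons v s : Fin (k + 1) → V) ∈ QFrame Q (k + 1) := by
  refine ⟨isFrame_cons (polarBilin_isAlt' Q) hs.1 hv.1, ?_⟩
  intro i
  induction i using Fin.cases with
  | zero => rw [Fin.cons_zero]; exact hv.2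
  | succ j => rw [Fin.cons_succ]; exact hs.2 j

/-- frames of length `k+1` are frames of length `k` together with one more vector -/
def qframeEquiv (k : ℕ) :
    {x : Fin (k + 1) → V // x ∈ QFrame Q (k + 1)} ≃
      Σ s : {s : Fin k → V // s ∈ QFrame Q k},
        {v : V // ((∀ i, polarBilin Q (s.1 i) v = 0) ∧
          v ∉ Submodule.span F (Set.range s.1)) ∧ Q v = 1} where
  toFun x := ⟨⟨Fin.tail x.1, isFrame_tail x.2.1, fun i => x.2.2 i.succ⟩,
    ⟨x.1 0, isFrame_head x.2.1, x.2.2 0⟩⟩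
  invFun s := ⟨Fin.cons s.2.1 s.1.1, qframe_cons Q s.1.2 s.2.2⟩
  left_inv _ := by simp only [Fin.cons_self_tail, Subtype.coe_eta]
  right_inv := fun ⟨⟨s, hs⟩, ⟨v, hv⟩⟩ => rfl

theorem card_qframe_succ (k c : ℕ)
    (hc : ∀ s ∈ QFrame Q k, Nat.card {v : V // ((∀ i, polarBilin Q (s i) v = 0) ∧
      v ∉ Submodule.span F (Set.range s)) ∧ Q v = 1} = c) :
    Nat.card {x : Fin (k + 1) → V // x ∈ QFrame Q (k + 1)}
      = Nat.card {x : Fin k → V // x ∈ QFrame Q k} * c := by
  have : Finite V := Module.finite_of_finite F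
  have : Fintype {s : Fin k → V // s ∈ QFrame Q k} := Fintype.ofFinite _
  rw [Nat.card_congr (qframeEquiv Q k), Nat.card_sigma,
    Finset.sum_congr rfl (fun s _ => hc s.1 s.2), Finset.sum_const, Finset.card_univ,
    smul_eq_mul, Nat.card_eq_fintype_card]

theorem card_qframe_one :
    Nat.card {x : Fin 1 → V // x ∈ QFrame Q 1} = Nat.card {v : V // Q v = 1} := by
  rw [card_qframe_succ Q 0 (Nat.card {v : V // Q v = 1})]
  · have : Unique {x : Fin 0 → V // x ∈ QFrame Q 0} :=
      { default := ⟨Fin.elim0, ⟨linearIndependent_empty_type, fun i => i.elim0⟩, fun i => i.elim0⟩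
        uniq := fun x => Subtype.ext (funext fun i => i.elim0) }
    rw [Nat.card_unique, one_mul]
  · intro s _
    apply Nat.card_congr
    refine Equiv.subtypeEquivRight (fun v => ?_)
    constructor
    · exact fun h => h.2
    · intro h
      refine ⟨⟨fun i => i.elim0, ?_⟩, h⟩
      have : Set.range s = ∅ := Set.range_eq_empty s
      rw [this, Submodule.span_empty, Submodule.mem_bot]
      rintro rfl
      rw [map_zero] at h
      exact zero_ne_one h

/-- the number of frames of vectors of norm one -/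
theorem card_qframes (hQ : (polarBilin Q).Nondegenerate) (k : ℕ) :
    Nat.card {x : Fin (k + 1) → V // x ∈ QFrame Q (k + 1)} = Nat.card {v : V // Q v = 1} *
      ∏ i ∈ Finset.range k, (Fintype.card F ^ (finrank F V - (i + 1) - 1) - Fintype.card F ^ i) := by
  induction k with
  | zero => rw [Finset.range_zero, Finset.prod_empty, mul_one, card_qframe_one]
  | succ k ih =>
    rw [card_qframe_succ Q (k + 1) _ (fun s hs => card_qfibre Q hQ hs), ih,
      Finset.prod_range_succ, mul_assoc]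

end count

section key

variable {F : Type*} [Field F] [Fintype F] [CharP F 2] {ι : Type} [Fintype ι] [DecidableEq ι]
  (Q : QuadraticForm F (ι → F))

omit [Fintype F] [CharP F 2] in
theorem smul_frame_apply' (g : ↥(Cfsg.isometryGroup F (⇑Q))) {k : ℕ} (w : Fin k → (ι → F))
    (i : Fin k) : (g • w) i = (g.1.1 : Matrix ι ι F) *ᵥ w i := rfl

omit [Fintype F] [CharP F 2] in
theorem Nfr_smul (g : ↥(Cfsg.isometryGroup F (⇑Q))) {k : ℕ} (w : Fin k → (ι → F)) (v : ι → F) :
    Nfr (polarBilin Q) (g • w) ((g.1.1 : Matrix ι ι F) *ᵥ v)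
      = (g.1.1 : Matrix ι ι F) *ᵥ (Nfr (polarBilin Q) w v) := by
  have h : ∀ z : Fin k → (ι → F), (g.1.1 : Matrix ι ι F) *ᵥ (∑ i, z i)
      = ∑ i, (g.1.1 : Matrix ι ι F) *ᵥ z i := by
    intro z
    exact map_sum ((g.1.1 : Matrix ι ι F).mulVecLin) z Finset.univ
  rw [Nfr_apply, Nfr_apply, h]
  apply Finset.sum_congr rfl
  intro i _
  rw [Matrix.mulVec_smul, smul_frame_apply', polarBilin_apply_apply,
    polarBilin_apply_apply, polar_mulVec]

omit [Fintype F] [CharP F 2] in
theorem mulVec_inv_cancel (g : ↥(Cfsg.isometryGroup F (⇑Q))) (y : ι → F) :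
    (g.1.1 : Matrix ι ι F) *ᵥ ((g⁻¹.1.1 : Matrix ι ι F) *ᵥ y) = y := by
  have : (g.1.1 : Matrix ι ι F) * g⁻¹.1.1 = 1 :=
    congrArg (fun u : ↥(Cfsg.isometryGroup F (⇑Q)) => (u.1.1 : Matrix ι ι F)) (mul_inv_cancel g)
  rw [Matrix.mulVec_mulVec, this, Matrix.one_mulVec]

omit [Fintype F] [CharP F 2] in
theorem commute_iff_Nmap (g x : ↥(Cfsg.isometryGroup F (⇑Q))) :
    g * x = x * g ↔ ∀ v, (g.1.1 : Matrix ι ι F) *ᵥ (Nmap Q x v)
      = Nmap Q x ((g.1.1 : Matrix ι ι F) *ᵥ v) := by
  constructor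
  · intro h v
    have hmat : (g.1.1 : Matrix ι ι F) * x.1.1 = x.1.1 * g.1.1 :=
      congrArg (fun u : ↥(Cfsg.isometryGroup F (⇑Q)) => (u.1.1 : Matrix ι ι F)) h
    rw [Nmap_apply, Nmap_apply, Matrix.mulVec_sub, Matrix.mulVec_mulVec, Matrix.mulVec_mulVec,
      hmat]
  · intro hh
    apply Subtype.ext
    apply Units.ext
    show (g.1.1 : Matrix ι ι F) * x.1.1 = x.1.1 * g.1.1
    rw [Matrix.ext_iff_mulVec]
    intro v
    rw [← Matrix.mulVec_mulVec, ← Matrix.mulVec_mulVec]
    have h1 := hh v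
    rw [Nmap_apply, Nmap_apply, Matrix.mulVec_sub] at h1
    exact sub_left_injective h1

/-- the centraliser of an involution of non-alternating type against the frames of vectors of norm
one -/
theorem card_centralizer_mul_qframes (hQ : (polarBilin Q).Nondegenerate)
    {x : ↥(Cfsg.isometryGroup F (⇑Q))} (hx : x * x = 1) {s : ℕ}
    (hr : finrank F (LinearMap.range (Nmap Q x)) = s)
    (hna : ∃ u, polarBilin Q u (Nmap Q x u) ≠ 0) :
    Nat.card {g : ↥(Cfsg.isometryGroup F (⇑Q)) // g * x = x * g} *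
        Nat.card {y : Fin s → (ι → F) // y ∈ QFrame Q s}
      = ofib (Fintype.card F) s * Nat.card ↥(Cfsg.isometryGroup F (⇑Q)) := by
  have hA := polarBilin_isAlt Q
  have hN := isSA_Nmap Q hx
  obtain ⟨w, hw1, hw2⟩ := nonalt_decomp hA hQ exists_sqrt s _ hN hr (fun _ => hna)
  have hfw := isFrame_nonalt hN hr w hw1 hw2
  have hNw : Nfr (polarBilin Q) w = Nmap Q x := by
    apply LinearMap.ext
    intro y
    rw [Nfr_apply, hw2]
  have hQw := Q_frame_nonalt Q hQ hfw hNw
  obtain ⟨P, hP⟩ : ∃ P, P = Subgroup.centralizer ({x} : Set ↥(Cfsg.isometryGroup F (⇑Q))) :=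
    ⟨_, rfl⟩
  have hmemP : ∀ g, g ∈ P ↔ g * x = x * g := by
    intro g
    rw [hP, Subgroup.mem_centralizer_singleton_iff]
  have hle : MulAction.stabilizer ↥(Cfsg.isometryGroup F (⇑Q)) w ≤ P := by
    intro g hg
    have hg' : g • w = w := hg
    rw [hmemP, commute_iff_Nmap]
    intro v
    rw [← hNw, ← Nfr_smul, hg']
  have key := card_mul_orbit w P hle
  have h1 : MulAction.orbit ↥(Cfsg.isometryGroup F (⇑Q)) w = QFrame Q s := by
    ext y
    constructor
    · rintro ⟨g, rfl⟩
      refine ⟨⟨?_, fun i j => ?_⟩, fun i => ?_⟩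
      · have := hfw.1.map' ((g.1.1 : Matrix ι ι F).mulVecLin) (by
          rw [LinearMap.ker_eq_bot]
          intro a b hab
          have := congrArg (fun z => (g⁻¹.1.1 : Matrix ι ι F) *ᵥ z) hab
          simp only [Matrix.mulVecLin_apply] at this
          have h2 := mulVec_inv_cancel Q g⁻¹ a
          have h3 := mulVec_inv_cancel Q g⁻¹ b
          rw [inv_inv] at h2 h3
          rw [h2, h3] at this
          exact this)
        exact this
      · show polarBilin Q ((g.1.1 : Matrix ι ι F) *ᵥ w i) ((g.1.1 : Matrix ι ι F) *ᵥ w j) = 0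
        rw [polarBilin_apply_apply, polar_mulVec, ← polarBilin_apply_apply]
        exact hfw.2 i j
      · show Q ((g.1.1 : Matrix ι ι F) *ᵥ w i) = 1
        rw [Q_mulVec]
        exact hQw i
    · rintro ⟨hy1, hy2⟩
      obtain ⟨g, hg⟩ := witt_mulVec Q hQ s w y hfw.1 hy1.1 (fun i => by rw [hQw, hy2])
        (fun i j => by
          rw [← polarBilin_apply_apply, ← polarBilin_apply_apply, hfw.2, hy1.2])
      exact ⟨g, funext hg⟩
  have h2 : MulAction.orbit P w = Fib (polarBilin Q) s (Nmap Q x) := by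
    ext y
    constructor
    · rintro ⟨⟨g, hg⟩, rfl⟩
      have hgy : (g • w) ∈ QFrame Q s := by
        rw [← h1]
        exact ⟨g, rfl⟩
      refine ⟨hgy.1, ?_⟩
      apply LinearMap.ext
      intro v
      have h3 := Nfr_smul Q g w ((g⁻¹.1.1 : Matrix ι ι F) *ᵥ v)
      rw [mulVec_inv_cancel] at h3
      show Nfr (polarBilin Q) (g • w) v = _
      rw [h3, hNw, (commute_iff_Nmap Q g x).1 ((hmemP g).1 hg), mulVec_inv_cancel]
    · rintro ⟨hy1, hy2⟩
      have hQy := Q_frame_nonalt Q hQ hy1 hy2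
      obtain ⟨g, hg⟩ := witt_mulVec Q hQ s w y hfw.1 hy1.1 (fun i => by rw [hQw, hQy])
        (fun i j => by
          rw [← polarBilin_apply_apply, ← polarBilin_apply_apply, hfw.2, hy1.2])
      have hgw : g • w = y := funext hg
      refine ⟨⟨g, ?_⟩, hgw⟩
      rw [hmemP, commute_iff_Nmap]
      intro v
      rw [← hNw, ← Nfr_smul, hgw, hy2, hNw]
  rw [h1, h2] at key
  have h3 : Nat.card {g : ↥(Cfsg.isometryGroup F (⇑Q)) // g * x = x * g} = Nat.card P := by
    apply Nat.card_congr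
    exact Equiv.subtypeEquivRight (fun g => (hmemP g).symm)
  rw [h3]
  have h4 : Nat.card {y : Fin s → (ι → F) // y ∈ QFrame Q s} = (QFrame Q s).ncard := by
    rw [← Nat.card_coe_set_eq]
  rw [h4, key, ← Nat.card_coe_set_eq, card_Fib hA hQ s _ hN hr (fun _ => hna)]

/-- a reflection is not in `Ω` -/
theorem tG_not_mem_Omega (hQ : (polarBilin Q).Nondegenerate)
    (hex : Fintype.card F ≠ 2 ∨ Fintype.card ι ≠ 4) {v : ι → F} (hv : Q v ≠ 0) :
    tG Q v ∉ Cfsg.Omega F (⇑Q) := by
  intro h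
  have h1 : ([v].map (tG Q)).prod = tG Q v := by
    rw [List.map_cons, List.map_nil, List.prod_cons, List.prod_nil, mul_one]
  have h2 := (prod_tG_mem_commutator_iff Q hQ hex [v] (by
    intro u hu
    rw [List.mem_singleton] at hu
    rw [hu]; exact hv)).1 (by rw [h1]; exact h)
  rw [List.length_singleton] at h2
  exact absurd h2 (by decide)

/-- if the involution fixes a non-singular vector, half of its centraliser lies in `Ω` -/
theorem two_mul_card_centralizer_Omega (hQ : (polarBilin Q).Nondegenerate)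
    (hex : Fintype.card F ≠ 2 ∨ Fintype.card ι ≠ 4) {x : ↥(Cfsg.isometryGroup F (⇑Q))}
    {v : ι → F} (hv : Q v ≠ 0) (hxv : (x.1.1 : Matrix ι ι F) *ᵥ v = v) :
    Nat.card {g : ↥(Cfsg.Omega F (⇑Q)) // (g : ↥(Cfsg.isometryGroup F (⇑Q))) * x
        = x * (g : ↥(Cfsg.isometryGroup F (⇑Q)))} * 2
      = Nat.card {g : ↥(Cfsg.isometryGroup F (⇑Q)) // g * x = x * g} := by
  obtain ⟨P, hP⟩ : ∃ P, P = Subgroup.centralizer ({x} : Set ↥(Cfsg.isometryGroup F (⇑Q))) :=
    ⟨_, rfl⟩
  have hmemP : ∀ g, g ∈ P ↔ g * x = x * g := by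
    intro g
    rw [hP, Subgroup.mem_centralizer_singleton_iff]
  have hrP : tG Q v ∈ P := (hmemP _).2 (tG_commute Q hv hxv)
  have hrO := tG_not_mem_Omega Q hQ hex hv
  have hidx : ((Cfsg.Omega F (⇑Q)).subgroupOf P).index = 2 := by
    rw [Subgroup.index_eq_two_iff]
    refine ⟨⟨tG Q v, hrP⟩, fun b => ?_⟩
    rw [Subgroup.mem_subgroupOf, Subgroup.mem_subgroupOf]
    show Xor' (b.1 * tG Q v ∈ Cfsg.Omega F (⇑Q)) (b.1 ∈ Cfsg.Omega F (⇑Q))
    by_cases hb : b.1 ∈ Cfsg.Omega F (⇑Q)
    · right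
      refine ⟨hb, fun h => hrO ?_⟩
      have := (Cfsg.Omega F (⇑Q)).mul_mem ((Cfsg.Omega F (⇑Q)).inv_mem hb) h
      rwa [inv_mul_cancel_left] at this
    · left
      exact ⟨mul_tG_mem_Omega Q hQ hex hb hv, hb⟩
  have h1 := Subgroup.card_mul_index ((Cfsg.Omega F (⇑Q)).subgroupOf P)
  rw [hidx] at h1
  have h2 : Nat.card {g : ↥(Cfsg.isometryGroup F (⇑Q)) // g * x = x * g} = Nat.card P := by
    apply Nat.card_congr
    exact Equiv.subtypeEquivRight (fun g => (hmemP g).symm)
  rw [h2, ← h1]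
  congr 1
  apply Nat.card_congr
  exact
    { toFun := fun g => ⟨⟨g.1.1, (hmemP _).2 g.2⟩, Subgroup.mem_subgroupOf.2 g.1.2⟩
      invFun := fun b => ⟨⟨b.1.1, Subgroup.mem_subgroupOf.1 b.2⟩, (hmemP _).1 b.1.2⟩
      left_inv := fun g => rfl
      right_inv := fun b => rfl }

end key

end Cfsg.Agent.Helper11.OrthCent
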