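import Mathlib
import Cfsg.Agent.Lib.Helper11.OrthCent1
import Cfsg.Agent.Lib.Helper11.OrthStdFrames
import Cfsg.Agent.Lib.Helper2.OrthOrders

set_option autoImplicit false

/-! Centralisers in `Ω⁺` of involutions of non-alternating type, characteristic two. -/

namespace Cfsg.Agent.Helper11.OrthCent

open QuadraticMap Matrix Module
open Cfsg.Agent.Helper17.Spinor Cfsg.Agent.Helper11.SympInv Cfsg.Agent.Helper28.IsoFrames
  Cfsg.Agent.Helper11.OrthInv

section levels

variable {F : Type*} [Field F] [Fintype F] [CharP F 2] {V : Type*} [AddCommGroup V] [Module F V]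
  [FiniteDimensional F V] (Q : QuadraticForm F V)

omit [FiniteDimensional F V] in
theorem card_level_eq {c : F} (hc : c ≠ 0) :
    Nat.card {v : V // Q v = c} = Nat.card {v : V // Q v = 1} := by
  have hs0 : sq c ≠ 0 := by
    intro h
    have := sq_mul_self c
    rw [h, mul_zero] at this
    exact hc this.symm
  symm
  apply Nat.card_congr
  exact
    { toFun := fun v => ⟨sq c • v.1, by
        rw [QuadraticMap.map_smul, sq_mul_self, v.2, smul_eq_mul, mul_one]⟩
      invFun := fun w => ⟨(sq c)⁻¹ • w.1, by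
        rw [QuadraticMap.map_smul, w.2, smul_eq_mul]
        nth_rewrite 3 [← sq_mul_self c]
        rw [mul_mul_mul_comm, inv_mul_cancel₀ hs0, one_mul]⟩
      left_inv := fun v => by
        apply Subtype.ext
        show (sq c)⁻¹ • sq c • v.1 = v.1
        rw [smul_smul, inv_mul_cancel₀ hs0, one_smul]
      right_inv := fun w => by
        apply Subtype.ext
        show sq c • (sq c)⁻¹ • w.1 = w.1
        rw [smul_smul, mul_inv_cancel₀ hs0, one_smul] }

/-- counting the vectors by their norm -/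
theorem card_norm_one_mul :
    Nat.card {v : V // Q v = 1} * (Fintype.card F - 1) + Nat.card {v : V // Q v = 0}
      = Fintype.card F ^ finrank F V := by
  classical
  have : Finite V := Module.finite_of_finite F
  have h1 := Nat.card_congr (Equiv.sigmaFiberEquiv (fun v : V => Q v)).symm
  rw [Nat.card_sigma, Module.natCard_eq_pow_finrank (K := F), Nat.card_eq_fintype_card (α := F)]
    at h1
  rw [h1, ← Finset.add_sum_erase Finset.univ _ (Finset.mem_univ (0 : F)), add_comm]
  congr 1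
  rw [Finset.sum_congr rfl (fun c hc => card_level_eq Q (Finset.ne_of_mem_erase hc)),
    Finset.sum_const, Finset.card_erase_of_mem (Finset.mem_univ _), Finset.card_univ, smul_eq_mul,
    mul_comm]

end levels

section plus

variable {F : Type*} [Field F] [Fintype F] [CharP F 2]

/-- the number of vectors of norm one of the hyperbolic form -/
theorem card_norm_one_plus (k : ℕ) :
    Nat.card {v : Fin (k + 1) ⊕ Fin (k + 1) → F // plusQ (k + 1) F v = 1}
      = Fintype.card F ^ k * (Fintype.card F ^ (k + 1) - 1) := by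
  have h1 := card_norm_one_mul (plusQ (k + 1) F)
  have hfr : finrank F (Fin (k + 1) ⊕ Fin (k + 1) → F) = 2 * (k + 1) := by
    rw [Module.finrank_fintype_fun_eq_card, Fintype.card_sum, Fintype.card_fin]; ring
  rw [hfr] at h1
  have hN := Cfsg.Agent.Helper2.Orth.Nsing_plus (F := F) (k + 1)
  unfold Cfsg.Agent.Helper2.Orth.Nsing at hN
  rw [quadFormPlus_eq] at hN
  obtain ⟨n1, hn1⟩ : ∃ n1, n1 = Nat.card {v : Fin (k + 1) ⊕ Fin (k + 1) → F //
    plusQ (k + 1) F v = 1} := ⟨_, rfl⟩
  obtain ⟨N0, hN0⟩ : ∃ N0, N0 = Nat.card {v : Fin (k + 1) ⊕ Fin (k + 1) → F //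
    plusQ (k + 1) F v = 0} := ⟨_, rfl⟩
  rw [← hn1]
  rw [← hn1, ← hN0] at h1
  rw [← hN0] at hN
  have hq : 2 ≤ Fintype.card F := Fintype.one_lt_card
  obtain ⟨p, hp⟩ : ∃ p, Fintype.card F = p + 1 := ⟨Fintype.card F - 1, by omega⟩
  have hp1 : 1 ≤ p := by omega
  rw [hp] at h1 hN ⊢
  rw [Nat.add_sub_cancel] at h1
  obtain ⟨A, hA⟩ : ∃ A, A = (p + 1) ^ k := ⟨_, rfl⟩
  have e1 : (p + 1) ^ (k + 1) = A * (p + 1) := by rw [hA, pow_succ]
  have e2 : (p + 1) ^ (2 * (k + 1)) = A * A * (p + 1) * (p + 1) := by rw [hA]; ring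
  have e3 : (p + 1) ^ (k + 1 + 1) = A * (p + 1) * (p + 1) := by rw [hA]; ring
  rw [e1, e2, e3] at hN
  rw [e2] at h1
  rw [e1, ← hA]
  have h1' : (n1 : ℤ) * p + N0 = A * A * (p + 1) * (p + 1) := by exact_mod_cast h1
  have hN' : (N0 : ℤ) * (p + 1) + A * (p + 1) = A * A * (p + 1) * (p + 1) + A * (p + 1) * (p + 1) := by
    exact_mod_cast hN
  have h3 : ((n1 : ℤ) + A - A * A * (p + 1)) * ((p : ℤ) * (p + 1)) = 0 := by
    linear_combination ((p : ℤ) + 1) * h1' - hN'
  have hpz : ((p : ℤ) * (p + 1)) ≠ 0 := by positivity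
  have h4 : (n1 : ℤ) + A = A * A * (p + 1) := by
    rcases mul_eq_zero.1 h3 with h | h
    · linarith
    · exact absurd h hpz
  have h5 : n1 + A = A * A * (p + 1) := by exact_mod_cast h4
  rw [Nat.mul_sub, mul_one, ← mul_assoc]
  omega

/-- the order of `O⁺` in terms of the symplectic order -/
theorem card_plus_eq (k : ℕ) :
    Nat.card ↥(Cfsg.isometryGroup F (⇑(plusQ (k + 1) F))) =
      2 * (Fintype.card F ^ k * (Fintype.card F ^ (k + 1) - 1)) * spOrd (Fintype.card F) k := by
  have h := Cfsg.Agent.Helper2.Orth.card_plus_succ (F := F) k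
  rw [quadFormPlus_eq] at h
  rw [h]
  unfold spOrd
  have : (k + 1) * k = k ^ 2 + k := by ring
  rw [this, pow_add]
  ring

/-- the centraliser in `Ω⁺` of an involution of non-alternating type -/
theorem card_centralizer_Omega_plus_nonalt (k s' : ℕ)
    (hex : Fintype.card F ≠ 2 ∨ k + 1 ≠ 2)
    (x : ↥(Cfsg.isometryGroup F (⇑(plusQ (k + 1) F)))) (hx : x * x = 1)
    (hr : finrank F (LinearMap.range (Nmap (plusQ (k + 1) F) x)) = s' + 1)
    (hna : ∃ u, polarBilin (plusQ (k + 1) F) u (Nmap (plusQ (k + 1) F) x u) ≠ 0) :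
    Nat.card {g : ↥(Cfsg.Omega F (⇑(plusQ (k + 1) F))) //
        (g : ↥(Cfsg.isometryGroup F (⇑(plusQ (k + 1) F)))) * x
          = x * (g : ↥(Cfsg.isometryGroup F (⇑(plusQ (k + 1) F))))}
      = ofib (Fintype.card F) (s' + 1) *
        (Fintype.card F ^ (2 * k * s' - (3 * s' ^ 2 - s') / 2) *
          spOrd (Fintype.card F) (k - s')) := by
  have hQ := plusQ_nondeg (m := k + 1) (F := F)
  have hcard : Fintype.card (Fin (k + 1) ⊕ Fin (k + 1)) = 2 * (k + 1) := by
    rw [Fintype.card_sum, Fintype.card_fin]; ring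
  have hex' : Fintype.card F ≠ 2 ∨ Fintype.card (Fin (k + 1) ⊕ Fin (k + 1)) ≠ 4 := by
    rcases hex with h | h
    · exact Or.inl h
    · right
      rw [hcard]
      omega
  have hq : 2 ≤ Fintype.card F := Fintype.one_lt_card
  have hker : ¬ IsTS (plusQ (k + 1) F) (LinearMap.ker (Nmap (plusQ (k + 1) F) x)) := by
    intro hts
    obtain ⟨u, hu⟩ := hna
    exact hu (((am_iff (plusQ (k + 1) F) x (k + 1)).1
      (type_of_isTS_ker (plusQ (k + 1) F) hQ hcard hx hts)).2 u)
  obtain ⟨v, hv, hxv⟩ := exists_fixed_nonsingular (plusQ (k + 1) F) hker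
  have h2 := two_mul_card_centralizer_Omega (plusQ (k + 1) F) hQ hex' hv hxv
  have h3 := card_centralizer_mul_qframes (plusQ (k + 1) F) hQ hx hr hna
  have h4 := card_qframes (plusQ (k + 1) F) hQ s'
  have hfr : finrank F (Fin (k + 1) ⊕ Fin (k + 1) → F) = 2 * (k + 1) := by
    rw [Module.finrank_fintype_fun_eq_card, hcard]
  rw [hfr, card_norm_one_plus] at h4
  have hprod : ∏ i ∈ Finset.range s',
      (Fintype.card F ^ (2 * (k + 1) - (i + 1) - 1) - Fintype.card F ^ i)
      = ∏ i ∈ Finset.range s', (Fintype.card F ^ (2 * k - i) - Fintype.card F ^ i) := by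
    apply Finset.prod_congr rfl
    intro i _
    congr 2
    omega
  rw [hprod] at h4
  have hs'k : s' ≤ k := by
    have := rank_le_half (plusQ (k + 1) F) hcard hx
    omega
  have hfm := frames_mul (Fintype.card F) k s' hs'k
  have hSpos := spOrd_pos hq k
  obtain ⟨P₀, hP⟩ : ∃ P₀, P₀ = ∏ i ∈ Finset.range s',
    (Fintype.card F ^ (2 * k - i) - Fintype.card F ^ i) := ⟨_, rfl⟩
  rw [← hP] at h4 hfm
  have hPpos : 0 < P₀ := by
    rcases Nat.eq_zero_or_pos P₀ with h | h
    · rw [h, zero_mul] at hfm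
      omega
    · exact h
  obtain ⟨n, hn⟩ : ∃ n, n = Fintype.card F ^ k * (Fintype.card F ^ (k + 1) - 1) := ⟨_, rfl⟩
  have hnpos : 0 < n := by
    rw [hn]
    apply Nat.mul_pos (pow_pos (by omega) _)
    have : 1 < Fintype.card F ^ (k + 1) := Nat.one_lt_pow (by omega) (by omega)
    omega
  rw [← hn] at h4
  rw [h4, card_plus_eq, ← hn, ← h2] at h3
  obtain ⟨C, hC⟩ : ∃ C, C = Nat.card {g : ↥(Cfsg.Omega F (⇑(plusQ (k + 1) F))) //
        (g : ↥(Cfsg.isometryGroup F (⇑(plusQ (k + 1) F)))) * x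
          = x * (g : ↥(Cfsg.isometryGroup F (⇑(plusQ (k + 1) F))))} := ⟨_, rfl⟩
  rw [← hC] at h3 ⊢
  have h5 : C * P₀ = ofib (Fintype.card F) (s' + 1) * spOrd (Fintype.card F) k := by
    apply Nat.eq_of_mul_eq_mul_right (Nat.mul_pos (by norm_num : 0 < 2) hnpos)
    calc C * P₀ * (2 * n) = C * 2 * (n * P₀) := by ring
      _ = ofib (Fintype.card F) (s' + 1) * (2 * n * spOrd (Fintype.card F) k) := h3
      _ = _ := by ring
  apply Nat.eq_of_mul_eq_mul_right hPpos
  rw [h5, ← hfm]
  ring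

end plus

end Cfsg.Agent.Helper11.OrthCent
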