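import Mathlib
import Cfsg.Agent.Lib.Helper11.SympCent3

set_option autoImplicit false

/-! Centraliser orders of involutions of alternating type in `Sp_{2m}(q)`, `q` even:
the frames representing a given map form a torsor under a symplectic group. -/

namespace Cfsg.Agent.Helper11.SympInv

open Module Matrix
open Cfsg.Agent.Helper28.IsoFrames Cfsg.Agent.Helper28.IsoGrp Cfsg.Agent.Helper28.SympIso

section gram

variable {F V : Type*} [Field F] [AddCommGroup V] [Module F V]
  {B : LinearMap.BilinForm F V} {ι : Type*} [Fintype ι] [DecidableEq ι]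

/-- linear combinations of a family -/
def combL (ζ : ι → V) : (ι → F) →ₗ[F] V := Fintype.linearCombination F ζ

omit [DecidableEq ι] in
theorem combL_apply (ζ : ι → V) (c : ι → F) : combL ζ c = ∑ a, c a • ζ a :=
  Fintype.linearCombination_apply F ζ c

/-- the family whose members are the combinations of `ζ` given by the columns of `A` -/
def smulMat (ζ : ι → V) (A : Matrix ι ι F) : ι → V := fun a => ∑ b, A b a • ζ b

omit [DecidableEq ι] in
theorem combL_smulMat (ζ : ι → V) (A : Matrix ι ι F) :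
    combL (smulMat ζ A) = combL ζ ∘ₗ A.mulVecLin := by
  apply LinearMap.ext
  intro c
  rw [combL_apply, LinearMap.comp_apply, combL_apply]
  simp only [smulMat, Finset.smul_sum, Matrix.mulVecLin_apply, Matrix.mulVec, dotProduct,
    Finset.sum_smul]
  rw [Finset.sum_comm]
  apply Finset.sum_congr rfl
  intro b _
  apply Finset.sum_congr rfl
  intro a _
  rw [smul_smul, mul_comm]

omit [DecidableEq ι] in
theorem coordL_smulMat (ζ : ι → V) (A : Matrix ι ι F) :
    coordL B (smulMat ζ A) = Aᵀ.mulVecLin ∘ₗ coordL B ζ := by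
  apply LinearMap.ext
  intro x
  funext a
  rw [coordL_apply, LinearMap.comp_apply, Matrix.mulVecLin_apply]
  simp only [smulMat, map_sum, map_smul, LinearMap.sum_apply, LinearMap.smul_apply,
    Matrix.mulVec, dotProduct, Matrix.transpose_apply, coordL_apply, smul_eq_mul]

end gram

section alt

variable {F V : Type*} [Field F] [AddCommGroup V] [Module F V]
  {B : LinearMap.BilinForm F V} {k : ℕ}

/-- the map attached to a family indexed by `Fin k ⊕ Fin k` -/
def N2 (B : LinearMap.BilinForm F V) (ζ : Fin k ⊕ Fin k → V) : V →ₗ[F] V :=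
  combL ζ ∘ₗ (Matrix.J (Fin k) F).mulVecLin ∘ₗ coordL B ζ

theorem N2_smulMat (ζ : Fin k ⊕ Fin k → V) (A : Matrix (Fin k ⊕ Fin k) (Fin k ⊕ Fin k) F) :
    N2 B (smulMat ζ A) =
      combL ζ ∘ₗ (A * Matrix.J (Fin k) F * Aᵀ).mulVecLin ∘ₗ coordL B ζ := by
  unfold N2
  rw [combL_smulMat, coordL_smulMat, Matrix.mulVecLin_mul, Matrix.mulVecLin_mul]
  rfl

theorem N2_eq_Nfr2 [CharP F 2] (w w' : Fin k → V) : N2 B (Sum.elim w w') = Nfr2 B w w' := by
  apply LinearMap.ext
  intro x
  unfold N2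
  rw [LinearMap.comp_apply, LinearMap.comp_apply, combL_apply, Nfr2_apply,
    Fintype.sum_sum_type, Finset.sum_add_distrib]
  congr 1
  · apply Finset.sum_congr rfl
    intro i _
    congr 1
    rw [Matrix.mulVecLin_apply, Matrix.J, Matrix.fromBlocks_mulVec]
    simp only [Sum.elim_inl, Sum.elim_inr, Matrix.zero_mulVec, zero_add, Matrix.neg_mulVec,
      Matrix.one_mulVec, Pi.neg_apply, Function.comp_apply, coordL_apply, CharTwo.neg_eq]
  · apply Finset.sum_congr rfl
    intro i _
    congr 1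
    rw [Matrix.mulVecLin_apply, Matrix.J, Matrix.fromBlocks_mulVec]
    simp only [Sum.elim_inr, Sum.elim_inl, Matrix.zero_mulVec, add_zero, Matrix.one_mulVec,
      Function.comp_apply, coordL_apply]

/-- isotropic frames indexed by a sum type -/
def IsFrame' (B : LinearMap.BilinForm F V) (ζ : Fin k ⊕ Fin k → V) : Prop :=
  LinearIndependent F ζ ∧ ∀ a b, B (ζ a) (ζ b) = 0

theorem combL_injective {ζ : Fin k ⊕ Fin k → V} (hζ : LinearIndependent F ζ) :
    Function.Injective (combL (F := F) ζ) :=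
  linearIndependent_iff_injective_fintypeLinearCombination.1 hζ

theorem range_N2_le (ζ : Fin k ⊕ Fin k → V) :
    LinearMap.range (N2 B ζ) ≤ Submodule.span F (Set.range ζ) := by
  rintro _ ⟨x, rfl⟩
  unfold N2
  rw [LinearMap.comp_apply, combL_apply]
  exact Submodule.sum_mem _ (fun a _ => Submodule.smul_mem _ _ (Submodule.subset_span ⟨a, rfl⟩))

theorem smulMat_mem_span (ζ : Fin k ⊕ Fin k → V) (A : Matrix (Fin k ⊕ Fin k) (Fin k ⊕ Fin k) F)
    (a : Fin k ⊕ Fin k) : smulMat ζ A a ∈ Submodule.span F (Set.range ζ) :=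
  Submodule.sum_mem _ (fun b _ => Submodule.smul_mem _ _ (Submodule.subset_span ⟨b, rfl⟩))

theorem isotropic_span' {ζ : Fin k ⊕ Fin k → V} (hζ : ∀ a b, B (ζ a) (ζ b) = 0) :
    ∀ u ∈ Submodule.span F (Set.range ζ), ∀ v ∈ Submodule.span F (Set.range ζ), B u v = 0 := by
  intro a ha b hb
  refine Submodule.span_induction (p := fun a _ => B a b = 0) ?_ ?_ ?_ ?_ ha
  · rintro _ ⟨i, rfl⟩
    refine Submodule.span_induction (p := fun b _ => B (ζ i) b = 0) ?_ ?_ ?_ ?_ hb
    · rintro _ ⟨j, rfl⟩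
      exact hζ i j
    · simp
    · intro a b _ _ ha hb
      rw [map_add, ha, hb, add_zero]
    · intro c a _ ha
      rw [map_smul, ha, smul_zero]
  · simp
  · intro a b _ _ ha hb
    rw [map_add, LinearMap.add_apply, ha, hb, add_zero]
  · intro c a _ ha
    rw [map_smul, LinearMap.smul_apply, ha, smul_zero]

variable [FiniteDimensional F V]

theorem gram_cancel (hB : B.Nondegenerate) {ζ : Fin k ⊕ Fin k → V} (hζ : LinearIndependent F ζ)
    {M M' : Matrix (Fin k ⊕ Fin k) (Fin k ⊕ Fin k) F}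
    (h : combL ζ ∘ₗ M.mulVecLin ∘ₗ coordL B ζ = combL ζ ∘ₗ M'.mulVecLin ∘ₗ coordL B ζ) :
    M = M' := by
  rw [Matrix.ext_iff_mulVec]
  intro y
  obtain ⟨x, rfl⟩ := coordL_surjective hB ζ hζ y
  apply combL_injective hζ
  have := LinearMap.congr_fun h x
  simp only [LinearMap.comp_apply, Matrix.mulVecLin_apply] at this
  exact this

theorem mem_range_N2 (hB : B.Nondegenerate) {ζ : Fin k ⊕ Fin k → V}
    (hζ : LinearIndependent F ζ) (a : Fin k ⊕ Fin k) : ζ a ∈ LinearMap.range (N2 B ζ) := by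
  obtain ⟨x, hx⟩ := coordL_surjective hB ζ hζ
    (-(Matrix.J (Fin k) F *ᵥ (Pi.single a (1 : F))))
  refine ⟨x, ?_⟩
  unfold N2
  rw [LinearMap.comp_apply, LinearMap.comp_apply, hx, Matrix.mulVecLin_apply, Matrix.mulVec_neg,
    Matrix.mulVec_mulVec, Matrix.J_squared, Matrix.neg_mulVec, Matrix.one_mulVec, neg_neg,
    combL_apply, Finset.sum_eq_single a]
  · rw [Pi.single_eq_same, one_smul]
  · intro b _ hb
    rw [Pi.single_eq_of_ne hb, zero_smul]
  · intro h
    exact absurd (Finset.mem_univ a) h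

/-- the frames representing the same map form a torsor under the symplectic group -/
theorem card_fib2 [Finite F] (hB : B.Nondegenerate) {ζ₀ : Fin k ⊕ Fin k → V}
    (h₀ : IsFrame' B ζ₀) :
    Nat.card {ζ : Fin k ⊕ Fin k → V // IsFrame' B ζ ∧ N2 B ζ = N2 B ζ₀}
      = Nat.card (Matrix.symplecticGroup (Fin k) F) := by
  symm
  have hfwd : ∀ A : Matrix.symplecticGroup (Fin k) F,
      IsFrame' B (smulMat ζ₀ (A : Matrix (Fin k ⊕ Fin k) (Fin k ⊕ Fin k) F)) ∧
        N2 B (smulMat ζ₀ (A : Matrix (Fin k ⊕ Fin k) (Fin k ⊕ Fin k) F)) = N2 B ζ₀ := by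
    intro A
    refine ⟨⟨?_, ?_⟩, ?_⟩
    · rw [linearIndependent_iff_injective_fintypeLinearCombination]
      show Function.Injective (combL (F := F) (smulMat ζ₀ _))
      rw [combL_smulMat]
      apply (combL_injective h₀.1).comp
      intro c c' hcc
      have h1 : ((A⁻¹ : Matrix.symplecticGroup (Fin k) F) :
          Matrix (Fin k ⊕ Fin k) (Fin k ⊕ Fin k) F) * A = 1 := by
        have : (A⁻¹ * A : Matrix.symplecticGroup (Fin k) F) = 1 := inv_mul_cancel A
        exact congrArg Subtype.val this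
      have h2 := congrArg (fun v => ((A⁻¹ : Matrix.symplecticGroup (Fin k) F) :
          Matrix (Fin k ⊕ Fin k) (Fin k ⊕ Fin k) F) *ᵥ v) hcc
      simp only [Matrix.mulVecLin_apply, Matrix.mulVec_mulVec, h1, Matrix.one_mulVec] at h2
      exact h2
    · intro a b
      exact isotropic_span' h₀.2 _ (smulMat_mem_span ζ₀ _ a) _ (smulMat_mem_span ζ₀ _ b)
    · rw [N2_smulMat, SymplecticGroup.mem_iff.1 A.2]
      rfl
  apply Nat.card_eq_of_bijective (fun A : Matrix.symplecticGroup (Fin k) F =>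
    (⟨smulMat ζ₀ (A : Matrix (Fin k ⊕ Fin k) (Fin k ⊕ Fin k) F), hfwd A⟩ :
      {ζ : Fin k ⊕ Fin k → V // IsFrame' B ζ ∧ N2 B ζ = N2 B ζ₀}))
  constructor
  · intro A A' h
    have h1 : smulMat ζ₀ (A : Matrix (Fin k ⊕ Fin k) (Fin k ⊕ Fin k) F) =
        smulMat ζ₀ (A' : Matrix (Fin k ⊕ Fin k) (Fin k ⊕ Fin k) F) :=
      congrArg Subtype.val h
    apply Subtype.ext
    ext b a
    have h2 := congrFun h1 a
    have h3 : combL ζ₀ (fun b => (A : Matrix (Fin k ⊕ Fin k) (Fin k ⊕ Fin k) F) b a)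
        = combL ζ₀ (fun b => (A' : Matrix (Fin k ⊕ Fin k) (Fin k ⊕ Fin k) F) b a) := by
      rw [combL_apply, combL_apply]
      exact h2
    exact congrFun (combL_injective h₀.1 h3) b
  · rintro ⟨ζ, hζ, hN⟩
    have hmem : ∀ a, ζ a ∈ Submodule.span F (Set.range ζ₀) := by
      intro a
      apply range_N2_le (B := B) ζ₀
      rw [← hN]
      exact mem_range_N2 hB hζ.1 a
    choose c hc using fun a => (Submodule.mem_span_range_iff_exists_fun F).1 (hmem a)
    have hζA : smulMat ζ₀ (Matrix.of (fun b a => c a b)) = ζ := by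
      funext a
      exact hc a
    have hA : (Matrix.of (fun b a => c a b) : Matrix (Fin k ⊕ Fin k) (Fin k ⊕ Fin k) F)
        ∈ Matrix.symplecticGroup (Fin k) F := by
      rw [SymplecticGroup.mem_iff]
      apply gram_cancel hB h₀.1
      rw [← N2_smulMat, hζA, hN]
      rfl
    exact ⟨⟨_, hA⟩, Subtype.ext hζA⟩

end alt

section assemble2

variable {F V : Type*} [Field F] [AddCommGroup V] [Module F V]
  {B : LinearMap.BilinForm F V} {k : ℕ}

theorem isFrame_iff' (z : Fin (k + k) → V) :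
    IsFrame B (k + k) z ↔ IsFrame' B (z ∘ finSumFinEquiv) := by
  unfold IsFrame IsFrame'
  rw [linearIndependent_equiv finSumFinEquiv]
  constructor
  · rintro ⟨h1, h2⟩
    exact ⟨h1, fun a b => h2 _ _⟩
  · rintro ⟨h1, h2⟩
    refine ⟨h1, fun i j => ?_⟩
    have := h2 (finSumFinEquiv.symm i) (finSumFinEquiv.symm j)
    simp only [Function.comp_apply, Equiv.apply_symm_apply] at this
    exact this

/-- the map attached to a family indexed by `Fin (k + k)` -/
def Φ2 (B : LinearMap.BilinForm F V) (z : Fin (k + k) → V) : V →ₗ[F] V :=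
  N2 B (z ∘ finSumFinEquiv)

theorem Φ2_equivariant (g : isoGrp B) (z : Fin (k + k) → V) (x : V) :
    Φ2 B (g • z) ((g : V ≃ₗ[F] V) x) = (g : V ≃ₗ[F] V) (Φ2 B z x) := by
  unfold Φ2 N2
  simp only [LinearMap.comp_apply]
  have h1 : coordL B ((g • z) ∘ finSumFinEquiv) ((g : V ≃ₗ[F] V) x)
      = coordL B (z ∘ finSumFinEquiv) x := by
    funext a
    rw [coordL_apply, coordL_apply, Function.comp_apply, smul_frame_apply, g.2]
    rfl
  rw [h1, combL_apply, combL_apply, map_sum]
  apply Finset.sum_congr rfl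
  intro a _
  rw [map_smul]
  rfl

theorem comb_comp {W : Type*} {k : ℕ} (w w' : Fin k → W) :
    comb w w' ∘ finSumFinEquiv = Sum.elim w w' := by
  funext a
  unfold comb
  simp

theorem card_fib2' [Finite F] [FiniteDimensional F V] (hB : B.Nondegenerate)
    {z₀ : Fin (k + k) → V} (h₀ : IsFrame B (k + k) z₀) :
    Nat.card {z : Fin (k + k) → V // IsFrame B (k + k) z ∧ Φ2 B z = Φ2 B z₀}
      = Nat.card (Matrix.symplecticGroup (Fin k) F) := by
  rw [← card_fib2 hB ((isFrame_iff' z₀).1 h₀)]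
  apply Nat.card_congr
  let e : (Fin (k + k) → V) ≃ (Fin k ⊕ Fin k → V) :=
    { toFun := fun z => z ∘ finSumFinEquiv
      invFun := fun ζ => ζ ∘ finSumFinEquiv.symm
      left_inv := fun z => by funext i; simp
      right_inv := fun ζ => by funext a; simp }
  apply e.subtypeEquiv
  intro z
  show _ ↔ IsFrame' B (z ∘ finSumFinEquiv) ∧ _
  rw [isFrame_iff']
  rfl

end assemble2

section assemble3

variable {F : Type*} [Field F] [Fintype F] [CharP F 2] {m : ℕ}

/-- the centraliser count in the alternating case -/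
theorem card_centralizer_alt (t : Matrix.symplecticGroup (Fin m) F)
    (ht : (t : Matrix (Fin m ⊕ Fin m) (Fin m ⊕ Fin m) F) * t = 1) {s : ℕ}
    (hs : ((t : Matrix (Fin m ⊕ Fin m) (Fin m ⊕ Fin m) F) - 1).rank = s)
    (halt : ∀ u, Cfsg.sympForm m F u
      ((t : Matrix (Fin m ⊕ Fin m) (Fin m ⊕ Fin m) F) *ᵥ u) = 0) :
    ∃ k, s = 2 * k ∧
    Nat.card (Subgroup.centralizer ({t} : Set (Matrix.symplecticGroup (Fin m) F))) *
      ∏ i ∈ Finset.range s, (Fintype.card F ^ (2 * m - i) - Fintype.card F ^ i)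
      = spOrd (Fintype.card F) k * spOrd (Fintype.card F) m := by
  have hA := sympBil_isAlt (F := F) m
  have hB := sympBil_nondegenerate (F := F) m
  have hN := isSA_Nmat t.2 ht
  have hr : finrank F (LinearMap.range
      (Nmat (t : Matrix (Fin m ⊕ Fin m) (Fin m ⊕ Fin m) F))) = s := by
    rw [finrank_range_Nmat, hs]
  obtain ⟨k, hk, w, w', hw1, hw2⟩ := alt_decomp hA hB s _ hN hr
    (fun x => by rw [sympBil_Nmat]; exact halt x)
  refine ⟨k, hk, ?_⟩
  have hfw := isFrame_alt hN (hr.trans hk) w w' hw1 hw2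
  have hNw : Φ2 (sympBil m F) (comb w w')
      = Nmat (t : Matrix (Fin m ⊕ Fin m) (Fin m ⊕ Fin m) F) := by
    unfold Φ2
    rw [comb_comp, N2_eq_Nfr2]
    apply LinearMap.ext
    intro y
    rw [Nfr2_apply, hw2]
  have key := card_cent_mul hA hB (Φ2 (sympBil m F)) Φ2_equivariant hfw
  rw [card_fib2' hB hfw, hNw, card_frames_sympBil, card_isoGrp_sympBil,
    Cfsg.Agent.Helper2.Symp.card_symplecticGroup] at key
  rw [card_centralizer_eq, hk, two_mul]
  exact key

end assemble3

end Cfsg.Agent.Helper11.SympInv
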