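import Mathlib
import Cfsg.Agent.Lib.Helper11.OrthCent2
import Cfsg.Agent.Lib.Helper11.SympCent4

set_option autoImplicit false

/-! Centralisers in orthogonal groups of involutions of alternating type, characteristic two:
the count of totally singular frames. -/

namespace Cfsg.Agent.Helper11.OrthCent

open QuadraticMap Matrix Module
open Cfsg.Agent.Helper17.Spinor Cfsg.Agent.Helper11.SympInv Cfsg.Agent.Helper28.IsoFrames
  Cfsg.Agent.Helper11.OrthInv

section tscount

variable {F : Type*} [Field F] [Fintype F] [CharP F 2] {V : Type*} [AddCommGroup V] [Module F V]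
  [FiniteDimensional F V] (Q : QuadraticForm F V)

/-- frames of singular vectors -/
def TSFrame (k : ℕ) : Set (Fin k → V) := {x | IsFrame (polarBilin Q) k x ∧ ∀ i, Q (x i) = 0}

/-- singular vectors orthogonal to a family -/
def TsT {k : ℕ} (z : Fin k → V) (v : V) : Prop := (∀ i, polarBilin Q (z i) v = 0) ∧ Q v = 0

omit [Fintype F] [CharP F 2] [FiniteDimensional F V] in
theorem Q_add_smul_singular {e : V} (he : Q e = 0) (v : V) (c : F) :
    Q (v + c • e) = Q v + c * polar Q v e := by
  rw [Q_add Q, QuadraticMap.map_smul, he, smul_zero, add_zero, polar_smul_right, smul_eq_mul]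

theorem card_tsT_one (hQ : (polarBilin Q).Nondegenerate) {k : ℕ} {z : Fin (k + 1) → V}
    (hz : z ∈ TSFrame Q (k + 1)) :
    Nat.card {v : V // TsT Q (Fin.tail z) v ∧ polarBilin Q (z 0) v = 1} * Fintype.card F
      = Fintype.card F ^ (finrank F V - k - 1) := by
  have : Finite V := Module.finite_of_finite F
  obtain ⟨S, hS⟩ : ∃ S, S = LinearMap.BilinForm.orthogonal (polarBilin Q)
    (Submodule.span F (Set.range (Fin.tail z))) := ⟨_, rfl⟩
  have hmemS : ∀ v, v ∈ S ↔ ∀ i, polarBilin Q (Fin.tail z i) v = 0 := fun v => by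
    rw [hS, mem_orthogonal_span]
  have hfrS : finrank F S = finrank F V - k := by
    rw [hS, LinearMap.BilinForm.finrank_orthogonal hQ,
      finrank_span_eq_card (isFrame_tail hz.1).1, Fintype.card_fin]
  have heS : z 0 ∈ S := by
    rw [hmemS]
    intro i
    exact hz.1.2 i.succ 0
  have hee : polar Q (z 0) (z 0) = 0 := polar_self_char_two Q (z 0)
  have hrefl : (polarBilin Q).IsRefl := (polarBilin_isSymm Q).isRefl
  obtain ⟨φ, hφdef⟩ : ∃ φ : S →ₗ[F] F, ∀ d : S, φ d = polar Q (z 0) d.1 :=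
    ⟨(polarBilin Q (z 0)).domRestrict S, fun d => rfl⟩
  have hφ : Function.Surjective φ := by
    obtain ⟨d, hdS, hd⟩ : ∃ d ∈ S, polar Q (z 0) d ≠ 0 := by
      by_contra hcon
      push Not at hcon
      have h1 : z 0 ∈ LinearMap.BilinForm.orthogonal (polarBilin Q) S := by
        intro u hu
        show polarBilin Q u (z 0) = 0
        rw [polarBilin_apply_apply, polar_comm]
        exact hcon u hu
      rw [hS, LinearMap.BilinForm.orthogonal_orthogonal hQ hrefl] at h1
      exact (isFrame_head hz.1).2 h1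
    intro c
    refine ⟨⟨(c / polar Q (z 0) d) • d, S.smul_mem _ hdS⟩, ?_⟩
    rw [hφdef]
    show polar Q (z 0) ((c / polar Q (z 0) d) • d) = c
    rw [polar_smul_right, smul_eq_mul, div_mul_cancel₀ _ hd]
  have h1 := card_fibre_functional φ hφ 1
  rw [hfrS] at h1
  have e : {d : S // φ d = 1} ≃
      F × {v : V // TsT Q (Fin.tail z) v ∧ polarBilin Q (z 0) v = 1} :=
    { toFun := fun d => (Q d.1.1, ⟨d.1.1 + Q d.1.1 • z 0, by
        have hd1 : polar Q (z 0) d.1.1 = 1 := by rw [← hφdef]; exact d.2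
        refine ⟨⟨(hmemS _).1 (S.add_mem d.1.2 (S.smul_mem _ heS)), ?_⟩, ?_⟩
        · rw [Q_add_smul_singular Q (hz.2 0), polar_comm, hd1, mul_one,
            CharTwo.add_self_eq_zero]
        · rw [polarBilin_apply_apply, polar_add_right, polar_smul_right, hd1, hee, smul_zero,
            add_zero]⟩)
      invFun := fun p => ⟨⟨p.2.1 + p.1 • z 0,
          S.add_mem ((hmemS _).2 p.2.2.1.1) (S.smul_mem _ heS)⟩, by
        rw [hφdef]
        show polar Q (z 0) (p.2.1 + p.1 • z 0) = 1
        have := p.2.2.2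
        rw [polarBilin_apply_apply] at this
        rw [polar_add_right, polar_smul_right, this, hee, smul_zero, add_zero]⟩
      left_inv := fun d => by
        apply Subtype.ext
        apply Subtype.ext
        show d.1.1 + Q d.1.1 • z 0 + Q d.1.1 • z 0 = d.1.1
        rw [add_assoc, vadd_self F, add_zero]
      right_inv := fun p => by
        obtain ⟨c, a, ⟨ha1, ha2⟩, ha3⟩ := p
        rw [polarBilin_apply_apply] at ha3
        have h1 : Q (a + c • z 0) = c := by
          rw [Q_add_smul_singular Q (hz.2 0), ha2, zero_add, polar_comm, ha3, mul_one]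
        apply Prod.ext
        · exact h1
        · apply Subtype.ext
          show a + c • z 0 + Q (a + c • z 0) • z 0 = a
          rw [h1, add_assoc, vadd_self F, add_zero] }
  rw [Nat.card_congr e, Nat.card_prod, Nat.card_eq_fintype_card (α := F)] at h1
  rw [← h1]
  ring

omit [CharP F 2] in
theorem card_tsT_tail {k : ℕ} (z : Fin (k + 1) → V) :
    Nat.card {v : V // TsT Q (Fin.tail z) v} = Nat.card {v : V // TsT Q z v}
      + (Fintype.card F - 1) *
        Nat.card {v : V // TsT Q (Fin.tail z) v ∧ polarBilin Q (z 0) v = 1} := by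
  classical
  have : Finite V := Module.finite_of_finite F
  have h1 := Nat.card_congr (Equiv.sigmaFiberEquiv
    (fun v : {v : V // TsT Q (Fin.tail z) v} => polarBilin Q (z 0) v.1)).symm
  rw [Nat.card_sigma] at h1
  have hfib : ∀ c : F, Nat.card {w : {v : V // TsT Q (Fin.tail z) v} //
      polarBilin Q (z 0) w.1 = c}
      = Nat.card {v : V // TsT Q (Fin.tail z) v ∧ polarBilin Q (z 0) v = c} := fun c =>
    Nat.card_congr (Equiv.subtypeSubtypeEquivSubtypeInter (fun v : V => TsT Q (Fin.tail z) v)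
      (fun v : V => polarBilin Q (z 0) v = c))
  rw [Finset.sum_congr rfl (fun c _ => hfib c),
    ← Finset.add_sum_erase Finset.univ _ (Finset.mem_univ (0 : F))] at h1
  rw [h1]
  congr 1
  · apply Nat.card_congr
    refine Equiv.subtypeEquivRight (fun v => ?_)
    unfold TsT
    rw [Fin.forall_fin_succ]
    constructor
    · rintro ⟨⟨h2, h3⟩, h4⟩
      exact ⟨⟨h4, h2⟩, h3⟩
    · rintro ⟨⟨h4, h2⟩, h3⟩
      exact ⟨⟨h2, h3⟩, h4⟩
  · have hc : ∀ c ∈ Finset.univ.erase (0 : F),
        Nat.card {v : V // TsT Q (Fin.tail z) v ∧ polarBilin Q (z 0) v = c}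
        = Nat.card {v : V // TsT Q (Fin.tail z) v ∧ polarBilin Q (z 0) v = 1} := by
      intro c hc
      have hc0 : c ≠ 0 := Finset.ne_of_mem_erase hc
      symm
      apply Nat.card_congr
      exact
        { toFun := fun v => ⟨c • v.1, ⟨fun i => by
              rw [map_smul, v.2.1.1 i, smul_zero], by
              rw [QuadraticMap.map_smul, v.2.1.2, smul_zero]⟩, by
              rw [map_smul, v.2.2, smul_eq_mul, mul_one]⟩
          invFun := fun w => ⟨c⁻¹ • w.1, ⟨fun i => by
              rw [map_smul, w.2.1.1 i, smul_zero], by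
              rw [QuadraticMap.map_smul, w.2.1.2, smul_zero]⟩, by
              rw [map_smul, w.2.2, smul_eq_mul, inv_mul_cancel₀ hc0]⟩
          left_inv := fun v => by
            apply Subtype.ext
            show c⁻¹ • c • v.1 = v.1
            rw [smul_smul, inv_mul_cancel₀ hc0, one_smul]
          right_inv := fun w => by
            apply Subtype.ext
            show c • c⁻¹ • w.1 = w.1
            rw [smul_smul, mul_inv_cancel₀ hc0, one_smul] }
    rw [Finset.sum_congr rfl hc, Finset.sum_const, Finset.card_erase_of_mem (Finset.mem_univ _),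
      Finset.card_univ, smul_eq_mul]

/-- the number of singular vectors orthogonal to a totally singular frame -/
theorem card_tsT (hQ : (polarBilin Q).Nondegenerate) (m : ℕ)
    (hN0 : Nat.card {v : V // Q v = 0} * Fintype.card F + Fintype.card F ^ m
      = Fintype.card F ^ finrank F V + Fintype.card F ^ (m + 1)) :
    ∀ (k : ℕ) (z : Fin k → V), z ∈ TSFrame Q k →
      Nat.card {v : V // TsT Q z v} * Fintype.card F + Fintype.card F ^ m
        = Fintype.card F ^ (finrank F V - k) + Fintype.card F ^ (m + 1) := by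
  have hq : 2 ≤ Fintype.card F := Fintype.one_lt_card
  intro k
  induction k with
  | zero =>
    intro z _
    rw [Nat.sub_zero, ← hN0]
    congr 2
    apply Nat.card_congr
    refine Equiv.subtypeEquivRight (fun v => ?_)
    unfold TsT
    constructor
    · exact fun h => h.2
    · exact fun h => ⟨fun i => i.elim0, h⟩
  | succ k ih =>
    intro z hz
    have htail : Fin.tail z ∈ TSFrame Q k := ⟨isFrame_tail hz.1, fun i => hz.2 i.succ⟩
    have h1 := ih _ htail
    have h2 := card_tsT_tail Q z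
    have h3 := card_tsT_one Q hQ hz
    have hk : k + 1 ≤ finrank F V := by
      have := hz.1.1.fintype_card_le_finrank
      rwa [Fintype.card_fin] at this
    obtain ⟨a, ha⟩ : ∃ a, a = Nat.card {v : V // TsT Q (Fin.tail z) v} := ⟨_, rfl⟩
    obtain ⟨b, hb⟩ : ∃ b, b = Nat.card {v : V // TsT Q z v} := ⟨_, rfl⟩
    obtain ⟨c, hc⟩ : ∃ c, c = Nat.card {v : V // TsT Q (Fin.tail z) v ∧
      polarBilin Q (z 0) v = 1} := ⟨_, rfl⟩
    rw [← ha] at h1 h2
    rw [← hb] at h2 ⊢
    rw [← hc] at h2 h3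
    obtain ⟨p, hp⟩ : ∃ p, Fintype.card F = p + 1 := ⟨Fintype.card F - 1, by omega⟩
    rw [hp] at h1 h2 h3 ⊢
    rw [Nat.add_sub_cancel] at h2
    have e1 : finrank F V - k = (finrank F V - k - 1) + 1 := by omega
    have e2 : finrank F V - (k + 1) = finrank F V - k - 1 := by omega
    rw [e1, pow_succ] at h1
    rw [e2]
    obtain ⟨X, hX⟩ : ∃ X, X = (p + 1) ^ (finrank F V - k - 1) := ⟨_, rfl⟩
    rw [← hX] at h1 h3 ⊢
    rw [h2] at h1
    have h4 : (b + p * c) * (p + 1) = b * (p + 1) + p * X := by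
      rw [← h3]; ring
    rw [h4] at h1
    have h5 : X * (p + 1) = X + p * X := by ring
    rw [h5] at h1
    omega

omit [Fintype F] [FiniteDimensional F V] in
theorem singular_of_mem_span {k : ℕ} {z : Fin k → V} (hz : z ∈ TSFrame Q k) :
    ∀ u ∈ Submodule.span F (Set.range z), Q u = 0 := by
  intro u hu
  refine Submodule.span_induction (p := fun u _ => Q u = 0) ?_ ?_ ?_ ?_ hu
  · rintro _ ⟨i, rfl⟩
    exact hz.2 i
  · exact map_zero Q
  · intro a b ha hb h1 h2
    have := isotropic_span hz.1 a ha b hb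
    rw [polarBilin_apply_apply] at this
    rw [Q_add Q, h1, h2, this, add_zero, add_zero]
  · intro c a _ h1
    rw [QuadraticMap.map_smul, h1, smul_zero]

/-- the size of the fibres of the totally singular frames -/
def tsfib (q m n k : ℕ) : ℕ := (q ^ (n - k) + q ^ (m + 1) - q ^ (k + 1) - q ^ m) / q

theorem card_tsfibre (hQ : (polarBilin Q).Nondegenerate) (m : ℕ)
    (hN0 : Nat.card {v : V // Q v = 0} * Fintype.card F + Fintype.card F ^ m
      = Fintype.card F ^ finrank F V + Fintype.card F ^ (m + 1))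
    {k : ℕ} {z : Fin k → V} (hz : z ∈ TSFrame Q k) :
    Nat.card {v : V // ((∀ i, polarBilin Q (z i) v = 0) ∧
        v ∉ Submodule.span F (Set.range z)) ∧ Q v = 0}
      = tsfib (Fintype.card F) m (finrank F V) k := by
  have : Finite V := Module.finite_of_finite F
  have hq : 2 ≤ Fintype.card F := Fintype.one_lt_card
  have h1 := card_tsT Q hQ m hN0 k z hz
  obtain ⟨A, hA⟩ : ∃ A : Set V, A = {v | TsT Q z v} := ⟨_, rfl⟩
  obtain ⟨U, hU⟩ : ∃ U, U = Submodule.span F (Set.range z) := ⟨_, rfl⟩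
  have hsub : (U : Set V) ⊆ A := by
    intro u hu
    rw [hA]
    refine ⟨?_, singular_of_mem_span Q hz u (hU ▸ hu)⟩
    intro i
    exact isotropic_span hz.1 _ (Submodule.subset_span ⟨i, rfl⟩) _ (hU ▸ hu)
  have hcA : A.ncard = Nat.card {v : V // TsT Q z v} := by
    rw [← Nat.card_coe_set_eq, hA]
    rfl
  have hcU : (U : Set V).ncard = Fintype.card F ^ k := by
    rw [← Nat.card_coe_set_eq]
    show Nat.card U = _
    rw [Module.natCard_eq_pow_finrank (K := F), Nat.card_eq_fintype_card, hU,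
      finrank_span_eq_card hz.1.1, Fintype.card_fin]
  have h3 : Nat.card {v : V // ((∀ i, polarBilin Q (z i) v = 0) ∧
      v ∉ Submodule.span F (Set.range z)) ∧ Q v = 0} = (A \ (U : Set V)).ncard := by
    rw [← Nat.card_coe_set_eq]
    apply Nat.card_congr
    refine Equiv.subtypeEquivRight (fun v => ?_)
    rw [Set.mem_sdiff, hA, hU]
    show _ ↔ ((∀ i, polarBilin Q (z i) v = 0) ∧ Q v = 0) ∧ v ∉ Submodule.span F (Set.range z)
    constructor
    · rintro ⟨⟨h1, h2⟩, h3⟩
      exact ⟨⟨h1, h3⟩, h2⟩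
    · rintro ⟨⟨h1, h3⟩, h2⟩
      exact ⟨⟨h1, h2⟩, h3⟩
  rw [h3, Set.ncard_sdiff hsub (Set.toFinite _), hcA, hcU]
  have hle : Fintype.card F ^ k ≤ Nat.card {v : V // TsT Q z v} := by
    rw [← hcA, ← hcU]
    exact Set.ncard_le_ncard hsub (Set.toFinite _)
  unfold tsfib
  symm
  apply Nat.div_eq_of_eq_mul_left (by omega)
  rw [Nat.sub_mul, ← pow_succ]
  omega

/-- frames of length `k+1` are frames of length `k` together with one more vector -/
def tsframeEquiv (k : ℕ) :
    {x : Fin (k + 1) → V // x ∈ TSFrame Q (k + 1)} ≃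
      Σ s : {s : Fin k → V // s ∈ TSFrame Q k},
        {v : V // ((∀ i, polarBilin Q (s.1 i) v = 0) ∧
          v ∉ Submodule.span F (Set.range s.1)) ∧ Q v = 0} where
  toFun x := ⟨⟨Fin.tail x.1, isFrame_tail x.2.1, fun i => x.2.2 i.succ⟩,
    ⟨x.1 0, isFrame_head x.2.1, x.2.2 0⟩⟩
  invFun s := ⟨Fin.cons s.2.1 s.1.1, isFrame_cons (polarBilin_isAlt' Q) s.1.2.1 s.2.2.1, by
    intro i
    induction i using Fin.cases with
    | zero => rw [Fin.cons_zero]; exact s.2.2.2
    | succ j => rw [Fin.cons_succ]; exact s.1.2.2 j⟩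
  left_inv _ := by simp only [Fin.cons_self_tail, Subtype.coe_eta]
  right_inv := fun ⟨⟨s, hs⟩, ⟨v, hv⟩⟩ => rfl

/-- the number of totally singular frames -/
theorem card_tsframes (hQ : (polarBilin Q).Nondegenerate) (m : ℕ)
    (hN0 : Nat.card {v : V // Q v = 0} * Fintype.card F + Fintype.card F ^ m
      = Fintype.card F ^ finrank F V + Fintype.card F ^ (m + 1)) (k : ℕ) :
    Nat.card {x : Fin k → V // x ∈ TSFrame Q k}
      = ∏ i ∈ Finset.range k, tsfib (Fintype.card F) m (finrank F V) i := by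
  have : Finite V := Module.finite_of_finite F
  induction k with
  | zero =>
    rw [Finset.range_zero, Finset.prod_empty]
    have : Unique {x : Fin 0 → V // x ∈ TSFrame Q 0} :=
      { default := ⟨Fin.elim0, ⟨linearIndependent_empty_type, fun i => i.elim0⟩, fun i => i.elim0⟩
        uniq := fun x => Subtype.ext (funext fun i => i.elim0) }
    exact Nat.card_unique
  | succ k ih =>
    have : Fintype {s : Fin k → V // s ∈ TSFrame Q k} := Fintype.ofFinite _
    rw [Nat.card_congr (tsframeEquiv Q k), Nat.card_sigma, Finset.prod_range_succ, ← ih,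
      Finset.sum_congr rfl (fun s _ => card_tsfibre Q hQ m hN0 s.2), Finset.sum_const,
      Finset.card_univ, smul_eq_mul, Nat.card_eq_fintype_card]

end tscount

section keyalt

variable {F : Type*} [Field F] [Fintype F] [CharP F 2] {ι : Type} [Fintype ι] [DecidableEq ι]
  (Q : QuadraticForm F (ι → F))

omit [Fintype F] [CharP F 2] in
theorem Φ2_smul (g : ↥(Cfsg.isometryGroup F (⇑Q))) {k : ℕ} (z : Fin (k + k) → (ι → F))
    (v : ι → F) :
    Φ2 (polarBilin Q) (g • z) ((g.1.1 : Matrix ι ι F) *ᵥ v)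
      = (g.1.1 : Matrix ι ι F) *ᵥ (Φ2 (polarBilin Q) z v) := by
  have h : ∀ y : Fin k ⊕ Fin k → (ι → F), (g.1.1 : Matrix ι ι F) *ᵥ (∑ i, y i)
      = ∑ i, (g.1.1 : Matrix ι ι F) *ᵥ y i := by
    intro y
    exact map_sum ((g.1.1 : Matrix ι ι F).mulVecLin) y Finset.univ
  unfold Φ2 N2
  simp only [LinearMap.comp_apply]
  have h1 : coordL (polarBilin Q) ((g • z) ∘ finSumFinEquiv) ((g.1.1 : Matrix ι ι F) *ᵥ v)
      = coordL (polarBilin Q) (z ∘ finSumFinEquiv) v := by
    funext a
    rw [coordL_apply, coordL_apply, Function.comp_apply, Function.comp_apply,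
      smul_frame_apply', polarBilin_apply_apply, polarBilin_apply_apply, polar_mulVec]
  rw [h1, combL_apply, combL_apply, h]
  apply Finset.sum_congr rfl
  intro a _
  rw [Matrix.mulVec_smul]
  rfl

/-- the centraliser of an involution of alternating type against the totally singular frames -/
theorem card_centralizer_mul_tsframes (hQ : (polarBilin Q).Nondegenerate)
    {x : ↥(Cfsg.isometryGroup F (⇑Q))} (hx : x * x = 1) {k : ℕ}
    (hr : finrank F (LinearMap.range (Nmap Q x)) = 2 * k)
    (halt : ∀ u, polarBilin Q u (Nmap Q x u) = 0) :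
    Nat.card {g : ↥(Cfsg.isometryGroup F (⇑Q)) // g * x = x * g} *
        Nat.card {y : Fin (k + k) → (ι → F) // y ∈ TSFrame Q (k + k)}
      = Nat.card (Matrix.symplecticGroup (Fin k) F) *
        Nat.card ↥(Cfsg.isometryGroup F (⇑Q)) := by
  have hA := polarBilin_isAlt Q
  have hN := isSA_Nmap Q hx
  obtain ⟨k', hk', w, w', hw1, hw2⟩ := alt_decomp hA hQ _ _ hN hr halt
  have hkk : k' = k := by omega
  subst hkk
  have hfw := isFrame_alt hN hr w w' hw1 hw2
  have hNw : Φ2 (polarBilin Q) (comb w w') = Nmap Q x := by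
    unfold Φ2
    rw [comb_comp, N2_eq_Nfr2]
    apply LinearMap.ext
    intro y
    rw [Nfr2_apply, hw2]
  have hTS := isTS_range_of_alt Q halt
  have hmemr : ∀ {z : Fin (k' + k') → (ι → F)}, IsFrame (polarBilin Q) (k' + k') z →
      Φ2 (polarBilin Q) z = Nmap Q x → ∀ i, Q (z i) = 0 := by
    intro z hz hz2 i
    apply hTS
    rw [← hz2]
    have := mem_range_N2 hQ ((isFrame_iff' z).1 hz).1 (finSumFinEquiv.symm i)
    rw [Function.comp_apply, Equiv.apply_symm_apply] at this
    exact this
  have hQw := hmemr hfw hNw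
  obtain ⟨z₀, hz₀⟩ : ∃ z₀, z₀ = comb w w' := ⟨_, rfl⟩
  rw [← hz₀] at hfw hNw hQw
  obtain ⟨P, hP⟩ : ∃ P, P = Subgroup.centralizer ({x} : Set ↥(Cfsg.isometryGroup F (⇑Q))) :=
    ⟨_, rfl⟩
  have hmemP : ∀ g, g ∈ P ↔ g * x = x * g := by
    intro g
    rw [hP, Subgroup.mem_centralizer_singleton_iff]
  have hle : MulAction.stabilizer ↥(Cfsg.isometryGroup F (⇑Q)) z₀ ≤ P := by
    intro g hg
    have hg' : g • z₀ = z₀ := hg
    rw [hmemP, commute_iff_Nmap]
    intro v
    rw [← hNw, ← Φ2_smul, hg']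
  have key := card_mul_orbit z₀ P hle
  have h1 : MulAction.orbit ↥(Cfsg.isometryGroup F (⇑Q)) z₀ = TSFrame Q (k' + k') := by
    ext y
    constructor
    · rintro ⟨g, rfl⟩
      refine ⟨⟨?_, fun i j => ?_⟩, fun i => ?_⟩
      · have := hfw.1.map' ((g.1.1 : Matrix ι ι F).mulVecLin) (by
          rw [LinearMap.ker_eq_bot]
          intro a b hab
          have := congrArg (fun z => (g⁻¹.1.1 : Matrix ι ι F) *ᵥ z) hab
          simp only [Matrix.mulVecLin_apply] at this
          have h2 := mulVec_inv_cancel Q g⁻¹ a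
          have h3 := mulVec_inv_cancel Q g⁻¹ b
          rw [inv_inv] at h2 h3
          rw [h2, h3] at this
          exact this)
        exact this
      · show polarBilin Q ((g.1.1 : Matrix ι ι F) *ᵥ z₀ i) ((g.1.1 : Matrix ι ι F) *ᵥ z₀ j) = 0
        rw [polarBilin_apply_apply, polar_mulVec, ← polarBilin_apply_apply]
        exact hfw.2 i j
      · show Q ((g.1.1 : Matrix ι ι F) *ᵥ z₀ i) = 0
        rw [Q_mulVec]
        exact hQw i
    · rintro ⟨hy1, hy2⟩
      obtain ⟨g, hg⟩ := witt_mulVec Q hQ _ z₀ y hfw.1 hy1.1 (fun i => by rw [hQw, hy2])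
        (fun i j => by
          rw [← polarBilin_apply_apply, ← polarBilin_apply_apply, hfw.2, hy1.2])
      exact ⟨g, funext hg⟩
  have h2 : MulAction.orbit P z₀ = {z | IsFrame (polarBilin Q) (k' + k') z ∧
      Φ2 (polarBilin Q) z = Φ2 (polarBilin Q) z₀} := by
    ext y
    constructor
    · rintro ⟨⟨g, hg⟩, rfl⟩
      have hgy : (g • z₀) ∈ TSFrame Q (k' + k') := by
        rw [← h1]
        exact ⟨g, rfl⟩
      refine ⟨hgy.1, ?_⟩
      apply LinearMap.ext
      intro v
      have h3 := Φ2_smul Q g z₀ ((g⁻¹.1.1 : Matrix ι ι F) *ᵥ v)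
      rw [mulVec_inv_cancel] at h3
      show Φ2 (polarBilin Q) (g • z₀) v = _
      rw [h3, hNw, (commute_iff_Nmap Q g x).1 ((hmemP g).1 hg), mulVec_inv_cancel]
    · rintro ⟨hy1, hy2⟩
      rw [hNw] at hy2
      have hQy := hmemr hy1 hy2
      obtain ⟨g, hg⟩ := witt_mulVec Q hQ _ z₀ y hfw.1 hy1.1 (fun i => by rw [hQw, hQy])
        (fun i j => by
          rw [← polarBilin_apply_apply, ← polarBilin_apply_apply, hfw.2, hy1.2])
      have hgw : g • z₀ = y := funext hg
      refine ⟨⟨g, ?_⟩, hgw⟩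
      rw [hmemP, commute_iff_Nmap]
      intro v
      rw [← hNw, ← Φ2_smul, hgw, hy2, hNw]
  rw [h1, h2] at key
  have h3 : Nat.card {g : ↥(Cfsg.isometryGroup F (⇑Q)) // g * x = x * g} = Nat.card P := by
    apply Nat.card_congr
    exact Equiv.subtypeEquivRight (fun g => (hmemP g).symm)
  rw [h3]
  have h4 : Nat.card {y : Fin (k' + k') → (ι → F) // y ∈ TSFrame Q (k' + k')}
      = (TSFrame Q (k' + k')).ncard := by
    rw [← Nat.card_coe_set_eq]
  rw [h4, key, ← Nat.card_coe_set_eq]
  congr 1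
  exact card_fib2' hQ hfw

end keyalt

end Cfsg.Agent.Helper11.OrthCent
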