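import Mathlib
import Cfsg.Agent.Lib.Helper11.OrthCent3

set_option autoImplicit false

/-! Centralisers in `Ω⁺` of involutions of alternating type, characteristic two: arithmetic and
assembly. -/

namespace Cfsg.Agent.Helper11.OrthCent

open QuadraticMap Matrix Module
open Cfsg.Agent.Helper17.Spinor Cfsg.Agent.Helper11.SympInv Cfsg.Agent.Helper28.IsoFrames
  Cfsg.Agent.Helper11.OrthInv

section arith

/-- half of the order of `O⁺_{2n}(q)` -/
def Oh (q n : ℕ) : ℕ := q ^ (n * (n - 1)) * (q ^ n - 1) * ∏ i ∈ Finset.range (n - 1), (q ^ (2 * (i + 1)) - 1)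

/-- the number of choices for the next vector of a totally singular frame -/
def tsf (q m i : ℕ) : ℕ := q ^ i * (q ^ (m - i) - 1) * (q ^ (m - i - 1) + 1)

theorem tsfib_eq (q m i : ℕ) (hq : 2 ≤ q) (hi : i < m) : tsfib q m (2 * m) i = tsf q m i := by
  unfold tsfib tsf
  apply Nat.div_eq_of_eq_mul_left (by omega)
  obtain ⟨a, ha⟩ : ∃ a, a = q ^ (m - i - 1) := ⟨_, rfl⟩
  obtain ⟨A, hA⟩ : ∃ A, A = q ^ i := ⟨_, rfl⟩
  have e1 : q ^ (m - i) = q * a := by
    rw [ha, ← pow_succ']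
    congr 1
    omega
  have e2 : q ^ (2 * m - i) = A * (q * a) * (q * a) := by
    rw [hA, ← e1, ← pow_add, ← pow_add]
    congr 1
    omega
  have e3 : q ^ (m + 1) = A * (q * a) * q := by
    rw [hA, ← e1, ← pow_add, ← pow_succ]
    congr 1
    omega
  have e4 : q ^ (i + 1) = A * q := by rw [hA, pow_succ]
  have e5 : q ^ m = A * (q * a) := by
    rw [hA, ← e1, ← pow_add]
    congr 1
    omega
  rw [e1, e2, e3, e4, e5, ← ha, ← hA]
  have hqa : 1 ≤ q * a := by
    rw [ha]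
    exact Nat.mul_pos (by omega) (pow_pos (by omega) _)
  obtain ⟨b, hb⟩ : ∃ b, q * a = b + 1 := ⟨q * a - 1, by omega⟩
  rw [hb, Nat.add_sub_cancel]
  have h1 : A * (b + 1) * (b + 1) + A * (b + 1) * q
      = A * b * (a + 1) * q + A * q + A * (b + 1) := by
    have : (b + 1) * (b + 1) + (b + 1) * q = b * (a + 1) * q + q + (b + 1) := by
      have h2 : b * q * a = b * (b + 1) := by rw [← hb]; ring
      have h3 : q * a = b + 1 := hb
      nlinarith
    calc A * (b + 1) * (b + 1) + A * (b + 1) * q = A * ((b + 1) * (b + 1) + (b + 1) * q) := by ring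
      _ = A * (b * (a + 1) * q + q + (b + 1)) := by rw [this]
      _ = _ := by ring
  rw [h1]
  omega

theorem Oh_step (q t : ℕ) (hq : 2 ≤ q) :
    (q ^ (t + 2) - 1) * (q ^ (t + 1) + 1) * q ^ (2 * (t + 2) - 2) * Oh q (t + 1) = Oh q (t + 2) := by
  unfold Oh
  have e1 : t + 2 - 1 = t + 1 := by omega
  have e2 : t + 1 - 1 = t := by omega
  rw [e1, e2, Finset.prod_range_succ]
  have e3 : (q ^ (t + 1) + 1) * (q ^ (t + 1) - 1) = q ^ (2 * (t + 1)) - 1 := by
    have h1 : 1 ≤ q ^ (t + 1) := Nat.one_le_pow _ _ (by omega)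
    obtain ⟨c, hc⟩ : ∃ c, q ^ (t + 1) = c + 1 := ⟨q ^ (t + 1) - 1, by omega⟩
    have h2 : q ^ (2 * (t + 1)) = (c + 1) * (c + 1) := by rw [← hc, ← pow_add]; congr 1; ring
    rw [h2, hc, Nat.add_sub_cancel]
    have : (c + 1) * (c + 1) = (c + 1 + 1) * c + 1 := by ring
    rw [this, Nat.add_sub_cancel]
  have e4 : q ^ ((t + 2) * (t + 1)) = q ^ (2 * (t + 2) - 2) * q ^ ((t + 1) * t) := by
    rw [← pow_add]
    congr 1
    have : 2 * (t + 2) - 2 = 2 * t + 2 := by omega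
    rw [this]
    ring
  rw [e4, ← e3]
  ring

theorem Oh_one (q : ℕ) : Oh q 1 = q - 1 := by
  unfold Oh
  simp

theorem tsf_pos (q m i : ℕ) (hq : 2 ≤ q) (hi : i < m) : 0 < tsf q m i := by
  unfold tsf
  apply Nat.mul_pos
  · apply Nat.mul_pos (pow_pos (by omega) _)
    have : 1 < q ^ (m - i) := Nat.one_lt_pow (by omega) (by omega)
    omega
  · omega

theorem tri_aux' (s : ℕ) : ∃ t, 3 * s ^ 2 + s = 2 * t ∧
    3 * (s + 1) ^ 2 + (s + 1) = 2 * (t + 3 * s + 2) ∧ t ≤ 2 * s ^ 2 := by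
  obtain ⟨p, hp⟩ : ∃ p, p = s ^ 2 := ⟨_, rfl⟩
  have h1 : s ≤ p := by rw [hp]; nlinarith
  have h2 : (s + 1) ^ 2 = p + 2 * s + 1 := by rw [hp]; ring
  rw [h2, ← hp]
  rcases Nat.even_or_odd' s with ⟨a, ha | ha⟩
  · have h3 : p = 2 * (2 * a ^ 2) := by rw [hp, ha]; ring
    refine ⟨(3 * p + s) / 2, ?_, ?_, ?_⟩ <;> omega
  · have h3 : p = 2 * (2 * a ^ 2 + 2 * a) + 1 := by rw [hp, ha]; ring
    refine ⟨(3 * p + s) / 2, ?_, ?_, ?_⟩ <;> omega

/-- totally singular frames times the order of the stabiliser-type factor -/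
theorem tsframes_mul (q m : ℕ) (hq : 2 ≤ q) : ∀ s, s < m →
    (∏ i ∈ Finset.range s, tsf q m i) *
      (q ^ (2 * m * s - (3 * s ^ 2 + s) / 2) * Oh q (m - s)) = Oh q m := by
  intro s
  induction s with
  | zero =>
    intro _
    simp
  | succ s ih =>
    intro hs
    have ih' := ih (by omega)
    rw [← ih', Finset.prod_range_succ]
    obtain ⟨t, ht1, ht2, ht3⟩ := tri_aux' s
    rw [ht1, ht2, Nat.mul_div_cancel_left _ (by norm_num : 0 < 2),
      Nat.mul_div_cancel_left _ (by norm_num : 0 < 2)]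
    obtain ⟨n, hn⟩ : ∃ n, m - s = n + 2 := ⟨m - s - 2, by omega⟩
    have hn' : m - (s + 1) = n + 1 := by omega
    rw [hn, hn', ← Oh_step q n hq]
    unfold tsf
    rw [hn]
    have e0 : n + 2 - 1 = n + 1 := by omega
    rw [e0]
    obtain ⟨a, ha⟩ : ∃ a, a = m * s := ⟨_, rfl⟩
    have ha2 : s ^ 2 + 2 * s ≤ a := by
      rw [ha, pow_two]
      have : (s + 2) * s ≤ m * s := Nat.mul_le_mul_right s (by omega)
      linarith
    have e1 : 2 * m * s = 2 * a := by rw [ha]; ring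
    have e2 : 2 * m * (s + 1) = 2 * a + 2 * m := by rw [ha]; ring
    rw [e1, e2]
    have hexp : q ^ s * q ^ (2 * a + 2 * m - (t + 3 * s + 2)) =
        q ^ (2 * a - t) * q ^ (2 * (n + 2) - 2) := by
      rw [← pow_add, ← pow_add]
      congr 1
      omega
    calc (∏ x ∈ Finset.range s, q ^ x * (q ^ (m - x) - 1) * (q ^ (m - x - 1) + 1)) *
          (q ^ s * (q ^ (n + 2) - 1) * (q ^ (n + 1) + 1)) *
          (q ^ (2 * a + 2 * m - (t + 3 * s + 2)) * Oh q (n + 1))
        = (∏ x ∈ Finset.range s, q ^ x * (q ^ (m - x) - 1) * (q ^ (m - x - 1) + 1)) *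
          ((q ^ s * q ^ (2 * a + 2 * m - (t + 3 * s + 2))) *
            ((q ^ (n + 2) - 1) * (q ^ (n + 1) + 1) * Oh q (n + 1))) := by ring
      _ = _ := by rw [hexp]; ring

/-- the full count: maximal totally singular frames -/
theorem tsframes_mul_top (q m : ℕ) (hq : 2 ≤ q) (hm : 1 ≤ m) :
    (∏ i ∈ Finset.range m, tsf q m i) * q ^ (2 * m * m - (3 * m ^ 2 + m) / 2) = 2 * Oh q m := by
  obtain ⟨s, rfl⟩ : ∃ s, m = s + 1 := ⟨m - 1, by omega⟩
  have h := tsframes_mul q (s + 1) hq s (by omega)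
  rw [← h, Finset.prod_range_succ]
  have e0 : s + 1 - s = 1 := by omega
  rw [e0, Oh_one]
  obtain ⟨t, ht1, ht2, ht3⟩ := tri_aux' s
  rw [ht1, ht2, Nat.mul_div_cancel_left _ (by norm_num : 0 < 2),
    Nat.mul_div_cancel_left _ (by norm_num : 0 < 2)]
  unfold tsf
  rw [e0]
  have e1 : 1 - 1 = 0 := rfl
  rw [e1, pow_zero, pow_one]
  obtain ⟨a, ha⟩ : ∃ a, a = s * s := ⟨_, rfl⟩
  have e2 : 2 * (s + 1) * s = 2 * a + 2 * s := by rw [ha]; ring
  have e3 : 2 * (s + 1) * (s + 1) = 2 * a + 4 * s + 2 := by rw [ha]; ring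
  have e4 : s ^ 2 = a := by rw [ha]; ring
  rw [e2, e3]
  rw [e4] at ht1 ht3
  have hexp : q ^ s * q ^ (2 * a + 4 * s + 2 - (t + 3 * s + 2)) = q ^ (2 * a + 2 * s - t) := by
    rw [← pow_add]
    congr 1
    omega
  calc (∏ x ∈ Finset.range s, q ^ x * (q ^ (s + 1 - x) - 1) * (q ^ (s + 1 - x - 1) + 1)) *
        (q ^ s * (q - 1) * (1 + 1)) * q ^ (2 * a + 4 * s + 2 - (t + 3 * s + 2))
      = 2 * ((∏ x ∈ Finset.range s, q ^ x * (q ^ (s + 1 - x) - 1) * (q ^ (s + 1 - x - 1) + 1)) *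
        ((q ^ s * q ^ (2 * a + 4 * s + 2 - (t + 3 * s + 2))) * (q - 1))) := by ring
    _ = _ := by rw [hexp]

end arith

section assemble

variable {F : Type*} [Field F] [Fintype F] [CharP F 2] {ι : Type} [Fintype ι] [DecidableEq ι]
  (Q : QuadraticForm F (ι → F))

/-- the centraliser of an involution of type `a_m` lies in `Ω` -/
theorem mem_Omega_of_commute_am (hQ : (polarBilin Q).Nondegenerate)
    (hex : Fintype.card F ≠ 2 ∨ Fintype.card ι ≠ 4) {m : ℕ} (hcard : Fintype.card ι = 2 * m)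
    {x : ↥(Cfsg.isometryGroup F (⇑Q))}
    (hr : finrank F (LinearMap.range (Nmap Q x)) = m)
    (halt : ∀ u, polarBilin Q u (Nmap Q x u) = 0) {g : ↥(Cfsg.isometryGroup F (⇑Q))}
    (hg : g * x = x * g) : g ∈ Cfsg.Omega F (⇑Q) := by
  have hU : IsTS Q (LinearMap.range (Nmap Q x)) := isTS_range_of_alt Q halt
  have hU2 : 2 * finrank F ↥(LinearMap.range (Nmap Q x)) = finrank F (ι → F) := by
    rw [hr, Module.finrank_fintype_fun_eq_card, hcard]
  have hg' : g * x * g⁻¹ = x := by rw [hg, mul_assoc, mul_inv_cancel, mul_one]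
  have hmap := range_Nmap_conj Q hg'
  obtain ⟨vs, hvs, rfl⟩ := exists_prod_tG Q hQ hex g
  obtain ⟨-, hpar⟩ := finrank_inf_map_prod_refl_add_length Q hQ hU hU2 vs hvs
  rw [toEnd_prod_tG Q vs hvs] at hmap
  rw [← hmap, inf_idem] at hpar
  show _ ∈ commutator ↥(Cfsg.isometryGroup F (⇑Q))
  rw [prod_tG_mem_commutator_iff Q hQ hex vs hvs, Nat.even_iff]
  omega

end assemble

section plusalt

variable {F : Type*} [Field F] [Fintype F] [CharP F 2]

/-- the centraliser in `Ω⁺` of an involution of alternating type -/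
theorem card_centralizer_Omega_plus_alt (k j : ℕ)
    (hex : Fintype.card F ≠ 2 ∨ k + 1 ≠ 2)
    (x : ↥(Cfsg.isometryGroup F (⇑(plusQ (k + 1) F)))) (hx : x * x = 1)
    (hr : finrank F (LinearMap.range (Nmap (plusQ (k + 1) F) x)) = 2 * j)
    (halt : ∀ u, polarBilin (plusQ (k + 1) F) u (Nmap (plusQ (k + 1) F) x u) = 0) :
    Nat.card {g : ↥(Cfsg.Omega F (⇑(plusQ (k + 1) F))) //
        (g : ↥(Cfsg.isometryGroup F (⇑(plusQ (k + 1) F)))) * x
          = x * (g : ↥(Cfsg.isometryGroup F (⇑(plusQ (k + 1) F))))}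
      = Fintype.card F ^ (2 * (k + 1) * (2 * j) - (3 * (2 * j) ^ 2 + 2 * j) / 2) *
        spOrd (Fintype.card F) j *
        (if 2 * j = k + 1 then 1 else Oh (Fintype.card F) (k + 1 - 2 * j)) := by
  have hQ := plusQ_nondeg (m := k + 1) (F := F)
  have hcard : Fintype.card (Fin (k + 1) ⊕ Fin (k + 1)) = 2 * (k + 1) := by
    rw [Fintype.card_sum, Fintype.card_fin]; ring
  have hex' : Fintype.card F ≠ 2 ∨ Fintype.card (Fin (k + 1) ⊕ Fin (k + 1)) ≠ 4 := by
    rcases hex with h | h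
    · exact Or.inl h
    · right
      rw [hcard]
      omega
  have hq : 2 ≤ Fintype.card F := Fintype.one_lt_card
  have hfr : finrank F (Fin (k + 1) ⊕ Fin (k + 1) → F) = 2 * (k + 1) := by
    rw [Module.finrank_fintype_fun_eq_card, hcard]
  have hN0 : Nat.card {v : Fin (k + 1) ⊕ Fin (k + 1) → F // plusQ (k + 1) F v = 0} *
      Fintype.card F + Fintype.card F ^ (k + 1)
      = Fintype.card F ^ finrank F (Fin (k + 1) ⊕ Fin (k + 1) → F)
        + Fintype.card F ^ (k + 1 + 1) := by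
    have hN := Cfsg.Agent.Helper2.Orth.Nsing_plus (F := F) (k + 1)
    unfold Cfsg.Agent.Helper2.Orth.Nsing at hN
    rw [quadFormPlus_eq] at hN
    rw [hfr]
    exact hN
  have hsm : 2 * j ≤ k + 1 := by
    have := rank_le_half (plusQ (k + 1) F) hcard hx
    omega
  have h3 := card_centralizer_mul_tsframes (plusQ (k + 1) F) hQ hx hr halt
  rw [card_tsframes (plusQ (k + 1) F) hQ (k + 1) hN0, hfr, card_plus_eq,
    Cfsg.Agent.Helper2.Symp.card_symplecticGroup] at h3
  have hprod : ∏ i ∈ Finset.range (j + j), tsfib (Fintype.card F) (k + 1) (2 * (k + 1)) i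
      = ∏ i ∈ Finset.range (2 * j), tsf (Fintype.card F) (k + 1) i := by
    rw [← two_mul]
    apply Finset.prod_congr rfl
    intro i hi
    rw [Finset.mem_range] at hi
    exact tsfib_eq _ _ _ hq (by omega)
  rw [hprod] at h3
  have hG : 2 * (Fintype.card F ^ k * (Fintype.card F ^ (k + 1) - 1)) *
      spOrd (Fintype.card F) k = 2 * Oh (Fintype.card F) (k + 1) := by
    unfold Oh spOrd
    have : (k + 1) * (k + 1 - 1) = k ^ 2 + k := by rw [Nat.add_sub_cancel]; ring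
    rw [this, pow_add, Nat.add_sub_cancel]
    ring
  rw [hG] at h3
  have hSp : Fintype.card F ^ (j ^ 2) *
      ∏ i ∈ Finset.range j, (Fintype.card F ^ (2 * (i + 1)) - 1)
      = spOrd (Fintype.card F) j := rfl
  obtain ⟨P₀, hP⟩ : ∃ P₀, P₀ = ∏ i ∈ Finset.range (2 * j), tsf (Fintype.card F) (k + 1) i :=
    ⟨_, rfl⟩
  have hPpos : 0 < P₀ := by
    rw [hP]
    apply Finset.prod_pos
    intro i hi
    rw [Finset.mem_range] at hi
    exact tsf_pos _ _ _ hq (by omega)
  rw [← hP] at h3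
  obtain ⟨C, hC⟩ : ∃ C, C = Nat.card {g : ↥(Cfsg.Omega F (⇑(plusQ (k + 1) F))) //
        (g : ↥(Cfsg.isometryGroup F (⇑(plusQ (k + 1) F)))) * x
          = x * (g : ↥(Cfsg.isometryGroup F (⇑(plusQ (k + 1) F))))} := ⟨_, rfl⟩
  rw [← hC]
  by_cases hjm : 2 * j = k + 1
  · -- type `a_m`: the centraliser lies in `Ω`
    rw [if_pos hjm, mul_one]
    have hCG : C = Nat.card {g : ↥(Cfsg.isometryGroup F (⇑(plusQ (k + 1) F))) //
        g * x = x * g} := by
      rw [hC]
      apply Nat.card_congr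
      exact
        { toFun := fun g => ⟨g.1.1, g.2⟩
          invFun := fun g => ⟨⟨g.1, mem_Omega_of_commute_am (plusQ (k + 1) F) hQ hex' hcard
            (hr.trans hjm) halt g.2⟩, g.2⟩
          left_inv := fun g => rfl
          right_inv := fun g => rfl }
    rw [← hCG] at h3
    have htop := tsframes_mul_top (Fintype.card F) (k + 1) hq (by omega)
    rw [hjm] at hP
    rw [← hP] at htop
    rw [hjm]
    apply Nat.eq_of_mul_eq_mul_right hPpos
    rw [h3, hSp, ← htop]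
    ring
  · rw [if_neg hjm]
    have hlt : 2 * j < k + 1 := by omega
    have hker : ¬ IsTS (plusQ (k + 1) F) (LinearMap.ker (Nmap (plusQ (k + 1) F) x)) := by
      intro hts
      have := ((am_iff (plusQ (k + 1) F) x (k + 1)).1
        (type_of_isTS_ker (plusQ (k + 1) F) hQ hcard hx hts)).1
      omega
    obtain ⟨v, hv, hxv⟩ := exists_fixed_nonsingular (plusQ (k + 1) F) hker
    have h2 := two_mul_card_centralizer_Omega (plusQ (k + 1) F) hQ hex' hv hxv
    rw [← hC] at h2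
    rw [← h2] at h3
    have hmul := tsframes_mul (Fintype.card F) (k + 1) hq (2 * j) hlt
    rw [← hP] at hmul
    apply Nat.eq_of_mul_eq_mul_right (Nat.mul_pos (by norm_num : 0 < 2) hPpos)
    calc C * (2 * P₀) = C * 2 * P₀ := by ring
      _ = _ := h3
      _ = _ := by rw [hSp, ← hmul]; ring

end plusalt

end Cfsg.Agent.Helper11.OrthCent
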