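import Mathlib
import Cfsg.Agent.Lib.Helper1.PGroupCoatom

/-!
# Generation of finite `p`-groups (Burnside basis, counting form)

helper11.  `pearlgen_main`: a finite `p`-group `G` with a subgroup `N ≤ frattini G` of index `≤ p ^ k`
is generated by a finset of at most `k` elements.
-/

set_option autoImplicit false

namespace Cfsg.Agent.Helper11.PearlGen

open Subgroup

/-- in a finite `p`-group `p`-th powers lie in the Frattini subgroup -/
theorem pearlgen_pow_mem_frattini {P : Type*} [Group P] [Finite P] {p : ℕ} [Fact p.Prime]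
    (hP : IsPGroup p P) (g : P) : g ^ p ∈ frattini P := by
  unfold frattini Order.radical
  rw [Subgroup.mem_iInf]
  intro M
  rw [Subgroup.mem_iInf]
  intro hM
  obtain ⟨hn, hidx⟩ := Cfsg.Agent.Helper1.coatom_normal_index_of_isPGroup hP M hM
  have := Subgroup.pow_index_mem M g
  rwa [hidx] at this

/-- a strict inclusion of subgroups of a finite `p`-group multiplies the order by at least `p` -/
theorem pearlgen_card_lt {G : Type*} [Group G] [Finite G] {p : ℕ} [Fact p.Prime]
    (hG : IsPGroup p G) {A B : Subgroup G} (hAB : A < B) : p * Nat.card A ≤ Nat.card B := by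
  have hp : p.Prime := Fact.out
  obtain ⟨a, ha⟩ := (hG.to_subgroup A).exists_card_eq
  obtain ⟨b, hb⟩ := (hG.to_subgroup B).exists_card_eq
  have hlt : Nat.card A < Nat.card B := by
    have hle : Nat.card A ≤ Nat.card B := Subgroup.card_le_of_le hAB.le
    rcases hle.lt_or_eq with h | h
    · exact h
    · exfalso
      have : A = B := Subgroup.eq_of_le_of_card_ge hAB.le h.ge
      exact hAB.ne this
  rw [ha, hb] at hlt ⊢
  have hab : a < b := (Nat.pow_lt_pow_iff_right hp.one_lt).1 hlt
  calc p * p ^ a = p ^ (a + 1) := by ring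
    _ ≤ p ^ b := Nat.pow_le_pow_right hp.pos hab

/-- the inductive core: from any finset extract a subset generating the same subgroup over `N`,
with the order estimate -/
theorem pearlgen_core {G : Type*} [Group G] [Finite G] {p : ℕ} [Fact p.Prime]
    (hG : IsPGroup p G) (N : Subgroup G) [DecidableEq G] (T : Finset G) :
    ∃ T' : Finset G, N ⊔ closure (T' : Set G) = N ⊔ closure (T : Set G) ∧
      p ^ T'.card * Nat.card N ≤ Nat.card ↥(N ⊔ closure (T : Set G)) := by
  induction T using Finset.induction_on with
  | empty =>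
    refine ⟨∅, rfl, ?_⟩
    simp
  | insert t T0 ht ih =>
    obtain ⟨T0', h1, h2⟩ := ih
    have hcl : N ⊔ closure ((insert t T0 : Finset G) : Set G)
        = (N ⊔ closure (T0 : Set G)) ⊔ zpowers t := by
      rw [Finset.coe_insert, Set.insert_eq, Subgroup.closure_union, ← Subgroup.zpowers_eq_closure,
        sup_comm (zpowers t), sup_assoc]
    by_cases htB : t ∈ N ⊔ closure (T0 : Set G)
    · refine ⟨T0', ?_, ?_⟩
      · rw [hcl, h1]
        exact (sup_eq_left.2 ((zpowers_le).2 htB)).symm
      · rw [hcl, sup_eq_left.2 ((zpowers_le).2 htB)]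
        exact h2
    · refine ⟨insert t T0', ?_, ?_⟩
      · rw [hcl, Finset.coe_insert, Set.insert_eq, Subgroup.closure_union, ← Subgroup.zpowers_eq_closure,
          sup_comm (zpowers t), ← sup_assoc, h1]
      · rw [hcl]
        have hlt : N ⊔ closure (T0 : Set G) < (N ⊔ closure (T0 : Set G)) ⊔ zpowers t := by
          refine lt_of_le_of_ne le_sup_left ?_
          intro h
          apply htB
          rw [h]
          exact (le_sup_right : zpowers t ≤ _) (mem_zpowers t)
        have h3 := pearlgen_card_lt hG hlt
        have hc : (insert t T0').card ≤ T0'.card + 1 := Finset.card_insert_le _ _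
        have hp : p.Prime := Fact.out
        calc p ^ (insert t T0').card * Nat.card N
            ≤ p ^ (T0'.card + 1) * Nat.card N :=
              Nat.mul_le_mul_right _ (Nat.pow_le_pow_right hp.pos hc)
          _ = p * (p ^ T0'.card * Nat.card N) := by ring
          _ ≤ p * Nat.card ↥(N ⊔ closure (T0 : Set G)) := Nat.mul_le_mul_left _ h2
          _ ≤ _ := h3

/-- Burnside basis theorem, counting form -/
theorem pearlgen_main {G : Type*} [Group G] [Finite G] {p : ℕ} [Fact p.Prime]
    (hG : IsPGroup p G) (N : Subgroup G) (hN : N ≤ frattini G) (k : ℕ) (hk : N.index ≤ p ^ k) :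
    ∃ T : Finset G, T.card ≤ k ∧ closure (T : Set G) = ⊤ := by
  classical
  have hp : p.Prime := Fact.out
  haveI : Fintype G := Fintype.ofFinite G
  obtain ⟨T', h1, h2⟩ := pearlgen_core hG N (Finset.univ : Finset G)
  have huniv : closure ((Finset.univ : Finset G) : Set G) = ⊤ := by
    rw [Finset.coe_univ, Subgroup.closure_univ]
  rw [huniv, sup_top_eq] at h1 h2
  refine ⟨T', ?_, ?_⟩
  · have hcard : Nat.card (⊤ : Subgroup G) = N.index * Nat.card N := by
      rw [Subgroup.card_top, mul_comm, Subgroup.card_mul_index]
    rw [hcard] at h2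
    have hNpos : 0 < Nat.card N := Nat.card_pos
    have h3 : p ^ T'.card ≤ N.index := Nat.le_of_mul_le_mul_right h2 hNpos
    have h4 : p ^ T'.card ≤ p ^ k := h3.trans hk
    exact (Nat.pow_le_pow_iff_right hp.one_lt).1 h4
  · apply frattini_nongenerating
    rw [eq_top_iff, ← h1]
    exact sup_le (le_sup_of_le_right hN) le_sup_left

end Cfsg.Agent.Helper11.PearlGen
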