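import Mathlib
import Cfsg.Prelude.Def_FusionSystem
import Cfsg.Agent.Lib.Helper11.PearlGen
import Cfsg.Agent.S0112
import Cfsg.Agent.S4143

/-!
# A pearl forces maximal class and sectional rank `≤ p` (glue for S5238)

helper11.  `pearl_main` proves the statement of S5238 from the conclusion of S4144 (taken as the
hypothesis `h4144`), S0112 and S4143.
-/

set_option autoImplicit false

namespace Cfsg.Agent.Helper11.Pearl

open Subgroup Cfsg.Agent.Helper11.PearlGen

variable {Ω : Type*} [Group Ω] {S : Subgroup Ω}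

/-- essential ⟹ `E ≤ S` and `C_S(E) ≤ E` -/
theorem pearl_centric (F : Cfsg.FusionSystem S) (p : ℕ) (E : Subgroup Ω)
    (hE : F.IsEssential p E) : E ≤ S ∧ S ⊓ Subgroup.centralizer (E : Set Ω) ≤ E := by
  obtain ⟨⟨hES, hc⟩, -, -⟩ := hE
  refine ⟨hES, ?_⟩
  have hconj : F.IsConj E E := by
    refine ⟨Cfsg.conjHom E 1, F.conj_mem hES S.one_mem, ?_⟩
    ext y
    constructor
    · rintro ⟨x, rfl⟩
      simp [Cfsg.conjHom]
    · intro hy
      exact ⟨⟨y, hy⟩, by simp [Cfsg.conjHom]⟩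
  exact hc E hconj

/-- the nilpotency class of `S` from S0112 / S4143 -/
theorem pearl_class [Finite S] (p : ℕ) [Fact p.Prime] (E : Subgroup Ω) (hES : E ≤ S)
    (hcent : S ⊓ Subgroup.centralizer (E : Set Ω) ≤ E)
    (hpearl : (Nat.card E = p ^ 2 ∧ IsMulCommutative ↥E) ∨
      (Nat.card E = p ^ 3 ∧ ¬ IsMulCommutative ↥E))
    (n : ℕ) (hn : Nat.card S = p ^ n) : Group.nilpotencyClass ↥S = n - 1 := by
  have hcardA : Nat.card (E.subgroupOf S) = Nat.card E :=
    Nat.card_congr (Subgroup.subgroupOfEquivOfLe hES).toEquiv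
  have hcA : Subgroup.centralizer ((E.subgroupOf S : Subgroup ↥S) : Set ↥S) ≤ E.subgroupOf S := by
    intro x hx
    rw [Subgroup.mem_subgroupOf]
    apply hcent
    refine ⟨x.2, ?_⟩
    show (x : Ω) ∈ Subgroup.centralizer (E : Set Ω)
    rw [Subgroup.mem_centralizer_iff]
    intro e he
    have := (Subgroup.mem_centralizer_iff.1 hx) ⟨e, hES he⟩
      (by rw [SetLike.mem_coe, Subgroup.mem_subgroupOf]; exact he)
    exact congrArg Subtype.val this
  rcases hpearl with ⟨hc, hab⟩ | ⟨hc, hna⟩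
  · have hAc : Subgroup.centralizer ((E.subgroupOf S : Subgroup ↥S) : Set ↥S)
        = E.subgroupOf S := by
      apply le_antisymm hcA
      intro a ha
      rw [Subgroup.mem_centralizer_iff]
      intro b hb
      have ha' : (a : Ω) ∈ E := Subgroup.mem_subgroupOf.1 ha
      have hb' : (b : Ω) ∈ E := Subgroup.mem_subgroupOf.1 hb
      have := hab.is_comm.comm (⟨b, hb'⟩ : E) ⟨a, ha'⟩
      apply Subtype.ext
      exact congrArg (fun z : E => (z : Ω)) this
    exact Cfsg.Agent.S0112.result n hn (E.subgroupOf S) (hcardA.trans hc) hAc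
  · have hAna : ¬ IsMulCommutative ↥(E.subgroupOf S) := by
      intro hcomm
      apply hna
      refine ⟨⟨fun a b => ?_⟩⟩
      have := hcomm.is_comm.comm
        (⟨⟨a, hES a.2⟩, Subgroup.mem_subgroupOf.2 a.2⟩ : ↥(E.subgroupOf S))
        ⟨⟨b, hES b.2⟩, Subgroup.mem_subgroupOf.2 b.2⟩
      apply Subtype.ext
      exact congrArg (fun z : ↥(E.subgroupOf S) => ((z : ↥S) : Ω)) this
    exact Cfsg.Agent.S4143.result n hn (E.subgroupOf S) (hcardA.trans hc) hAna hcA

/-- generation of a subgroup from the `agemo` index bound -/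
theorem pearl_gen [Finite S] (p : ℕ) [Fact p.Prime] (hS : IsPGroup p S) (H : Subgroup Ω)
    (hHS : H ≤ S)
    (hrel : (Subgroup.closure {y : ↥S | ∃ h ∈ H.subgroupOf S, y = h ^ p}).relIndex
      (H.subgroupOf S) ≤ p ^ p) :
    ∃ T : Finset Ω, T.card ≤ p ∧ Subgroup.closure (T : Set Ω) = H := by
  classical
  set H' : Subgroup ↥S := H.subgroupOf S with hH'
  set A : Subgroup ↥S := Subgroup.closure {y : ↥S | ∃ h ∈ H', y = h ^ p} with hA
  have hPH : IsPGroup p ↥H' := hS.to_subgroup H'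
  have hAle : A ≤ (frattini ↥H').map H'.subtype := by
    rw [hA, Subgroup.closure_le]
    rintro y ⟨h, hh, rfl⟩
    refine ⟨(⟨h, hh⟩ : ↥H') ^ p, pearlgen_pow_mem_frattini hPH _, ?_⟩
    simp
  have hN : A.subgroupOf H' ≤ frattini ↥H' := by
    intro z hz
    rw [Subgroup.mem_subgroupOf] at hz
    obtain ⟨w, hw, hwz⟩ := hAle hz
    have : w = z := H'.subtype_injective hwz
    rwa [← this]
  obtain ⟨T'', hcard, hcl⟩ := pearlgen_main hPH (A.subgroupOf H') hN p hrel
  refine ⟨T''.image (fun z : ↥H' => ((z : ↥S) : Ω)), (Finset.card_image_le).trans hcard, ?_⟩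
  have himg : ((T''.image (fun z : ↥H' => ((z : ↥S) : Ω)) : Finset Ω) : Set Ω)
      = (S.subtype.comp H'.subtype) '' (T'' : Set ↥H') := by
    rw [Finset.coe_image]
    rfl
  rw [himg, ← MonoidHom.map_closure, hcl]
  ext y
  constructor
  · rintro ⟨z, -, rfl⟩
    exact Subgroup.mem_subgroupOf.1 z.2
  · intro hy
    exact ⟨⟨⟨y, hHS hy⟩, Subgroup.mem_subgroupOf.2 hy⟩, Subgroup.mem_top _, rfl⟩

/-- S5238 from the conclusion of S4144 -/
theorem pearl_main [Finite S] (p : ℕ) [Fact p.Prime] (hS : IsPGroup p S)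
    (F : Cfsg.FusionSystem S) (E : Subgroup Ω) (hE : F.IsEssential p E)
    (hpearl : (Nat.card E = p ^ 2 ∧ ∀ x ∈ E, x ^ p = 1 ∧ IsMulCommutative ↥E) ∨
      (Nat.card E = p ^ 3 ∧ ¬ IsMulCommutative ↥E))
    (h4144 : ∀ n : ℕ, 2 ≤ n → Nat.card S = p ^ n → Group.nilpotencyClass ↥S = n - 1 →
      ∀ H : Subgroup ↥S,
        (Subgroup.closure {y : ↥S | ∃ h ∈ H, y = h ^ p}).relIndex H ≤ p ^ p) :
    (∀ n : ℕ, Nat.card S = p ^ n → 3 ≤ n → Subgroup.lowerCentralSeries S (n - 2) ≠ ⊥) ∧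
      ∀ H : Subgroup Ω, H ≤ S →
        ∃ T : Finset Ω, T.card ≤ p ∧ Subgroup.closure (T : Set Ω) = H := by
  have hp : p.Prime := Fact.out
  obtain ⟨hES, hcent⟩ := pearl_centric F p E hE
  have hpearl' : (Nat.card E = p ^ 2 ∧ IsMulCommutative ↥E) ∨
      (Nat.card E = p ^ 3 ∧ ¬ IsMulCommutative ↥E) := by
    rcases hpearl with ⟨hc, h⟩ | h
    · exact Or.inl ⟨hc, (h 1 E.one_mem).2⟩
    · exact Or.inr h
  have hclass : ∀ n : ℕ, Nat.card S = p ^ n → Group.nilpotencyClass ↥S = n - 1 :=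
    fun n hn => pearl_class p E hES hcent hpearl' n hn
  refine ⟨?_, ?_⟩
  · intro n hn h3 hbot
    have hcl := hclass n hn
    haveI : Group.IsNilpotent ↥S := hS.isNilpotent
    have h1 : ((⊤ : Subgroup ↥S).lowerCentralSeries (n - 2)).map S.subtype = ⊥ := by
      rw [Subgroup.top_subtype_lowerCentralSeries, hbot]
    have h2 : (⊤ : Subgroup ↥S).lowerCentralSeries (n - 2) = ⊥ :=
      (Subgroup.map_eq_bot_iff_of_injective _ S.subtype_injective).1 h1
    have h3' : Group.nilpotencyClass ↥S ≤ n - 2 :=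
      Subgroup.lowerCentralSeries_eq_bot_iff_nilpotencyClass_le.1 h2
    omega
  · intro H hHS
    obtain ⟨n, hn⟩ := hS.exists_card_eq
    have h2 : 2 ≤ n := by
      have hdvd : Nat.card E ∣ Nat.card S := Subgroup.card_dvd_of_le hES
      rw [hn] at hdvd
      rcases hpearl' with ⟨hc, -⟩ | ⟨hc, -⟩
      · rw [hc] at hdvd
        exact (Nat.pow_dvd_pow_iff_le_right hp.one_lt).1 hdvd
      · rw [hc] at hdvd
        have := (Nat.pow_dvd_pow_iff_le_right hp.one_lt).1 hdvd
        omega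
    exact pearl_gen p hS H hHS (h4144 n h2 hn (hclass n hn) (H.subgroupOf S))

end Cfsg.Agent.Helper11.Pearl
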