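import Mathlib
import Cfsg.Prelude.Def_FusionSystem
import Cfsg.Agent.Lib.Helper11.Pearl
import Cfsg.Agent.Lib.Helper22.MaxClass
import Cfsg.Agent.Lib.Helper23.PGroup

/-!
# S5238 glue, second form: only LARGE PROPER subgroups need the `agemo` bound

helper11.  `pearl_main2`: like `Pearl.pearl_main`, but the hypothesis is only asked for `3 ≤ n`,
`H ≠ ⊤` and `p ^ (p + 1) ≤ Nat.card H` (so effectively only for `n ≥ p + 2`).
The cases `H = ⊤` (`S` is 2-generated) and `|H| ≤ p ^ p` are done here.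
-/

set_option autoImplicit false

namespace Cfsg.Agent.Helper11.Pearl

open Subgroup Cfsg.Agent.Helper11.PearlGen

/-- a `p`-group of maximal class is generated by 2 elements -/
theorem pearl2_two_gen {X : Type*} [Group X] [Finite X] {p : ℕ} [Fact p.Prime] (n : ℕ)
    (hn : 2 ≤ n) (hX : Nat.card X = p ^ n) (hmax : Group.nilpotencyClass X = n - 1) :
    ∃ T : Finset X, T.card ≤ 2 ∧ Subgroup.closure (T : Set X) = ⊤ := by
  have hP : IsPGroup p X := IsPGroup.of_card hX
  have h1 := (Cfsg.Agent.Helper22.maxClass_facts p n hn X hX hmax).1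
  exact pearlgen_main hP (commutator X)
    (Cfsg.Agent.Helper23.commutator_le_frattini_pgroup p hP) 2 h1.le

/-- a `p`-group of order at most `p ^ k` is generated by `k` elements -/
theorem pearl2_small_gen {X : Type*} [Group X] [Finite X] {p : ℕ} [Fact p.Prime]
    (hP : IsPGroup p X) (k : ℕ) (hk : Nat.card X ≤ p ^ k) :
    ∃ T : Finset X, T.card ≤ k ∧ Subgroup.closure (T : Set X) = ⊤ := by
  refine pearlgen_main hP ⊥ bot_le k ?_
  rwa [Subgroup.index_bot]

variable {Ω : Type*} [Group Ω] {S : Subgroup Ω}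

/-- transport of a generating finset of `↥(H.subgroupOf S)` to `Ω` -/
theorem pearl2_transport (H : Subgroup Ω) (hHS : H ≤ S) (k : ℕ)
    (h : ∃ T : Finset ↥(H.subgroupOf S), T.card ≤ k ∧
      Subgroup.closure (T : Set ↥(H.subgroupOf S)) = ⊤) :
    ∃ T : Finset Ω, T.card ≤ k ∧ Subgroup.closure (T : Set Ω) = H := by
  classical
  obtain ⟨T'', hcard, hcl⟩ := h
  refine ⟨T''.image (fun z : ↥(H.subgroupOf S) => ((z : ↥S) : Ω)),
    (Finset.card_image_le).trans hcard, ?_⟩
  have himg : ((T''.image (fun z : ↥(H.subgroupOf S) => ((z : ↥S) : Ω)) : Finset Ω) : Set Ω)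
      = (S.subtype.comp (H.subgroupOf S).subtype) '' (T'' : Set ↥(H.subgroupOf S)) := by
    rw [Finset.coe_image]
    rfl
  rw [himg, ← MonoidHom.map_closure, hcl]
  ext y
  constructor
  · rintro ⟨z, -, rfl⟩
    exact Subgroup.mem_subgroupOf.1 z.2
  · intro hy
    exact ⟨⟨⟨y, hHS hy⟩, Subgroup.mem_subgroupOf.2 hy⟩, Subgroup.mem_top _, rfl⟩

/-- S5238 from the `agemo` bound for large proper subgroups -/
theorem pearl_main2 [Finite S] (p : ℕ) [Fact p.Prime] (hS : IsPGroup p S)
    (F : Cfsg.FusionSystem S) (hp2 : p ≠ 2) (E : Subgroup Ω) (hE : F.IsEssential p E)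
    (hpearl : (Nat.card E = p ^ 2 ∧ ∀ x ∈ E, x ^ p = 1 ∧ IsMulCommutative ↥E) ∨
      (Nat.card E = p ^ 3 ∧ ¬ IsMulCommutative ↥E))
    (h4144 : ∀ n : ℕ, 3 ≤ n → Nat.card S = p ^ n → Group.nilpotencyClass ↥S = n - 1 →
      ∀ H : Subgroup ↥S, H ≠ ⊤ → p ^ (p + 1) ≤ Nat.card H →
        (Subgroup.closure {y : ↥S | ∃ h ∈ H, y = h ^ p}).relIndex H ≤ p ^ p) :
    (∀ n : ℕ, Nat.card S = p ^ n → 3 ≤ n → Subgroup.lowerCentralSeries S (n - 2) ≠ ⊥) ∧
      ∀ H : Subgroup Ω, H ≤ S →
        ∃ T : Finset Ω, T.card ≤ p ∧ Subgroup.closure (T : Set Ω) = H := by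
  have hp : p.Prime := Fact.out
  have hp3 : 2 ≤ p := hp.two_le
  obtain ⟨hES, hcent⟩ := pearl_centric F p E hE
  have hpearl' : (Nat.card E = p ^ 2 ∧ IsMulCommutative ↥E) ∨
      (Nat.card E = p ^ 3 ∧ ¬ IsMulCommutative ↥E) := by
    rcases hpearl with ⟨hc, h⟩ | h
    · exact Or.inl ⟨hc, (h 1 E.one_mem).2⟩
    · exact Or.inr h
  have hclass : ∀ n : ℕ, Nat.card S = p ^ n → Group.nilpotencyClass ↥S = n - 1 :=
    fun n hn => pearl_class p E hES hcent hpearl' n hn
  refine ⟨?_, ?_⟩
  · intro n hn h3 hbot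
    have hcl := hclass n hn
    haveI : Group.IsNilpotent ↥S := hS.isNilpotent
    have h1 : ((⊤ : Subgroup ↥S).lowerCentralSeries (n - 2)).map S.subtype = ⊥ := by
      rw [Subgroup.top_subtype_lowerCentralSeries, hbot]
    have h2 : (⊤ : Subgroup ↥S).lowerCentralSeries (n - 2) = ⊥ :=
      (Subgroup.map_eq_bot_iff_of_injective _ S.subtype_injective).1 h1
    have h3' : Group.nilpotencyClass ↥S ≤ n - 2 :=
      Subgroup.lowerCentralSeries_eq_bot_iff_nilpotencyClass_le.1 h2
    omega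
  · intro H hHS
    obtain ⟨n, hn⟩ := hS.exists_card_eq
    have h2 : 2 ≤ n := by
      have hdvd : Nat.card E ∣ Nat.card S := Subgroup.card_dvd_of_le hES
      rw [hn] at hdvd
      rcases hpearl' with ⟨hc, -⟩ | ⟨hc, -⟩
      · rw [hc] at hdvd
        exact (Nat.pow_dvd_pow_iff_le_right hp.one_lt).1 hdvd
      · rw [hc] at hdvd
        have := (Nat.pow_dvd_pow_iff_le_right hp.one_lt).1 hdvd
        omega
    have hPH : IsPGroup p ↥(H.subgroupOf S) := hS.to_subgroup _
    -- small subgroups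
    by_cases hsmall : Nat.card ↥(H.subgroupOf S) ≤ p ^ p
    · exact pearl2_transport H hHS p (pearl2_small_gen hPH p hsmall)
    have hbig : p ^ (p + 1) ≤ Nat.card ↥(H.subgroupOf S) := by
      obtain ⟨a, ha⟩ := hPH.exists_card_eq
      rw [ha] at hsmall ⊢
      have : p < a := by
        by_contra hcon
        exact hsmall (Nat.pow_le_pow_right hp.pos (not_lt.1 hcon))
      exact Nat.pow_le_pow_right hp.pos this
    -- the whole group
    by_cases htop : H.subgroupOf S = ⊤
    · obtain ⟨T0, hT0, hcl0⟩ := pearl2_two_gen (p := p) n h2 hn (hclass n hn)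
      have hHS' : H = S := le_antisymm hHS (Subgroup.subgroupOf_eq_top.1 htop)
      classical
      refine ⟨T0.image (fun z : ↥S => (z : Ω)), (Finset.card_image_le).trans (hT0.trans hp3), ?_⟩
      have himg : ((T0.image (fun z : ↥S => (z : Ω)) : Finset Ω) : Set Ω)
          = S.subtype '' (T0 : Set ↥S) := by
        rw [Finset.coe_image]
        rfl
      rw [himg, ← MonoidHom.map_closure, hcl0, ← MonoidHom.range_eq_map, Subgroup.range_subtype,
        hHS']
    -- large proper subgroups: n ≥ 3 automatically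
    have h3 : 3 ≤ n := by
      by_contra hcon
      have hn2 : n = 2 := by omega
      have hle : Nat.card ↥(H.subgroupOf S) ≤ Nat.card ↥S := Subgroup.card_le_card_group _
      rw [hn, hn2] at hle
      have : p ^ 2 ≤ p ^ p := Nat.pow_le_pow_right hp.pos hp3
      exact hsmall (hle.trans this)
    exact pearl_gen p hS H hHS (h4144 n h3 hn (hclass n hn) (H.subgroupOf S) htop hbig)

end Cfsg.Agent.Helper11.Pearl
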