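import Mathlib

/-!
A finite group in which the normalizer of every nontrivial `p`-subgroup is `p`-closed (in the
form: the product of two `p`-elements of the normalizer is a `p`-element) has no section with a
nontrivial normal `p`-subgroup and two `p`-elements whose product is not a `p`-element.
-/

set_option autoImplicit false

namespace Cfsg.Agent.Helper11.QdFree

/-- an element of `p`-power order -/
def IsPEl (p : ℕ) {G : Type*} [Monoid G] (a : G) : Prop := ∃ k : ℕ, a ^ p ^ k = 1

theorem IsPEl.map {p : ℕ} {A B : Type*} [Monoid A] [Monoid B] (f : A →* B) {a : A}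
    (h : IsPEl p a) : IsPEl p (f a) := by
  obtain ⟨k, hk⟩ := h
  exact ⟨k, by rw [← map_pow, hk, map_one]⟩

theorem IsPEl.of_map {p : ℕ} {A B : Type*} [Monoid A] [Monoid B] (f : A →* B)
    (hf : Function.Injective f) {a : A} (h : IsPEl p (f a)) : IsPEl p a := by
  obtain ⟨k, hk⟩ := h
  refine ⟨k, hf ?_⟩
  rw [map_pow, hk, map_one]

/-- lifting a `p`-element through a surjection of a finite group -/
theorem exists_pEl_lift {A B : Type*} [Group A] [Group B] [Finite A] (f : A →* B)
    (hf : Function.Surjective f) (p : ℕ) [hp : Fact p.Prime] (b : B) (hb : IsPEl p b) :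
    ∃ a : A, IsPEl p a ∧ f a = b := by
  obtain ⟨j, hj⟩ := hb
  obtain ⟨a₀, rfl⟩ := hf b
  have ho : 0 < orderOf a₀ := orderOf_pos a₀
  obtain ⟨k, m, hm, hkm⟩ := Nat.exists_eq_pow_mul_and_not_dvd ho.ne' p hp.out.ne_one
  by_cases hj0 : j = 0
  · subst hj0
    rw [pow_zero, pow_one] at hj
    exact ⟨1, ⟨0, by simp⟩, by rw [map_one, hj]⟩
  have h1 : 1 < p ^ j := Nat.one_lt_pow hj0 hp.out.one_lt
  have hcop : Nat.Coprime m (p ^ j) :=
    Nat.Coprime.pow_right j ((Nat.Prime.coprime_iff_not_dvd hp.out).2 hm).symm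
  obtain ⟨s, -, hs⟩ := Nat.exists_mul_mod_eq_one_of_coprime hcop h1
  refine ⟨a₀ ^ (m * s), ⟨k, ?_⟩, ?_⟩
  · rw [← pow_mul, show m * s * p ^ k = orderOf a₀ * s by rw [hkm]; ring, pow_mul,
      pow_orderOf_eq_one, one_pow]
  · rw [map_pow, pow_eq_pow_mod (m * s) hj, hs, pow_one]

/-- a surjection of a finite group onto a `p`-group maps every Sylow `p`-subgroup onto it -/
theorem sylow_map_top {L X : Type*} [Group L] [Group X] [Finite L] {p : ℕ} [Fact p.Prime]
    (f : L →* X) (hf : Function.Surjective f) (hX : IsPGroup p X) (P : Sylow p L) :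
    (P : Subgroup L).map f = ⊤ := by
  have : Finite X := Finite.of_surjective f hf
  have h1 : ((P : Subgroup L).map f).index ∣ (P : Subgroup L).index :=
    Subgroup.index_map_dvd (P : Subgroup L) hf
  have h2 : ¬ p ∣ (P : Subgroup L).index := P.not_dvd_index
  obtain ⟨k, hk⟩ := IsPGroup.iff_card.mp hX
  have h3 : ((P : Subgroup L).map f).index ∣ p ^ k := by
    rw [← hk]; exact Subgroup.index_dvd_card _
  obtain ⟨j, _, hj⟩ := (Nat.dvd_prime_pow (Fact.out : p.Prime)).mp h3
  rw [← Subgroup.index_eq_one]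
  rcases Nat.eq_zero_or_pos j with h0 | h0
  · rw [hj, h0, pow_zero]
  · exfalso
    apply h2
    refine dvd_trans ?_ h1
    rw [hj]
    exact dvd_pow_self p h0.ne'

/-- the main lemma -/
theorem no_surj {G : Type*} [Group G] [Finite G] {p : ℕ} [Fact p.Prime]
    (hPC : ∀ P : Subgroup G, IsPGroup p P → P ≠ ⊥ →
      ∀ a ∈ Subgroup.normalizer (P : Set G), ∀ b ∈ Subgroup.normalizer (P : Set G),
        IsPEl p a → IsPEl p b → IsPEl p (a * b))
    {X : Type*} [Group X] (Y : Subgroup X) [hYn : Y.Normal] (hY : IsPGroup p Y) (hYne : Y ≠ ⊥)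
    (a₀ b₀ : X) (ha₀ : IsPEl p a₀) (hb₀ : IsPEl p b₀) (hab : ¬ IsPEl p (a₀ * b₀))
    (K : Subgroup G) (π : K →* X) (hπ : Function.Surjective π) : False := by
  classical
  have : (Y.comap π).Normal := hYn.comap π
  obtain ⟨S⟩ : Nonempty (Sylow p ↥(Y.comap π)) := inferInstance
  have hsurj : Function.Surjective (π.subgroupComap Y) :=
    π.subgroupComap_surjective_of_surjective Y hπ
  have htop := sylow_map_top (π.subgroupComap Y) hsurj hY S
  set P : Subgroup K := (S : Subgroup ↥(Y.comap π)).map (Y.comap π).subtype with hPdef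
  have hfr : Subgroup.normalizer (P : Set K) ⊔ Y.comap π = ⊤ := Sylow.normalizer_sup_eq_top S
  have hPQs : P ≤ Y.comap π := Subgroup.map_subtype_le _
  have hPp : IsPGroup p P := S.isPGroup'.map _
  have hPmap : P.map π = Y := by
    apply le_antisymm
    · rintro _ ⟨x, hx, rfl⟩
      exact hPQs hx
    · intro y hy
      have : (⟨y, hy⟩ : ↥Y) ∈ (S : Subgroup ↥(Y.comap π)).map (π.subgroupComap Y) := by
        rw [htop]; trivial
      obtain ⟨s, hs, hsy⟩ := this
      refine ⟨(s : K), ⟨s, hs, rfl⟩, ?_⟩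
      exact congrArg Subtype.val hsy
  have hPne : P ≠ ⊥ := by
    intro h
    apply hYne
    rw [← hPmap, h, Subgroup.map_bot]
  -- the image in `G`
  set P' : Subgroup G := P.map K.subtype with hP'
  have hP'p : IsPGroup p P' := hPp.map _
  have hP'ne : P' ≠ ⊥ := by
    intro h
    apply hPne
    exact (Subgroup.map_eq_bot_iff_of_injective P K.subtype_injective).1 h
  have hnorm : ∀ n ∈ Subgroup.normalizer (P : Set K), (n : G) ∈ Subgroup.normalizer (P' : Set G) := by
    intro n hn
    have : K.subtype n ∈ (Subgroup.normalizer (P : Set K)).map K.subtype := ⟨n, hn, rfl⟩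
    exact Subgroup.le_normalizer_map K.subtype this
  -- `π` is onto on the normalizer
  have hsurjN : Function.Surjective
      (π.comp (Subgroup.normalizer (P : Set K)).subtype) := by
    intro x
    obtain ⟨k, rfl⟩ := hπ x
    have hk : k ∈ Subgroup.normalizer (P : Set K) ⊔ Y.comap π := by rw [hfr]; trivial
    obtain ⟨n, hn, y, hy, rfl⟩ := Subgroup.mem_sup_of_normal_right.1 hk
    have hy' : π y ∈ P.map π := by rw [hPmap]; exact hy
    obtain ⟨u, hu, huy⟩ := hy'
    refine ⟨⟨n * u, Subgroup.mul_mem _ hn (Subgroup.le_normalizer hu)⟩, ?_⟩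
    simp only [MonoidHom.comp_apply, Subgroup.subtype_apply, map_mul, huy]
  obtain ⟨a, ha, haa⟩ := exists_pEl_lift _ hsurjN p a₀ ha₀
  obtain ⟨b, hb, hbb⟩ := exists_pEl_lift _ hsurjN p b₀ hb₀
  have h1 : IsPEl p (((a : K) : G) * ((b : K) : G)) :=
    hPC P' hP'p hP'ne _ (hnorm _ a.2) _ (hnorm _ b.2)
      (ha.map (K.subtype.comp (Subgroup.normalizer (P : Set K)).subtype))
      (hb.map (K.subtype.comp (Subgroup.normalizer (P : Set K)).subtype))
  have h2 : IsPEl p (a * b) := by
    apply IsPEl.of_map (K.subtype.comp (Subgroup.normalizer (P : Set K)).subtype)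
    · exact K.subtype_injective.comp (Subgroup.subtype_injective _)
    · simpa using h1
  apply hab
  have := h2.map (π.comp (Subgroup.normalizer (P : Set K)).subtype)
  rwa [map_mul, haa, hbb] at this

end Cfsg.Agent.Helper11.QdFree
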