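import Mathlib
import Cfsg.Agent.Lib.Helper11.UnitaryTransv

set_option autoImplicit false

/-! Rank one matrices; unitary matrices `M` of determinant one with `M - 1` of rank one. -/

namespace Cfsg.Agent.Helper11.Herm

open Matrix

section rankone

variable {F : Type*} [Field F] {ι : Type*} [Fintype ι] [DecidableEq ι]

theorem eq_zero_of_rank_eq_zero (N : Matrix ι ι F) (h : N.rank = 0) : N = 0 := by
  unfold Matrix.rank at h
  rw [Submodule.finrank_eq_zero, LinearMap.range_eq_bot] at h
  rw [Matrix.ext_iff_mulVec]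
  intro x
  have := LinearMap.congr_fun h x
  rw [Matrix.mulVecLin_apply] at this
  rw [this, Matrix.zero_mulVec]
  rfl

/-- a rank one matrix is an outer product -/
theorem exists_vecMulVec_of_rank_one (N : Matrix ι ι F) (h : N.rank = 1) :
    ∃ u w : ι → F, N = Matrix.vecMulVec u w := by
  unfold Matrix.rank at h
  obtain ⟨⟨v, hvr⟩, hv0, hspan⟩ := finrank_eq_one_iff'.mp h
  have hcol : ∀ j : ι, ∃ c : F, c • v = N *ᵥ Pi.single j 1 := by
    intro j
    obtain ⟨c, hc⟩ := hspan ⟨N *ᵥ Pi.single j 1, ⟨Pi.single j 1, rfl⟩⟩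
    exact ⟨c, congrArg Subtype.val hc⟩
  choose w hw using hcol
  refine ⟨v, w, ?_⟩
  ext i j
  have := congrFun (hw j) i
  rw [Matrix.mulVec_single_one] at this
  rw [Matrix.vecMulVec_apply, mul_comm]
  exact this.symm

theorem vecMulVec_mul_vecMulVec' (u w : ι → F) :
    Matrix.vecMulVec u w * Matrix.vecMulVec u w = (w ⬝ᵥ u) • Matrix.vecMulVec u w := by
  ext i j
  simp only [Matrix.mul_apply, Matrix.vecMulVec_apply, Matrix.smul_apply, smul_eq_mul, dotProduct]
  rw [Finset.sum_mul]
  apply Finset.sum_congr rfl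
  intro k _
  ring

theorem det_one_add_vecMulVec (u w : ι → F) : (1 + Matrix.vecMulVec u w).det = 1 + w ⬝ᵥ u := by
  have : Matrix.vecMulVec u w = Matrix.replicateCol Unit u * Matrix.replicateRow Unit w := by
    ext i j
    simp [Matrix.vecMulVec_apply, Matrix.mul_apply]
  rw [this, Matrix.det_one_add_replicateCol_mul_replicateRow]

/-- `M - 1` of rank one and `det M = 1` force `(M - 1)² = 0` -/
theorem sq_zero_of_rank_one_of_det (M : Matrix ι ι F) (hrk : (M - 1).rank = 1)
    (hdet : M.det = 1) : (M - 1) * (M - 1) = 0 := by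
  obtain ⟨u, w, huw⟩ := exists_vecMulVec_of_rank_one _ hrk
  have hM : M = 1 + Matrix.vecMulVec u w := by rw [← huw]; abel
  rw [hM, det_one_add_vecMulVec] at hdet
  have h0 : w ⬝ᵥ u = 0 := by linear_combination hdet
  rw [huw, vecMulVec_mul_vecMulVec', h0, zero_smul]

end rankone

section tvrank

variable {F : Type*} [Field F] {ι : Type*} [Fintype ι] [DecidableEq ι] (φ : F →+* F)

theorem rank_tv_sub_one (v : ι → F) (c : F) (hv : v ≠ 0) (hc : c ≠ 0) :
    (tv φ v c - 1).rank = 1 := by
  have h1 : tv φ v c - 1 = Matrix.vecMulVec (c • v) (φ ∘ v) := by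
    unfold tv
    rw [add_sub_cancel_left]
    ext i j
    simp [Matrix.vecMulVec_apply, mul_assoc]
  have hle : (tv φ v c - 1).rank ≤ 1 := by
    rw [h1]
    exact Matrix.rank_vecMulVec_le _ _
  have hne : (tv φ v c - 1).rank ≠ 0 := by
    intro h0
    have h2 := eq_zero_of_rank_eq_zero _ h0
    obtain ⟨u, hu⟩ : ∃ u, hdot φ u v ≠ 0 := by
      obtain ⟨i, hi⟩ : ∃ i, v i ≠ 0 := by
        by_contra hcon
        push Not at hcon
        exact hv (funext hcon)
      refine ⟨Pi.single i 1, ?_⟩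
      rw [hdot_single_left]
      exact (map_ne_zero φ).2 hi
    have h3 : tv φ v c *ᵥ u = u := by
      have : tv φ v c = 1 := sub_eq_zero.1 h2
      rw [this, Matrix.one_mulVec]
    rw [tv_mulVec, add_eq_left] at h3
    rcases smul_eq_zero.1 h3 with h4 | h4
    · rcases mul_eq_zero.1 h4 with h5 | h5
      · exact hc h5
      · exact hu h5
    · exact hv h4
  omega

/-- unitary, determinant one, `M - 1` of rank one: a unitary transvection -/
theorem eq_tv_of_rank_one (hφφ : ∀ x, φ (φ x) = x) (M : Matrix ι ι F) (hM : IsU φ M)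
    (hdet : M.det = 1) (hrk : (M - 1).rank = 1) :
    ∃ (v : ι → F) (c : F), v ≠ 0 ∧ hdot φ v v = 0 ∧ c ≠ 0 ∧ c + φ c = 0 ∧ M = tv φ v c :=
  isU_transvection_eq_tv φ hφφ M hM hrk (sq_zero_of_rank_one_of_det M hrk hdet)

end tvrank

end Cfsg.Agent.Helper11.Herm
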