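import Mathlib
import Cfsg.Agent.Lib.Helper11.S11Defs

/-!
# S3211, piece S11-ROUT: outer square roots of `v₀ = a * σ(a)` are mapped by `y ↦ a * y`
to square roots of `z` commuting with `v₀` and conjugating `σ(a)` to `a⁻¹`.
-/

set_option autoImplicit false
set_option linter.unusedVariables false

namespace Cfsg.Agent.Helper11.S11

/-- the two cases for an outer square root of `v₀` -/
theorem s11_rout_cases {G : Type*} [Group G] {L : Subgroup G} {n z a : G} (h : Hyp L n z a)
    (p r : G) (hp : p ∈ L) (hr : r ∈ L)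
    (hy2 : (p * sg n r * n) * (p * sg n r * n) = a * sg n a) :
    (p * r = z * a ∧ r * p = a) ∨ (p * r = a ∧ r * p = z * a) := by
  rw [h.outer_sq p r hp hr] at hy2
  have hrp : r * p ∈ L := L.mul_mem hr hp
  have hpr : p * r ∈ L := L.mul_mem hp hr
  have h1 : (p * r * z) * sg n (r * p) = a * sg n a := by
    rw [← hy2, mul_assoc (p * r), mul_assoc (p * r), h.z_sg (r * p) hrp]
  rcases h.split (p * r * z) (r * p) a a (L.mul_mem hpr h.z_mem) hrp h.a_mem h.a_mem h1 with
    ⟨h2, h3⟩ | ⟨h2, h3⟩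
  · left
    refine ⟨?_, h3⟩
    have : p * r = (p * r * z) * z := by rw [mul_assoc, h.z_sq, mul_one]
    rw [this, h2, h.z_central a h.a_mem]
  · right
    refine ⟨?_, h3⟩
    have : p * r = (p * r * z) * z := by rw [mul_assoc, h.z_sq, mul_one]
    rw [this, h2, mul_assoc, h.z_central a h.a_mem, ← mul_assoc, h.z_sq, one_mul]

/-- in both cases `p` and `r` invert `a` -/
theorem s11_rout_invert {G : Type*} [Group G] {L : Subgroup G} {n z a : G} (h : Hyp L n z a)
    (p r : G) (hp : p ∈ L) (hr : r ∈ L)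
    (hc : (p * r = z * a ∧ r * p = a) ∨ (p * r = a ∧ r * p = z * a)) :
    p * a * p⁻¹ = a⁻¹ ∧ r * a * r⁻¹ = a⁻¹ := by
  have hza : z * a = a * z := (h.z_central a h.a_mem).symm
  rcases hc with ⟨h1, h2⟩ | ⟨h1, h2⟩
  · -- p r = z a, r p = a
    constructor
    · -- p a p⁻¹ = p (r p) p⁻¹ = p r = z a = a⁻¹
      rw [h.a_inv, ← h1]
      conv_lhs => rw [← h2]
      group
    · -- r a r⁻¹ = r (r p) r⁻¹ ... use a = r p: r a r⁻¹ = r r p r⁻¹; instead a = r p ⇒ r⁻¹ a r = p r = z a
      -- so r⁻¹ a r = a⁻¹, hence r a⁻¹ r⁻¹ = a, hence r a r⁻¹ = a⁻¹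
      have h3 : r⁻¹ * a * r = a⁻¹ := by
        rw [h.a_inv, ← h1]
        conv_lhs => rw [← h2]
        group
      have h4 : r * a⁻¹ * r⁻¹ = a := by
        rw [← h3]; group
      have h5 : r * a * r⁻¹ = (r * a⁻¹ * r⁻¹)⁻¹ := by group
      rw [h5, h4]
  · -- p r = a, r p = z a
    constructor
    · have h3 : p⁻¹ * a * p = a⁻¹ := by
        rw [h.a_inv, ← h2]
        conv_lhs => rw [← h1]
        group
      have h4 : p * a⁻¹ * p⁻¹ = a := by
        rw [← h3]; group
      have h5 : p * a * p⁻¹ = (p * a⁻¹ * p⁻¹)⁻¹ := by group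
      rw [h5, h4]
    · rw [h.a_inv, ← h2]
      conv_lhs => rw [← h1]
      group

/-- PIECE S11-ROUT -/
theorem rout_map {G : Type*} [Group G] {L : Subgroup G} {n z a : G} (h : Hyp L n z a) (y : G)
    (hy : ∃ p ∈ L, ∃ r ∈ L, y = p * sg n r * n) (hy2 : y * y = a * sg n a) :
    (a * y) * (a * y) = z ∧ (a * y) * (a * sg n a) = (a * sg n a) * (a * y) ∧
      (a * y) * sg n a * (a * y)⁻¹ = a⁻¹ := by
  obtain ⟨p, hp, r, hr, rfl⟩ := hy
  have hc := s11_rout_cases h p r hp hr hy2
  obtain ⟨hpa, hra⟩ := s11_rout_invert h p r hp hr hc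
  have hap : a * p ∈ L := L.mul_mem h.a_mem hp
  have hay : a * (p * sg n r * n) = (a * p) * sg n r * n := by group
  have hza : z * a = a * z := (h.z_central a h.a_mem).symm
  -- conjugation of `a` by `a * p`
  have hapa : (a * p) * a * (a * p)⁻¹ = a⁻¹ := by
    have : (a * p) * a * (a * p)⁻¹ = a * (p * a * p⁻¹) * a⁻¹ := by group
    rw [this, hpa]; group
  rw [hay]
  refine ⟨?_, ?_, ?_⟩
  · rw [h.outer_sq (a * p) r hap hr]
    rcases hc with ⟨h1, h2⟩ | ⟨h1, h2⟩
    · have e1 : a * p * r = 1 := by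
        rw [mul_assoc, h1, hza, ← mul_assoc, h.a_sq, h.z_sq]
      have e2 : r * (a * p) = 1 := by
        have : r * (a * p) = r * (a * p * r) * r⁻¹ := by group
        rw [this, e1]; group
      rw [e1, e2, sg_one]; group
    · have e1 : a * p * r = z := by
        rw [mul_assoc, h1, h.a_sq]
      have e2 : r * (a * p) = z := by
        have : r * (a * p) = r * (a * p * r) * r⁻¹ := by group
        rw [this, e1, h.z_central r hr]; group
      rw [e1, e2, h.sg_z, h.z_sq, one_mul]
  · have hconj := h.outer_conj (a * p) r a a hap hr h.a_mem h.a_mem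
    rw [hapa, hra] at hconj
    have hv : a⁻¹ * sg n a⁻¹ = a * sg n a := by
      rw [h.a_inv, sg_mul, h.sg_z]
      have hc1 : Commute (sg n a) z := h.z_sg a h.a_mem
      calc z * a * (z * sg n a) = z * (a * z) * sg n a := by group
        _ = z * (z * a) * sg n a := by rw [hza]
        _ = (z * z) * a * sg n a := by group
        _ = a * sg n a := by rw [h.z_sq, one_mul]
    rw [hv] at hconj
    calc (a * p) * sg n r * n * (a * sg n a)
        = ((a * p) * sg n r * n * (a * sg n a) * ((a * p) * sg n r * n)⁻¹) *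
            ((a * p) * sg n r * n) := by group
      _ = (a * sg n a) * ((a * p) * sg n r * n) := by rw [hconj]
  · have hconj := h.outer_conj (a * p) r 1 a hap hr L.one_mem h.a_mem
    rw [one_mul] at hconj
    rw [hconj, hapa]
    have : r * 1 * r⁻¹ = 1 := by group
    rw [this, sg_one, mul_one]

end Cfsg.Agent.Helper11.S11
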