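import Mathlib
import Cfsg.Agent.Lib.Helper11.S11Defs

/-!
# S3211, piece S11-TWO: `2 ≠ 0` in a finite field of odd order
-/

set_option autoImplicit false

namespace Cfsg.Agent.Helper11.S11

/-- PIECE S11-TWO -/
theorem two_ne_zero_of_odd_card {F : Type*} [Field F] [Fintype F] (h : Odd (Fintype.card F)) :
    (2 : F) ≠ 0 := by
  intro h2
  have hchar : ringChar F = 2 := by
    have hd : ringChar F ∣ 2 := by
      have := (ringChar.spec F 2).1 (by exact_mod_cast h2)
      exact this
    rcases (Nat.dvd_prime Nat.prime_two).1 hd with h1 | h1
    · exfalso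
      have : (1 : F) = 0 := by
        have := (ringChar.spec F 1).2 (by rw [h1])
        exact_mod_cast this
      exact one_ne_zero this
    · exact h1
  have hev := FiniteField.even_card_of_char_two hchar
  rw [Nat.odd_iff] at h
  omega

end Cfsg.Agent.Helper11.S11
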