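import Mathlib
import Cfsg.Prelude.Def_CaseTheorems
import Cfsg.Agent.Lib.Helper11.S11Defs

/-!
# S3211, piece S11-ZFIN: from the conclusion of the `Z*`-theorem to `G = C(z) O(G)`
-/

set_option autoImplicit false

namespace Cfsg.Agent.Helper11.S11

/-- the involution `m ↦ g⁻¹ z g m z⁻¹` of `N` has a fixed point -/
theorem s11_zfin_fixed {G : Type*} [Group G] [Finite G] (z : G) (hz2 : z * z = 1)
    (N : Subgroup G) (hN : N.Normal) (hodd : Odd (Nat.card N))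
    (hcomm : ∀ g : G, z * g * z⁻¹ * g⁻¹ ∈ N) (g : G) :
    ∃ m ∈ N, z * (g * m) * z⁻¹ = g * m := by
  classical
  haveI : Fintype ↥N := Fintype.ofFinite _
  have hzi : z⁻¹ = z := inv_eq_of_mul_eq_one_right hz2
  have hmem : ∀ m : ↥N, g⁻¹ * z * g * (m : G) * z⁻¹ ∈ N := by
    intro m
    have h1 : g⁻¹ * z * g * z⁻¹ ∈ N := by
      have h := hN.conj_mem _ (hcomm g) g⁻¹
      have e : g⁻¹ * (z * g * z⁻¹ * g⁻¹) * g⁻¹⁻¹ = g⁻¹ * z * g * z⁻¹ := by group
      rwa [e] at h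
    have h2 : z * (m : G) * z⁻¹ ∈ N := hN.conj_mem _ m.2 z
    have e : g⁻¹ * z * g * (m : G) * z⁻¹ = (g⁻¹ * z * g * z⁻¹) * (z * (m : G) * z⁻¹) := by group
    rw [e]
    exact N.mul_mem h1 h2
  let f : ↥N → ↥N := fun m => ⟨g⁻¹ * z * g * (m : G) * z⁻¹, hmem m⟩
  have hf : Function.Involutive f := by
    intro m
    apply Subtype.ext
    show g⁻¹ * z * g * (g⁻¹ * z * g * (m : G) * z⁻¹) * z⁻¹ = m
    have e : g⁻¹ * z * g * (g⁻¹ * z * g * (m : G) * z⁻¹) * z⁻¹ =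
        g⁻¹ * (z * z) * g * (m : G) * (z * z)⁻¹ := by group
    rw [e, hz2]; group
  let σ : Equiv.Perm ↥N := hf.toPerm f
  have hσ : σ ^ 2 ^ 1 = 1 := by
    ext m
    simp only [pow_one, pow_two, Equiv.Perm.coe_mul, Function.comp_apply, Equiv.Perm.coe_one, id_eq]
    exact congrArg Subtype.val (hf m)
  have hcard : ¬ 2 ∣ Fintype.card ↥N := by
    rw [← Nat.card_eq_fintype_card]
    rcases hodd with ⟨k, hk⟩
    omega
  haveI : Fact (Nat.Prime 2) := ⟨Nat.prime_two⟩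
  obtain ⟨m, hm⟩ := Equiv.Perm.exists_fixed_point_of_prime hcard hσ
  refine ⟨m, m.2, ?_⟩
  have h1 : g⁻¹ * z * g * (m : G) * z⁻¹ = m := congrArg Subtype.val hm
  have e : z * (g * (m : G)) * z⁻¹ = g * (g⁻¹ * z * g * (m : G) * z⁻¹) := by group
  rw [e, h1]

/-- PIECE S11-ZFIN -/
theorem cent_sup_oddCore {G : Type*} [Group G] [Finite G] (z : G) (hz : orderOf z = 2)
    (N : Subgroup G) (hN : N.Normal) (hodd : Odd (Nat.card N))
    (hcomm : ∀ g : G, z * g * z⁻¹ * g⁻¹ ∈ N) :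
    Subgroup.centralizer ({z} : Set G) ⊔ Cfsg.oddCore G = ⊤ := by
  have hz2 : z * z = 1 := by
    have h := pow_orderOf_eq_one z
    rw [hz, pow_two] at h
    exact h
  have hNle : N ≤ Cfsg.oddCore G := by
    apply le_sSup
    exact ⟨hN, Nat.coprime_two_right.mpr hodd⟩
  rw [eq_top_iff]
  intro g _
  obtain ⟨m, hm, hfix⟩ := s11_zfin_fixed z hz2 N hN hodd hcomm g
  have hx : g * m ∈ Subgroup.centralizer ({z} : Set G) := by
    rw [Subgroup.mem_centralizer_singleton_iff]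
    have : z * (g * m) = (z * (g * m) * z⁻¹) * z := by group
    rw [this, hfix]
  have hg : g = (g * m) * m⁻¹ := by group
  rw [hg]
  exact Subgroup.mul_mem_sup hx (hNle (N.inv_mem hm))

end Cfsg.Agent.Helper11.S11
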