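import Mathlib
import Cfsg.Agent.Lib.Helper10.EOAssembly

/-!
# S2512 piece S12-BLK (helper11, for helper5): the block data of an irreducible factor of `X ^ a - 1`
-/

set_option autoImplicit false
set_option linter.style.haveILetI false

open Polynomial

namespace Cfsg.Agent.Helper5.S12

open Cfsg.Agent.Helper10

universe v v₁ v₂ u

/-- `f ∣ X ^ m - 1` and `f ∣ X ^ n - 1` give `f ∣ X ^ gcd m n - 1` -/
theorem s12_blk_gcd {F : Type u} [Field F] (f : F[X]) (m n : ℕ) (hm : f ∣ X ^ m - 1)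
    (hn : f ∣ X ^ n - 1) : f ∣ X ^ (Nat.gcd m n) - 1 := by
  rw [← AdjoinRoot.mk_eq_zero] at hm hn ⊢
  rw [map_sub, map_pow, AdjoinRoot.mk_X, map_one, sub_eq_zero] at hm hn ⊢
  exact pow_gcd_eq_one.2 ⟨hm, hn⟩

/-- arithmetic: `o = gcd a m` with `a` odd, `m` even and prime to `p` -/
theorem s12_blk_arith (p a m : ℕ) (ha : Odd a) (hm : Even m) (hmp : Nat.Coprime m p) :
    Odd (Nat.gcd a m) ∧ Nat.Coprime (Nat.gcd a m) p ∧ 2 * Nat.gcd a m ∣ m := by
  have hodd : Odd (Nat.gcd a m) := Odd.of_dvd_nat ha (Nat.gcd_dvd_left a m)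
  refine ⟨hodd, Nat.Coprime.coprime_dvd_left (Nat.gcd_dvd_right a m) hmp, ?_⟩
  have hc : Nat.Coprime 2 (Nat.gcd a m) := (Nat.coprime_two_left).2 hodd
  exact hc.mul_dvd_of_dvd_of_dvd hm.two_dvd (Nat.gcd_dvd_right a m)

/-- PIECE S12-BLK. -/
theorem block_of_irreducible {F : Type u} [Field F] [Fintype F] (p : ℕ) [Fact p.Prime] [CharP F p]
    (hp2 : p ≠ 2) (a : ℕ) (ha : Odd a) (f : F[X]) (hf : f.Monic) (hirr : Irreducible f)
    (hf0 : f.coeff 0 ≠ 0) (hne : f ≠ X - 1) (hfa : f ∣ X ^ a - 1) (hsa : EO.star f ∣ X ^ a - 1) :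
    ∃ d o : ℕ, 1 ≤ d ∧
      ((EO.star f = f ∧ f.natDegree = 2 * d) ∨ (EO.star f ≠ f ∧ f.natDegree = d)) ∧
      Odd o ∧ Nat.Coprime o p ∧
      (2 * o ∣ Fintype.card F ^ d - 1 ∨ 2 * o ∣ Fintype.card F ^ d + 1) ∧
      f ∣ X ^ o - 1 ∧ EO.star f ∣ X ^ o - 1 := by
  classical
  have hp : p.Prime := Fact.out
  obtain ⟨n, -, hq⟩ := FiniteField.card F p
  have hpodd : Odd p := hp.odd_of_ne_two hp2
  have hqodd : Odd (Fintype.card F) := by rw [hq]; exact hpodd.pow
  have hpq : p ∣ Fintype.card F := by rw [hq]; exact dvd_pow_self p n.ne_zero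
  have hdeg1 : 1 ≤ f.natDegree := hirr.natDegree_pos
  -- `2 ≠ 0` in `F`
  have h2 : (2 : F) ≠ 0 := by
    intro h
    have h' : ((2 : ℕ) : F) = 0 := by exact_mod_cast h
    rw [CharP.cast_eq_zero_iff F p] at h'
    exact hp2 ((Nat.prime_dvd_prime_iff_eq hp Nat.prime_two).mp h')
  -- `f ≠ X + 1`
  have hne' : f ≠ X + 1 := by
    rintro rfl
    have h3 : (X ^ a - 1 : F[X]).eval (-1) = 0 := by
      obtain ⟨g, hg⟩ := hfa
      rw [hg]
      simp
    rw [eval_sub, eval_pow, eval_X, eval_one, ha.neg_one_pow] at h3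
    apply h2
    have : (2 : F) = -(-1 - 1) := by ring
    rw [this, h3, neg_zero]
  -- coprimality of `q ^ d ± 1` with `p`
  have hcop : ∀ d : ℕ, 1 ≤ d → Nat.Coprime (Fintype.card F ^ d - 1) p ∧
      Nat.Coprime (Fintype.card F ^ d + 1) p := by
    intro d hd
    have hpd : p ∣ Fintype.card F ^ d := dvd_pow hpq (by omega)
    have hpos : 1 ≤ Fintype.card F ^ d := Nat.one_le_pow _ _ Fintype.card_pos
    constructor
    · rw [Nat.coprime_comm, hp.coprime_iff_not_dvd]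
      intro hd'
      have h4 : p ∣ Fintype.card F ^ d - (Fintype.card F ^ d - 1) := Nat.dvd_sub hpd hd'
      have h5 : Fintype.card F ^ d - (Fintype.card F ^ d - 1) = 1 := by omega
      rw [h5] at h4
      exact hp.one_lt.ne' (Nat.dvd_one.mp h4)
    · rw [Nat.coprime_comm, hp.coprime_iff_not_dvd]
      intro hd'
      have h4 : p ∣ 1 := (Nat.dvd_add_right hpd).mp hd'
      exact hp.one_lt.ne' (Nat.dvd_one.mp h4)
  by_cases hstar : EO.star f = f
  · -- self-reciprocal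
    have hdeg2 : 2 ≤ f.natDegree := by
      by_contra hcon
      have h1 : f.natDegree = 1 := by omega
      rcases EO.self_reciprocal_deg_one f hf h1 hstar with h | h
      · exact hne h
      · exact hne' h
    obtain ⟨heven, hdvd⟩ := EO.self_reciprocal_irreducible f hf hirr hf0 hstar hdeg2
    obtain ⟨d, hd⟩ := heven
    have hd1 : 1 ≤ d := by omega
    have hdd : f.natDegree / 2 = d := by omega
    rw [hdd] at hdvd
    have hmeven : Even (Fintype.card F ^ d + 1) := Odd.add_odd hqodd.pow odd_one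
    obtain ⟨ho1, ho2, ho3⟩ := s12_blk_arith p a _ ha hmeven (hcop d hd1).2
    have hfo := s12_blk_gcd f a _ hfa hdvd
    refine ⟨d, Nat.gcd a (Fintype.card F ^ d + 1), hd1, Or.inl ⟨hstar, by omega⟩, ho1, ho2,
      Or.inr ho3, hfo, ?_⟩
    rw [hstar]
    exact hfo
  · -- not self-reciprocal
    obtain ⟨hsm, hsd, hs0, -⟩ := EO.star_facts f hf0
    have hsirr : Irreducible (EO.star f) := EO.star_mul_irreducible.2 f hf0 hirr
    have hdvd1 := EO.irreducible_dvd_X_pow_sub_one f hf hirr hf0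
    have hdvd2 := EO.irreducible_dvd_X_pow_sub_one (EO.star f) hsm hsirr hs0
    rw [hsd] at hdvd2
    have hmeven : Even (Fintype.card F ^ f.natDegree - 1) :=
      Nat.Odd.sub_odd hqodd.pow odd_one
    obtain ⟨ho1, ho2, ho3⟩ := s12_blk_arith p a _ ha hmeven (hcop _ hdeg1).1
    exact ⟨f.natDegree, Nat.gcd a (Fintype.card F ^ f.natDegree - 1), hdeg1,
      Or.inr ⟨hstar, rfl⟩, ho1, ho2, Or.inl ho3, s12_blk_gcd f a _ hfa hdvd1,
      s12_blk_gcd _ a _ hsa hdvd2⟩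

end Cfsg.Agent.Helper5.S12
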