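import Mathlib
import Cfsg.Agent.Lib.Helper5.S74XDefs

/-!
# S2512 piece S12-MODDVD (helper11, for helper5): divisors of realised orders are realised
-/

set_option autoImplicit false
set_option linter.style.haveILetI false

open Polynomial

namespace Cfsg.Agent.Helper5.S12

open Cfsg.Agent.Helper15
open Cfsg.Agent.Helper15.S74 hiding Mod

universe v v₁ v₂ u

/-- PIECE S12-MODDVD.  Same `U`, `ω`; isometry `g ^ (N / d)`. -/
theorem mod_dvd {F : Type u} [Field F] (k N d : ℕ) (hN : 0 < N) (hd : d ∣ N)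
    (h : S74.Mod.{v, u} F k N) : S74.Mod.{v, u} F k d := by
  obtain ⟨U, i1, i2, ω, g, ⟨hfin, hrank, halt, hnd, hiso⟩, hord⟩ := h
  have hpow : ∀ j : ℕ, ∀ x y, ω ((g ^ j) x) ((g ^ j) y) = ω x y := by
    intro j
    induction j with
    | zero => intro x y; simp
    | succ j ih =>
      intro x y
      rw [pow_succ, LinearEquiv.mul_apply, LinearEquiv.mul_apply, ih, hiso]
  have hdpos : 0 < d := Nat.pos_of_dvd_of_pos hd hN
  have hd0 : N / d ≠ 0 := (Nat.div_pos (Nat.le_of_dvd hN hd) hdpos).ne'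
  refine ⟨U, i1, i2, ω, g ^ (N / d), ⟨hfin, hrank, halt, hnd, hpow _⟩, ?_⟩
  rw [orderOf_pow_of_dvd hd0 (by rw [hord]; exact Nat.div_dvd_of_dvd hd), hord,
    Nat.div_div_self hd hN.ne']

end Cfsg.Agent.Helper5.S12
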