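import Mathlib

/-!
# S2512 piece S12-UORD (helper11, for helper5): the order of a unipotent linear equivalence with a
single Jordan block of size `d` in characteristic `p` is `p ^ clog p d`
-/

set_option autoImplicit false
set_option linter.style.haveILetI false

open Polynomial

namespace Cfsg.Agent.Helper5.S12

universe v v₁ v₂ u

/-- PIECE S12-UORD. -/
theorem orderOf_unipotent {F : Type u} [Field F] (p : ℕ) [Fact p.Prime] [CharP F p] {M : Type v}
    [AddCommGroup M] [Module F M] (g : M ≃ₗ[F] M) (d : ℕ) (hd : 1 ≤ d)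
    (h0 : ((g : M →ₗ[F] M) - 1) ^ d = 0) (h1 : ((g : M →ₗ[F] M) - 1) ^ (d - 1) ≠ 0) :
    orderOf g = p ^ Nat.clog p d := by
  have hp : p.Prime := Fact.out
  haveI : Nontrivial (Module.End F M) := nontrivial_of_ne _ _ h1
  haveI : CharP (Module.End F M) p :=
    charP_of_injective_algebraMap (algebraMap F (Module.End F M)).injective p
  have hcoe : ∀ k : ℕ, ((g ^ k : M ≃ₗ[F] M) : M →ₗ[F] M) = (g : M →ₗ[F] M) ^ k := by
    intro k
    exact map_pow (LinearEquiv.automorphismGroup.toLinearMapMonoidHom (R := F) (M := M)) g k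
  have hkey : ∀ k : ℕ, ((g ^ (p ^ k) : M ≃ₗ[F] M) : M →ₗ[F] M) - 1 =
      ((g : M →ₗ[F] M) - 1) ^ (p ^ k) := by
    intro k
    rw [hcoe, sub_pow_char_pow_of_commute (p := p) (n := k) (Commute.one_right _), one_pow]
  have hone : ∀ f : M ≃ₗ[F] M, (f : M →ₗ[F] M) = 1 → f = 1 := by
    intro f hf
    apply LinearEquiv.ext
    intro x
    have := congrArg (fun φ : M →ₗ[F] M => φ x) hf
    simpa using this
  have hle : d ≤ p ^ Nat.clog p d := Nat.le_pow_clog hp.one_lt d
  have hpow : g ^ (p ^ Nat.clog p d) = 1 := by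
    have h := hkey (Nat.clog p d)
    rw [pow_eq_zero_of_le hle h0, sub_eq_zero] at h
    exact hone _ h
  have hdvd : orderOf g ∣ p ^ Nat.clog p d := orderOf_dvd_of_pow_eq_one hpow
  obtain ⟨j, hj, hju⟩ := (Nat.dvd_prime_pow hp).1 hdvd
  rcases Nat.lt_or_ge j (Nat.clog p d) with hlt | hge
  · exfalso
    have h2 : g ^ (p ^ j) = 1 := by rw [← hju]; exact pow_orderOf_eq_one g
    have h := hkey j
    rw [h2] at h
    have h3 : ((g : M →ₗ[F] M) - 1) ^ (p ^ j) = 0 := by
      rw [← h]
      exact sub_self _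
    have hlt' : p ^ j < d := by
      by_contra hcon
      push Not at hcon
      have : Nat.clog p d ≤ j := Nat.clog_le_of_le_pow hcon
      omega
    exact h1 (pow_eq_zero_of_le (by omega) h3)
  · rw [hju]
    have : j = Nat.clog p d := le_antisymm hj hge
    rw [this]

end Cfsg.Agent.Helper5.S12
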