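import Mathlib
import Cfsg.Agent.Lib.Helper15.S52Defs

/-!
# S3452, piece S52-PGLSUB: an element of order `q - 1` in `PGL₂(F)`

The image of `diag(a, 1)`, `a` a generator of `Fˣ`.
-/

set_option autoImplicit false

namespace Cfsg.Agent.Helper15.S52

/-- the homomorphism `a ↦ diag(a, 1)` from `Fˣ` to `GL₂(F)` -/
noncomputable def s52_pglsub_diag (F : Type*) [Field F] :
    Fˣ →* Matrix.GeneralLinearGroup (Fin 2) F where
  toFun a := ⟨!![(a : F), 0; 0, 1], !![((a⁻¹ : Fˣ) : F), 0; 0, 1],
    by
      ext i j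
      fin_cases i <;> fin_cases j <;> simp [Matrix.mul_apply, Fin.sum_univ_two],
    by
      ext i j
      fin_cases i <;> fin_cases j <;> simp [Matrix.mul_apply, Fin.sum_univ_two]⟩
  map_one' := by
    apply Units.ext
    ext i j
    fin_cases i <;> fin_cases j <;> simp
  map_mul' := by
    intro a b
    apply Units.ext
    ext i j
    fin_cases i <;> fin_cases j <;> simp [Matrix.mul_apply, Fin.sum_univ_two]

theorem s52_pglsub_diag_val (F : Type*) [Field F] (a : Fˣ) :
    (s52_pglsub_diag F a).1 = !![(a : F), 0; 0, 1] := rfl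

theorem s52_pglsub_central (F : Type*) [Field F] (a : Fˣ)
    (h : s52_pglsub_diag F a ∈ Subgroup.center (Matrix.GeneralLinearGroup (Fin 2) F)) :
    a = 1 := by
  rw [Matrix.GeneralLinearGroup.mem_center_iff_val_mem_range_scalar] at h
  obtain ⟨c, hc⟩ := h
  have hc' : Matrix.scalar (Fin 2) c = !![(a : F), 0; 0, 1] := hc
  have h11 := congrFun (congrFun hc' 1) 1
  have h00 := congrFun (congrFun hc' 0) 0
  simp [Matrix.scalar_apply] at h11 h00
  apply Units.ext
  rw [← h00, h11]
  rfl

/-- PIECE S52-PGLSUB -/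
theorem pgl_exists_sub {F : Type*} [Field F] [Fintype F] :
    ∃ g : PGL2 F, orderOf g = Fintype.card F - 1 := by
  classical
  obtain ⟨a, ha⟩ := IsCyclic.exists_generator (α := Fˣ)
  have hord : orderOf a = Fintype.card F - 1 := by
    rw [orderOf_eq_card_of_forall_mem_zpowers ha, Nat.card_eq_fintype_card, Fintype.card_units]
  let f : Fˣ →* PGL2 F :=
    (QuotientGroup.mk' (Subgroup.center (Matrix.GeneralLinearGroup (Fin 2) F))).comp
      (s52_pglsub_diag F)
  have hinj : Function.Injective f := by
    rw [injective_iff_map_eq_one]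
    intro b hb
    have hb' : ((s52_pglsub_diag F b : Matrix.GeneralLinearGroup (Fin 2) F) :
        PGL2 F) = 1 := hb
    rw [QuotientGroup.eq_one_iff] at hb'
    exact s52_pglsub_central F b hb'
  refine ⟨f a, ?_⟩
  rw [orderOf_injective f hinj a, hord]

end Cfsg.Agent.Helper15.S52
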