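import Mathlib
import Cfsg.Agent.Lib.Helper23.S61Defs

/-!
# S2861, piece S61-SZ2XFER: `Sz F 2 ≃* Sz (ZMod 2) 2` for a field `F` with two elements

Transport of the generating set of `Cfsg.Lie.Sz` along a ring isomorphism.
-/

set_option autoImplicit false

namespace Cfsg.Agent.Helper23.S61

open Cfsg

/-- the isomorphism `GL₄(F) ≃* GL₄(F')` induced by a ring isomorphism -/
noncomputable def s61_sz2xfer_E {F F' : Type*} [Field F] [Field F'] (φ : F ≃+* F') :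
    GL (Fin 4) F ≃* GL (Fin 4) F' :=
  Units.mapEquiv (RingEquiv.mapMatrix (m := Fin 4) φ).toMulEquiv

theorem s61_sz2xfer_E_val {F F' : Type*} [Field F] [Field F'] (φ : F ≃+* F')
    (g : GL (Fin 4) F) :
    ((s61_sz2xfer_E φ g : GL (Fin 4) F') : Matrix (Fin 4) (Fin 4) F') =
      (g : Matrix (Fin 4) (Fin 4) F).map φ := rfl

theorem s61_sz2xfer_E_symm {F F' : Type*} [Field F] [Field F'] (φ : F ≃+* F')
    (g : GL (Fin 4) F') : s61_sz2xfer_E φ (s61_sz2xfer_E φ.symm g) = g := by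
  apply Units.ext
  rw [s61_sz2xfer_E_val, s61_sz2xfer_E_val]
  ext i j
  simp

theorem s61_sz2xfer_alt {F F' : Type*} [Field F] [Field F'] (φ : F ≃+* F') (u v : Fin 4 → F) :
    Cfsg.Lie.altForm4 (fun i => φ (u i)) (fun i => φ (v i)) = φ (Cfsg.Lie.altForm4 u v) := by
  simp [Cfsg.Lie.altForm4]

theorem s61_sz2xfer_mulVec {F F' : Type*} [Field F] [Field F'] (φ : F ≃+* F')
    (M : Matrix (Fin 4) (Fin 4) F) (u : Fin 4 → F) :
    (M.map φ).mulVec (fun i => φ (u i)) = fun i => φ (M.mulVec u i) := by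
  funext i
  simp [Matrix.mulVec, dotProduct, map_sum]

theorem s61_sz2xfer_star {F F' : Type*} [Field F] [Field F'] (φ : F ≃+* F')
    (M : Matrix (Fin 4) (Fin 4) F) :
    Cfsg.Lie.star4 (M.map φ) = (Cfsg.Lie.star4 M).map φ := by
  ext p r
  simp [Cfsg.Lie.star4]

/-- the generating set of `Sz F e` is mapped into the generating set of `Sz F' e` -/
theorem s61_sz2xfer_fwd {F F' : Type*} [Field F] [Field F'] (φ : F ≃+* F') (e : ℕ)
    (g : GL (Fin 4) F)
    (hg : g ∈ Cfsg.Lie.Sp4 F ∧ Cfsg.Lie.star4 (g : Matrix (Fin 4) (Fin 4) F) =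
      (g : Matrix (Fin 4) (Fin 4) F).map (fun x => x ^ e)) :
    s61_sz2xfer_E φ g ∈ Cfsg.Lie.Sp4 F' ∧
      Cfsg.Lie.star4 ((s61_sz2xfer_E φ g : GL (Fin 4) F') : Matrix (Fin 4) (Fin 4) F') =
        ((s61_sz2xfer_E φ g : GL (Fin 4) F') : Matrix (Fin 4) (Fin 4) F').map (fun x => x ^ e) := by
  obtain ⟨h1, h2⟩ := hg
  constructor
  · intro u' v'
    have hu : u' = fun i => φ (φ.symm (u' i)) := by funext i; simp
    have hv : v' = fun i => φ (φ.symm (v' i)) := by funext i; simp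
    have h := h1 (fun i => φ.symm (u' i)) (fun i => φ.symm (v' i))
    show Cfsg.Lie.altForm4
        (((s61_sz2xfer_E φ g : GL (Fin 4) F') : Matrix (Fin 4) (Fin 4) F').mulVec u')
        (((s61_sz2xfer_E φ g : GL (Fin 4) F') : Matrix (Fin 4) (Fin 4) F').mulVec v') =
      Cfsg.Lie.altForm4 u' v'
    rw [s61_sz2xfer_E_val]
    conv_lhs => rw [hu, hv]
    rw [s61_sz2xfer_mulVec, s61_sz2xfer_mulVec, s61_sz2xfer_alt]
    conv_rhs => rw [hu, hv]
    rw [s61_sz2xfer_alt]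
    exact congrArg φ h
  · rw [s61_sz2xfer_E_val, s61_sz2xfer_star, h2]
    ext i j
    simp

theorem s61_sz2xfer_map {F F' : Type*} [Field F] [Field F'] (φ : F ≃+* F') (e : ℕ) :
    (Cfsg.Lie.Sz F e).map (s61_sz2xfer_E φ).toMonoidHom = Cfsg.Lie.Sz F' e := by
  unfold Cfsg.Lie.Sz
  rw [MonoidHom.map_closure]
  congr 1
  ext g'
  constructor
  · rintro ⟨g, hg, rfl⟩
    exact s61_sz2xfer_fwd φ e g hg
  · intro hg'
    refine ⟨s61_sz2xfer_E φ.symm g', s61_sz2xfer_fwd φ.symm e g' hg', ?_⟩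
    exact s61_sz2xfer_E_symm φ g'

/-- the Suzuki groups over isomorphic fields are isomorphic -/
theorem s61_sz2xfer_equiv {F F' : Type*} [Field F] [Field F'] (φ : F ≃+* F') (e : ℕ) :
    Nonempty (Cfsg.Lie.Sz F e ≃* Cfsg.Lie.Sz F' e) := by
  have h := s61_sz2xfer_map φ e
  exact ⟨((s61_sz2xfer_E φ).subgroupMap (Cfsg.Lie.Sz F e)).trans (MulEquiv.subgroupCongr h)⟩

/-- PIECE S61-SZ2XFER -/
theorem sz2_equiv {F : Type*} [Field F] [Fintype F] (hF : Fintype.card F = 2) :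
    Nonempty (Cfsg.Lie.Sz F (2 ^ (0 + 1)) ≃* Cfsg.Lie.Sz (ZMod 2) 2) := by
  have φ : ZMod 2 ≃+* F := ZMod.ringEquivOfPrime F Nat.prime_two hF
  exact s61_sz2xfer_equiv φ.symm 2

end Cfsg.Agent.Helper23.S61
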