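import Mathlib
import Cfsg.Prelude.Def_Classical
import Cfsg.Agent.Lib.Helper2.SympCard
import Cfsg.Agent.Lib.Helper2.SpCenter

/-!
# S3664 piece S64-PSPP (helper11, for helper15): the prime divisors of `|PSp_6(3)| = 4585351680`
-/

set_option autoImplicit false
set_option linter.unusedSectionVars false
set_option linter.unusedVariables false

namespace Cfsg.Agent.Helper15.S64

open Matrix

/-- `|PSp_6(3)| = 2^9 * 3^9 * 5 * 7 * 13` -/
theorem s64_pspp_card {K : Type*} [Field K] [Fintype K] (hK : Fintype.card K = 3) :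
    Nat.card (Cfsg.PSp 3 K) = 2 ^ 9 * 3 ^ 9 * 5 * 7 * 13 := by
  have h1 := Cfsg.Agent.Helper2.Symp.card_symplecticGroup (F := K) 3
  have h2 := Cfsg.Agent.Helper2.Sp.card_center (l := Fin 3) (F := K)
  have h3 := Subgroup.card_eq_card_quotient_mul_card_subgroup
    (Subgroup.center (Matrix.symplecticGroup (Fin 3) K))
  rw [h1, h2, hK] at h3
  norm_num [Finset.prod_range_succ] at h3
  change Nat.card (Matrix.symplecticGroup (Fin 3) K ⧸
    Subgroup.center (Matrix.symplecticGroup (Fin 3) K)) = 2 ^ 9 * 3 ^ 9 * 5 * 7 * 13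
  omega

/-- PIECE S64-PSPP -/
theorem psp_primes {K : Type*} [Field K] [Fintype K] (hK : Fintype.card K = 3) {p : ℕ}
    (hp : p.Prime) :
    p ∣ Nat.card (Cfsg.PSp 3 K) ↔ (p = 2 ∨ p = 3 ∨ p = 5 ∨ p = 7 ∨ p = 13) := by
  rw [s64_pspp_card hK]
  constructor
  · intro h
    rcases (Nat.Prime.dvd_mul hp).1 h with h | h
    · rcases (Nat.Prime.dvd_mul hp).1 h with h | h
      · rcases (Nat.Prime.dvd_mul hp).1 h with h | h
        · rcases (Nat.Prime.dvd_mul hp).1 h with h | h
          · exact Or.inl ((Nat.prime_dvd_prime_iff_eq hp Nat.prime_two).1 (hp.dvd_of_dvd_pow h))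
          · exact Or.inr (Or.inl
              ((Nat.prime_dvd_prime_iff_eq hp Nat.prime_three).1 (hp.dvd_of_dvd_pow h)))
        · exact Or.inr (Or.inr (Or.inl
            ((Nat.prime_dvd_prime_iff_eq hp Nat.prime_five).1 h)))
      · exact Or.inr (Or.inr (Or.inr (Or.inl
          ((Nat.prime_dvd_prime_iff_eq hp (by norm_num : Nat.Prime 7)).1 h))))
    · exact Or.inr (Or.inr (Or.inr (Or.inr
        ((Nat.prime_dvd_prime_iff_eq hp (by norm_num : Nat.Prime 13)).1 h))))
  · rintro (rfl | rfl | rfl | rfl | rfl) <;> decide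

end Cfsg.Agent.Helper15.S64
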