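import Mathlib
import Cfsg.Agent.Lib.Helper5.S74XDefs
import Cfsg.Agent.Lib.Helper15.S62Asm6

/-!
# S2474 piece S74X-MINUSK (helper11, for helper5): the unitary-type model on `K`, `[K : F] = 2d`
-/

set_option autoImplicit false

namespace Cfsg.Agent.Helper15.S74

universe v v₁ v₂ u

/-- PIECE S74X-MINUSK: the unitary-type model on `K`, `[K : F] = 2d`, from `S62.exists_theta`,
`S62.exists_alt_form` and `g = S62.mulEquiv F γ`. -/
theorem minus_block {F : Type u} [Field F] [Fintype F] (p : ℕ) [Fact p.Prime] [CharP F p]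
    (hp2 : p ≠ 2) {K : Type v} [Field K] [Algebra F K] [Fintype K] (d : ℕ) (hd : 1 ≤ d)
    (hdim : Module.finrank F K = 2 * d) (γ : K) (hγ : γ ^ (Fintype.card F ^ d + 1) = 1) :
    ∃ (ω : LinearMap.BilinForm F K) (g : K ≃ₗ[F] K),
      (∀ x, ω x x = 0) ∧ (∀ x, (∀ y, ω x y = 0) → x = 0) ∧ (∀ x y, ω (g x) (g y) = ω x y) ∧
      orderOf g = orderOf γ ∧ ∀ m : ℕ, γ ^ m = -1 → ∀ x, (g ^ m) x = -x := by
  classical
  have h2 : (2 : F) ≠ 0 := S62.two_ne_zero_of_char p hp2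
  obtain ⟨hqodd, hq3, -⟩ := S62.card_odd (F := F) p hp2
  have hQodd : Odd (Fintype.card F ^ d) := hqodd.pow
  have hQ3 : 3 ≤ Fintype.card F ^ d := by
    calc 3 ≤ Fintype.card F := hq3
      _ = Fintype.card F ^ 1 := (pow_one _).symm
      _ ≤ Fintype.card F ^ d := Nat.pow_le_pow_right (by omega) hd
  have hK : Fintype.card K = (Fintype.card F ^ d) ^ 2 := by
    have h1 : Fintype.card K = Fintype.card F ^ Module.finrank F K := Module.card_eq_pow_finrank
    rw [h1, hdim, ← pow_mul, mul_comm]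
  have hγ0 : γ ≠ 0 := by
    intro h
    rw [h, zero_pow (by omega)] at hγ
    exact zero_ne_one hγ
  obtain ⟨θ, hθ0, hθ⟩ := S62.exists_theta (K := K) (Fintype.card F ^ d) hQodd hQ3 hK
  obtain ⟨ω, halt, hnd, hinv⟩ :=
    S62.exists_alt_form (F := F) (K := K) d hd h2 hdim θ hθ0 hθ
  refine ⟨ω, S62.mulEquiv F γ hγ0, halt, hnd, ?_, S62.orderOf_mulEquiv F γ hγ0, ?_⟩
  · intro x y
    rw [S62.mulEquiv_apply, S62.mulEquiv_apply]
    exact hinv γ x y hγ
  · intro m hm x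
    rw [S62.mulEquiv_pow_apply, hm, neg_one_mul]

end Cfsg.Agent.Helper15.S74
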