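import Mathlib
import Cfsg.Agent.Lib.Helper17.SLkDefs

/-!
# S2479 piece SLK-FIBR: `chiT f` is multiplicative, with range the `gam f`-th powers.
-/

open Polynomial

namespace Cfsg.Agent.Helper17.SLk

open Cfsg.Agent.Helper17.GLk

universe u

section pieces2
variable {F : Type u} [Field F]

open Classical in
theorem slk_fibr_chiT_eq {n : ℕ} (f : Fin n → F[X]) (l : Fin n → Fˣ) :
    chiT f l = ∏ j ∈ Finset.univ.filter (fun j : Fin n => f j ≠ 1), l j ^ ((j : ℕ) + 1) := by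
  unfold chiT
  congr 1

open Classical in
theorem slk_fibr_gam_eq {n : ℕ} (f : Fin n → F[X]) :
    gam f = (Finset.univ.filter (fun j : Fin n => f j ≠ 1)).gcd (fun j => (j : ℕ) + 1) := by
  unfold gam
  congr 1

/-- PIECE SLK-FIBR (1): `chiT f` is multiplicative. -/
theorem chiT_mul {n : ℕ} (f : Fin n → F[X]) (l l' : Fin n → Fˣ) :
    chiT f (l * l') = chiT f l * chiT f l' := by
  classical
  rw [slk_fibr_chiT_eq, slk_fibr_chiT_eq, slk_fibr_chiT_eq, ← Finset.prod_mul_distrib]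
  apply Finset.prod_congr rfl
  intro j _
  rw [Pi.mul_apply, mul_pow]

theorem slk_fibr_chiT_one {n : ℕ} (f : Fin n → F[X]) : chiT f (1 : Fin n → Fˣ) = 1 := by
  classical
  rw [slk_fibr_chiT_eq]
  apply Finset.prod_eq_one
  intro j _
  rw [Pi.one_apply, one_pow]

/-- `chiT f` as a monoid homomorphism. -/
noncomputable def slk_fibr_hom {n : ℕ} (f : Fin n → F[X]) : (Fin n → Fˣ) →* Fˣ where
  toFun := chiT f
  map_one' := slk_fibr_chiT_one f
  map_mul' := chiT_mul f

open Classical in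
theorem slk_fibr_chiT_mulSingle {n : ℕ} (f : Fin n → F[X]) (i : Fin n) (hi : f i ≠ 1) (c : Fˣ) :
    chiT f (Pi.mulSingle i c) = c ^ ((i : ℕ) + 1) := by
  rw [slk_fibr_chiT_eq]
  rw [Finset.prod_eq_single i]
  · rw [Pi.mulSingle_eq_same]
  · intro j _ hji
    rw [Pi.mulSingle_eq_of_ne hji, one_pow]
  · intro hni
    exact absurd (Finset.mem_filter.mpr ⟨Finset.mem_univ i, hi⟩) hni

/-- PIECE SLK-FIBR (2): the range of `chiT f` is the set of `gam f`-th powers. -/
theorem chiT_range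
    (hbez : ∀ {Z : Type u} [CommGroup Z] (D : Subgroup Z) {ι : Type} (s : Finset ι)
      (e : ι → ℕ), (∀ i ∈ s, ∀ c : Z, c ^ e i ∈ D) → ∀ c : Z, c ^ s.gcd e ∈ D)
    {n : ℕ} (f : Fin n → F[X]) (x : Fˣ) :
    (∃ l : Fin n → Fˣ, chiT f l = x) ↔ ∃ y : Fˣ, y ^ gam f = x := by
  classical
  constructor
  · rintro ⟨l, rfl⟩
    refine ⟨∏ j ∈ Finset.univ.filter (fun j : Fin n => f j ≠ 1),
      l j ^ (((j : ℕ) + 1) / gam f), ?_⟩
    rw [slk_fibr_chiT_eq, ← Finset.prod_pow]
    apply Finset.prod_congr rfl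
    intro j hj
    rw [← pow_mul]
    congr 1
    apply Nat.div_mul_cancel
    rw [slk_fibr_gam_eq]
    exact Finset.gcd_dvd hj
  · rintro ⟨y, rfl⟩
    have key : y ^ (Finset.univ.filter (fun j : Fin n => f j ≠ 1)).gcd
        (fun j => (j : ℕ) + 1) ∈ (slk_fibr_hom f).range := by
      apply hbez (slk_fibr_hom f).range
        (Finset.univ.filter (fun j : Fin n => f j ≠ 1)) (fun j => (j : ℕ) + 1)
      intro i hi c
      refine ⟨Pi.mulSingle i c, ?_⟩
      exact slk_fibr_chiT_mulSingle f i (Finset.mem_filter.mp hi).2 c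
    rw [← slk_fibr_gam_eq] at key
    obtain ⟨l, hl⟩ := key
    exact ⟨l, hl⟩

end pieces2

end Cfsg.Agent.Helper17.SLk
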