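import Mathlib
import Cfsg.Agent.Lib.Helper17.SLkDefs

/-!
# S2479 piece SLK-NORM2: surjectivity of the norm of `F[X]/(p)` over a finite field `F`.
-/

open Polynomial

namespace Cfsg.Agent.Helper17.SLk

open Cfsg.Agent.Helper17.GLk

universe u

section pieces
variable {F : Type u} [Field F]

/-- PIECE SLK-NORM2: surjectivity of the norm of the finite field `F[X]/(p)` over `F`. -/
theorem exists_det_mulQ_eq [Fintype F] (p : F[X]) (hp : Irreducible p) (c : F) :
    ∃ r : F[X], LinearMap.det (mulQ p r) = c := by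
  have : Fact (Irreducible p) := ⟨hp⟩
  have : Finite (AdjoinRoot p) := by
    have : Module.Finite F (AdjoinRoot p) :=
      (AdjoinRoot.powerBasis hp.ne_zero).finite
    exact Module.finite_of_finite F
  obtain ⟨x, hx⟩ := FiniteField.norm_surjective F (AdjoinRoot p) c
  obtain ⟨r, rfl⟩ := AdjoinRoot.mk_surjective x
  refine ⟨r, ?_⟩
  rw [← hx, Algebra.norm_apply]
  rfl

end pieces

end Cfsg.Agent.Helper17.SLk
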