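import Mathlib
import Cfsg.Agent.Lib.Helper11.UnitaryTransv

set_option autoImplicit false

/-! Siegel elements `x ↦ x + h(x,e) w - h(x,w) e + s h(x,e) e` of the unitary group. -/

namespace Cfsg.Agent.Helper11.Herm

open Matrix

section general

variable {F : Type*} [Field F] {ι : Type*} [Fintype ι] [DecidableEq ι] (φ : F →+* F)

/-- the Siegel element -/
def sg (e w : ι → F) (s : F) : Matrix ι ι F :=
  1 + Matrix.vecMulVec w (φ ∘ e) - Matrix.vecMulVec e (φ ∘ w) + s • Matrix.vecMulVec e (φ ∘ e)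

theorem vecMulVec_mulVec' (a b x : ι → F) :
    Matrix.vecMulVec a (φ ∘ b) *ᵥ x = hdot φ x b • a := by
  funext i
  rw [Matrix.mulVec, dotProduct, Pi.smul_apply, hdot_def, smul_eq_mul, Finset.sum_mul]
  apply Finset.sum_congr rfl
  intro j _
  simp only [Matrix.vecMulVec_apply, Function.comp_apply]
  ring

theorem sg_mulVec (e w : ι → F) (s : F) (x : ι → F) :
    sg φ e w s *ᵥ x = x + hdot φ x e • w + (s * hdot φ x e - hdot φ x w) • e := by
  unfold sg
  rw [Matrix.add_mulVec, Matrix.sub_mulVec, Matrix.add_mulVec, Matrix.one_mulVec,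
    Matrix.smul_mulVec, vecMulVec_mulVec', vecMulVec_mulVec', vecMulVec_mulVec', sub_smul,
    mul_smul]
  abel

theorem sg_zero (e : ι → F) (t : F) : sg φ e 0 t = tv φ e t := by
  rw [Matrix.ext_iff_mulVec]
  intro x
  rw [sg_mulVec, tv_mulVec, smul_zero, add_zero, hdot_zero_right, sub_zero]

theorem isU_sg (hφφ : ∀ x, φ (φ x) = x) (e w : ι → F) (s : F) (he : hdot φ e e = 0)
    (hwe : hdot φ w e = 0) (hs : s + φ s + hdot φ w w = 0) : IsU φ (sg φ e w s) := by
  apply isU_of_preserves
  intro x y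
  have hew : hdot φ e w = 0 := hdot_eq_zero_symm φ hφφ _ _ hwe
  rw [sg_mulVec, sg_mulVec]
  simp only [hdot_add_left, hdot_add_right, hdot_smul_left, hdot_smul_right, map_sub, map_mul,
    he, hwe, hew, mul_zero, add_zero]
  rw [hdot_conj φ hφφ y e, hdot_conj φ hφφ y w]
  linear_combination (hdot φ x e * hdot φ e y) * hs

theorem sg_mul_sg (e w w' : ι → F) (s s' : F) (he : hdot φ e e = 0)
    (hw'e : hdot φ w' e = 0) (hew : hdot φ e w = 0) :
    sg φ e w s * sg φ e w' s' = sg φ e (w + w') (s + s' - hdot φ w' w) := by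
  rw [Matrix.ext_iff_mulVec]
  intro x
  rw [← Matrix.mulVec_mulVec, sg_mulVec, sg_mulVec, sg_mulVec]
  simp only [hdot_add_left, hdot_add_right, hdot_smul_left, he, hw'e, hew, mul_zero, add_zero]
  simp only [smul_add, sub_smul, add_smul, mul_smul]
  module

theorem det_sg (e w : ι → F) (s : F) (he : hdot φ e e = 0) (hwe : hdot φ w e = 0)
    (hew : hdot φ e w = 0) : (sg φ e w s).det = 1 := by
  let A : Matrix ι (Fin 2) F := Matrix.of (fun i k => if k = 0 then w i else e i)
  let B : Matrix (Fin 2) ι F :=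
    Matrix.of (fun k j => if k = 0 then φ (e j) else -φ (w j) + s * φ (e j))
  have hAB : sg φ e w s = 1 + A * B := by
    ext i j
    simp only [sg, Matrix.add_apply, Matrix.sub_apply, Matrix.smul_apply, Matrix.vecMulVec_apply,
      Function.comp_apply, Matrix.mul_apply, Fin.sum_univ_two, A, B, Matrix.of_apply, smul_eq_mul]
    simp
    ring
  rw [hAB, Matrix.det_one_add_mul_comm]
  have hBA : B * A = Matrix.of ![![0, 0], ![-hdot φ w w, 0]] := by
    ext k l
    fin_cases k <;> fin_cases l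
    · simp only [Matrix.mul_apply, A, B, Matrix.of_apply]
      simp
      have := hwe
      rw [hdot_def] at this
      rw [← this]
      exact Finset.sum_congr rfl (fun i _ => mul_comm _ _)
    · simp only [Matrix.mul_apply, A, B, Matrix.of_apply]
      simp
      have := he
      rw [hdot_def] at this
      rw [← this]
      exact Finset.sum_congr rfl (fun i _ => mul_comm _ _)
    · simp only [Matrix.mul_apply, A, B, Matrix.of_apply]
      simp
      have h1 := hwe
      rw [hdot_def] at h1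
      rw [hdot_def]
      simp only [add_mul, Finset.sum_add_distrib, neg_mul, Finset.sum_neg_distrib]
      have h2 : ∑ i, s * φ (e i) * w i = 0 := by
        rw [← mul_zero s, ← h1, Finset.mul_sum]
        exact Finset.sum_congr rfl (fun i _ => by ring)
      rw [h2, add_zero]
      congr 1
      exact Finset.sum_congr rfl (fun i _ => mul_comm _ _)
    · simp only [Matrix.mul_apply, A, B, Matrix.of_apply]
      simp
      have h1 := he
      have h3 := hew
      rw [hdot_def] at h1 h3
      simp only [add_mul, Finset.sum_add_distrib, neg_mul, Finset.sum_neg_distrib]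
      have h2 : ∑ i, s * φ (e i) * e i = 0 := by
        rw [← mul_zero s, ← h1, Finset.mul_sum]
        exact Finset.sum_congr rfl (fun i _ => by ring)
      have h4 : ∑ i, φ (w i) * e i = 0 := by
        rw [← h3]
        exact Finset.sum_congr rfl (fun i _ => mul_comm _ _)
      rw [h2, h4, neg_zero, add_zero]
  rw [hBA, Matrix.det_fin_two]
  simp

end general

section comm

variable {F : Type*} [Field F] [Finite F] {ι : Type*} [Fintype ι] [DecidableEq ι] (φ : F →+* F)

/-- every unitary transvection (in dimension at least three) is a commutator of two Siegel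
elements: `B * C = tv e c * (C * B)`. -/
theorem tv_eq_commutator (hφ : φ ≠ RingHom.id F) (hφφ : ∀ x, φ (φ x) = x)
    (hN1 : ∀ c : F, c ≠ 0 → φ c = c → ∃ l : F, l ≠ 0 ∧ l * φ l = c)
    (hN2 : ∃ μ : F, μ + φ μ ≠ 0)
    (hcard : 3 ≤ Fintype.card ι) (e : ι → F) (he : hdot φ e e = 0) (c : F) (hc : c + φ c = 0) :
    ∃ B C : Matrix ι ι F, IsU φ B ∧ B.det = 1 ∧ IsU φ C ∧ C.det = 1 ∧
      B * C = tv φ e c * (C * B) := by
  obtain ⟨m, hmm, hme⟩ := exists_norm_one_orth φ hφ hφφ hN1 hcard e he
  have hem : hdot φ e m = 0 := hdot_eq_zero_symm φ hφφ _ _ hme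
  obtain ⟨a, ha⟩ := hN2
  obtain ⟨t, ht⟩ : ∃ t, t = a + φ a := ⟨_, rfl⟩
  rw [← ht] at ha
  have hφt : φ t = t := by rw [ht, map_add, hφφ, add_comm]
  have hφc : φ c = -c := by linear_combination hc
  obtain ⟨l, hl⟩ : ∃ l, l = -c * a / t := ⟨_, rfl⟩
  have hlc : φ l - l = c := by
    rw [hl, map_div₀, map_mul, map_neg, hφc, hφt]
    field_simp
    rw [ht]
    ring
  obtain ⟨s, hs⟩ : ∃ s, s = -a / t := ⟨_, rfl⟩
  have hs1 : s + φ s + hdot φ m m = 0 := by
    rw [hs, map_div₀, map_neg, hφt, hmm]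
    field_simp
    rw [ht]
    ring
  obtain ⟨s', hs'⟩ : ∃ s', s' = -(l * φ l) * a / t := ⟨_, rfl⟩
  have hs'1 : s' + φ s' + hdot φ (l • m) (l • m) = 0 := by
    rw [hs', map_div₀, map_mul, map_neg, map_mul, hφφ, hφt, hdot_smul_left, hdot_smul_right, hmm]
    field_simp
    rw [ht]
    ring
  have hlme : hdot φ (l • m) e = 0 := by rw [hdot_smul_left, hme, mul_zero]
  have helm : hdot φ e (l • m) = 0 := by rw [hdot_smul_right, hem, mul_zero]
  refine ⟨sg φ e m s, sg φ e (l • m) s', isU_sg φ hφφ e m s he hme hs1,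
    det_sg φ e m s he hme hem, isU_sg φ hφφ e (l • m) s' he hlme hs'1,
    det_sg φ e (l • m) s' he hlme helm, ?_⟩
  rw [sg_mul_sg φ e m (l • m) s s' he hlme hem, sg_mul_sg φ e (l • m) m s' s he hme helm,
    ← sg_zero, sg_mul_sg φ e 0 (l • m + m) c _ he (by
      rw [hdot_add_left, hlme, hme, add_zero]) (hdot_zero_right φ e)]
  rw [zero_add, add_comm m (l • m), hdot_zero_right, hdot_smul_left, hdot_smul_right, hmm]
  congr 1
  linear_combination hlc

end comm

section more

variable {F : Type*} [Field F] {ι : Type*} [Fintype ι] [DecidableEq ι] (φ : F →+* F)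

theorem hdot_tv_tv (hφφ : ∀ x, φ (φ x) = x) (v : ι → F) (c : F) (x y : ι → F) :
    hdot φ (tv φ v c *ᵥ x) (tv φ v c *ᵥ y) =
      hdot φ x y + (c + φ c + φ c * c * hdot φ v v) * (hdot φ x v * hdot φ v y) := by
  rw [tv_mulVec, tv_mulVec]
  simp only [hdot_add_left, hdot_add_right, hdot_smul_left, hdot_smul_right, map_mul]
  rw [hdot_conj φ hφφ y v]
  ring

/-- a unitary `tv v c` with `v` isotropic and nonzero has `c` of trace zero -/
theorem trace_zero_of_isU_tv (hφφ : ∀ x, φ (φ x) = x) (v : ι → F) (c : F) (hv : v ≠ 0)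
    (hvv : hdot φ v v = 0) (hU : IsU φ (tv φ v c)) : c + φ c = 0 := by
  obtain ⟨u, hu⟩ : ∃ u, hdot φ v u ≠ 0 := by
    by_contra hcon
    push Not at hcon
    exact hv (eq_zero_of_hdot_right φ v hcon)
  have huv : hdot φ u v ≠ 0 := fun h => hu (hdot_eq_zero_symm φ hφφ _ _ h)
  have h1 := hU.hdot_mulVec φ u u
  rw [hdot_tv_tv φ hφφ, hvv, mul_zero, add_zero] at h1
  have h2 : (c + φ c) * (hdot φ u v * hdot φ v u) = 0 := by linear_combination h1
  rcases mul_eq_zero.1 h2 with h3 | h3
  · exact h3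
  · exact absurd h3 (mul_ne_zero huv hu)

end more

end Cfsg.Agent.Helper11.Herm
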