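import Mathlib
import Cfsg.Agent.Lib.Helper11.WittHerm

set_option autoImplicit false

/-! Witt's lemma with control of the isometries used: they lie in any subgroup containing all
maps `qr B z c`. -/

namespace Cfsg.Agent.Helper11.Witt

variable {F V : Type*} [Field F] [AddCommGroup V] [Module F V] {σ : F →+* F}
  (B : V →ₛₗ[σ] V →ₗ[F] F) (S : Subgroup (V ≃ₗ[F] V))
  (hSqr : ∀ (z : V) (c : F), c + σ c + σ c * c * B z z = 0 → ∀ g : V ≃ₗ[F] V,
    (∀ v, g v = qr B z c v) → g ∈ S)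

include hSqr

section fd

variable [FiniteDimensional F V]

/-- Case 1: if `B (y - x) x ≠ 0` there is a quasi-reflection along `y - x` taking `x` to `y`. -/
theorem exists_isom_of_ne' (hS : B.IsSymm) (hB : B.Nondegenerate) (x y : V)
    (hxy : B x x = B y y) (hne : B (y - x) x ≠ 0) :
    ∃ g : V ≃ₗ[F] V, g ∈ S ∧ IsIsom B g ∧ g x = y ∧ ∀ v, B (y - x) v = 0 → g v = v := by
  obtain ⟨z, hz⟩ : ∃ z, z = y - x := ⟨_, rfl⟩
  rw [← hz] at hne ⊢
  obtain ⟨β, hβ⟩ : ∃ β, β = B z x := ⟨_, rfl⟩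
  rw [← hβ] at hne
  have hσβ : σ β = B x z := by rw [hβ, hS.eq]
  have hσβ0 : σ β ≠ 0 := by
    intro h
    apply hne
    have := congrArg σ h
    rw [hσβ, hS.eq, map_zero] at this
    rw [hβ]
    exact this
  have hy : y = x + z := by rw [hz]; abel
  have hkey : B x z + B z x + B z z = 0 := by
    have h1 : B y y = B x x + B x z + B z x + B z z := by
      rw [hy]
      simp only [map_add, LinearMap.add_apply]
      ring
    rw [← hxy] at h1
    linear_combination -h1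
  have hc : β⁻¹ + σ β⁻¹ + σ β⁻¹ * β⁻¹ * B z z = 0 := by
    rw [map_inv₀]
    rw [← hσβ, ← hβ] at hkey
    field_simp
    linear_combination hkey
  have hinj := qr_injective B hS hB z β⁻¹ hc
  have hbij : Function.Bijective (qr B z β⁻¹) :=
    ⟨hinj, LinearMap.injective_iff_surjective.1 hinj⟩
  refine ⟨LinearEquiv.ofBijective (qr B z β⁻¹) hbij,
    hSqr z β⁻¹ hc _ (fun v => rfl), ?_, ?_, ?_⟩
  · intro u v
    rw [LinearEquiv.ofBijective_apply, LinearEquiv.ofBijective_apply]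
    exact B_qr B hS z β⁻¹ hc u v
  · rw [LinearEquiv.ofBijective_apply, qr_apply, ← hβ, inv_mul_cancel₀ hne, one_smul, hy]
  · intro v hv
    rw [LinearEquiv.ofBijective_apply, qr_apply, hv, mul_zero, zero_smul, add_zero]

end fd

section finite

variable [Finite F] [FiniteDimensional F V]

/-- The core step of Witt's lemma. -/
theorem exists_isom_fix' (hσ : σ ≠ RingHom.id F) (hσ2 : ∀ a : F, σ (σ a) = a) (hS : B.IsSymm)
    (hB : B.Nondegenerate) (H : Submodule F V) (x y : V) (hx : x ∉ H) (hy : y ∉ H)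
    (hxy : B x x = B y y) (hH : ∀ h ∈ H, B (y - x) h = 0) :
    ∃ g : V ≃ₗ[F] V, g ∈ S ∧ IsIsom B g ∧ g x = y ∧ ∀ h ∈ H, g h = h := by
  by_cases hne : B (y - x) x ≠ 0
  · obtain ⟨g, hgS, hg, hgx, hgv⟩ := exists_isom_of_ne' B S hSqr hS hB x y hxy hne
    exact ⟨g, hgS, hg, hgx, fun h hh => hgv h (hH h hh)⟩
  push Not at hne
  obtain ⟨ψ1, hψ1x, hψ1H⟩ := Submodule.exists_le_ker_of_notMem hx
  obtain ⟨d1, hd1⟩ := exists_repr B hB ψ1
  obtain ⟨ψ2, hψ2y, hψ2H⟩ := Submodule.exists_le_ker_of_notMem hy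
  obtain ⟨d2, hd2⟩ := exists_repr B hB ψ2
  have hd1H : ∀ h ∈ H, B d1 h = 0 := fun h hh => by rw [hd1]; exact hψ1H hh
  have hd2H : ∀ h ∈ H, B d2 h = 0 := fun h hh => by rw [hd2]; exact hψ2H hh
  have hd1x : B d1 x ≠ 0 := by rw [hd1]; exact hψ1x
  have hd2y : B d2 y ≠ 0 := by rw [hd2]; exact hψ2y
  obtain ⟨d0, hd0H, hd0x, hd0y⟩ :
      ∃ d0, (∀ h ∈ H, B d0 h = 0) ∧ B d0 x ≠ 0 ∧ B d0 y ≠ 0 := by
    by_cases h1 : B d1 y ≠ 0
    · exact ⟨d1, hd1H, hd1x, h1⟩
    by_cases h2 : B d2 x ≠ 0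
    · exact ⟨d2, hd2H, h2, hd2y⟩
    push Not at h1 h2
    refine ⟨d1 + d2, ?_, ?_, ?_⟩
    · intro h hh
      rw [map_add, LinearMap.add_apply, hd1H h hh, hd2H h hh, add_zero]
    · rw [map_add, LinearMap.add_apply, h2, add_zero]
      exact hd1x
    · rw [map_add, LinearMap.add_apply, h1, zero_add]
      exact hd2y
  obtain ⟨β, hβ⟩ : ∃ β, β = B d0 x := ⟨_, rfl⟩
  obtain ⟨n, hn⟩ : ∃ n, n = B d0 d0 := ⟨_, rfl⟩
  have hσn : σ n = n := by rw [hn, hS.eq]
  rw [← hβ] at hd0x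
  obtain ⟨τ, hτ0, hτ⟩ : ∃ τ : F, τ ≠ 0 ∧ τ + σ τ = -n := by
    by_cases hn0 : n = 0
    · obtain ⟨τ, hτ0, hτ⟩ := exists_trace_zero σ hσ hσ2
      exact ⟨τ, hτ0, by rw [hτ, hn0, neg_zero]⟩
    · obtain ⟨τ, hτ⟩ := exists_trace_eq σ hσ hσ2 (-n) (by rw [map_neg, hσn])
      refine ⟨τ, ?_, hτ⟩
      rintro rfl
      apply hn0
      rw [map_zero, add_zero] at hτ
      exact neg_eq_zero.1 hτ.symm
  have hστ0 : σ τ ≠ 0 := fun h => hτ0 (by rw [← hσ2 τ, h, map_zero])
  have hσβ0 : σ β ≠ 0 := fun h => hd0x (by rw [← hσ2 β, h, map_zero])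
  obtain ⟨l, hl⟩ : ∃ l, l = β / τ := ⟨_, rfl⟩
  have hl0 : l ≠ 0 := by rw [hl]; exact div_ne_zero hd0x hτ0
  have hσl0 : σ l ≠ 0 := fun h => hl0 (by rw [← hσ2 l, h, map_zero])
  obtain ⟨d, hd⟩ : ∃ d, d = l • d0 := ⟨_, rfl⟩
  have hdx : B d x = σ l * β := by rw [hd, LinearMap.map_smulₛₗ, LinearMap.smul_apply, hβ]; rfl
  have hdd : B d d = σ l * l * n := by
    rw [hd]
    simp only [LinearMap.map_smulₛₗ, LinearMap.smul_apply, map_smul, smul_eq_mul,
      ← hn]
    ring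
  have hxd : B x d = l * σ β := by
    rw [← hS.eq d x, hdx, map_mul, hσ2]
  have hcond : B x d + B d x + B d d = 0 := by
    rw [hxd, hdx, hdd, hl, map_div₀]
    field_simp
    linear_combination (β * σ β) * hτ
  have hdH : ∀ h ∈ H, B d h = 0 := fun h hh => by
    rw [hd, LinearMap.map_smulₛₗ, LinearMap.smul_apply, hd0H h hh, smul_zero]
  have hdy : B d y ≠ 0 := by
    rw [hd, LinearMap.map_smulₛₗ, LinearMap.smul_apply]
    exact smul_ne_zero hσl0 hd0y
  obtain ⟨w, hw⟩ : ∃ w, w = x + d := ⟨_, rfl⟩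
  have hwx : w - x = d := by rw [hw]; abel
  have hww : B w w = B x x := by
    rw [hw]
    simp only [map_add, LinearMap.add_apply]
    linear_combination hcond
  obtain ⟨g1, hg1S, hg1, hg1x, hg1v⟩ := exists_isom_of_ne' B S hSqr hS hB x w hww.symm (by
    rw [hwx, hdx]
    exact mul_ne_zero hσl0 hd0x)
  have hyw : y - w = (y - x) - d := by rw [hw]; abel
  have hyd : B y d ≠ 0 := by
    intro h
    apply hdy
    rw [← hS.eq y d, h, map_zero]
  obtain ⟨g2, hg2S, hg2, hg2w, hg2v⟩ := exists_isom_of_ne' B S hSqr hS hB w y (hww.trans hxy) (by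
    rw [hyw, hw]
    simp only [map_add, map_sub, LinearMap.sub_apply]
    have h0 : B y x - B x x = 0 := by
      have := hne
      rwa [map_sub, LinearMap.sub_apply] at this
    intro h
    apply hyd
    linear_combination h - h0 + hcond)
  refine ⟨g1.trans g2, S.mul_mem hg2S hg1S, hg1.trans B hg2, ?_, ?_⟩
  · rw [LinearEquiv.trans_apply, hg1x, hg2w]
  · intro h hh
    rw [LinearEquiv.trans_apply, hg1v h (by rw [hwx]; exact hdH h hh)]
    apply hg2v
    rw [hyw, map_sub, LinearMap.sub_apply, hH h hh, hdH h hh, sub_zero]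

end finite

section witt

variable [Finite F] [FiniteDimensional F V]

theorem witt_family' (hσ : σ ≠ RingHom.id F) (hσ2 : ∀ a : F, σ (σ a) = a) (hS : B.IsSymm)
    (hB : B.Nondegenerate) : ∀ (k : ℕ) (x y : Fin k → V), LinearIndependent F x →
    LinearIndependent F y → (∀ i j, B (x i) (x j) = B (y i) (y j)) →
    ∃ g : V ≃ₗ[F] V, g ∈ S ∧ IsIsom B g ∧ ∀ i, g (x i) = y i := by
  intro k
  induction k with
  | zero =>
    intro x y _ _ _
    exact ⟨LinearEquiv.refl F V, S.one_mem, isIsom_refl B, fun i => i.elim0⟩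
  | succ k ih =>
    intro x y hx hy hxy
    have hx' : LinearIndependent F (Fin.init x) :=
      hx.comp Fin.castSucc (Fin.castSucc_injective k)
    have hy' : LinearIndependent F (Fin.init y) :=
      hy.comp Fin.castSucc (Fin.castSucc_injective k)
    obtain ⟨g0, hg0S, hg0, hg0x⟩ := ih (Fin.init x) (Fin.init y) hx' hy'
      (fun i j => hxy (Fin.castSucc i) (Fin.castSucc j))
    have hxs : x (Fin.last k) ∉ Submodule.span F (Set.range (Fin.init x)) := by
      have h1 := hx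
      rw [← Fin.snoc_init_self x, linearIndependent_finSnoc] at h1
      exact h1.2
    have hys : y (Fin.last k) ∉ Submodule.span F (Set.range (Fin.init y)) := by
      have h1 := hy
      rw [← Fin.snoc_init_self y, linearIndependent_finSnoc] at h1
      exact h1.2
    obtain ⟨H, hH⟩ : ∃ H, H = Submodule.span F (Set.range (Fin.init x)) := ⟨_, rfl⟩
    have hmap : H.map (g0 : V →ₗ[F] V) = Submodule.span F (Set.range (Fin.init y)) := by
      rw [hH, Submodule.map_span]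
      congr 1
      ext v
      constructor
      · rintro ⟨_, ⟨i, rfl⟩, rfl⟩
        exact ⟨i, (hg0x i).symm⟩
      · rintro ⟨i, rfl⟩
        exact ⟨_, ⟨i, rfl⟩, hg0x i⟩
    obtain ⟨yl, hyl⟩ : ∃ yl, yl = g0.symm (y (Fin.last k)) := ⟨_, rfl⟩
    have hg0yl : g0 yl = y (Fin.last k) := by rw [hyl, LinearEquiv.apply_symm_apply]
    have hylH : yl ∉ H := by
      intro h
      apply hys
      rw [← hmap, ← hg0yl]
      exact Submodule.mem_map_of_mem h
    have hnorm : B (x (Fin.last k)) (x (Fin.last k)) = B yl yl := by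
      rw [← hg0 yl yl, hg0yl, hxy]
    have hperp : ∀ h ∈ H, B (yl - x (Fin.last k)) h = 0 := by
      have : H ≤ LinearMap.ker (B (yl - x (Fin.last k))) := by
        rw [hH, Submodule.span_le]
        rintro _ ⟨i, rfl⟩
        rw [SetLike.mem_coe, LinearMap.mem_ker, map_sub, LinearMap.sub_apply, ← hg0 yl, hg0yl,
          hg0x i]
        show B (y (Fin.last k)) (y (Fin.castSucc i)) - B (x (Fin.last k)) (x (Fin.castSucc i)) = 0
        rw [hxy, sub_self]
      intro h hh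
      exact this hh
    obtain ⟨g1, hg1S, hg1, hg1x, hg1H⟩ := exists_isom_fix' B S hSqr hσ hσ2 hS hB H (x (Fin.last k)) yl
      (by rw [hH]; exact hxs) hylH hnorm hperp
    refine ⟨g1.trans g0, S.mul_mem hg0S hg1S, hg1.trans B hg0, ?_⟩
    intro i
    induction i using Fin.lastCases with
    | last => rw [LinearEquiv.trans_apply, hg1x, hg0yl]
    | cast i =>
      rw [LinearEquiv.trans_apply, hg1H _ (by
        rw [hH]
        exact Submodule.subset_span ⟨i, rfl⟩)]
      exact hg0x i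

end witt

end Cfsg.Agent.Helper11.Witt
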