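import Mathlib
import Cfsg.Agent.Lib.Helper11.UnitarySiegel
import Cfsg.Agent.Lib.Helper11.WittQR

set_option autoImplicit false

/-! Generation of the special unitary group by unitary transvections (Dieudonné's argument). -/

namespace Cfsg.Agent.Helper11.Herm

open Matrix

section monoids

variable {F : Type*} [Field F] {ι : Type*} [Fintype ι] [DecidableEq ι] (φ : F →+* F)

/-- the monoid generated by all unitary `tv z c` (quasi-reflections and transvections) -/
def UQ : Submonoid (Matrix ι ι F) :=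
  Submonoid.closure {M | ∃ (z : ι → F) (c : F), c + φ c + φ c * c * hdot φ z z = 0 ∧ M = tv φ z c}

/-- the monoid generated by the unitary transvections -/
def TM : Submonoid (Matrix ι ι F) :=
  Submonoid.closure {M | ∃ (v : ι → F) (c : F), hdot φ v v = 0 ∧ c + φ c = 0 ∧ M = tv φ v c}

theorem tv_mul_tv' (z : ι → F) (c c' : F) :
    tv φ z c * tv φ z c' = tv φ z (c + c' + c * c' * hdot φ z z) := by
  rw [Matrix.ext_iff_mulVec]
  intro x
  rw [← Matrix.mulVec_mulVec, tv_mulVec, tv_mulVec, tv_mulVec, hdot_add_left, hdot_smul_left,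
    add_assoc, ← add_smul]
  congr 2
  ring

theorem tv_mem_TM (v : ι → F) (c : F) (hv : hdot φ v v = 0) (hc : c + φ c = 0) :
    tv φ v c ∈ TM φ := Submonoid.subset_closure ⟨v, c, hv, hc, rfl⟩

/-- `TM` consists of unitary matrices of determinant one -/
theorem isU_of_mem_TM (hφφ : ∀ x, φ (φ x) = x) {M : Matrix ι ι F} (hM : M ∈ TM φ) :
    IsU φ M ∧ M.det = 1 := by
  induction hM using Submonoid.closure_induction with
  | mem M hM =>
    obtain ⟨v, c, hv, hc, rfl⟩ := hM
    refine ⟨isU_tv φ hφφ v c ?_, ?_⟩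
    · rw [hv, mul_zero, add_zero, hc]
    · rw [det_tv, hv, mul_zero, add_zero]
  | one => exact ⟨isU_one φ, Matrix.det_one⟩
  | mul M N _ _ hM hN =>
    exact ⟨hM.1.mul φ hN.1, by rw [Matrix.det_mul, hM.2, hN.2, mul_one]⟩

/-- `TM` is invariant under conjugation by unitary matrices -/
theorem conj_mem_TM {U U' : Matrix ι ι F} (hU : IsU φ U) (hUU' : U * U' = 1)
    {M : Matrix ι ι F} (hM : M ∈ TM φ) : U * M * U' ∈ TM φ := by
  have hU'U : U' * U = 1 := mul_eq_one_comm.1 hUU'
  induction hM using Submonoid.closure_induction with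
  | mem M hM =>
    obtain ⟨v, c, hv, hc, rfl⟩ := hM
    rw [isU_mul_tv φ hU, Matrix.mul_assoc, hUU', Matrix.mul_one]
    exact tv_mem_TM φ _ c (by rw [hU.hdot_mulVec, hv]) hc
  | one =>
    rw [Matrix.mul_one, hUU']
    exact (TM φ).one_mem
  | mul M N _ _ hM hN =>
    have : U * (M * N) * U' = (U * M * U') * (U * N * U') := by
      calc U * (M * N) * U' = U * M * (1 * (N * U')) := by
            rw [Matrix.one_mul]
            simp only [Matrix.mul_assoc]
        _ = U * M * ((U' * U) * (N * U')) := by rw [hU'U]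
        _ = (U * M * U') * (U * N * U') := by simp only [Matrix.mul_assoc]
    rw [this]
    exact (TM φ).mul_mem hM hN

end monoids

section cartan

variable {F : Type*} [Field F] [Finite F] {ι : Type*} [Fintype ι] [DecidableEq ι] (φ : F →+* F)

/-- the subgroup of linear automorphisms whose matrix and inverse matrix lie in `UQ` -/
def UQsub : Subgroup ((ι → F) ≃ₗ[F] (ι → F)) where
  carrier := {g | LinearMap.toMatrix' (g : (ι → F) →ₗ[F] (ι → F)) ∈ UQ φ ∧
    LinearMap.toMatrix' (g.symm : (ι → F) →ₗ[F] (ι → F)) ∈ UQ φ}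
  mul_mem' {a b} ha hb := by
    constructor
    · have : LinearMap.toMatrix' ((a * b : (ι → F) ≃ₗ[F] (ι → F)) : (ι → F) →ₗ[F] (ι → F)) =
          LinearMap.toMatrix' (a : (ι → F) →ₗ[F] (ι → F)) *
            LinearMap.toMatrix' (b : (ι → F) →ₗ[F] (ι → F)) := by
        rw [← LinearMap.toMatrix'_comp]
        rfl
      rw [this]
      exact (UQ φ).mul_mem ha.1 hb.1
    · have : LinearMap.toMatrix' ((a * b : (ι → F) ≃ₗ[F] (ι → F)).symm :
            (ι → F) →ₗ[F] (ι → F)) =
          LinearMap.toMatrix' (b.symm : (ι → F) →ₗ[F] (ι → F)) *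
            LinearMap.toMatrix' (a.symm : (ι → F) →ₗ[F] (ι → F)) := by
        rw [← LinearMap.toMatrix'_comp]
        rfl
      rw [this]
      exact (UQ φ).mul_mem hb.2 ha.2
  one_mem' := by
    constructor
    · have : LinearMap.toMatrix' ((1 : (ι → F) ≃ₗ[F] (ι → F)) : (ι → F) →ₗ[F] (ι → F)) = 1 :=
        LinearMap.toMatrix'_id
      rw [this]
      exact (UQ φ).one_mem
    · have : LinearMap.toMatrix' ((1 : (ι → F) ≃ₗ[F] (ι → F)).symm :
          (ι → F) →ₗ[F] (ι → F)) = 1 := LinearMap.toMatrix'_id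
      rw [this]
      exact (UQ φ).one_mem
  inv_mem' {a} ha := ⟨ha.2, ha.1⟩

theorem isU_mem_UQ (hφ : φ ≠ RingHom.id F) (hφφ : ∀ x, φ (φ x) = x) (M : Matrix ι ι F)
    (hM : IsU φ M) : M ∈ UQ φ := by
  classical
  obtain ⟨k, ⟨e⟩⟩ : ∃ k, Nonempty (ι ≃ Fin k) := ⟨_, ⟨Fintype.equivFin ι⟩⟩
  obtain ⟨x, hx⟩ : ∃ x : Fin k → ι → F, x = fun j => Pi.single (e.symm j) 1 := ⟨_, rfl⟩
  have hxo : ∀ i j, hdot φ (x i) (x j) = if i = j then 1 else 0 := by
    intro i j
    rw [hx, hdot_single_single]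
    by_cases hij : i = j
    · rw [if_pos hij, if_pos (by rw [hij])]
    · rw [if_neg hij, if_neg]
      intro h
      exact hij (e.symm.injective h)
  have hyo : ∀ i j, hdot φ (M *ᵥ x i) (M *ᵥ x j) = if i = j then 1 else 0 := by
    intro i j
    rw [hM.hdot_mulVec, hxo]
  obtain ⟨g, hgS, -, hgx⟩ := Witt.witt_family' (sesq (ι := ι) φ) (UQsub φ) (by
      intro z c hc g hg
      have h1 : LinearMap.toMatrix' (g : (ι → F) →ₗ[F] (ι → F)) = tv φ z c := by
        rw [Matrix.ext_iff_mulVec]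
        intro v
        rw [LinearMap.toMatrix'_mulVec, tv_mulVec]
        have := hg v
        rw [Witt.qr_apply, sesq_apply] at this
        exact this
      have hc' : c + φ c + φ c * c * hdot φ z z = 0 := by
        have := hc
        rw [sesq_apply] at this
        exact this
      have hνfix : φ (hdot φ z z) = hdot φ z z := hdot_conj φ hφφ z z
      have hc'' : φ c + φ (φ c) + φ (φ c) * φ c * hdot φ z z = 0 := by
        rw [hφφ]
        linear_combination hc'
      have h2 : LinearMap.toMatrix' (g.symm : (ι → F) →ₗ[F] (ι → F)) = tv φ z (φ c) := by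
        have h3 : LinearMap.toMatrix' (g.symm : (ι → F) →ₗ[F] (ι → F)) * tv φ z c = 1 := by
          rw [← h1, ← LinearMap.toMatrix'_comp]
          have : (g.symm : (ι → F) →ₗ[F] (ι → F)) ∘ₗ (g : (ι → F) →ₗ[F] (ι → F)) =
              LinearMap.id := by
            ext v
            simp
          rw [this, LinearMap.toMatrix'_id]
        have h4 : tv φ z c * tv φ z (φ c) = 1 := by
          rw [tv_mul_tv']
          have : c + φ c + c * φ c * hdot φ z z = 0 := by linear_combination hc'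
          rw [this, tv_zero_right]
        calc LinearMap.toMatrix' (g.symm : (ι → F) →ₗ[F] (ι → F))
            = LinearMap.toMatrix' (g.symm : (ι → F) →ₗ[F] (ι → F)) *
                (tv φ z c * tv φ z (φ c)) := by rw [h4, Matrix.mul_one]
          _ = tv φ z (φ c) := by rw [← Matrix.mul_assoc, h3, Matrix.one_mul]
      constructor
      · rw [h1]
        exact Submonoid.subset_closure ⟨z, c, hc', rfl⟩
      · rw [h2]
        exact Submonoid.subset_closure ⟨z, φ c, hc'', rfl⟩)
    hφ hφφ (sesq_isSymm φ hφφ) (sesq_nondegenerate φ hφφ) k x (fun j => M *ᵥ x j)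
    (linearIndependent_of_orthonormal φ x hxo)
    (linearIndependent_of_orthonormal φ _ hyo) (fun i j => by rw [sesq_apply, sesq_apply, hyo, hxo])
  have hgM : LinearMap.toMatrix' (g : (ι → F) →ₗ[F] (ι → F)) = M := by
    ext i j
    have := congrFun (hgx (e j)) i
    rw [hx] at this
    simp only [Equiv.symm_apply_apply] at this
    rw [Matrix.mulVec_single_one] at this
    rw [LinearMap.toMatrix'_apply]
    exact this
  rw [← hgM]
  exact hgS.1

end cartan

section twobytwo

variable {F : Type*} [Field F] (φ : F →+* F)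

/-- upper elementary matrix -/
def U2 (c : F) : Matrix (Fin 2) (Fin 2) F := !![1, c; 0, 1]

/-- lower elementary matrix -/
def L2 (c : F) : Matrix (Fin 2) (Fin 2) F := !![1, 0; c, 1]

/-- the monoid generated by elementary matrices with trace-zero entry -/
def E2 : Submonoid (Matrix (Fin 2) (Fin 2) F) :=
  Submonoid.closure {A | ∃ c : F, c + φ c = 0 ∧ (A = U2 c ∨ A = L2 c)}

theorem U2_mem (c : F) (hc : c + φ c = 0) : U2 c ∈ E2 φ :=
  Submonoid.subset_closure ⟨c, hc, Or.inl rfl⟩

theorem L2_mem (c : F) (hc : c + φ c = 0) : L2 c ∈ E2 φ :=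
  Submonoid.subset_closure ⟨c, hc, Or.inr rfl⟩

theorem diag_mem_E2 (c0 : F) (hc0 : c0 ≠ 0) (hc0t : c0 + φ c0 = 0) (a : F) (ha0 : a ≠ 0)
    (ha : φ a = a) : !![a, 0; 0, a⁻¹] ∈ E2 φ := by
  have hφc0 : φ c0 = -c0 := by linear_combination hc0t
  have h1 : (-a * c0) + φ (-a * c0) = 0 := by
    rw [map_mul, map_neg, ha, hφc0]
    ring
  have h2 : (-(-a * c0)⁻¹) + φ (-(-a * c0)⁻¹) = 0 := by
    rw [map_neg, map_inv₀, map_mul, map_neg, ha, hφc0]
    field_simp
    ring
  have h3 : (-c0⁻¹) + φ (-c0⁻¹) = 0 := by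
    rw [map_neg, map_inv₀, hφc0]
    field_simp
    ring
  have hprod : !![a, 0; 0, a⁻¹] =
      U2 (-a * c0) * L2 (-(-a * c0)⁻¹) * U2 (-a * c0) * (U2 c0 * L2 (-c0⁻¹) * U2 c0) := by
    ext i j
    fin_cases i <;> fin_cases j <;>
      simp [U2, L2, Matrix.mul_apply, Fin.sum_univ_two] <;> field_simp <;> ring
  rw [hprod]
  exact (E2 φ).mul_mem ((E2 φ).mul_mem ((E2 φ).mul_mem (U2_mem φ _ h1) (L2_mem φ _ h2))
    (U2_mem φ _ h1)) ((E2 φ).mul_mem ((E2 φ).mul_mem (U2_mem φ _ hc0t) (L2_mem φ _ h3))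
    (U2_mem φ _ hc0t))

theorem mem_E2_of_ne (c0 : F) (hc0 : c0 ≠ 0) (hc0t : c0 + φ c0 = 0) (α β γ δ : F)
    (hα0 : α ≠ 0) (hα : φ α = α) (hβ : φ β = -β) (hγ : φ γ = -γ)
    (hdet : α * δ - β * γ = 1) : !![α, γ; β, δ] ∈ E2 φ := by
  have h1 : (β / α) + φ (β / α) = 0 := by
    rw [map_div₀, hα, hβ]
    field_simp
    ring
  have h2 : (γ / α) + φ (γ / α) = 0 := by
    rw [map_div₀, hα, hγ]
    field_simp
    ring
  have hprod : !![α, γ; β, δ] = L2 (β / α) * !![α, 0; 0, α⁻¹] * U2 (γ / α) := by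
    have hδ : δ = (1 + β * γ) / α := by
      field_simp
      linear_combination hdet
    ext i j
    fin_cases i <;> fin_cases j <;>
      simp [U2, L2, Matrix.mul_apply, Fin.sum_univ_two] <;> field_simp
    rw [hδ]
    field_simp
    ring
  rw [hprod]
  exact (E2 φ).mul_mem ((E2 φ).mul_mem (L2_mem φ _ h1)
    (diag_mem_E2 φ c0 hc0 hc0t α hα0 hα)) (U2_mem φ _ h2)

theorem mem_E2 (c0 : F) (hc0 : c0 ≠ 0) (hc0t : c0 + φ c0 = 0) (α β γ δ : F)
    (hα : φ α = α) (hδ : φ δ = δ) (hβ : φ β = -β) (hγ : φ γ = -γ)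
    (hdet : α * δ - β * γ = 1) : !![α, γ; β, δ] ∈ E2 φ := by
  have hφc0 : φ c0 = -c0 := by linear_combination hc0t
  by_cases hα0 : α = 0
  · have hβ0 : β ≠ 0 := by
      intro h
      rw [hα0, h] at hdet
      simp at hdet
    have hprod : !![α, γ; β, δ] = U2 (-c0) * !![α + c0 * β, γ + c0 * δ; β, δ] := by
      ext i j
      fin_cases i <;> fin_cases j <;> simp [U2, Matrix.mul_apply, Fin.sum_univ_two]
    rw [hprod]
    refine (E2 φ).mul_mem (U2_mem φ _ (by rw [map_neg, hφc0]; ring)) ?_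
    apply mem_E2_of_ne φ c0 hc0 hc0t
    · rw [hα0, zero_add]
      exact mul_ne_zero hc0 hβ0
    · rw [map_add, map_mul, hα, hφc0, hβ]
      ring
    · exact hβ
    · rw [map_add, map_mul, hγ, hφc0, hδ]
      ring
    · linear_combination hdet
  · exact mem_E2_of_ne φ c0 hc0 hc0t α β γ δ hα0 hα hβ hγ hdet

end twobytwo

section plane

variable {F : Type*} [Field F] {ι : Type*} [Fintype ι] [DecidableEq ι] (φ : F →+* F)
variable (e f : ι → F)

/-- the matrix with columns `e`, `f` -/
def Emat : Matrix ι (Fin 2) F := Matrix.of (fun i k => if k = 0 then e i else f i)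

/-- the matrix with rows `h(·, f)`, `h(·, e)` -/
def Emat' : Matrix (Fin 2) ι F := Matrix.of (fun k j => if k = 0 then φ (f j) else φ (e j))

/-- embedding of two by two matrices acting on the hyperbolic plane `⟨e, f⟩` -/
def emb (A : Matrix (Fin 2) (Fin 2) F) : Matrix ι ι F :=
  1 + Emat e f * (A - 1) * Emat' φ e f

theorem Emat'_mulVec (x : ι → F) : Emat' φ e f *ᵥ x = ![hdot φ x f, hdot φ x e] := by
  funext k
  fin_cases k
  · simp only [Emat', Matrix.mulVec, dotProduct, Matrix.of_apply, hdot_def]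
    simp
    exact Finset.sum_congr rfl (fun i _ => mul_comm _ _)
  · simp only [Emat', Matrix.mulVec, dotProduct, Matrix.of_apply, hdot_def]
    simp
    exact Finset.sum_congr rfl (fun i _ => mul_comm _ _)

theorem Emat_mulVec (t : Fin 2 → F) : Emat e f *ᵥ t = t 0 • e + t 1 • f := by
  funext i
  simp [Emat, Matrix.mulVec, dotProduct, Fin.sum_univ_two, mul_comm]

theorem emb_mulVec (A : Matrix (Fin 2) (Fin 2) F) (x : ι → F) :
    emb φ e f A *ᵥ x = x + (((A - 1) *ᵥ ![hdot φ x f, hdot φ x e]) 0 • e +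
      ((A - 1) *ᵥ ![hdot φ x f, hdot φ x e]) 1 • f) := by
  unfold emb
  rw [Matrix.add_mulVec, Matrix.one_mulVec, ← Matrix.mulVec_mulVec, ← Matrix.mulVec_mulVec,
    Emat'_mulVec, Emat_mulVec]

variable (he : hdot φ e e = 0) (hf : hdot φ f f = 0) (hef : hdot φ e f = 1)
  (hfe : hdot φ f e = 1)

include he hf hef hfe

theorem Emat'_mul_Emat : Emat' φ e f * Emat e f = 1 := by
  ext k l
  have h1 : ∀ a b : ι → F, ∑ j, φ (b j) * a j = hdot φ a b := fun a b => by
    rw [hdot_def]
    exact Finset.sum_congr rfl (fun i _ => mul_comm _ _)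
  fin_cases k <;> fin_cases l <;> simp [Emat, Emat', Matrix.mul_apply, h1, he, hf, hef, hfe]

theorem emb_mul (A B : Matrix (Fin 2) (Fin 2) F) :
    emb φ e f A * emb φ e f B = emb φ e f (A * B) := by
  unfold emb
  have h := Emat'_mul_Emat φ e f he hf hef hfe
  have key : Emat e f * (A - 1) * Emat' φ e f * (Emat e f * (B - 1) * Emat' φ e f) =
      Emat e f * ((A - 1) * (B - 1)) * Emat' φ e f := by
    calc Emat e f * (A - 1) * Emat' φ e f * (Emat e f * (B - 1) * Emat' φ e f)
        = Emat e f * (A - 1) * (Emat' φ e f * Emat e f) * (B - 1) * Emat' φ e f := by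
          simp only [Matrix.mul_assoc]
      _ = Emat e f * ((A - 1) * (B - 1)) * Emat' φ e f := by
          rw [h, Matrix.mul_one]
          simp only [Matrix.mul_assoc]
  rw [Matrix.add_mul, Matrix.mul_add, Matrix.mul_add, Matrix.one_mul, Matrix.mul_one,
    Matrix.one_mul, key]
  have : (A - 1) * (B - 1) = A * B - 1 - (A - 1) - (B - 1) := by
    rw [Matrix.sub_mul, Matrix.mul_sub, Matrix.mul_sub, Matrix.one_mul, Matrix.mul_one,
      Matrix.mul_one]
    abel
  rw [this]
  simp only [Matrix.mul_sub, Matrix.sub_mul]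
  abel

omit he hf hef hfe in
theorem emb_one : emb φ e f 1 = 1 := by
  unfold emb
  rw [sub_self, Matrix.mul_zero, Matrix.zero_mul, add_zero]

theorem det_emb (A : Matrix (Fin 2) (Fin 2) F) : (emb φ e f A).det = A.det := by
  unfold emb
  rw [Matrix.det_one_add_mul_comm, ← Matrix.mul_assoc, Emat'_mul_Emat φ e f he hf hef hfe,
    Matrix.one_mul, add_sub_cancel]

omit hf hef in
theorem emb_U2 (c : F) : emb φ e f (U2 c) = tv φ e c := by
  rw [Matrix.ext_iff_mulVec]
  intro x
  rw [emb_mulVec, tv_mulVec]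
  simp [U2, Matrix.mulVec, dotProduct, Fin.sum_univ_two]

omit he hef hfe in
theorem emb_L2 (c : F) : emb φ e f (L2 c) = tv φ f c := by
  rw [Matrix.ext_iff_mulVec]
  intro x
  rw [emb_mulVec, tv_mulVec]
  simp [L2, Matrix.mulVec, dotProduct, Fin.sum_univ_two]

theorem emb_mem_TM {A : Matrix (Fin 2) (Fin 2) F} (hA : A ∈ E2 φ) : emb φ e f A ∈ TM φ := by
  induction hA using Submonoid.closure_induction with
  | mem A hA =>
    obtain ⟨c, hc, rfl | rfl⟩ := hA
    · rw [emb_U2 φ e f he hfe]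
      exact tv_mem_TM φ e c he hc
    · rw [emb_L2 φ e f hf]
      exact tv_mem_TM φ f c hf hc
  | one =>
    rw [emb_one]
    exact (TM φ).one_mem
  | mul A B _ _ hA hB =>
    rw [← emb_mul φ e f he hf hef hfe]
    exact (TM φ).mul_mem hA hB

end plane

section planelemma

variable {F : Type*} [Field F] {ι : Type*} [Fintype ι] [DecidableEq ι] (φ : F →+* F)
variable (e f : ι → F)

/-- **Plane lemma**: a unitary matrix of determinant one fixing pointwise the orthogonal of a
hyperbolic pair is a product of transvections. -/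
theorem plane_mem_TM (hφφ : ∀ x, φ (φ x) = x) (he : hdot φ e e = 0) (hf : hdot φ f f = 0)
    (hef : hdot φ e f = 1) (c0 : F) (hc0 : c0 ≠ 0) (hc0t : c0 + φ c0 = 0)
    (M : Matrix ι ι F) (hM : IsU φ M) (hdet : M.det = 1)
    (hfix : ∀ x, hdot φ x e = 0 → hdot φ x f = 0 → M *ᵥ x = x) : M ∈ TM φ := by
  have hfe : hdot φ f e = 1 := by rw [← hdot_conj φ hφφ e f, hef, map_one]
  -- the projection
  have hP : ∀ x : ι → F, hdot φ (x - (hdot φ x f • e + hdot φ x e • f)) e = 0 ∧
      hdot φ (x - (hdot φ x f • e + hdot φ x e • f)) f = 0 := by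
    intro x
    constructor
    · rw [hdot_sub_left, hdot_add_left, hdot_smul_left, hdot_smul_left, he, hfe]; ring
    · rw [hdot_sub_left, hdot_add_left, hdot_smul_left, hdot_smul_left, hf, hef]; ring
  have hb : ∀ y : ι → F, (∀ z, hdot φ z e = 0 → hdot φ z f = 0 → hdot φ y z = 0) →
      y = hdot φ y f • e + hdot φ y e • f := by
    intro y hy
    have h0 : y - (hdot φ y f • e + hdot φ y e • f) = 0 := by
      apply eq_zero_of_hdot_right φ
      intro z
      obtain ⟨hz1, hz2⟩ := hP z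
      obtain ⟨hy1, hy2⟩ := hP y
      have hz1' := hdot_eq_zero_symm φ hφφ _ _ hz1
      have hz2' := hdot_eq_zero_symm φ hφφ _ _ hz2
      have hsplit : z = (z - (hdot φ z f • e + hdot φ z e • f)) +
          (hdot φ z f • e + hdot φ z e • f) := by abel
      rw [hsplit, hdot_add_right]
      have t1 : hdot φ (y - (hdot φ y f • e + hdot φ y e • f))
          (hdot φ z f • e + hdot φ z e • f) = 0 := by
        rw [hdot_add_right, hdot_smul_right, hdot_smul_right, hy1, hy2]; ring
      have t2 : hdot φ (y - (hdot φ y f • e + hdot φ y e • f))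
          (z - (hdot φ z f • e + hdot φ z e • f)) = 0 := by
        rw [hdot_sub_left, hdot_add_left, hdot_smul_left, hdot_smul_left, hz1', hz2',
          hy _ hz1 hz2]
        ring
      rw [t1, t2, add_zero]
    exact sub_eq_zero.1 h0
  have hc : ∀ v : ι → F, hdot φ v v = 0 ∨ True → ∀ z, hdot φ z e = 0 → hdot φ z f = 0 →
      hdot φ (M *ᵥ v) z = hdot φ v z := by
    intro v _ z hz1 hz2
    have := hM.hdot_mulVec φ v z
    rw [hfix z hz1 hz2] at this
    exact this
  have hMe := hb (M *ᵥ e) (fun z hz1 hz2 => by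
    rw [hc e (Or.inr trivial) z hz1 hz2]
    exact hdot_eq_zero_symm φ hφφ _ _ hz1)
  have hMf := hb (M *ᵥ f) (fun z hz1 hz2 => by
    rw [hc f (Or.inr trivial) z hz1 hz2]
    exact hdot_eq_zero_symm φ hφφ _ _ hz2)
  obtain ⟨α, hα⟩ : ∃ α, α = hdot φ (M *ᵥ e) f := ⟨_, rfl⟩
  obtain ⟨β, hβ⟩ : ∃ β, β = hdot φ (M *ᵥ e) e := ⟨_, rfl⟩
  obtain ⟨γ, hγ⟩ : ∃ γ, γ = hdot φ (M *ᵥ f) f := ⟨_, rfl⟩
  obtain ⟨δ, hδ⟩ : ∃ δ, δ = hdot φ (M *ᵥ f) e := ⟨_, rfl⟩
  rw [← hα, ← hβ] at hMe
  rw [← hγ, ← hδ] at hMf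
  -- M = emb A
  have hMA : M = emb φ e f !![α, γ; β, δ] := by
    rw [Matrix.ext_iff_mulVec]
    intro x
    obtain ⟨hx1, hx2⟩ := hP x
    have hsplit : x = (x - (hdot φ x f • e + hdot φ x e • f)) +
        (hdot φ x f • e + hdot φ x e • f) := by abel
    have h1 : M *ᵥ x = (x - (hdot φ x f • e + hdot φ x e • f)) +
        (hdot φ x f • (α • e + β • f) + hdot φ x e • (γ • e + δ • f)) := by
      conv_lhs => rw [hsplit]
      rw [Matrix.mulVec_add, hfix _ hx1 hx2, Matrix.mulVec_add, Matrix.mulVec_smul,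
        Matrix.mulVec_smul, ← hMe, ← hMf]
    rw [h1, emb_mulVec]
    simp [Matrix.mulVec, dotProduct, Fin.sum_univ_two]
    module
  -- the unitarity relations
  have r1 : α * φ β + β * φ α = 0 := by
    have := hM.hdot_mulVec φ e e
    rw [hMe, he] at this
    simp only [hdot_add_left, hdot_add_right, hdot_smul_left, hdot_smul_right, he, hf, hef,
      hfe] at this
    linear_combination this
  have r2 : γ * φ δ + δ * φ γ = 0 := by
    have := hM.hdot_mulVec φ f f
    rw [hMf, hf] at this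
    simp only [hdot_add_left, hdot_add_right, hdot_smul_left, hdot_smul_right, he, hf, hef,
      hfe] at this
    linear_combination this
  have r3 : α * φ δ + β * φ γ = 1 := by
    have := hM.hdot_mulVec φ e f
    rw [hMe, hMf, hef] at this
    simp only [hdot_add_left, hdot_add_right, hdot_smul_left, hdot_smul_right, he, hf, hef,
      hfe] at this
    linear_combination this
  have r3' : δ * φ α + γ * φ β = 1 := by
    have := hM.hdot_mulVec φ f e
    rw [hMe, hMf, hfe] at this
    simp only [hdot_add_left, hdot_add_right, hdot_smul_left, hdot_smul_right, he, hf, hef,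
      hfe] at this
    linear_combination this
  have r4 : α * δ - β * γ = 1 := by
    have := hdet
    rw [hMA, det_emb φ e f he hf hef hfe, Matrix.det_fin_two] at this
    simp at this
    linear_combination this
  have hφδ : φ δ = δ := by linear_combination δ * r3 - β * r2 - φ δ * r4
  have hφγ : φ γ = -γ := by linear_combination α * r2 - γ * r3 - φ γ * r4
  have hφα : φ α = α := by linear_combination α * r3' - γ * r1 - φ α * r4
  have hφβ : φ β = -β := by linear_combination δ * r1 - β * r3' - φ β * r4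
  rw [hMA]
  exact emb_mem_TM φ e f he hf hef hfe
    (mem_E2 φ c0 hc0 hc0t α β γ δ hφα hφδ hφβ hφγ r4)

end planelemma

end Cfsg.Agent.Helper11.Herm
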