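import Mathlib
import Cfsg.Agent.Lib.Helper11.UnitaryGen

set_option autoImplicit false

/-! Generation of the special unitary group by unitary transvections, part 2:
quasi-reflections modulo transvections. -/

namespace Cfsg.Agent.Helper11.Herm

open Matrix

section quasi

variable {F : Type*} [Field F] {ι : Type*} [Fintype ι] [DecidableEq ι] (φ : F →+* F)

/-- the quasi-reflections along `a` and `b` agree modulo transvections -/
def QR (a b : ι → F) : Prop :=
  ∀ l : F, l * φ l = 1 → tv φ a (l - 1) * tv φ b (φ l - 1) ∈ TM φ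

theorem tv_mul_tv_norm_one (a : ι → F) (ha : hdot φ a a = 1) (l k : F) :
    tv φ a (l - 1) * tv φ a (k - 1) = tv φ a (l * k - 1) := by
  rw [tv_mul_tv', ha]
  congr 1
  ring

theorem QR_smul (a : ι → F) (ha : hdot φ a a = 1) (m : F) (hm : m * φ m = 1) :
    QR φ a (m • a) := by
  intro l hl
  rw [tv_smul_left, hm, one_mul, tv_mul_tv_norm_one φ a ha, hl, sub_self, tv_zero_right]
  exact (TM φ).one_mem

theorem QR_trans {a b c : ι → F} (hb : hdot φ b b = 1) (h1 : QR φ a b) (h2 : QR φ b c) :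
    QR φ a c := by
  intro l hl
  have h3 : tv φ b (φ l - 1) * tv φ b (l - 1) = 1 := by
    rw [tv_mul_tv_norm_one φ b hb, mul_comm, hl, sub_self, tv_zero_right]
  have : tv φ a (l - 1) * tv φ c (φ l - 1) =
      (tv φ a (l - 1) * tv φ b (φ l - 1)) * (tv φ b (l - 1) * tv φ c (φ l - 1)) := by
    rw [Matrix.mul_assoc, ← Matrix.mul_assoc (tv φ b (φ l - 1)), h3, Matrix.one_mul]
  rw [this]
  exact (TM φ).mul_mem (h1 l hl) (h2 l hl)

/-- the nondegenerate plane case -/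
theorem QR_of_nondeg (hφ : φ ≠ RingHom.id F) (hφφ : ∀ x, φ (φ x) = x)
    (hN1 : ∀ c : F, c ≠ 0 → φ c = c → ∃ l : F, l ≠ 0 ∧ l * φ l = c)
    (a b : ι → F) (ha : hdot φ a a = 1) (hb : hdot φ b b = 1)
    (hδ : 1 - hdot φ b a * φ (hdot φ b a) ≠ 0) : QR φ a b := by
  intro l hl
  obtain ⟨μ, hμ⟩ : ∃ μ, μ = hdot φ b a := ⟨_, rfl⟩
  rw [← hμ] at hδ
  have hab : hdot φ a b = φ μ := by rw [hμ, hdot_conj φ hφφ]
  obtain ⟨δ, hδdef⟩ : ∃ δ, δ = 1 - μ * φ μ := ⟨_, rfl⟩
  rw [← hδdef] at hδ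
  have hφδ : φ δ = δ := by rw [hδdef, map_sub, map_one, map_mul, hφφ, mul_comm]
  obtain ⟨r, hr⟩ : ∃ r, r = b - μ • a := ⟨_, rfl⟩
  have hra : hdot φ r a = 0 := by
    rw [hr, hdot_sub_left, hdot_smul_left, ha, ← hμ]
    ring
  have har : hdot φ a r = 0 := hdot_eq_zero_symm φ hφφ _ _ hra
  have hrr : hdot φ r r = δ := by
    rw [hr]
    simp only [hdot_sub_left, hdot_sub_right, hdot_smul_left, hdot_smul_right, ha, hb, hab,
      ← hμ]
    rw [hδdef]
    ring
  obtain ⟨ε, hε0, hε⟩ := hN1 (-δ⁻¹) (neg_ne_zero.2 (inv_ne_zero hδ))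
    (by rw [map_neg, map_inv₀, hφδ])
  obtain ⟨e, he⟩ : ∃ e, e = a + ε • r := ⟨_, rfl⟩
  have hee : hdot φ e e = 0 := by
    rw [he]
    simp only [hdot_add_left, hdot_add_right, hdot_smul_left, hdot_smul_right, ha, hra, har,
      hrr]
    have : ε * φ ε * δ = -1 := by
      rw [hε]
      field_simp
    linear_combination this
  have hea : hdot φ e a = 1 := by
    rw [he, hdot_add_left, hdot_smul_left, ha, hra]
    ring
  have hae : hdot φ a e = 1 := by rw [← hdot_conj φ hφφ e a, hea, map_one]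
  obtain ⟨t, ht⟩ := Witt.exists_trace_eq φ hφ hφφ (-1) (by rw [map_neg, map_one])
  obtain ⟨f, hf⟩ : ∃ f, f = a + t • e := ⟨_, rfl⟩
  have hff : hdot φ f f = 0 := by
    rw [hf]
    simp only [hdot_add_left, hdot_add_right, hdot_smul_left, hdot_smul_right, ha, hea, hae,
      hee]
    linear_combination ht
  have hef : hdot φ e f = 1 := by
    rw [hf, hdot_add_right, hdot_smul_right, hea, hee]
    ring
  obtain ⟨c0, hc0, hc0t⟩ := Witt.exists_trace_zero φ hφ hφφ
  have hUa : IsU φ (tv φ a (l - 1)) := isU_tv φ hφφ a _ (by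
    rw [ha, map_sub, map_one]
    linear_combination hl)
  have hUb : IsU φ (tv φ b (φ l - 1)) := isU_tv φ hφφ b _ (by
    rw [hb, map_sub, map_one, hφφ]
    linear_combination hl)
  apply plane_mem_TM φ e f hφφ hee hff hef c0 hc0 hc0t _ (hUa.mul φ hUb)
  · rw [Matrix.det_mul, det_tv, det_tv, ha, hb]
    linear_combination hl
  · intro x hxe hxf
    have hxa : hdot φ x a = 0 := by
      have := hxf
      rw [hf, hdot_add_right, hdot_smul_right, hxe, mul_zero, add_zero] at this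
      exact this
    have hxr : hdot φ x r = 0 := by
      have := hxe
      rw [he, hdot_add_right, hdot_smul_right, hxa, zero_add] at this
      rcases mul_eq_zero.1 this with h | h
      · exfalso
        apply hε0
        have := congrArg φ h
        rw [hφφ, map_zero] at this
        exact this
      · exact h
    have hxb : hdot φ x b = 0 := by
      have := hxr
      rw [hr, hdot_sub_right, hdot_smul_right, hxa, mul_zero, sub_zero] at this
      exact this
    have h1 : tv φ b (φ l - 1) *ᵥ x = x := by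
      rw [tv_mulVec, hxb, mul_zero, zero_smul, add_zero]
    have h2 : tv φ a (l - 1) *ᵥ x = x := by
      rw [tv_mulVec, hxa, mul_zero, zero_smul, add_zero]
    rw [← Matrix.mulVec_mulVec, h1, h2]

theorem linearIndependent_pair_of_orth (hφφ : ∀ x, φ (φ x) = x) (a r : ι → F)
    (ha : hdot φ a a = 1) (hra : hdot φ r a = 0) (hr0 : r ≠ 0) :
    LinearIndependent F ![a, r] := by
  rw [LinearIndependent.pair_iff]
  intro s t hst
  have h1 : hdot φ (s • a + t • r) a = 0 := by rw [hst, hdot_zero_left]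
  rw [hdot_add_left, hdot_smul_left, hdot_smul_left, ha, hra, mul_one, mul_zero, add_zero] at h1
  refine ⟨h1, ?_⟩
  rw [h1, zero_smul, zero_add] at hst
  rcases smul_eq_zero.1 hst with h | h
  · exact h
  · exact absurd h hr0

/-- in dimension at least four: a norm one vector orthogonal to `a` and `r` -/
theorem exists_norm_one_orth₂ [Finite F] (hφ : φ ≠ RingHom.id F) (hφφ : ∀ x, φ (φ x) = x)
    (hN1 : ∀ c : F, c ≠ 0 → φ c = c → ∃ l : F, l ≠ 0 ∧ l * φ l = c)
    (hcard : 4 ≤ Fintype.card ι) (a r : ι → F) (ha : hdot φ a a = 1) (hr : hdot φ r r = 0)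
    (hr0 : r ≠ 0) (hra : hdot φ r a = 0) :
    ∃ c : ι → F, hdot φ c c = 1 ∧ hdot φ c a = 0 ∧ hdot φ c r = 0 := by
  obtain ⟨fe⟩ : Nonempty (Fin 4 ↪ ι) :=
    Function.Embedding.nonempty_of_card_le (by rw [Fintype.card_fin]; exact hcard)
  have h01 : fe 0 ≠ fe 1 := fe.injective.ne (by decide)
  have h02 : fe 0 ≠ fe 2 := fe.injective.ne (by decide)
  have h03 : fe 0 ≠ fe 3 := fe.injective.ne (by decide)
  have h12 : fe 1 ≠ fe 2 := fe.injective.ne (by decide)
  have h13 : fe 1 ≠ fe 3 := fe.injective.ne (by decide)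
  have h23 : fe 2 ≠ fe 3 := fe.injective.ne (by decide)
  obtain ⟨ε, _, hε⟩ := hN1 (-1) (by simp) (by rw [map_neg, map_one])
  obtain ⟨u0, hu0⟩ : ∃ u0 : ι → F, u0 = Pi.single (fe 1) 1 + ε • Pi.single (fe 2) 1 := ⟨_, rfl⟩
  obtain ⟨a0, ha0⟩ : ∃ a0 : ι → F, a0 = Pi.single (fe 0) 1 := ⟨_, rfl⟩
  have hu00 : hdot φ u0 u0 = 0 := by
    rw [hu0]
    simp only [hdot_add_left, hdot_add_right, hdot_smul_left, hdot_smul_right,
      hdot_single_single, if_true, if_neg h12, if_neg (Ne.symm h12)]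
    linear_combination hε
  have hu0ne : u0 ≠ 0 := by
    intro h
    have := congrFun h (fe 1)
    rw [hu0] at this
    simp [Pi.single_eq_of_ne h12] at this
  have ha00 : hdot φ a0 a0 = 1 := by rw [ha0, hdot_single_single, if_pos rfl]
  have hu0a0 : hdot φ u0 a0 = 0 := by
    rw [hu0, ha0]
    simp only [hdot_add_left, hdot_smul_left, hdot_single_single, if_neg (Ne.symm h01),
      if_neg (Ne.symm h02)]
    ring
  have ha0u0 : hdot φ a0 u0 = 0 := hdot_eq_zero_symm φ hφφ _ _ hu0a0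
  have har : hdot φ a r = 0 := hdot_eq_zero_symm φ hφφ _ _ hra
  obtain ⟨M, hM, hMx⟩ := witt_family_UG φ hφ hφφ 2 ![a0, u0] ![a, r]
    (linearIndependent_pair_of_orth φ hφφ a0 u0 ha00 hu0a0 hu0ne)
    (linearIndependent_pair_of_orth φ hφφ a r ha hra hr0)
    (by
      intro i j
      fin_cases i <;> fin_cases j <;> simp [ha00, hu00, hu0a0, ha0u0, ha, hr, hra, har])
  have hMa : M *ᵥ a0 = a := hMx 0
  have hMu : M *ᵥ u0 = r := hMx 1
  refine ⟨M *ᵥ Pi.single (fe 3) 1, ?_, ?_, ?_⟩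
  · rw [hM.hdot_mulVec, hdot_single_single, if_pos rfl]
  · rw [← hMa, hM.hdot_mulVec, ha0, hdot_single_single, if_neg (Ne.symm h03)]
  · rw [← hMu, hM.hdot_mulVec, hu0]
    simp only [hdot_add_right, hdot_smul_right, hdot_single_single, if_neg (Ne.symm h13),
      if_neg (Ne.symm h23)]
    ring

/-- when the fixed field has an element other than `0, 1` -/
theorem exists_norm_one_orth₃ (hφ : φ ≠ RingHom.id F) (hφφ : ∀ x, φ (φ x) = x)
    (hN1 : ∀ c : F, c ≠ 0 → φ c = c → ∃ l : F, l ≠ 0 ∧ l * φ l = c)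
    (w : F) (hw : φ w = w) (hw0 : w ≠ 0) (hw1 : w ≠ 1)
    (a r : ι → F) (ha : hdot φ a a = 1) (hr : hdot φ r r = 0)
    (hr0 : r ≠ 0) (hra : hdot φ r a = 0) :
    ∃ c : ι → F, hdot φ c c = 1 ∧ hdot φ c a = 0 ∧ 1 - hdot φ r c * φ (hdot φ r c) ≠ 0 := by
  have har : hdot φ a r = 0 := hdot_eq_zero_symm φ hφφ _ _ hra
  obtain ⟨s1, hs1⟩ : ∃ s1, hdot φ r s1 ≠ 0 := by
    by_contra h
    push Not at h
    exact hr0 (eq_zero_of_hdot_right φ r h)
  obtain ⟨s2, hs2⟩ : ∃ s2, s2 = s1 - hdot φ s1 a • a := ⟨_, rfl⟩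
  have hs2a : hdot φ s2 a = 0 := by
    rw [hs2, hdot_sub_left, hdot_smul_left, ha]
    ring
  have hrs2 : hdot φ r s2 = hdot φ r s1 := by
    rw [hs2, hdot_sub_right, hdot_smul_right, hra]
    ring
  obtain ⟨k, hk⟩ : ∃ k, k = φ (hdot φ r s2)⁻¹ := ⟨_, rfl⟩
  obtain ⟨s3, hs3⟩ : ∃ s3, s3 = k • s2 := ⟨_, rfl⟩
  have hrs3 : hdot φ r s3 = 1 := by
    rw [hs3, hdot_smul_right, hk, hφφ, hrs2]
    exact inv_mul_cancel₀ hs1
  have hs3r : hdot φ s3 r = 1 := by rw [← hdot_conj φ hφφ r s3, hrs3, map_one]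
  have hs3a : hdot φ s3 a = 0 := by rw [hs3, hdot_smul_left, hs2a, mul_zero]
  obtain ⟨t, ht⟩ := Witt.exists_trace_eq φ hφ hφφ (-hdot φ s3 s3)
    (by rw [map_neg, hdot_conj φ hφφ])
  obtain ⟨s, hs⟩ : ∃ s, s = s3 + t • r := ⟨_, rfl⟩
  have hss : hdot φ s s = 0 := by
    rw [hs]
    simp only [hdot_add_left, hdot_add_right, hdot_smul_left, hdot_smul_right, hr, hrs3, hs3r]
    linear_combination ht
  have hrs : hdot φ r s = 1 := by
    rw [hs, hdot_add_right, hdot_smul_right, hrs3, hr]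
    ring
  have hsr : hdot φ s r = 1 := by rw [← hdot_conj φ hφφ r s, hrs, map_one]
  have hsa : hdot φ s a = 0 := by
    rw [hs, hdot_add_left, hdot_smul_left, hs3a, hra]
    ring
  obtain ⟨z, hz0, hz⟩ := hN1 w hw0 hw
  obtain ⟨t', ht'⟩ := Witt.exists_trace_eq φ hφ hφφ 1 (map_one φ)
  have hφz0 : φ z ≠ 0 := fun h => hz0 (by
    have := congrArg φ h
    rwa [hφφ, map_zero] at this)
  obtain ⟨y, hy⟩ : ∃ y, y = t' / φ z := ⟨_, rfl⟩
  have hyz : y * φ z = t' := by
    rw [hy]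
    field_simp
  have hzy : z * φ y = φ t' := by rw [← hyz, map_mul, hφφ, mul_comm]
  refine ⟨y • r + z • s, ?_, ?_, ?_⟩
  · simp only [hdot_add_left, hdot_add_right, hdot_smul_left, hdot_smul_right, hr, hss, hrs, hsr]
    linear_combination hyz + hzy + ht'
  · rw [hdot_add_left, hdot_smul_left, hdot_smul_left, hra, hsa]
    ring
  · rw [hdot_add_right, hdot_smul_right, hdot_smul_right, hr, hrs, mul_zero, zero_add, mul_one,
      hφφ, mul_comm, hz]
    exact sub_ne_zero.2 (Ne.symm hw1)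

/-- any two quasi-reflections with the same multiplier agree modulo transvections -/
theorem QR_all [Finite F] (hφ : φ ≠ RingHom.id F) (hφφ : ∀ x, φ (φ x) = x)
    (hN1 : ∀ c : F, c ≠ 0 → φ c = c → ∃ l : F, l ≠ 0 ∧ l * φ l = c)
    (hcase : 4 ≤ Fintype.card ι ∨ ∃ w : F, φ w = w ∧ w ≠ 0 ∧ w ≠ 1)
    (a b : ι → F) (ha : hdot φ a a = 1) (hb : hdot φ b b = 1) : QR φ a b := by
  by_cases hδ : 1 - hdot φ b a * φ (hdot φ b a) = 0
  · obtain ⟨μ, hμ⟩ : ∃ μ, μ = hdot φ b a := ⟨_, rfl⟩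
    rw [← hμ] at hδ
    have hμ1 : μ * φ μ = 1 := by linear_combination -hδ
    have hab : hdot φ a b = φ μ := by rw [hμ, hdot_conj φ hφφ]
    obtain ⟨r, hr⟩ : ∃ r, r = b - μ • a := ⟨_, rfl⟩
    have hbr : b = r + μ • a := by rw [hr]; abel
    by_cases hr0 : r = 0
    · rw [hbr, hr0, zero_add]
      exact QR_smul φ a ha μ hμ1
    have hra : hdot φ r a = 0 := by
      rw [hr, hdot_sub_left, hdot_smul_left, ha, ← hμ]
      ring
    have hrr : hdot φ r r = 0 := by
      rw [hr]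
      simp only [hdot_sub_left, hdot_sub_right, hdot_smul_left, hdot_smul_right, ha, hb, hab,
        ← hμ]
      linear_combination hδ
    obtain ⟨c, hcc, hca, hrc⟩ : ∃ c : ι → F, hdot φ c c = 1 ∧ hdot φ c a = 0 ∧
        1 - hdot φ r c * φ (hdot φ r c) ≠ 0 := by
      rcases hcase with h4 | ⟨w, hw, hw0, hw1⟩
      · obtain ⟨c, hcc, hca, hcr⟩ := exists_norm_one_orth₂ φ hφ hφφ hN1 h4 a r ha hrr hr0 hra
        refine ⟨c, hcc, hca, ?_⟩
        rw [hdot_eq_zero_symm φ hφφ _ _ hcr, zero_mul, sub_zero]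
        exact one_ne_zero
      · exact exists_norm_one_orth₃ φ hφ hφφ hN1 w hw hw0 hw1 a r ha hrr hr0 hra
    have hac : hdot φ a c = 0 := hdot_eq_zero_symm φ hφφ _ _ hca
    have hbc : hdot φ b c = hdot φ r c := by
      rw [hbr, hdot_add_left, hdot_smul_left, hac, mul_zero, add_zero]
    refine QR_trans φ hcc (QR_of_nondeg φ hφ hφφ hN1 a c ha hcc ?_)
      (QR_of_nondeg φ hφ hφφ hN1 c b hcc hb ?_)
    · rw [hca, zero_mul, sub_zero]
      exact one_ne_zero
    · rw [hbc]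
      exact hrc
  · exact QR_of_nondeg φ hφ hφφ hN1 a b ha hb hδ

end quasi

section assembly

variable {F : Type*} [Field F] [Finite F] {ι : Type*} [Fintype ι] [DecidableEq ι] (φ : F →+* F)

/-- every unitary matrix is a product of transvections and one quasi-reflection -/
theorem mem_UQ_decomp (hφφ : ∀ x, φ (φ x) = x)
    (hN1 : ∀ c : F, c ≠ 0 → φ c = c → ∃ l : F, l ≠ 0 ∧ l * φ l = c)
    (hQR : ∀ a b : ι → F, hdot φ a a = 1 → hdot φ b b = 1 → QR φ a b)
    (a0 : ι → F) (ha0 : hdot φ a0 a0 = 1) (M : Matrix ι ι F) (hM : M ∈ UQ φ) :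
    IsU φ M ∧ M * tv φ a0 (φ M.det - 1) ∈ TM φ := by
  induction hM using Submonoid.closure_induction with
  | mem M hM =>
    obtain ⟨z, c, hc, rfl⟩ := hM
    refine ⟨isU_tv φ hφφ z c hc, ?_⟩
    rw [det_tv]
    obtain ⟨ν, hν⟩ : ∃ ν, ν = hdot φ z z := ⟨_, rfl⟩
    rw [← hν] at hc ⊢
    have hφν : φ ν = ν := by rw [hν, hdot_conj φ hφφ]
    by_cases hν0 : ν = 0
    · rw [hν0, mul_zero, add_zero, map_one, sub_self, tv_zero_right, Matrix.mul_one]
      rw [hν0, mul_zero, add_zero] at hc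
      exact tv_mem_TM φ z c (hν.symm.trans hν0) hc
    · obtain ⟨k, hk0, hk⟩ := hN1 ν⁻¹ (inv_ne_zero hν0) (by rw [map_inv₀, hφν])
      obtain ⟨a, ha⟩ : ∃ a, a = k • z := ⟨_, rfl⟩
      have haa : hdot φ a a = 1 := by
        rw [ha, hdot_smul_left, hdot_smul_right, ← hν, ← mul_assoc, hk]
        exact inv_mul_cancel₀ hν0
      obtain ⟨l, hl⟩ : ∃ l, l = 1 + c * ν := ⟨_, rfl⟩
      have hl1 : l * φ l = 1 := by
        rw [hl, map_add, map_one, map_mul, hφν]
        linear_combination ν * hc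
      have htv : tv φ z c = tv φ a (l - 1) := by
        rw [ha, tv_smul_left, hk, hl]
        congr 1
        field_simp
        ring
      rw [htv, ← hl]
      exact hQR a a0 haa ha0 l hl1
  | one =>
    refine ⟨isU_one φ, ?_⟩
    rw [Matrix.det_one, map_one, sub_self, tv_zero_right, Matrix.one_mul]
    exact (TM φ).one_mem
  | mul M N _ _ hM hN =>
    refine ⟨hM.1.mul φ hN.1, ?_⟩
    have hdM : M.det * φ M.det = 1 := IsU.det_norm φ hM.1
    have h1 : tv φ a0 (φ M.det - 1) * tv φ a0 (M.det - 1) = 1 := by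
      rw [tv_mul_tv_norm_one φ a0 ha0, mul_comm, hdM, sub_self, tv_zero_right]
    have h1' : tv φ a0 (M.det - 1) * tv φ a0 (φ M.det - 1) = 1 := by
      rw [tv_mul_tv_norm_one φ a0 ha0, hdM, sub_self, tv_zero_right]
    have hU : IsU φ (tv φ a0 (M.det - 1)) := isU_tv φ hφφ a0 _ (by
      rw [ha0, map_sub, map_one]
      linear_combination hdM)
    have key : M * N * tv φ a0 (φ (M * N).det - 1) = (M * tv φ a0 (φ M.det - 1)) *
        (tv φ a0 (M.det - 1) * (N * tv φ a0 (φ N.det - 1)) * tv φ a0 (φ M.det - 1)) := by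
      rw [Matrix.det_mul, map_mul, mul_comm (φ M.det), ← tv_mul_tv_norm_one φ a0 ha0]
      simp only [Matrix.mul_assoc]
      rw [← Matrix.mul_assoc (tv φ a0 (φ M.det - 1)) (tv φ a0 (M.det - 1)), h1, Matrix.one_mul]
    rw [key]
    exact (TM φ).mul_mem hM.2 (conj_mem_TM φ hU h1' hN.2)

/-- **Generation**: every unitary matrix of determinant one is a product of unitary
transvections. -/
theorem mem_TM_of_isU_of_det (hφ : φ ≠ RingHom.id F) (hφφ : ∀ x, φ (φ x) = x)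
    (hN1 : ∀ c : F, c ≠ 0 → φ c = c → ∃ l : F, l ≠ 0 ∧ l * φ l = c)
    (hcase : 4 ≤ Fintype.card ι ∨ ∃ w : F, φ w = w ∧ w ≠ 0 ∧ w ≠ 1) (i0 : ι)
    (M : Matrix ι ι F) (hM : IsU φ M) (hdet : M.det = 1) : M ∈ TM φ := by
  have h := (mem_UQ_decomp φ hφφ hN1 (QR_all φ hφ hφφ hN1 hcase) (Pi.single i0 1)
    (by rw [hdot_single_single, if_pos rfl]) M (isU_mem_UQ φ hφ hφφ M hM)).2
  rw [hdet, map_one, sub_self, tv_zero_right, Matrix.mul_one] at h
  exact h

end assembly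

end Cfsg.Agent.Helper11.Herm
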