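import Mathlib
import Cfsg.Agent.Lib.Helper11.UnitaryGen2

set_option autoImplicit false

/-! Simplicity of the projective special unitary group via Iwasawa's criterion. -/

namespace Cfsg.Agent.Helper11.Herm

open Matrix MulAction
open scoped LinearAlgebra.Projectivization Pointwise commutatorElement

section defs

variable {F : Type*} [Field F] {ι : Type*} [Fintype ι] [DecidableEq ι] (φ : F →+* F)

/-- the special unitary group as a subgroup of the special linear group -/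
def SUg (ι : Type*) [Fintype ι] [DecidableEq ι] (φ : F →+* F) :
    Subgroup (Matrix.SpecialLinearGroup ι F) where
  carrier := {g | IsU φ (g : Matrix ι ι F)}
  mul_mem' {a b} ha hb := by
    change IsU φ ((a * b : Matrix.SpecialLinearGroup ι F) : Matrix ι ι F)
    rw [Matrix.SpecialLinearGroup.coe_mul]
    exact IsU.mul φ ha hb
  one_mem' := by
    change IsU φ ((1 : Matrix.SpecialLinearGroup ι F) : Matrix ι ι F)
    rw [Matrix.SpecialLinearGroup.coe_one]
    exact isU_one φ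
  inv_mem' {a} ha := by
    change IsU φ ((a⁻¹ : Matrix.SpecialLinearGroup ι F) : Matrix ι ι F)
    change IsU φ (a : Matrix ι ι F) at ha
    rw [isU_iff_preserves] at ha ⊢
    intro u v
    have h1 : (a : Matrix ι ι F) * ((a⁻¹ : Matrix.SpecialLinearGroup ι F) : Matrix ι ι F) = 1 := by
      rw [← Matrix.SpecialLinearGroup.coe_mul, mul_inv_cancel, Matrix.SpecialLinearGroup.coe_one]
    have := ha (((a⁻¹ : Matrix.SpecialLinearGroup ι F) : Matrix ι ι F) *ᵥ u)
      (((a⁻¹ : Matrix.SpecialLinearGroup ι F) : Matrix ι ι F) *ᵥ v)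
    rw [Matrix.mulVec_mulVec, Matrix.mulVec_mulVec, h1, Matrix.one_mulVec,
      Matrix.one_mulVec] at this
    exact this.symm

theorem mem_SUg_iff (g : Matrix.SpecialLinearGroup ι F) :
    g ∈ SUg ι φ ↔ IsU φ (g : Matrix ι ι F) := Iff.rfl

/-- the matrix of an element -/
def smat (g : SUg ι φ) : Matrix ι ι F := ((g : Matrix.SpecialLinearGroup ι F) : Matrix ι ι F)

theorem smat_isU (g : SUg ι φ) : IsU φ (smat φ g) := g.2

theorem smat_det (g : SUg ι φ) : (smat φ g).det = 1 := g.1.2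

theorem sug_smul_def (g : SUg ι φ) (v : ι → F) : g • v = smat φ g *ᵥ v := rfl

theorem sug_hdot_smul (g : SUg ι φ) (u v : ι → F) : hdot φ (g • u) (g • v) = hdot φ u v :=
  g.2.hdot_mulVec φ u v

theorem sug_ext {g h : SUg ι φ} (H : smat φ g = smat φ h) : g = h := by
  apply Subtype.ext
  apply Subtype.ext
  exact H

theorem smat_mul (g h : SUg ι φ) : smat φ (g * h) = smat φ g * smat φ h := rfl

theorem smat_one : smat φ (1 : SUg ι φ) = 1 := rfl

theorem smat_inv_mul (g : SUg ι φ) : smat φ (g⁻¹) * smat φ g = 1 := by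
  rw [← smat_mul, inv_mul_cancel, smat_one]

theorem smat_mul_inv (g : SUg ι φ) : smat φ g * smat φ (g⁻¹) = 1 := by
  rw [← smat_mul, mul_inv_cancel, smat_one]

/-- build an element from a unitary matrix of determinant one -/
def mkS (M : Matrix ι ι F) (hU : IsU φ M) (hdet : M.det = 1) : SUg ι φ := ⟨⟨M, hdet⟩, hU⟩

theorem mat_mkS (M : Matrix ι ι F) (hU : IsU φ M) (hdet : M.det = 1) :
    smat φ (mkS φ M hU hdet) = M := rfl

theorem mkS_smul (M : Matrix ι ι F) (hU : IsU φ M) (hdet : M.det = 1) (v : ι → F) :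
    mkS φ M hU hdet • v = M *ᵥ v := rfl

/-- the root group of a vector (everything when the vector is not isotropic) -/
def rootGroup (v : ι → F) : Subgroup (SUg ι φ) where
  carrier := {g | hdot φ v v = 0 → ∃ c : F, c + φ c = 0 ∧ smat φ g = tv φ v c}
  mul_mem' := by
    intro a b ha hb hv
    obtain ⟨c, hc, ha⟩ := ha hv
    obtain ⟨d, hd, hb⟩ := hb hv
    refine ⟨c + d, ?_, ?_⟩
    · rw [map_add]
      linear_combination hc + hd
    · rw [smat_mul, ha, hb, tv_mul_tv φ v hv]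
  one_mem' := by
    intro _
    exact ⟨0, by rw [map_zero, add_zero], by rw [tv_zero_right]; rfl⟩
  inv_mem' := by
    intro a ha hv
    obtain ⟨c, hc, ha⟩ := ha hv
    refine ⟨-c, by rw [map_neg]; linear_combination -hc, ?_⟩
    have h1 : tv φ v c * tv φ v (-c) = 1 := by
      rw [tv_mul_tv φ v hv, add_neg_cancel, tv_zero_right]
    calc smat φ (a⁻¹) = smat φ (a⁻¹) * (tv φ v c * tv φ v (-c)) := by rw [h1, Matrix.mul_one]
      _ = tv φ v (-c) := by rw [← Matrix.mul_assoc, ← ha, smat_inv_mul, Matrix.one_mul]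

theorem mem_rootGroup {v : ι → F} (hv : hdot φ v v = 0) {g : SUg ι φ} :
    g ∈ rootGroup φ v ↔ ∃ c : F, c + φ c = 0 ∧ smat φ g = tv φ v c :=
  ⟨fun h => h hv, fun h _ => h⟩

theorem rootGroup_smul_vec (hφφ : ∀ x, φ (φ x) = x) (v : ι → F) (hv : hdot φ v v = 0) {a : F}
    (ha : a ≠ 0) : rootGroup φ (a • v) = rootGroup φ v := by
  have hav : hdot φ (a • v) (a • v) = 0 := by
    rw [hdot_smul_left, hdot_smul_right, hv, mul_zero, mul_zero]
  have hφa : φ a ≠ 0 := (map_ne_zero φ).2 ha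
  ext g
  rw [mem_rootGroup φ hav, mem_rootGroup φ hv]
  constructor
  · rintro ⟨c, hc, hg⟩
    refine ⟨a * φ a * c, ?_, ?_⟩
    · rw [map_mul, map_mul, hφφ]
      linear_combination a * φ a * hc
    · rw [hg, tv_smul_left]
  · rintro ⟨c, hc, hg⟩
    refine ⟨c / (a * φ a), ?_, ?_⟩
    · rw [map_div₀, map_mul, hφφ]
      field_simp
      linear_combination hc
    · rw [hg, tv_smul_left]
      congr 1
      field_simp

theorem rootGroup_conj (g : SUg ι φ) (v : ι → F) (hv : hdot φ v v = 0) :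
    rootGroup φ (g • v) = MulAut.conj g • rootGroup φ v := by
  have hgv : hdot φ (g • v) (g • v) = 0 := by rw [sug_hdot_smul, hv]
  ext h
  rw [Subgroup.mem_pointwise_smul_iff_inv_smul_mem, mem_rootGroup φ hgv, mem_rootGroup φ hv,
    MulAut.smul_def, MulAut.conj_inv_apply]
  constructor
  · rintro ⟨c, hc, hh⟩
    refine ⟨c, hc, ?_⟩
    rw [smat_mul, smat_mul, hh, sug_smul_def, Matrix.mul_assoc, ← isU_mul_tv φ (smat_isU φ g),
      ← Matrix.mul_assoc, smat_inv_mul, Matrix.one_mul]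
  · rintro ⟨c, hc, hh⟩
    refine ⟨c, hc, ?_⟩
    have h1 : h = g * (g⁻¹ * h * g) * g⁻¹ := by group
    rw [h1, smat_mul, smat_mul, hh, isU_mul_tv φ (smat_isU φ g), Matrix.mul_assoc,
      smat_mul_inv, Matrix.mul_one]
    rfl

theorem rootGroup_isMulCommutative (v : ι → F) (hv : hdot φ v v = 0) :
    IsMulCommutative (rootGroup φ v) := by
  refine ⟨⟨?_⟩⟩
  rintro ⟨a, ha⟩ ⟨b, hb⟩
  obtain ⟨c, -, ha⟩ := ha hv
  obtain ⟨d, -, hb⟩ := hb hv
  apply Subtype.ext
  apply sug_ext
  show smat φ (a * b) = smat φ (b * a)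
  rw [smat_mul, smat_mul, ha, hb, tv_mul_tv φ v hv, tv_mul_tv φ v hv, add_comm]

/-- isotropic points -/
def isoP (p : ℙ F (ι → F)) : Prop := hdot φ p.rep p.rep = 0

theorem isoP_mk (v : ι → F) (hv : v ≠ 0) :
    isoP φ (Projectivization.mk F v hv) ↔ hdot φ v v = 0 := by
  unfold isoP
  obtain ⟨a, ha⟩ := Projectivization.exists_smul_eq_mk_rep F v hv
  rw [← ha, Units.smul_def, hdot_smul_left, hdot_smul_right]
  have h1 : (a : F) ≠ 0 := a.ne_zero
  have h2 : φ (a : F) ≠ 0 := (map_ne_zero φ).2 h1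
  constructor
  · intro h
    rcases mul_eq_zero.1 h with h | h
    · exact absurd h h1
    · rcases mul_eq_zero.1 h with h | h
      · exact absurd h h2
      · exact h
  · intro h
    rw [h, mul_zero, mul_zero]

/-- the set of isotropic points as a sub-action -/
def isoPts : SubMulAction (SUg ι φ) (ℙ F (ι → F)) where
  carrier := {p | isoP φ p}
  smul_mem' g p hp := by
    induction p using Projectivization.ind with
    | h v hv =>
      change isoP φ _ at hp
      change isoP φ _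
      have h1 : g • Projectivization.mk F v hv =
          Projectivization.mk F (g • v) ((smul_ne_zero_iff_ne g).mpr hv) := rfl
      rw [h1, isoP_mk, sug_hdot_smul]
      exact (isoP_mk φ v hv).1 hp

/-- an isotropic point from an isotropic vector -/
def mkI (v : ι → F) (hv : v ≠ 0) (hvv : hdot φ v v = 0) : isoPts (ι := ι) φ :=
  ⟨Projectivization.mk F v hv, (isoP_mk φ v hv).2 hvv⟩

theorem exists_eq_mkI (P : isoPts (ι := ι) φ) : ∃ v hv hvv, P = mkI φ v hv hvv := by
  obtain ⟨p, hp⟩ := P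
  induction p using Projectivization.ind with
  | h v hv => exact ⟨v, hv, (isoP_mk φ v hv).1 hp, rfl⟩

theorem smul_mkI (g : SUg ι φ) (v : ι → F) (hv : v ≠ 0) (hvv : hdot φ v v = 0) :
    g • mkI φ v hv hvv = mkI φ (g • v) ((smul_ne_zero_iff_ne g).mpr hv)
      (by rw [sug_hdot_smul, hvv]) := rfl

theorem mkI_eq_mkI_iff (v w : ι → F) (hv : v ≠ 0) (hvv : hdot φ v v = 0) (hw : w ≠ 0)
    (hww : hdot φ w w = 0) : mkI φ v hv hvv = mkI φ w hw hww ↔ ∃ a : F, a • w = v := by
  constructor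
  · intro h
    have h1 := congrArg Subtype.val h
    exact (Projectivization.mk_eq_mk_iff' F v w hv hw).1 h1
  · intro h
    exact Subtype.ext ((Projectivization.mk_eq_mk_iff' F v w hv hw).2 h)

theorem mkI_smul (v : ι → F) (hv : v ≠ 0) (hvv : hdot φ v v = 0) (a : F) (ha : a ≠ 0) :
    mkI φ (a • v) (smul_ne_zero ha hv)
      (by rw [hdot_smul_left, hdot_smul_right, hvv, mul_zero, mul_zero]) = mkI φ v hv hvv := by
  rw [mkI_eq_mkI_iff]
  exact ⟨a, rfl⟩

end defs

section geom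

variable {F : Type*} [Field F] {ι : Type*} [Fintype ι] [DecidableEq ι] (φ : F →+* F)

/-- hyperbolic partner of an isotropic vector -/
theorem exists_partner (hφ : φ ≠ RingHom.id F) (hφφ : ∀ x, φ (φ x) = x) (r : ι → F)
    (hr : hdot φ r r = 0) (hr0 : r ≠ 0) : ∃ s : ι → F, hdot φ s s = 0 ∧ hdot φ r s = 1 := by
  obtain ⟨s1, hs1⟩ : ∃ s1, hdot φ r s1 ≠ 0 := by
    by_contra h
    push Not at h
    exact hr0 (eq_zero_of_hdot_right φ r h)
  obtain ⟨k, hk⟩ : ∃ k, k = φ (hdot φ r s1)⁻¹ := ⟨_, rfl⟩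
  obtain ⟨s3, hs3⟩ : ∃ s3, s3 = k • s1 := ⟨_, rfl⟩
  have hrs3 : hdot φ r s3 = 1 := by
    rw [hs3, hdot_smul_right, hk, hφφ]
    exact inv_mul_cancel₀ hs1
  have hs3r : hdot φ s3 r = 1 := by rw [← hdot_conj φ hφφ r s3, hrs3, map_one]
  obtain ⟨t, ht⟩ := Witt.exists_trace_eq φ hφ hφφ (-hdot φ s3 s3)
    (by rw [map_neg, hdot_conj φ hφφ])
  refine ⟨s3 + t • r, ?_, ?_⟩
  · simp only [hdot_add_left, hdot_add_right, hdot_smul_left, hdot_smul_right, hr, hrs3, hs3r]
    linear_combination ht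
  · rw [hdot_add_right, hdot_smul_right, hrs3, hr]
    ring

/-- an isotropic vector orthogonal to neither of two given isotropic vectors -/
theorem exists_avoid (hφ : φ ≠ RingHom.id F) (hφφ : ∀ x, φ (φ x) = x) (v x : ι → F)
    (hv : hdot φ v v = 0) (hv0 : v ≠ 0) (hx : hdot φ x x = 0) (hx0 : x ≠ 0) :
    ∃ y : ι → F, hdot φ y y = 0 ∧ hdot φ v y ≠ 0 ∧ hdot φ x y ≠ 0 := by
  obtain ⟨f, hff, hvf⟩ := exists_partner φ hφ hφφ v hv hv0
  obtain ⟨f', hff', hxf'⟩ := exists_partner φ hφ hφφ x hx hx0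
  by_cases h1 : hdot φ x f = 0
  · by_cases h2 : hdot φ v f' = 0
    · obtain ⟨τ, hτ0, hτ⟩ := Witt.exists_trace_zero φ hφ hφφ
      obtain ⟨β, hβ⟩ : ∃ β, β = hdot φ f' f := ⟨_, rfl⟩
      have hβ' : hdot φ f f' = φ β := by rw [hβ, hdot_conj φ hφφ]
      by_cases hβ0 : β = 0
      · refine ⟨f + f', ?_, ?_, ?_⟩
        · simp only [hdot_add_left, hdot_add_right, hff, hff', ← hβ, hβ', hβ0, map_zero]
          ring
        · rw [hdot_add_right, hvf, h2, add_zero]
          exact one_ne_zero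
        · rw [hdot_add_right, h1, hxf', zero_add]
          exact one_ne_zero
      · obtain ⟨t, ht⟩ : ∃ t, t = τ / β := ⟨_, rfl⟩
        have htβ : t * β = τ := by
          rw [ht]
          field_simp
        have ht0 : t ≠ 0 := by
          rw [ht]
          exact div_ne_zero hτ0 hβ0
        refine ⟨f + t • f', ?_, ?_, ?_⟩
        · simp only [hdot_add_left, hdot_add_right, hdot_smul_left, hdot_smul_right, hff, hff',
            ← hβ, hβ']
          have : φ t * φ β = φ τ := by rw [← map_mul, htβ]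
          linear_combination this + htβ + hτ
        · rw [hdot_add_right, hdot_smul_right, hvf, h2, mul_zero, add_zero]
          exact one_ne_zero
        · rw [hdot_add_right, hdot_smul_right, h1, hxf', zero_add, mul_one]
          exact (map_ne_zero φ).2 ht0
    · refine ⟨f', hff', h2, ?_⟩
      rw [hxf']
      exact one_ne_zero
  · refine ⟨f, hff, ?_, h1⟩
    rw [hvf]
    exact one_ne_zero

/-- two distinct orthogonal isotropic points: an isotropic vector orthogonal to the first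
but not to the second -/
theorem exists_orth_not_orth (hφ : φ ≠ RingHom.id F) (hφφ : ∀ x, φ (φ x) = x) (v w : ι → F)
    (hv0 : v ≠ 0) (hw : hdot φ w w = 0) (hvw : hdot φ v w = 0)
    (hne : ∀ a : F, a • v ≠ w) :
    ∃ y : ι → F, hdot φ y y = 0 ∧ hdot φ v y = 0 ∧ hdot φ w y ≠ 0 := by
  have hwv : hdot φ w v = 0 := hdot_eq_zero_symm φ hφφ _ _ hvw
  -- a vector orthogonal to v but not to w
  obtain ⟨u, huv, hwu⟩ : ∃ u, hdot φ u v = 0 ∧ hdot φ w u ≠ 0 := by
    by_contra hcon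
    push Not at hcon
    obtain ⟨z1, hz1⟩ : ∃ z1, hdot φ v z1 ≠ 0 := by
      by_contra h
      push Not at h
      exact hv0 (eq_zero_of_hdot_right φ v h)
    have hz1' : hdot φ z1 v ≠ 0 := fun h => hz1 (hdot_eq_zero_symm φ hφφ _ _ h)
    obtain ⟨z, hz⟩ : ∃ z, z = (hdot φ z1 v)⁻¹ • z1 := ⟨_, rfl⟩
    have hzv : hdot φ z v = 1 := by
      rw [hz, hdot_smul_left]
      exact inv_mul_cancel₀ hz1'
    have h1 : ∀ y, hdot φ (w - hdot φ w z • v) y = 0 := by
      intro y
      have h2 : hdot φ (y - hdot φ y v • z) v = 0 := by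
        rw [hdot_sub_left, hdot_smul_left, hzv]
        ring
      have h3 := hcon _ h2
      rw [hdot_sub_right, hdot_smul_right, hdot_conj φ hφφ] at h3
      rw [hdot_sub_left, hdot_smul_left]
      linear_combination h3
    have h4 : w - hdot φ w z • v = 0 := eq_zero_of_hdot_right φ _ h1
    exact hne _ (sub_eq_zero.1 h4).symm
  have huw : hdot φ u w = φ (hdot φ w u) := by rw [hdot_conj φ hφφ]
  obtain ⟨τ, hτ⟩ := Witt.exists_trace_eq φ hφ hφφ (-hdot φ u u)
    (by rw [map_neg, hdot_conj φ hφφ])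
  obtain ⟨t, ht⟩ : ∃ t, t = τ / hdot φ w u := ⟨_, rfl⟩
  have htβ : t * hdot φ w u = τ := by
    rw [ht]
    field_simp
  refine ⟨u + t • w, ?_, ?_, ?_⟩
  · simp only [hdot_add_left, hdot_add_right, hdot_smul_left, hdot_smul_right, hw, huw]
    have : φ t * φ (hdot φ w u) = φ τ := by rw [← map_mul, htβ]
    linear_combination this + htβ + hτ
  · rw [hdot_add_right, hdot_smul_right, hvw, mul_zero, add_zero]
    exact hdot_eq_zero_symm φ hφφ _ _ huv
  · rw [hdot_add_right, hdot_smul_right, hw, mul_zero, add_zero]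
    exact hwu

theorem linearIndependent_hyp (v w : ι → F) (hv : hdot φ v v = 0) (hw : hdot φ w w = 0)
    (hvw : hdot φ v w = 1) (hwv : hdot φ w v = 1) : LinearIndependent F ![v, w] := by
  rw [LinearIndependent.pair_iff]
  intro s t hst
  have h1 : hdot φ (s • v + t • w) w = 0 := by rw [hst, hdot_zero_left]
  have h2 : hdot φ (s • v + t • w) v = 0 := by rw [hst, hdot_zero_left]
  rw [hdot_add_left, hdot_smul_left, hdot_smul_left, hvw, hw, mul_one, mul_zero, add_zero] at h1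
  rw [hdot_add_left, hdot_smul_left, hdot_smul_left, hv, hwv, mul_one, mul_zero, zero_add] at h2
  exact ⟨h1, h2⟩

/-- in dimension at least three, a hyperbolic pair is orthogonal to a vector of norm one -/
theorem exists_norm_one_orth_hyp [Finite F] (hφ : φ ≠ RingHom.id F) (hφφ : ∀ x, φ (φ x) = x)
    (hN1 : ∀ c : F, c ≠ 0 → φ c = c → ∃ l : F, l ≠ 0 ∧ l * φ l = c)
    (hcard : 3 ≤ Fintype.card ι) (v x : ι → F) (hv : hdot φ v v = 0) (hx : hdot φ x x = 0)
    (hvx : hdot φ v x = 1) :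
    ∃ m : ι → F, hdot φ m m = 1 ∧ hdot φ m v = 0 ∧ hdot φ m x = 0 := by
  obtain ⟨i0, i1, i2, h01, h02, h12⟩ := Fintype.two_lt_card_iff.1 hcard
  have hxv : hdot φ x v = 1 := by rw [← hdot_conj φ hφφ v x, hvx, map_one]
  obtain ⟨ε, _, hε⟩ := hN1 (-1) (by simp) (by rw [map_neg, map_one])
  obtain ⟨a0, ha0⟩ : ∃ a0 : ι → F, a0 = Pi.single i0 1 := ⟨_, rfl⟩
  obtain ⟨v0, hv0⟩ : ∃ v0 : ι → F, v0 = Pi.single i0 1 + ε • Pi.single i1 1 := ⟨_, rfl⟩
  have hv00 : hdot φ v0 v0 = 0 := by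
    rw [hv0]
    simp only [hdot_add_left, hdot_add_right, hdot_smul_left, hdot_smul_right,
      hdot_single_single, if_true, if_neg h01, if_neg (Ne.symm h01)]
    linear_combination hε
  have ha00 : hdot φ a0 a0 = 1 := by rw [ha0, hdot_single_single, if_pos rfl]
  have hv0a0 : hdot φ v0 a0 = 1 := by
    rw [hv0, ha0]
    simp only [hdot_add_left, hdot_smul_left, hdot_single_single, if_true,
      if_neg (Ne.symm h01)]
    ring
  have ha0v0 : hdot φ a0 v0 = 1 := by rw [← hdot_conj φ hφφ v0 a0, hv0a0, map_one]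
  obtain ⟨t, ht⟩ := Witt.exists_trace_eq φ hφ hφφ (-1) (by rw [map_neg, map_one])
  obtain ⟨x0, hx0⟩ : ∃ x0, x0 = a0 + t • v0 := ⟨_, rfl⟩
  have hx00 : hdot φ x0 x0 = 0 := by
    rw [hx0]
    simp only [hdot_add_left, hdot_add_right, hdot_smul_left, hdot_smul_right, ha00, hv0a0,
      ha0v0, hv00]
    linear_combination ht
  have hv0x0 : hdot φ v0 x0 = 1 := by
    rw [hx0, hdot_add_right, hdot_smul_right, hv0a0, hv00]
    ring
  have hx0v0 : hdot φ x0 v0 = 1 := by rw [← hdot_conj φ hφφ v0 x0, hv0x0, map_one]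
  obtain ⟨M, hM, hMx⟩ := witt_family_UG φ hφ hφφ 2 ![v0, x0] ![v, x]
    (linearIndependent_hyp φ v0 x0 hv00 hx00 hv0x0 hx0v0)
    (linearIndependent_hyp φ v x hv hx hvx hxv)
    (by
      intro i j
      fin_cases i <;> fin_cases j <;> simp [hv00, hx00, hv0x0, hx0v0, hv, hx, hvx, hxv])
  have hMv : M *ᵥ v0 = v := hMx 0
  have hMx' : M *ᵥ x0 = x := hMx 1
  have hm0v0 : hdot φ (Pi.single i2 1) v0 = 0 := by
    rw [hv0]
    simp only [hdot_add_right, hdot_smul_right, hdot_single_single, if_neg (Ne.symm h02),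
      if_neg (Ne.symm h12)]
    ring
  have hm0a0 : hdot φ (Pi.single i2 1) a0 = 0 := by
    rw [ha0, hdot_single_single, if_neg (Ne.symm h02)]
  refine ⟨M *ᵥ Pi.single i2 1, ?_, ?_, ?_⟩
  · rw [hM.hdot_mulVec, hdot_single_single, if_pos rfl]
  · rw [← hMv, hM.hdot_mulVec, hm0v0]
  · rw [← hMx', hM.hdot_mulVec, hx0, hdot_add_right, hdot_smul_right, hm0a0, hm0v0]
    ring

/-- transitivity of the special unitary group on isotropic vectors -/
theorem exists_SUg_map [Finite F] (hφ : φ ≠ RingHom.id F) (hφφ : ∀ x, φ (φ x) = x)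
    (hN1 : ∀ c : F, c ≠ 0 → φ c = c → ∃ l : F, l ≠ 0 ∧ l * φ l = c)
    (hcard : 3 ≤ Fintype.card ι) (v w : ι → F) (hv : hdot φ v v = 0) (hv0 : v ≠ 0)
    (hw : hdot φ w w = 0) (hw0 : w ≠ 0) : ∃ g : SUg ι φ, g • v = w := by
  obtain ⟨M, hM, hMv⟩ := exists_isU_map φ hφ hφφ v w hv0 hw0 (by rw [hv, hw])
  have hd := hM.det_norm φ
  obtain ⟨D, hD, hDdet, hDw⟩ := exists_isU_det_fix φ hφ hφφ hN1 hcard w hw (φ M.det) (by
    rw [hφφ, mul_comm]
    exact hd)
  refine ⟨mkS φ (D * M) (hD.mul φ hM) (by rw [Matrix.det_mul, hDdet, mul_comm]; exact hd), ?_⟩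
  rw [mkS_smul, ← Matrix.mulVec_mulVec, hMv, hDw]

/-- transitivity of the stabiliser of an isotropic vector on its hyperbolic partners -/
theorem exists_SUg_map_pair [Finite F] (hφ : φ ≠ RingHom.id F) (hφφ : ∀ x, φ (φ x) = x)
    (hN1 : ∀ c : F, c ≠ 0 → φ c = c → ∃ l : F, l ≠ 0 ∧ l * φ l = c)
    (hcard : 3 ≤ Fintype.card ι) (v w x : ι → F) (hv : hdot φ v v = 0)
    (hw : hdot φ w w = 0) (hx : hdot φ x x = 0) (hvw : hdot φ v w = 1) (hvx : hdot φ v x = 1) :
    ∃ g : SUg ι φ, g • v = v ∧ g • w = x := by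
  have hwv : hdot φ w v = 1 := by rw [← hdot_conj φ hφφ v w, hvw, map_one]
  have hxv : hdot φ x v = 1 := by rw [← hdot_conj φ hφφ v x, hvx, map_one]
  obtain ⟨M, hM, hMx⟩ := witt_family_UG φ hφ hφφ 2 ![v, w] ![v, x]
    (linearIndependent_hyp φ v w hv hw hvw hwv)
    (linearIndependent_hyp φ v x hv hx hvx hxv)
    (by
      intro i j
      fin_cases i <;> fin_cases j <;> simp [hv, hw, hx, hvw, hwv, hvx, hxv])
  have hMv : M *ᵥ v = v := hMx 0
  have hMw : M *ᵥ w = x := hMx 1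
  have hd := hM.det_norm φ
  obtain ⟨m, hmm, hmv, hmx⟩ := exists_norm_one_orth_hyp φ hφ hφφ hN1 hcard v x hv hx hvx
  have hvm : hdot φ v m = 0 := hdot_eq_zero_symm φ hφφ _ _ hmv
  have hxm : hdot φ x m = 0 := hdot_eq_zero_symm φ hφφ _ _ hmx
  have hD : IsU φ (tv φ m (φ M.det - 1)) := isU_tv φ hφφ m _ (by
    rw [hmm, map_sub, map_one, hφφ]
    linear_combination hd)
  refine ⟨mkS φ (tv φ m (φ M.det - 1) * M) (hD.mul φ hM) (by
    rw [Matrix.det_mul, det_tv, hmm]
    linear_combination hd), ?_, ?_⟩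
  · rw [mkS_smul, ← Matrix.mulVec_mulVec, hMv, tv_mulVec, hvm, mul_zero, zero_smul, add_zero]
  · rw [mkS_smul, ← Matrix.mulVec_mulVec, hMw, tv_mulVec, hxm, mul_zero, zero_smul, add_zero]

end geom

section prim

variable {F : Type*} [Field F] [Finite F] {ι : Type*} [Fintype ι] [DecidableEq ι] (φ : F →+* F)

theorem tv_zero_left (c : F) : tv φ (0 : ι → F) c = 1 := by
  rw [Matrix.ext_iff_mulVec]
  intro x
  rw [tv_mulVec, smul_zero, add_zero, Matrix.one_mulVec]

theorem isPretransitive_isoPts (hφ : φ ≠ RingHom.id F) (hφφ : ∀ x, φ (φ x) = x)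
    (hN1 : ∀ c : F, c ≠ 0 → φ c = c → ∃ l : F, l ≠ 0 ∧ l * φ l = c)
    (hcard : 3 ≤ Fintype.card ι) : IsPretransitive (SUg ι φ) (isoPts (ι := ι) φ) := by
  constructor
  intro P Q
  obtain ⟨v, hv, hvv, rfl⟩ := exists_eq_mkI φ P
  obtain ⟨w, hw, hww, rfl⟩ := exists_eq_mkI φ Q
  obtain ⟨g, hg⟩ := exists_SUg_map φ hφ hφφ hN1 hcard v w hvv hv hww hw
  refine ⟨g, ?_⟩
  rw [smul_mkI, mkI_eq_mkI_iff]
  exact ⟨1, by rw [one_smul, hg]⟩

theorem smul_mkI_eq_of_fix (g : SUg ι φ) (v : ι → F) (hv : v ≠ 0) (hvv : hdot φ v v = 0)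
    (hg : g • v = v) : g • mkI φ v hv hvv = mkI φ v hv hvv := by
  rw [smul_mkI, mkI_eq_mkI_iff]
  exact ⟨1, by rw [one_smul, hg]⟩

/-- within a block: from a non-orthogonal pair to all points non-orthogonal to the first -/
theorem block_step (hφ : φ ≠ RingHom.id F) (hφφ : ∀ x, φ (φ x) = x)
    (hN1 : ∀ c : F, c ≠ 0 → φ c = c → ∃ l : F, l ≠ 0 ∧ l * φ l = c)
    (hcard : 3 ≤ Fintype.card ι) {B : Set (isoPts (ι := ι) φ)} (hB : IsBlock (SUg ι φ) B)
    (v w x : ι → F) (hv : v ≠ 0) (hvv : hdot φ v v = 0) (hw : w ≠ 0) (hww : hdot φ w w = 0)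
    (hx : x ≠ 0) (hxx : hdot φ x x = 0)
    (hvB : mkI φ v hv hvv ∈ B) (hwB : mkI φ w hw hww ∈ B)
    (hvw : hdot φ v w ≠ 0) (hvx : hdot φ v x ≠ 0) : mkI φ x hx hxx ∈ B := by
  obtain ⟨a, ha⟩ : ∃ a, a = φ (hdot φ v w)⁻¹ := ⟨_, rfl⟩
  obtain ⟨b, hb⟩ : ∃ b, b = φ (hdot φ v x)⁻¹ := ⟨_, rfl⟩
  have ha0 : a ≠ 0 := by
    rw [ha]
    exact (map_ne_zero φ).2 (inv_ne_zero hvw)
  have h1 : hdot φ v (a • w) = 1 := by
    rw [hdot_smul_right, ha, hφφ]
    exact inv_mul_cancel₀ hvw
  have h2 : hdot φ v (b • x) = 1 := by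
    rw [hdot_smul_right, hb, hφφ]
    exact inv_mul_cancel₀ hvx
  obtain ⟨g, e1, e2⟩ := exists_SUg_map_pair φ hφ hφφ hN1 hcard v (a • w) (b • x) hvv
    (by rw [hdot_smul_left, hdot_smul_right, hww, mul_zero, mul_zero])
    (by rw [hdot_smul_left, hdot_smul_right, hxx, mul_zero, mul_zero]) h1 h2
  have hgB : g • B = B := by
    apply hB.smul_eq_of_mem hvB
    rw [smul_mkI_eq_of_fix φ g v hv hvv e1]
    exact hvB
  have h3 : g • mkI φ w hw hww ∈ B := by
    rw [← hgB]
    exact Set.smul_mem_smul_set hwB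
  have h4 : g • mkI φ w hw hww = mkI φ x hx hxx := by
    rw [smul_mkI, mkI_eq_mkI_iff]
    refine ⟨a⁻¹ * b, ?_⟩
    have h5 : g • (a • w) = a • (g • w) := smul_comm g a w
    rw [h5] at e2
    rw [mul_smul, ← e2, smul_smul, inv_mul_cancel₀ ha0, one_smul]
  rw [← h4]
  exact h3

/-- a block containing two non-orthogonal points is everything -/
theorem block_eq_univ_of_nonorth (hφ : φ ≠ RingHom.id F) (hφφ : ∀ x, φ (φ x) = x)
    (hN1 : ∀ c : F, c ≠ 0 → φ c = c → ∃ l : F, l ≠ 0 ∧ l * φ l = c)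
    (hcard : 3 ≤ Fintype.card ι) {B : Set (isoPts (ι := ι) φ)} (hB : IsBlock (SUg ι φ) B)
    (v w : ι → F) (hv : v ≠ 0) (hvv : hdot φ v v = 0) (hw : w ≠ 0) (hww : hdot φ w w = 0)
    (hvB : mkI φ v hv hvv ∈ B) (hwB : mkI φ w hw hww ∈ B)
    (hvw : hdot φ v w ≠ 0) : B = Set.univ := by
  rw [Set.eq_univ_iff_forall]
  intro P
  obtain ⟨x, hx, hxx, rfl⟩ := exists_eq_mkI φ P
  by_cases hvx : hdot φ v x = 0
  · obtain ⟨y, hyy, hvy, hxy⟩ := exists_avoid φ hφ hφφ v x hvv hv hxx hx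
    have hy : y ≠ 0 := by
      rintro rfl
      exact hvy (hdot_zero_right φ v)
    have hyB := block_step φ hφ hφφ hN1 hcard hB v w y hv hvv hw hww hy hyy hvB hwB hvw hvy
    have hyv : hdot φ y v ≠ 0 := fun h => hvy (hdot_eq_zero_symm φ hφφ _ _ h)
    have hyx : hdot φ y x ≠ 0 := fun h => hxy (hdot_eq_zero_symm φ hφφ _ _ h)
    exact block_step φ hφ hφφ hN1 hcard hB y v x hy hyy hv hvv hx hxx hyB hvB hyv hyx
  · exact block_step φ hφ hφφ hN1 hcard hB v w x hv hvv hw hww hx hxx hvB hwB hvw hvx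

/-- the special unitary group acts primitively on the isotropic points -/
theorem isPreprimitive_isoPts (hφ : φ ≠ RingHom.id F) (hφφ : ∀ x, φ (φ x) = x)
    (hN1 : ∀ c : F, c ≠ 0 → φ c = c → ∃ l : F, l ≠ 0 ∧ l * φ l = c)
    (hcard : 3 ≤ Fintype.card ι) : IsPreprimitive (SUg ι φ) (isoPts (ι := ι) φ) := by
  have := isPretransitive_isoPts φ hφ hφφ hN1 hcard
  constructor
  intro B hB
  by_cases hs : B.Subsingleton
  · exact Or.inl hs
  · right
    rw [Set.not_subsingleton_iff] at hs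
    obtain ⟨P, hP, Q, hQ, hne⟩ := hs
    obtain ⟨v, hv, hvv, rfl⟩ := exists_eq_mkI φ P
    obtain ⟨w, hw, hww, rfl⟩ := exists_eq_mkI φ Q
    by_cases hvw : hdot φ v w = 0
    · have hne' : ∀ a : F, a • v ≠ w := by
        intro a ha
        apply hne
        rw [mkI_eq_mkI_iff]
        have ha0 : a ≠ 0 := by
          rintro rfl
          rw [zero_smul] at ha
          exact hw ha.symm
        exact ⟨a⁻¹, by rw [← ha, smul_smul, inv_mul_cancel₀ ha0, one_smul]⟩
      obtain ⟨y, hyy, hvy, hwy⟩ := exists_orth_not_orth φ hφ hφφ v w hv hww hvw hne'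
      obtain ⟨c0, hc0, hc0t⟩ := Witt.exists_trace_zero φ hφ hφφ
      obtain ⟨g, hg⟩ : ∃ g : SUg ι φ, g = mkS φ (tv φ y c0)
        (isU_tv φ hφφ y c0 (by rw [hyy, mul_zero, add_zero, hc0t]))
        (by rw [det_tv, hyy, mul_zero, add_zero]) := ⟨_, rfl⟩
      have hgv : g • v = v := by
        rw [hg, mkS_smul, tv_mulVec, hvy, mul_zero, zero_smul, add_zero]
      have hgB : g • B = B := by
        apply hB.smul_eq_of_mem hP
        rw [smul_mkI_eq_of_fix φ g v hv hvv hgv]
        exact hP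
      have h3 : g • mkI φ w hw hww ∈ B := by
        rw [← hgB]
        exact Set.smul_mem_smul_set hQ
      rw [smul_mkI] at h3
      have h4 : hdot φ w (g • w) ≠ 0 := by
        rw [hg, mkS_smul, tv_mulVec, hdot_add_right, hww, zero_add, hdot_smul_right]
        exact mul_ne_zero ((map_ne_zero φ).2 (mul_ne_zero hc0 hwy)) hwy
      exact block_eq_univ_of_nonorth φ hφ hφφ hN1 hcard hB w (g • w) hw hww _ _ hQ h3 h4
    · exact block_eq_univ_of_nonorth φ hφ hφφ hN1 hcard hB v w hv hvv hw hww hP hQ hvw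

theorem rootGroup_rep (hφφ : ∀ x, φ (φ x) = x) {v : ι → F} (hv : v ≠ 0) (hvv : hdot φ v v = 0) :
    rootGroup φ (Projectivization.mk F v hv).rep = rootGroup φ v := by
  obtain ⟨a, ha⟩ := Projectivization.exists_smul_eq_mk_rep F v hv
  rw [← ha, Units.smul_def, rootGroup_smul_vec φ hφφ v hvv a.ne_zero]

/-- membership in the group generated by the root groups, from the monoid `TM` -/
theorem exists_mem_of_mem_TM (hφφ : ∀ x, φ (φ x) = x) (K : Subgroup (SUg ι φ))
    (hK : ∀ (v : ι → F) (c : F) (hv : hdot φ v v = 0) (hc : c + φ c = 0),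
      mkS φ (tv φ v c) (isU_tv φ hφφ v c (by rw [hv, mul_zero, add_zero, hc]))
        (by rw [det_tv, hv, mul_zero, add_zero]) ∈ K)
    (M : Matrix ι ι F) (hM : M ∈ TM φ) : ∃ h : SUg ι φ, smat φ h = M ∧ h ∈ K := by
  induction hM using Submonoid.closure_induction with
  | mem M hM =>
    obtain ⟨v, c, hv, hc, rfl⟩ := hM
    exact ⟨_, rfl, hK v c hv hc⟩
  | one => exact ⟨1, rfl, Subgroup.one_mem _⟩
  | mul M N _ _ hM hN =>
    obtain ⟨a, ha, ha'⟩ := hM
    obtain ⟨b, hb, hb'⟩ := hN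
    exact ⟨a * b, by rw [smat_mul, ha, hb], Subgroup.mul_mem _ ha' hb'⟩

theorem eq_top_of_forall_tv_mem (hφφ : ∀ x, φ (φ x) = x)
    (hgen : ∀ M : Matrix ι ι F, IsU φ M → M.det = 1 → M ∈ TM φ) (K : Subgroup (SUg ι φ))
    (hK : ∀ (v : ι → F) (c : F) (hv : hdot φ v v = 0) (hc : c + φ c = 0),
      mkS φ (tv φ v c) (isU_tv φ hφφ v c (by rw [hv, mul_zero, add_zero, hc]))
        (by rw [det_tv, hv, mul_zero, add_zero]) ∈ K) : K = ⊤ := by
  rw [eq_top_iff]
  intro g _
  obtain ⟨h, hh, hh'⟩ := exists_mem_of_mem_TM φ hφφ K hK _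
    (hgen (smat φ g) (smat_isU φ g) (smat_det φ g))
  rw [sug_ext φ hh.symm]
  exact hh'

/-- the Iwasawa structure of the special unitary group acting on isotropic points -/
noncomputable def suIwasawa (hφφ : ∀ x, φ (φ x) = x)
    (hgen : ∀ M : Matrix ι ι F, IsU φ M → M.det = 1 → M ∈ TM φ) :
    IwasawaStructure (SUg ι φ) (isoPts (ι := ι) φ) where
  T P := rootGroup φ P.1.rep
  is_comm P := rootGroup_isMulCommutative φ _ P.2
  is_conj g P := by
    obtain ⟨v, hv, hvv, rfl⟩ := exists_eq_mkI φ P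
    rw [smul_mkI]
    show rootGroup φ (Projectivization.mk F (g • v) _).rep =
      MulAut.conj g • rootGroup φ (Projectivization.mk F v hv).rep
    rw [rootGroup_rep φ hφφ _ (by rw [sug_hdot_smul, hvv]), rootGroup_rep φ hφφ hv hvv,
      rootGroup_conj φ g v hvv]
  is_generator := by
    apply eq_top_of_forall_tv_mem φ hφφ hgen
    intro v c hv hc
    by_cases hv0 : v = 0
    · have h1 : mkS φ (tv φ v c) (isU_tv φ hφφ v c (by rw [hv, mul_zero, add_zero, hc]))
          (by rw [det_tv, hv, mul_zero, add_zero]) = 1 := by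
        apply sug_ext
        rw [mat_mkS, smat_one, hv0, tv_zero_left]
      rw [h1]
      exact Subgroup.one_mem _
    · apply Subgroup.mem_iSup_of_mem (mkI φ v hv0 hv)
      show _ ∈ rootGroup φ (Projectivization.mk F v hv0).rep
      rw [rootGroup_rep φ hφφ hv0 hv, mem_rootGroup φ hv]
      exact ⟨c, hc, rfl⟩

/-- perfectness -/
theorem commutator_SUg_eq_top (hφ : φ ≠ RingHom.id F) (hφφ : ∀ x, φ (φ x) = x)
    (hN1 : ∀ c : F, c ≠ 0 → φ c = c → ∃ l : F, l ≠ 0 ∧ l * φ l = c)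
    (hN2 : ∃ μ : F, μ + φ μ ≠ 0) (hcard : 3 ≤ Fintype.card ι)
    (hgen : ∀ M : Matrix ι ι F, IsU φ M → M.det = 1 → M ∈ TM φ) :
    commutator (SUg ι φ) = ⊤ := by
  apply eq_top_of_forall_tv_mem φ hφφ hgen
  intro v c hv hc
  obtain ⟨B, C, hB, hBdet, hC, hCdet, hBC⟩ := tv_eq_commutator φ hφ hφφ hN1 hN2 hcard v hv c hc
  have h1 : mkS φ (tv φ v c) (isU_tv φ hφφ v c (by rw [hv, mul_zero, add_zero, hc]))
      (by rw [det_tv, hv, mul_zero, add_zero]) = ⁅mkS φ B hB hBdet, mkS φ C hC hCdet⁆ := by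
    rw [commutatorElement_def, eq_mul_inv_iff_mul_eq, eq_mul_inv_iff_mul_eq]
    apply sug_ext
    rw [smat_mul, smat_mul, smat_mul]
    simp only [mat_mkS]
    rw [hBC, Matrix.mul_assoc]
  rw [h1, commutator_def]
  exact Subgroup.commutator_mem_commutator (Subgroup.mem_top _) (Subgroup.mem_top _)

theorem exists_isotropic (hN1 : ∀ c : F, c ≠ 0 → φ c = c → ∃ l : F, l ≠ 0 ∧ l * φ l = c)
    (hcard : 3 ≤ Fintype.card ι) : ∃ e : ι → F, e ≠ 0 ∧ hdot φ e e = 0 := by
  obtain ⟨i0, i1, i2, h01, h02, h12⟩ := Fintype.two_lt_card_iff.1 hcard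
  obtain ⟨ε, _, hε⟩ := hN1 (-1) (by simp) (by rw [map_neg, map_one])
  refine ⟨Pi.single i0 1 + ε • Pi.single i1 1, ?_, ?_⟩
  · intro h
    have := congrFun h i0
    simp [Pi.single_eq_of_ne h01] at this
  · simp only [hdot_add_left, hdot_add_right, hdot_smul_left, hdot_smul_right,
      hdot_single_single, if_true, if_neg h01, if_neg (Ne.symm h01)]
    linear_combination hε

/-- an element fixing every isotropic point is central -/
theorem mem_center_of_fixes (hφ : φ ≠ RingHom.id F) (hφφ : ∀ x, φ (φ x) = x)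
    (hgen : ∀ M : Matrix ι ι F, IsU φ M → M.det = 1 → M ∈ TM φ)
    (g : SUg ι φ) (hg : ∀ P : isoPts (ι := ι) φ, g • P = P) :
    g ∈ Subgroup.center (SUg ι φ) := by
  rw [Subgroup.mem_center_iff]
  intro h
  apply sug_ext
  rw [smat_mul, smat_mul]
  have key : ∀ M ∈ TM φ, M * smat φ g = smat φ g * M := by
    intro M hM
    induction hM using Submonoid.closure_induction with
    | mem M hM =>
      obtain ⟨v, c, hv, hc, rfl⟩ := hM
      by_cases hv0 : v = 0
      · rw [hv0, tv_zero_left, Matrix.one_mul, Matrix.mul_one]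
      · have h1 := hg (mkI φ v hv0 hv)
        rw [smul_mkI, mkI_eq_mkI_iff] at h1
        obtain ⟨l, hl⟩ := h1
        obtain ⟨f, hff, hvf⟩ := exists_partner φ hφ hφφ v hv hv0
        have hf0 : f ≠ 0 := by
          rintro rfl
          rw [hdot_zero_right] at hvf
          exact zero_ne_one hvf
        have hfv : hdot φ f v = 1 := by rw [← hdot_conj φ hφφ v f, hvf, map_one]
        have h2 := hg (mkI φ f hf0 hff)
        rw [smul_mkI, mkI_eq_mkI_iff] at h2
        obtain ⟨l', hl'⟩ := h2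
        obtain ⟨τ, hτ0, hτ⟩ := Witt.exists_trace_zero φ hφ hφφ
        obtain ⟨u, hu⟩ : ∃ u, u = v + τ • f := ⟨_, rfl⟩
        have huu : hdot φ u u = 0 := by
          rw [hu]
          simp only [hdot_add_left, hdot_add_right, hdot_smul_left, hdot_smul_right, hv, hff, hvf,
            hfv]
          linear_combination hτ
        have huf : hdot φ u f = 1 := by
          rw [hu, hdot_add_left, hdot_smul_left, hvf, hff]
          ring
        have huv : hdot φ u v = τ := by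
          rw [hu, hdot_add_left, hdot_smul_left, hv, hfv]
          ring
        have hu0 : u ≠ 0 := by
          rintro rfl
          rw [hdot_zero_left] at huf
          exact zero_ne_one huf
        have h3 := hg (mkI φ u hu0 huu)
        rw [smul_mkI, mkI_eq_mkI_iff] at h3
        obtain ⟨l'', hl''⟩ := h3
        have e : l • v + τ • (l' • f) = l'' • u := by
          rw [hl, hl', hl'', hu, smul_add, smul_comm g τ f]
        have e1 : l = l'' := by
          have := congrArg (fun z => hdot φ z f) e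
          simp only [hdot_add_left, hdot_smul_left, hvf, hff, huf] at this
          linear_combination this
        have e2 : l' = l'' := by
          have := congrArg (fun z => hdot φ z v) e
          simp only [hdot_add_left, hdot_smul_left, hv, hfv, huv] at this
          have h4 : τ * (l' - l'') = 0 := by linear_combination this
          rcases mul_eq_zero.1 h4 with h5 | h5
          · exact absurd h5 hτ0
          · exact sub_eq_zero.1 h5
        have hnorm : l * φ l = 1 := by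
          have := sug_hdot_smul φ g v f
          rw [← hl, ← hl', hdot_smul_left, hdot_smul_right, hvf, e2, ← e1] at this
          linear_combination this
        have h5 : smat φ g * tv φ v c = tv φ v c * smat φ g := by
          rw [isU_mul_tv φ (smat_isU φ g), ← sug_smul_def, ← hl, tv_smul_left, hnorm, one_mul]
        exact h5.symm
    | one => rw [Matrix.one_mul, Matrix.mul_one]
    | mul M N _ _ hM hN => rw [Matrix.mul_assoc, hN, ← Matrix.mul_assoc, hM, Matrix.mul_assoc]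
  exact key _ (hgen (smat φ h) (smat_isU φ h) (smat_det φ h))

/-- **Simplicity** of the projective special unitary group. -/
theorem isSimpleGroup_SUg_quotient_center (hφ : φ ≠ RingHom.id F) (hφφ : ∀ x, φ (φ x) = x)
    (hN1 : ∀ c : F, c ≠ 0 → φ c = c → ∃ l : F, l ≠ 0 ∧ l * φ l = c)
    (hN2 : ∃ μ : F, μ + φ μ ≠ 0) (hcard : 3 ≤ Fintype.card ι)
    (hgen : ∀ M : Matrix ι ι F, IsU φ M → M.det = 1 → M ∈ TM φ) :
    IsSimpleGroup (SUg ι φ ⧸ Subgroup.center (SUg ι φ)) := by
  have hprim := isPreprimitive_isoPts φ hφ hφφ hN1 hcard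
  have hperf := commutator_SUg_eq_top φ hφ hφφ hN1 hN2 hcard hgen
  have hZ : Subgroup.center (SUg ι φ) ≠ ⊤ := by
    intro hZ
    rw [← commutator_eq_bot_iff_center_eq_top, hperf] at hZ
    obtain ⟨e, he0, hee⟩ := exists_isotropic φ hN1 hcard
    obtain ⟨f, hff, hef⟩ := exists_partner φ hφ hφφ e hee he0
    have hfe : hdot φ f e = 1 := by rw [← hdot_conj φ hφφ e f, hef, map_one]
    obtain ⟨c0, hc0, hc0t⟩ := Witt.exists_trace_zero φ hφ hφφ
    have h1 : mkS φ (tv φ e c0) (isU_tv φ hφφ e c0 (by rw [hee, mul_zero, add_zero, hc0t]))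
        (by rw [det_tv, hee, mul_zero, add_zero]) ∈ (⊤ : Subgroup (SUg ι φ)) :=
      Subgroup.mem_top _
    rw [hZ, Subgroup.mem_bot] at h1
    have h2 := congrArg (fun t : SUg ι φ => t • f) h1
    simp only [mkS_smul, one_smul] at h2
    rw [tv_mulVec, hfe, mul_one, add_eq_left] at h2
    rcases smul_eq_zero.1 h2 with h3 | h3
    · exact hc0 h3
    · exact he0 h3
  have hnt : Nontrivial (SUg ι φ ⧸ Subgroup.center (SUg ι φ)) := by
    obtain ⟨g, hg⟩ : ∃ g, g ∉ Subgroup.center (SUg ι φ) := by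
      by_contra hcon
      push Not at hcon
      exact hZ (eq_top_iff.2 fun g _ => hcon g)
    refine ⟨⟨(g : SUg ι φ ⧸ Subgroup.center (SUg ι φ)), 1, ?_⟩⟩
    intro h
    exact hg ((QuotientGroup.eq_one_iff g).1 h)
  refine { exists_pair_ne := hnt.exists_pair_ne, eq_bot_or_eq_top_of_normal := ?_ }
  intro K hK
  obtain ⟨N, hN⟩ : ∃ N, N = K.comap (QuotientGroup.mk' (Subgroup.center (SUg ι φ))) := ⟨_, rfl⟩
  have hNn : N.Normal := by
    rw [hN]
    exact hK.comap _
  by_cases hfix : fixedPoints N (isoPts (ι := ι) φ) = Set.univ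
  · left
    rw [eq_bot_iff]
    intro k hk
    obtain ⟨g, rfl⟩ := QuotientGroup.mk'_surjective _ k
    have hgN : g ∈ N := by
      rw [hN]
      exact hk
    have hgZ : g ∈ Subgroup.center (SUg ι φ) := by
      apply mem_center_of_fixes φ hφ hφφ hgen
      intro P
      have hp : P ∈ fixedPoints N (isoPts (ι := ι) φ) := by
        rw [hfix]
        trivial
      exact hp ⟨g, hgN⟩
    rw [Subgroup.mem_bot]
    exact (QuotientGroup.eq_one_iff g).2 hgZ
  · right
    have h1 := (suIwasawa φ hφφ hgen).commutator_le N hfix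
    rw [hperf, top_le_iff] at h1
    rw [eq_top_iff]
    intro k _
    obtain ⟨g, rfl⟩ := QuotientGroup.mk'_surjective _ k
    have hgN : g ∈ N := by
      rw [h1]
      trivial
    rw [hN] at hgN
    exact hgN

end prim

end Cfsg.Agent.Helper11.Herm
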