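import Mathlib
import Cfsg.Agent.Lib.Helper12.SUgenH

set_option autoImplicit false

/-! Torus and Weyl elements of the special unitary group supported on a hyperbolic plane
(for the two-generation of `SU_n`, S2412). -/

namespace Cfsg.Agent.Helper11.SU2G

open Matrix Cfsg.Agent.Helper11.Herm Cfsg.Agent.Helper12.SUgen

variable {F : Type*} [Field F] {ι : Type*} [Fintype ι] [DecidableEq ι] (φ : F →+* F)
variable (e f : ι → F)

/-- the torus element `e ↦ a e`, `f ↦ (φ a)⁻¹ f` on the hyperbolic plane `⟨e, f⟩` -/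
def torusEl (a : F) : Matrix ι ι F := emb φ e f !![a, 0; 0, (φ a)⁻¹]

/-- the Weyl element `e ↦ κ f`, `f ↦ -κ⁻¹ e` on the hyperbolic plane `⟨e, f⟩` -/
def weylEl (κ : F) : Matrix ι ι F := emb φ e f !![0, -κ⁻¹; κ, 0]

theorem torusEl_mulVec (a : F) (x : ι → F) :
    torusEl φ e f a *ᵥ x = x + ((a - 1) * hdot φ x f) • e + (((φ a)⁻¹ - 1) * hdot φ x e) • f := by
  unfold torusEl
  rw [emb_mulVec]
  simp [Matrix.mulVec, dotProduct, Fin.sum_univ_two, add_assoc]

theorem weylEl_mulVec (κ : F) (x : ι → F) :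
    weylEl φ e f κ *ᵥ x = x + (-hdot φ x f - κ⁻¹ * hdot φ x e) • e +
      (κ * hdot φ x f - hdot φ x e) • f := by
  unfold weylEl
  rw [emb_mulVec]
  simp [Matrix.mulVec, dotProduct, Fin.sum_univ_two, add_assoc, sub_eq_add_neg]

variable {φ e f}
variable (he : hdot φ e e = 0) (hf : hdot φ f f = 0) (hef : hdot φ e f = 1) (hfe : hdot φ f e = 1)

include he hf hef hfe

theorem torusEl_e (a : F) : torusEl φ e f a *ᵥ e = a • e := by
  rw [torusEl_mulVec, he, hef]
  module

theorem torusEl_f (a : F) : torusEl φ e f a *ᵥ f = (φ a)⁻¹ • f := by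
  rw [torusEl_mulVec, hf, hfe]
  module

theorem weylEl_e (κ : F) : weylEl φ e f κ *ᵥ e = κ • f := by
  rw [weylEl_mulVec, he, hef]
  module

theorem weylEl_f (κ : F) : weylEl φ e f κ *ᵥ f = (-κ⁻¹) • e := by
  rw [weylEl_mulVec, hf, hfe]
  module

theorem det_torusEl (a : F) : (torusEl φ e f a).det = a * (φ a)⁻¹ := by
  unfold torusEl
  rw [det_emb φ e f he hf hef hfe, Matrix.det_fin_two_of]
  ring

theorem det_weylEl {κ : F} (hκ : κ ≠ 0) : (weylEl φ e f κ).det = 1 := by
  unfold weylEl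
  rw [det_emb φ e f he hf hef hfe, Matrix.det_fin_two_of]
  field_simp
  ring

theorem isU_torusEl (hφφ : ∀ x, φ (φ x) = x) {a : F} (ha : a ≠ 0) : IsU φ (torusEl φ e f a) := by
  apply isU_of_preserves
  intro x y
  have hφa : φ a ≠ 0 := fun h => ha (by rw [← hφφ a, h, map_zero])
  rw [torusEl_mulVec, torusEl_mulVec]
  simp only [hdot_add_left, hdot_add_right, hdot_smul_left, hdot_smul_right, he, hf, hef, hfe,
    map_sub, map_mul, map_one, map_inv₀, hφφ, mul_zero, add_zero, mul_one]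
  rw [hdot_conj φ hφφ y e, hdot_conj φ hφφ y f]
  field_simp
  ring

theorem isU_weylEl (hφφ : ∀ x, φ (φ x) = x) {κ : F} (hκ0 : κ ≠ 0) (hκ : φ κ = -κ) :
    IsU φ (weylEl φ e f κ) := by
  apply isU_of_preserves
  intro x y
  rw [weylEl_mulVec, weylEl_mulVec]
  simp only [hdot_add_left, hdot_add_right, hdot_smul_left, hdot_smul_right, he, hf, hef, hfe,
    map_sub, map_mul, map_neg, map_inv₀, hκ, mul_zero, add_zero, mul_one]
  rw [hdot_conj φ hφφ y e, hdot_conj φ hφφ y f]
  field_simp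
  ring

omit he hf hef hfe in
theorem torusEl_fix (a : F) {x : ι → F} (h1 : hdot φ x e = 0) (h2 : hdot φ x f = 0) :
    torusEl φ e f a *ᵥ x = x := by
  rw [torusEl_mulVec, h1, h2]
  module

omit he hf hef hfe in
theorem weylEl_fix (κ : F) {x : ι → F} (h1 : hdot φ x e = 0) (h2 : hdot φ x f = 0) :
    weylEl φ e f κ *ᵥ x = x := by
  rw [weylEl_mulVec, h1, h2]
  module

end Cfsg.Agent.Helper11.SU2G
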