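import Mathlib
import Cfsg.Agent.Lib.Helper11.SU2GPlane

set_option autoImplicit false

/-! Generic steps of the two-generation of `SU_n` (S2412): extraction of a root element from the
Steinberg pair, filling a root group, the centre of the Siegel group. -/

namespace Cfsg.Agent.Helper11.SU2G

open Matrix Cfsg.Agent.Helper11.Herm Cfsg.Agent.Helper12.SUgen

variable {F : Type*} [Field F] {ι : Type*} [Fintype ι] [DecidableEq ι] {φ : F →+* F}
variable {H : Subgroup (SUg ι φ)}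

/-- conjugating a Siegel element along an eigenvector by a unitary matrix having `e` and `v` as
eigenvectors -/
theorem conj_sg_eig (hφφ : ∀ x, φ (φ x) = x) {M M' : Matrix ι ι F} (hM : IsU φ M)
    (hMM' : M * M' = 1) {e v : ι → F} {a b : F} (hMe : M *ᵥ e = a • e) (hMv : M *ᵥ v = b • v)
    (t s : F) :
    M * sg φ e (t • v) s * M' = sg φ e ((φ a * b * t) • v) (a * φ a * s) := by
  rw [isU_mul_sg φ hM, Matrix.mul_assoc, hMM', Matrix.mul_one, hMe, Matrix.mulVec_smul, hMv,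
    sg_scale φ hφφ, smul_smul, smul_smul]
  congr 2
  ring

/-- product of two Siegel elements along the same line -/
theorem sg_mul_sg_line {e v : ι → F} (he : hdot φ e e = 0) (hve : hdot φ v e = 0)
    (hev : hdot φ e v = 0) (t t' s s' : F) :
    sg φ e (t • v) s * sg φ e (t' • v) s' =
      sg φ e ((t + t') • v) (s + s' - t' * φ t * hdot φ v v) := by
  rw [sg_mul_sg φ e (t • v) (t' • v) s s' he (by rw [hdot_smul_left, hve, mul_zero])
    (by rw [hdot_smul_right, hev, mul_zero]), add_smul, hdot_smul_left, hdot_smul_right]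
  congr 1
  ring

/-- scaled action on `B0` -/
theorem B0_act_scale (hφφ : ∀ x, φ (φ x) = x) {e : ι → F} {M : Matrix ι ι F}
    (hM : M ∈ MS φ H) {a : F} (hMe : M *ᵥ e = a • e) {w : ι → F} (hw : w ∈ B0 φ H e) :
    φ a • (M *ᵥ w) ∈ B0 φ H e := by
  by_cases ha : a = 0
  · rw [ha, map_zero, zero_smul]
    exact B0_zero
  obtain ⟨hwe, s, hs, hm⟩ := hw
  have hU := MS_isU hM
  have hφa : φ a ≠ 0 := fun h => ha (by rw [← hφφ a, h, map_zero])
  have h1 : hdot φ (M *ᵥ w) e = 0 := by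
    have h2 : hdot φ (M *ᵥ w) (M *ᵥ e) = 0 := by rw [hU.hdot_mulVec, hwe]
    rw [hMe, hdot_smul_right] at h2
    rcases mul_eq_zero.1 h2 with h3 | h3
    · exact absurd h3 hφa
    · exact h3
  refine ⟨by rw [hdot_smul_left, h1, mul_zero], a * φ a * s, ?_, ?_⟩
  · rw [hdot_smul_left, hdot_smul_right, hU.hdot_mulVec, map_mul, map_mul, hφφ]
    linear_combination (a * φ a) * hs
  · have := MS_sg_conj hM e w s hm
    rw [hMe, sg_scale φ hφφ] at this
    exact this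

/-- finite sums in `B0` -/
theorem B0_sum (hφφ : ∀ x, φ (φ x) = x) {e : ι → F} (he : hdot φ e e = 0) {κ : Type*}
    (s : Finset κ) (g : κ → ι → F) (hg : ∀ i ∈ s, g i ∈ B0 φ H e) : ∑ i ∈ s, g i ∈ B0 φ H e := by
  classical
  induction s using Finset.induction_on with
  | empty => rw [Finset.sum_empty]; exact B0_zero
  | insert a s ha ih =>
    rw [Finset.sum_insert ha]
    exact B0_add hφφ he (hg a (Finset.mem_insert_self a s))
      (ih (fun i hi => hg i (Finset.mem_insert_of_mem hi)))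

/-- the centre of the Siegel group from two directions in `B0` pairing to one -/
theorem tv_of_B0 (hφφ : ∀ x, φ (φ x) = x) {e f2 e2 : ι → F} (he : hdot φ e e = 0)
    (hf2e2 : hdot φ f2 e2 = 1) (he2f2 : hdot φ e2 f2 = 1) {τ : F} (hτ : τ + φ τ = 1)
    (h1 : ∀ t : F, t • f2 ∈ B0 φ H e) (h2 : e2 ∈ B0 φ H e) :
    ∀ c : F, c + φ c = 0 → tv φ e c ∈ MS φ H := by
  intro c hc
  obtain ⟨hw1e, s1, hs1, hm1⟩ := h1 (τ * c)
  obtain ⟨hw2e, s2, hs2, hm2⟩ := h2
  have hew1 : hdot φ e ((τ * c) • f2) = 0 := hdot_eq_zero_symm φ hφφ _ _ hw1e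
  have hew2 : hdot φ e e2 = 0 := hdot_eq_zero_symm φ hφφ _ _ hw2e
  have hP := sg_mul_sg φ e ((τ * c) • f2) e2 s1 s2 he hw2e hew1
  have hQ := sg_mul_sg φ e e2 ((τ * c) • f2) s2 s1 he hw1e hew2
  have hval : hdot φ ((τ * c) • f2) e2 - hdot φ e2 ((τ * c) • f2) = c := by
    rw [hdot_smul_left, hdot_smul_right, hf2e2, he2f2, map_mul]
    have hc' : φ c = -c := by linear_combination hc
    rw [hc']
    linear_combination c * hτ
  have hQm : sg φ e e2 s2 * sg φ e ((τ * c) • f2) s1 ∈ MS φ H := MS_mul hm2 hm1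
  have hPm : sg φ e ((τ * c) • f2) s1 * sg φ e e2 s2 ∈ MS φ H := MS_mul hm1 hm2
  obtain ⟨Q', hQ', hQQ', hQ'Q⟩ := MS_exists_inv hQm
  have hPQ : sg φ e ((τ * c) • f2) s1 * sg φ e e2 s2 =
      sg φ e e2 s2 * sg φ e ((τ * c) • f2) s1 * tv φ e c := by
    rw [hP, hQ, sg_mul_tv φ e _ _ _ he (by rw [hdot_add_right, hew1, hew2, add_zero]),
      add_comm e2]
    congr 1
    linear_combination hval
  have : tv φ e c = Q' * (sg φ e ((τ * c) • f2) s1 * sg φ e e2 s2) := by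
    rw [hPQ, ← Matrix.mul_assoc, hQ'Q, Matrix.one_mul]
  rw [this]
  exact MS_mul hQ' hPm

/-- the whole Siegel group from `B0` and its centre -/
theorem sg_of_B0 (hφφ : ∀ x, φ (φ x) = x) {e : ι → F} (he : hdot φ e e = 0)
    (h2 : ∀ w, hdot φ w e = 0 → w ∈ B0 φ H e)
    (h3 : ∀ c : F, c + φ c = 0 → tv φ e c ∈ MS φ H) :
    ∀ w s, hdot φ w e = 0 → s + φ s + hdot φ w w = 0 → sg φ e w s ∈ MS φ H := by
  intro w s hwe hs
  obtain ⟨_, s', hs', hm'⟩ := h2 w hwe
  have hew : hdot φ e w = 0 := hdot_eq_zero_symm φ hφφ _ _ hwe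
  have : sg φ e w s = sg φ e w s' * tv φ e (s - s') := by
    rw [sg_mul_tv φ e w s' (s - s') he hew]
    congr 1
    ring
  rw [this]
  refine MS_mul hm' (h3 _ ?_)
  rw [map_sub]
  linear_combination hs - hs'

theorem smat_inv_eq' (G : SUg ι φ) (g' : Matrix ι ι F) (h : smat φ G * g' = 1) :
    smat φ G⁻¹ = g' := by
  calc smat φ G⁻¹ = smat φ G⁻¹ * (smat φ G * g') := by rw [h, Matrix.mul_one]
    _ = g' := by rw [← Matrix.mul_assoc, smat_inv_mul, Matrix.one_mul]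

theorem smat_conj_sg_eig (hφφ : ∀ x, φ (φ x) = x) (g : SUg ι φ) {e v : ι → F} {a b : F}
    (hge : g • e = a • e) (hgv : g • v = b • v) (t s : F) :
    smat φ g * sg φ e (t • v) s * smat φ g⁻¹ = sg φ e ((φ a * b * t) • v) (a * φ a * s) :=
  conj_sg_eig hφφ (smat_isU φ g) (smat_mul_inv φ g) hge hgv t s

/-- **Extraction**: from the Steinberg pair `gh`, `gx * gw` (with `gx` the Siegel element
`sg e v0 s0`, and `gw gh gw⁻¹` commuting with `gh`, both having `e`, `v0` as eigenvectors) one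
gets a Siegel element along `v0`. -/
theorem extract (hφφ : ∀ x, φ (φ x) = x) {e v0 : ι → F} {s0 : F} (he : hdot φ e e = 0)
    (hv0e : hdot φ v0 e = 0) (hs0 : s0 + φ s0 + hdot φ v0 v0 = 0)
    (gh gw gx : SUg ι φ) (hgx : smat φ gx = sg φ e v0 s0)
    (hcomm : gh * (gw * gh * gw⁻¹) = (gw * gh * gw⁻¹) * gh)
    {a b a' b' : F} (hhe : gh • e = a • e) (hhv : gh • v0 = b • v0)
    (hpe : (gw * gh * gw⁻¹) • e = a' • e) (hpv : (gw * gh * gw⁻¹) • v0 = b' • v0)
    (hhH : gh ∈ H) (hyH : gx * gw ∈ H) :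
    ∃ s, (hdot φ v0 v0 = 0 → s0 = 0 → s = 0) ∧
      sg φ e (((φ a * b - 1) * (1 - φ a' * b')) • v0) s ∈ MS φ H := by
  have hev0 : hdot φ e v0 = 0 := hdot_eq_zero_symm φ hφφ _ _ hv0e
  set gp := gw * gh * gw⁻¹ with hgp
  set ν := hdot φ v0 v0 with hν
  -- the inverse of `gx`
  have hX1 : sg φ e v0 s0 = sg φ e ((1 : F) • v0) s0 := by rw [one_smul]
  have hgxi : smat φ gx⁻¹ = sg φ e ((-1 : F) • v0) (φ s0) := by
    apply smat_inv_eq'
    rw [hgx, neg_one_smul]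
    exact sg_mul_inv φ e v0 s0 he hv0e hev0 hs0
  -- the element in `H`
  have hz1 : gx * gp * gx⁻¹ ∈ H := by
    have : gx * gp * gx⁻¹ = (gx * gw) * gh * (gx * gw)⁻¹ := by rw [hgp]; group
    rw [this]
    exact H.mul_mem (H.mul_mem hyH hhH) (H.inv_mem hyH)
  have hc : gh * (gx * gp * gx⁻¹) * gh⁻¹ * (gx * gp * gx⁻¹)⁻¹ ∈ H :=
    H.mul_mem (H.mul_mem (H.mul_mem hhH hz1) (H.inv_mem hhH)) (H.inv_mem hz1)
  have h1 : gh * gp * gh⁻¹ = gp := by rw [hcomm, mul_inv_cancel_right]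
  have hc2 : gh * (gx * gp * gx⁻¹) * gh⁻¹ * (gx * gp * gx⁻¹)⁻¹ =
      (gh * gx * gh⁻¹) * (gp * ((gh * gx⁻¹ * gh⁻¹) * gx) * gp⁻¹) * gx⁻¹ := by
    calc gh * (gx * gp * gx⁻¹) * gh⁻¹ * (gx * gp * gx⁻¹)⁻¹
        = (gh * gx * gh⁻¹) * (gh * gp * gh⁻¹) * (gh * gx⁻¹ * gh⁻¹) * gx * gp⁻¹ * gx⁻¹ := by group
      _ = (gh * gx * gh⁻¹) * gp * (gh * gx⁻¹ * gh⁻¹) * gx * gp⁻¹ * gx⁻¹ := by rw [h1]
      _ = _ := by group
  -- matrices
  have mA : smat φ (gh * gx * gh⁻¹) = sg φ e ((φ a * b * 1) • v0) (a * φ a * s0) := by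
    rw [smat_mul, smat_mul, hgx, hX1]
    exact smat_conj_sg_eig hφφ gh hhe hhv 1 s0
  have mAi : smat φ (gh * gx⁻¹ * gh⁻¹) = sg φ e ((φ a * b * (-1)) • v0) (a * φ a * φ s0) := by
    rw [smat_mul, smat_mul, hgxi]
    exact smat_conj_sg_eig hφφ gh hhe hhv (-1) (φ s0)
  have mB : smat φ ((gh * gx⁻¹ * gh⁻¹) * gx) =
      sg φ e ((φ a * b * (-1) + 1) • v0) (a * φ a * φ s0 + s0 - 1 * φ (φ a * b * (-1)) * ν) := by
    rw [smat_mul, mAi, hgx, hX1, sg_mul_sg_line he hv0e hev0]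
  have mC : smat φ (gp * ((gh * gx⁻¹ * gh⁻¹) * gx) * gp⁻¹) =
      sg φ e ((φ a' * b' * (φ a * b * (-1) + 1)) • v0)
        (a' * φ a' * (a * φ a * φ s0 + s0 - 1 * φ (φ a * b * (-1)) * ν)) := by
    rw [smat_mul, smat_mul, mB]
    exact smat_conj_sg_eig hφφ gp hpe hpv _ _
  have mD : smat φ ((gh * gx * gh⁻¹) * (gp * ((gh * gx⁻¹ * gh⁻¹) * gx) * gp⁻¹) * gx⁻¹) =
      sg φ e ((φ a * b * 1 + φ a' * b' * (φ a * b * (-1) + 1) + (-1)) • v0)
        (a * φ a * s0 + a' * φ a' * (a * φ a * φ s0 + s0 - 1 * φ (φ a * b * (-1)) * ν) -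
          φ a' * b' * (φ a * b * (-1) + 1) * φ (φ a * b * 1) * ν + φ s0 -
          (-1) * φ (φ a * b * 1 + φ a' * b' * (φ a * b * (-1) + 1)) * ν) := by
    rw [smat_mul, smat_mul, mA, mC, hgxi, sg_mul_sg_line he hv0e hev0,
      sg_mul_sg_line he hv0e hev0]
  refine ⟨a * φ a * s0 + a' * φ a' * (a * φ a * φ s0 + s0 - 1 * φ (φ a * b * (-1)) * ν) -
          φ a' * b' * (φ a * b * (-1) + 1) * φ (φ a * b * 1) * ν + φ s0 -
          (-1) * φ (φ a * b * 1 + φ a' * b' * (φ a * b * (-1) + 1)) * ν, ?_, ?_⟩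
  · intro h0 hs00
    rw [h0, hs00, map_zero]
    ring
  · have h2 : ((φ a * b - 1) * (1 - φ a' * b')) =
        (φ a * b * 1 + φ a' * b' * (φ a * b * (-1) + 1) + (-1)) := by ring
    rw [h2, ← mD, ← hc2]
    exact MS_of_mem _ hc

/-- filling an isotropic root group: closure under the torus element -/
theorem fill_iso (hφφ : ∀ x, φ (φ x) = x) {e v0 : ι → F} (he : hdot φ e e = 0)
    (hv0e : hdot φ v0 e = 0) (hv0 : hdot φ v0 v0 = 0)
    (gh : SUg ι φ) (hhH : gh ∈ H) {a b : F} (hhe : gh • e = a • e) (hhv : gh • v0 = b • v0)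
    (hclos : ∀ A : AddSubgroup F, (∀ c ∈ A, φ a * b * c ∈ A) → ∀ c₀ ∈ A, c₀ ≠ 0 → A = ⊤)
    {t1 : F} (ht1 : t1 ≠ 0) (h1 : sg φ e (t1 • v0) 0 ∈ MS φ H) :
    ∀ t : F, sg φ e (t • v0) 0 ∈ MS φ H := by
  have hev0 : hdot φ e v0 = 0 := hdot_eq_zero_symm φ hφφ _ _ hv0e
  let A : AddSubgroup F :=
    { carrier := {t | sg φ e (t • v0) 0 ∈ MS φ H}
      zero_mem' := by
        show sg φ e ((0 : F) • v0) 0 ∈ MS φ H
        rw [zero_smul, sg_zero_zero]
        exact MS_one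
      add_mem' := by
        intro t t' ht ht'
        show sg φ e ((t + t') • v0) 0 ∈ MS φ H
        have := sg_mul_sg_line he hv0e hev0 t t' 0 0
        rw [hv0, mul_zero, add_zero, sub_zero] at this
        rw [← this]
        exact MS_mul ht ht'
      neg_mem' := by
        intro t ht
        show sg φ e ((-t) • v0) 0 ∈ MS φ H
        have h2 := sg_mul_inv φ e (t • v0) 0 he (by rw [hdot_smul_left, hv0e, mul_zero])
          (by rw [hdot_smul_right, hev0, mul_zero])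
          (by rw [hdot_smul_left, hdot_smul_right, hv0, mul_zero, mul_zero, map_zero, add_zero,
            add_zero])
        rw [map_zero, ← neg_smul] at h2
        exact MS_inv ht h2 }
  have hA : A = ⊤ := by
    apply hclos A _ t1 h1 ht1
    intro c hc
    show sg φ e ((φ a * b * c) • v0) 0 ∈ MS φ H
    have h2 := smat_conj_sg_eig hφφ gh hhe hhv c 0
    rw [mul_zero] at h2
    rw [← h2]
    exact MS_conj (MS_of_mem gh hhH) (smat_mul_inv φ gh) hc
  intro t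
  have : t ∈ A := by rw [hA]; exact AddSubgroup.mem_top t
  exact this

/-- filling a line in `B0`: closure under the torus element -/
theorem fill_B0 (hφφ : ∀ x, φ (φ x) = x) {e v0 : ι → F} (he : hdot φ e e = 0)
    (gh : SUg ι φ) (hhH : gh ∈ H) {a b : F} (hhe : gh • e = a • e) (hhv : gh • v0 = b • v0)
    (hclos : ∀ A : AddSubgroup F, (∀ c ∈ A, φ a * b * c ∈ A) → ∀ c₀ ∈ A, c₀ ≠ 0 → A = ⊤)
    {t1 : F} (ht1 : t1 ≠ 0) (h1 : t1 • v0 ∈ B0 φ H e) :
    ∀ t : F, t • v0 ∈ B0 φ H e := by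
  let A : AddSubgroup F :=
    { carrier := {t | t • v0 ∈ B0 φ H e}
      zero_mem' := by
        show (0 : F) • v0 ∈ B0 φ H e
        rw [zero_smul]
        exact B0_zero
      add_mem' := by
        intro t t' ht ht'
        show (t + t') • v0 ∈ B0 φ H e
        rw [add_smul]
        exact B0_add hφφ he ht ht'
      neg_mem' := by
        intro t ht
        show (-t) • v0 ∈ B0 φ H e
        rw [neg_smul]
        exact B0_neg hφφ he ht }
  have hA : A = ⊤ := by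
    apply hclos A _ t1 h1 ht1
    intro c hc
    show (φ a * b * c) • v0 ∈ B0 φ H e
    have h2 := B0_act_scale hφφ (MS_of_mem gh hhH) hhe hc
    rw [Matrix.mulVec_smul] at h2
    have h3 : smat φ gh *ᵥ v0 = b • v0 := hhv
    rw [h3, smul_smul, smul_smul] at h2
    have h4 : φ a * c * b = φ a * b * c := by ring
    rw [h4] at h2
    exact h2
  intro t
  have : t ∈ A := by rw [hA]; exact AddSubgroup.mem_top t
  exact this

end Cfsg.Agent.Helper11.SU2G
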