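import Mathlib
import Cfsg.Agent.Lib.Helper11.SU2GCore

set_option autoImplicit false

/-! Witt families without anisotropic vector (even dimension), for S2412. -/

namespace Cfsg.Agent.Helper11.SU2G

open Matrix Cfsg.Agent.Helper11.Herm Cfsg.Agent.Helper12.SUgen

variable {F : Type*} [Field F] {ι : Type*} [Fintype ι] [DecidableEq ι]

/-- a Witt family in even dimension: `m` hyperbolic pairs spanning the space -/
structure WittE (φ : F →+* F) (ι : Type*) [Fintype ι] [DecidableEq ι] (m : ℕ) where
  e : ℕ → ι → F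
  f : ℕ → ι → F
  ee : ∀ i j, i < m → j < m → hdot φ (e i) (e j) = 0
  ff : ∀ i j, i < m → j < m → hdot φ (f i) (f j) = 0
  ef : ∀ i j, i < m → j < m → hdot φ (e i) (f j) = if i = j then 1 else 0
  fe : ∀ i j, i < m → j < m → hdot φ (f i) (e j) = if i = j then 1 else 0
  span : ∀ S : Submodule F (ι → F), (∀ i, i < m → e i ∈ S) → (∀ i, i < m → f i ∈ S) →
    ∀ x, x ∈ S

variable {φ : F →+* F} {m : ℕ}

theorem WittE.eq_zero_of_perp (W : WittE φ ι m) (y : ι → F)
    (h1 : ∀ i, i < m → hdot φ y (W.e i) = 0) (h2 : ∀ i, i < m → hdot φ y (W.f i) = 0) : y = 0 := by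
  apply eq_zero_of_hdot_right φ y
  intro v
  exact W.span (perpR φ y) h1 h2 v

theorem WittE.expand (W : WittE φ ι m) (x : ι → F) :
    x = ∑ i ∈ Finset.range m, (hdot φ x (W.f i) • W.e i + hdot φ x (W.e i) • W.f i) := by
  rw [← sub_eq_zero]
  apply W.eq_zero_of_perp
  · intro j hj
    rw [hdot_sub_left, hdot_sum_left]
    rw [Finset.sum_eq_single j]
    · rw [hdot_add_left, hdot_smul_left, hdot_smul_left, W.ee j j hj hj, W.fe j j hj hj,
        if_pos rfl]
      ring
    · intro i hi hij
      rw [Finset.mem_range] at hi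
      rw [hdot_add_left, hdot_smul_left, hdot_smul_left, W.ee i j hi hj, W.fe i j hi hj,
        if_neg hij]
      ring
    · intro h
      exact absurd (Finset.mem_range.2 hj) h
  · intro j hj
    rw [hdot_sub_left, hdot_sum_left]
    rw [Finset.sum_eq_single j]
    · rw [hdot_add_left, hdot_smul_left, hdot_smul_left, W.ff j j hj hj, W.ef j j hj hj,
        if_pos rfl]
      ring
    · intro i hi hij
      rw [Finset.mem_range] at hi
      rw [hdot_add_left, hdot_smul_left, hdot_smul_left, W.ff i j hi hj, W.ef i j hi hj,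
        if_neg hij]
      ring
    · intro h
      exact absurd (Finset.mem_range.2 hj) h

/-- two elements agreeing on a Witt family are equal -/
theorem WittE.ext_smul (W : WittE φ ι m) {g h : SUg ι φ}
    (he : ∀ i, i < m → g • W.e i = h • W.e i) (hf : ∀ i, i < m → g • W.f i = h • W.f i) :
    g = h := by
  apply sug_ext
  rw [Matrix.ext_iff_mulVec]
  intro x
  exact W.span (LinearMap.eqLocus (Matrix.mulVecLin (smat φ g)) (Matrix.mulVecLin (smat φ h)))
    he hf x

end Cfsg.Agent.Helper11.SU2G
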