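import Mathlib
import Cfsg.Agent.Lib.Helper11.SU2GEvenDefs

set_option autoImplicit false

/-! The Steinberg pair generates `SU_{2m}` (generic form), for S2412. -/

namespace Cfsg.Agent.Helper11.SU2G

open Matrix Cfsg.Agent.Helper11.Herm Cfsg.Agent.Helper12.SUgen

variable {F : Type*} [Field F] {ι : Type*} [Fintype ι] [DecidableEq ι] {φ : F →+* F}

theorem sug_smul_smul (g : SUg ι φ) (c : F) (v : ι → F) : g • (c • v) = c • g • v := by
  rw [sug_smul_def, sug_smul_def, Matrix.mulVec_smul]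

theorem sug_mul_smul (g h : SUg ι φ) (v : ι → F) : (g * h) • v = g • h • v := by
  rw [sug_smul_def, sug_smul_def, sug_smul_def, smat_mul, Matrix.mulVec_mulVec]

theorem sug_inv_smul_smul (g : SUg ι φ) (v : ι → F) : g⁻¹ • g • v = v := by
  rw [← sug_mul_smul, inv_mul_cancel, sug_smul_def, smat_one, Matrix.one_mulVec]

/-- eigenvectors of a conjugate -/
theorem conj_eig (gw gh : SUg ι φ) {u v : ι → F} {s c : F} (hs : s ≠ 0)
    (hwu : gw • u = s • v) (hhu : gh • u = c • u) : (gw * gh * gw⁻¹) • v = c • v := by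
  have hv : v = gw • (s⁻¹ • u) := by
    rw [sug_smul_smul, hwu, smul_smul, inv_mul_cancel₀ hs, one_smul]
  have h1 : (gw * gh * gw⁻¹) • v = gw • gh • (s⁻¹ • u) := by
    conv_lhs => rw [hv]
    rw [sug_mul_smul, sug_mul_smul, sug_inv_smul_smul]
  rw [h1, sug_smul_smul, hhu, sug_smul_smul, sug_smul_smul, hwu, smul_smul, smul_smul]
  congr 1
  field_simp

theorem comm_eig (g h : SUg ι φ) {v : ι → F} {c d : F}
    (hg : g • v = c • v) (hh : h • v = d • v) : (g * h) • v = (h * g) • v := by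
  rw [sug_mul_smul g h, sug_mul_smul h g, hh, hg, sug_smul_smul, sug_smul_smul, hg, hh, smul_comm]

theorem mem_of_smat_mem {H : Subgroup (SUg ι φ)} {g : SUg ι φ} (h : smat φ g ∈ MS φ H) :
    g ∈ H := by
  obtain ⟨g', hg', he⟩ := h
  rw [← sug_ext φ he]
  exact hg'

/-- **The Steinberg pair generates, even dimension.** -/
theorem gen_even [Finite F] (hφφ : ∀ x, φ (φ x) = x)
    (hgen : ∀ M : Matrix ι ι F, IsU φ M → M.det = 1 → M ∈ TM φ)
    {m : ℕ} (hm : 2 ≤ m) (W : WittE φ ι m)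
    (gh gw gx : SUg ι φ) (a : ℕ → F) (ha0 : ∀ i, i < m → a i ≠ 0)
    (hhe : ∀ i, i < m → gh • W.e i = a i • W.e i)
    (hhf : ∀ i, i < m → gh • W.f i = (φ (a i))⁻¹ • W.f i)
    {κ : F} (hκ0 : κ ≠ 0) (hκ : φ κ = -κ)
    (hwe : ∀ i, i + 1 < m → gw • W.e i = W.e (i + 1)) (hwe' : gw • W.e (m - 1) = κ • W.f 0)
    (hwf : ∀ i, i + 1 < m → gw • W.f i = W.f (i + 1))
    (hwf' : gw • W.f (m - 1) = (-κ⁻¹) • W.e 0)
    (hgx : smat φ gx = sg φ (W.e 0) (W.f 1) 0)
    (hlam1 : φ (a 0) * (φ (a 1))⁻¹ ≠ 1) (hc1 : (a (m - 1))⁻¹ * (φ (a 0))⁻¹ ≠ 1)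
    (hclos : ∀ A : AddSubgroup F, (∀ c ∈ A, φ (a 0) * (φ (a 1))⁻¹ * c ∈ A) →
      ∀ c₀ ∈ A, c₀ ≠ 0 → A = ⊤)
    {τ : F} (hτ : τ + φ τ = 1)
    (H : Subgroup (SUg ι φ)) (h1 : gh ∈ H) (h2 : gx * gw ∈ H) : H = ⊤ := by
  have h0m : 0 < m := by omega
  have h1m : 1 < m := by omega
  have hm1 : m - 1 < m := by omega
  have hφne : ∀ x : F, x ≠ 0 → φ x ≠ 0 := fun x hx h => hx (by rw [← hφφ x, h, map_zero])
  have hee := W.ee 0 0 h0m h0m
  have hff := W.ff 0 0 h0m h0m
  have hef : hdot φ (W.e 0) (W.f 0) = 1 := by rw [W.ef 0 0 h0m h0m, if_pos rfl]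
  have hfe : hdot φ (W.f 0) (W.e 0) = 1 := by rw [W.fe 0 0 h0m h0m, if_pos rfl]
  have hf1e0 : hdot φ (W.f 1) (W.e 0) = 0 := by rw [W.fe 1 0 h1m h0m, if_neg (by omega)]
  have hf1f1 : hdot φ (W.f 1) (W.f 1) = 0 := W.ff 1 1 h1m h1m
  -- the conjugate torus element
  set gp := gw * gh * gw⁻¹ with hgp
  have hκi : (-κ⁻¹ : F) ≠ 0 := neg_ne_zero.2 (inv_ne_zero hκ0)
  have gpe : ∀ i, i + 1 < m → gp • W.e (i + 1) = a i • W.e (i + 1) := by
    intro i hi
    exact conj_eig gw gh one_ne_zero (by rw [one_smul]; exact hwe i hi) (hhe i (by omega))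
  have gpf : ∀ i, i + 1 < m → gp • W.f (i + 1) = (φ (a i))⁻¹ • W.f (i + 1) := by
    intro i hi
    exact conj_eig gw gh one_ne_zero (by rw [one_smul]; exact hwf i hi) (hhf i (by omega))
  have gpf0 : gp • W.f 0 = a (m - 1) • W.f 0 := conj_eig gw gh hκ0 hwe' (hhe (m - 1) hm1)
  have gpe0 : gp • W.e 0 = (φ (a (m - 1)))⁻¹ • W.e 0 := conj_eig gw gh hκi hwf' (hhf (m - 1) hm1)
  -- commutation
  have hcomm : gh * gp = gp * gh := by
    apply W.ext_smul
    · intro i hi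
      rcases Nat.eq_zero_or_pos i with h0 | h0
      · subst h0
        exact comm_eig gh gp (hhe 0 hi) gpe0
      · obtain ⟨j, rfl⟩ : ∃ j, i = j + 1 := ⟨i - 1, by omega⟩
        exact comm_eig gh gp (hhe (j + 1) hi) (gpe j hi)
    · intro i hi
      rcases Nat.eq_zero_or_pos i with h0 | h0
      · subst h0
        exact comm_eig gh gp (hhf 0 hi) gpf0
      · obtain ⟨j, rfl⟩ : ∃ j, i = j + 1 := ⟨i - 1, by omega⟩
        exact comm_eig gh gp (hhf (j + 1) hi) (gpf j hi)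
  -- extraction
  obtain ⟨s, hs, hmem⟩ := extract (H := H) hφφ hee hf1e0
    (by rw [map_zero, hf1f1]; ring) gh gw gx hgx hcomm (hhe 0 h0m) (hhf 1 h1m) gpe0 (gpf 0 h1m)
    h1 h2
  rw [hs hf1f1 rfl] at hmem
  have ht1 : (φ (a 0) * (φ (a 1))⁻¹ - 1) * (1 - φ (φ (a (m - 1)))⁻¹ * (φ (a 0))⁻¹) ≠ 0 := by
    apply mul_ne_zero
    · exact sub_ne_zero.2 hlam1
    · rw [map_inv₀, hφφ]
      exact sub_ne_zero.2 (Ne.symm hc1)
  -- the root group
  have hX : ∀ t : F, sg φ (W.e 0) (t • W.f 1) 0 ∈ MS φ H :=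
    fill_iso hφφ hee hf1e0 hf1f1 gh h1 (hhe 0 h0m) (hhf 1 h1m) hclos ht1 hmem
  have hgxH : gx ∈ H := by
    apply mem_of_smat_mem
    rw [hgx]
    have := hX 1
    rwa [one_smul] at this
  have hgwH : gw ∈ H := by
    have : gw = gx⁻¹ * (gx * gw) := by group
    rw [this]
    exact H.mul_mem (H.inv_mem hgxH) h2
  have hwM : smat φ gw ∈ MS φ H := MS_of_mem gw hgwH
  -- the conjugate root groups
  have hR : ∀ j, j + 1 < m → ∀ t : F, sg φ (W.e j) (t • W.f (j + 1)) 0 ∈ MS φ H := by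
    intro j
    induction j with
    | zero => intro _ t; exact hX t
    | succ j ih =>
      intro hj t
      have := MS_sg_conj hwM _ _ _ (ih (by omega) t)
      rw [Matrix.mulVec_smul] at this
      have e1 : smat φ gw *ᵥ W.e j = W.e (j + 1) := hwe j (by omega)
      have e2 : smat φ gw *ᵥ W.f (j + 1) = W.f (j + 1 + 1) := hwf (j + 1) hj
      rwa [e1, e2] at this
  have hRlast : ∀ t : F, sg φ (W.e (m - 1)) (t • W.e 0) 0 ∈ MS φ H := by
    intro t
    have := MS_sg_conj hwM _ _ _ (hR (m - 2) (by omega) (-κ * t))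
    rw [Matrix.mulVec_smul] at this
    have e1 : smat φ gw *ᵥ W.e (m - 2) = W.e (m - 2 + 1) := hwe (m - 2) (by omega)
    have e3 : m - 2 + 1 = m - 1 := by omega
    have e2 : smat φ gw *ᵥ W.f (m - 1) = (-κ⁻¹) • W.e 0 := hwf'
    rw [e1, e3, e2, smul_smul] at this
    have e4 : -κ * t * -κ⁻¹ = t := by field_simp
    rwa [e4] at this
  -- lines in `B0`
  have Lf : ∀ j, 1 ≤ j → j < m → ∀ t : F, t • W.f j ∈ B0 φ H (W.e 0) := by
    intro j hj1
    induction j, hj1 using Nat.le_induction with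
    | base =>
      intro _ t
      exact B0_of_mem hφφ (W.e 0) (W.f 0) _ 0 hee hfe
        (by rw [hdot_smul_left, hf1e0, mul_zero]) (hX t)
    | succ j hj1 ih =>
      intro hj t
      have hM := hR j hj 1
      rw [one_smul] at hM
      have hMe : sg φ (W.e j) (W.f (j + 1)) 0 *ᵥ W.e 0 = W.e 0 := by
        apply sg_fix
        · exact W.ee 0 j h0m (by omega)
        · rw [W.ef 0 (j + 1) h0m hj, if_neg (by omega)]
      have := B0_act_sub hφφ hee hM hMe (ih (by omega) t)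
      have e1 : sg φ (W.e j) (W.f (j + 1)) 0 *ᵥ (t • W.f j) - t • W.f j = t • W.f (j + 1) := by
        rw [sg_mulVec, hdot_smul_left, hdot_smul_left, W.fe j j (by omega) (by omega),
          if_pos rfl, W.ff j (j + 1) (by omega) hj]
        module
      rwa [e1] at this
  have Le_last : ∀ t : F, t • W.e (m - 1) ∈ B0 φ H (W.e 0) := by
    intro t
    have := hRlast (-φ t)
    rw [sg_swap φ hφφ, map_neg, hφφ, neg_neg] at this
    exact B0_of_mem hφφ (W.e 0) (W.f 0) _ 0 hee hfe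
      (by rw [hdot_smul_left, W.ee (m - 1) 0 hm1 h0m, mul_zero]) this
  have Le : ∀ i, i + 1 < m → ∀ t : F, t • W.e (m - 1 - i) ∈ B0 φ H (W.e 0) := by
    intro i
    induction i with
    | zero => intro _ t; exact Le_last t
    | succ i ih =>
      intro hi t
      obtain ⟨j, hj⟩ : ∃ j, j = m - 1 - (i + 1) := ⟨_, rfl⟩
      have hj1 : 1 ≤ j := by omega
      have hj2 : j + 1 = m - 1 - i := by omega
      have hjm : j + 1 < m := by omega
      rw [← hj]
      have hM := hR j hjm 1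
      rw [one_smul] at hM
      have hMe : sg φ (W.e j) (W.f (j + 1)) 0 *ᵥ W.e 0 = W.e 0 := by
        apply sg_fix
        · exact W.ee 0 j h0m (by omega)
        · rw [W.ef 0 (j + 1) h0m hjm, if_neg (by omega)]
      have h3 := ih (by omega) (-t)
      rw [← hj2] at h3
      have := B0_act_sub hφφ hee hM hMe h3
      have e1 : sg φ (W.e j) (W.f (j + 1)) 0 *ᵥ (-t • W.e (j + 1)) - -t • W.e (j + 1) =
          t • W.e j := by
        rw [sg_mulVec, hdot_smul_left, hdot_smul_left, W.ee (j + 1) j hjm (by omega),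
          W.ef (j + 1) (j + 1) hjm hjm, if_pos rfl]
        module
      rwa [e1] at this
  have Le0 : ∀ t : F, t • W.e 0 ∈ B0 φ H (W.e 0) := by
    intro t
    have := B0_shift hφφ hee t (B0_zero (φ := φ) (H := H) (e := W.e 0))
    rwa [zero_add] at this
  have Le' : ∀ i, i < m → ∀ t : F, t • W.e i ∈ B0 φ H (W.e 0) := by
    intro i hi t
    rcases Nat.eq_zero_or_pos i with h0 | h0
    · subst h0; exact Le0 t
    · have := Le (m - 1 - i) (by omega) t
      have e : m - 1 - (m - 1 - i) = i := by omega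
      rwa [e] at this
  -- everything orthogonal to `e 0`
  have hall : ∀ w, hdot φ w (W.e 0) = 0 → w ∈ B0 φ H (W.e 0) := by
    intro w hw
    rw [W.expand w]
    apply B0_sum hφφ hee
    intro i hi
    rw [Finset.mem_range] at hi
    apply B0_add hφφ hee (Le' i hi _)
    rcases Nat.eq_zero_or_pos i with h0 | h0
    · subst h0
      rw [hw, zero_smul]
      exact B0_zero
    · exact Lf i h0 hi _
  have htv : ∀ c : F, c + φ c = 0 → tv φ (W.e 0) c ∈ MS φ H := by
    apply tv_of_B0 hφφ hee (f2 := W.f 1) (e2 := W.e 1) _ _ hτ (Lf 1 le_rfl h1m)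
    · have := Le' 1 h1m 1
      rwa [one_smul] at this
    · rw [W.fe 1 1 h1m h1m, if_pos rfl]
    · rw [W.ef 1 1 h1m h1m, if_pos rfl]
  have hQe := sg_of_B0 hφφ hee hall htv
  -- a transvection along `f 0`
  have hpow : ∀ j, j < m → (gw ^ j) • W.e 0 = W.e j := by
    intro j
    induction j with
    | zero => intro _; rw [pow_zero, sug_smul_def, smat_one, Matrix.one_mulVec]
    | succ j ih =>
      intro hj
      rw [pow_succ', sug_mul_smul, ih (by omega), hwe j hj]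
  have hpowm : (gw ^ m) • W.e 0 = κ • W.f 0 := by
    obtain ⟨j, rfl⟩ : ∃ j, m = j + 1 := ⟨m - 1, by omega⟩
    rw [pow_succ', sug_mul_smul, hpow j (by omega)]
    exact hwe'
  have hκt : κ + φ κ = 0 := by rw [hκ]; ring
  have hL1 := MS_tv_conj (MS_of_mem (gw ^ m) (H.pow_mem hgwH m)) (W.e 0) κ (htv κ hκt)
  have e5 : smat φ (gw ^ m) *ᵥ W.e 0 = κ • W.f 0 := hpowm
  rw [e5, tv_smul_left] at hL1
  have hφκ : φ κ ≠ 0 := hφne κ hκ0
  apply finish hφφ hgen H (W.e 0) (W.f 0) hee hff hef hfe (-(κ * φ κ * κ))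
  · rw [map_neg, map_mul, map_mul, hφφ, hκ]
    ring
  · exact neg_ne_zero.2 (mul_ne_zero (mul_ne_zero hκ0 hφκ) hκ0)
  · rw [neg_neg]
    exact hL1
  · exact hQe

end Cfsg.Agent.Helper11.SU2G
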