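import Mathlib
import Cfsg.Agent.Lib.Helper11.SU2GEven

set_option autoImplicit false

/-! The Steinberg pair generates `SU_{2m+1}` (generic form), for S2412. -/

namespace Cfsg.Agent.Helper11.SU2G

open Matrix Cfsg.Agent.Helper11.Herm Cfsg.Agent.Helper12.SUgen

variable {F : Type*} [Field F] {ι : Type*} [Fintype ι] [DecidableEq ι] {φ : F →+* F}

/-- two elements agreeing on a Witt family are equal -/
theorem witt_ext_smul {m : ℕ} (W : Witt φ ι m) {g h : SUg ι φ}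
    (he : ∀ i, i < m → g • W.e i = h • W.e i) (hf : ∀ i, i < m → g • W.f i = h • W.f i)
    (hd : g • W.d = h • W.d) : g = h := by
  apply sug_ext
  rw [Matrix.ext_iff_mulVec]
  intro x
  exact W.span (LinearMap.eqLocus (Matrix.mulVecLin (smat φ g)) (Matrix.mulVecLin (smat φ h)))
    he hf hd x

/-- one Siegel element from `B0` and the centre -/
theorem sg_of_B0_one {H : Subgroup (SUg ι φ)} (hφφ : ∀ x, φ (φ x) = x) {e w : ι → F}
    (he : hdot φ e e = 0) (hw : w ∈ B0 φ H e)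
    (h3 : ∀ c : F, c + φ c = 0 → tv φ e c ∈ MS φ H) (s : F)
    (hs : s + φ s + hdot φ w w = 0) : sg φ e w s ∈ MS φ H := by
  obtain ⟨hwe, s', hs', hm'⟩ := hw
  have hew : hdot φ e w = 0 := hdot_eq_zero_symm φ hφφ _ _ hwe
  have : sg φ e w s = sg φ e w s' * tv φ e (s - s') := by
    rw [sg_mul_tv φ e w s' (s - s') he hew]
    congr 1
    ring
  rw [this]
  refine MS_mul hm' (h3 _ ?_)
  rw [map_sub]
  linear_combination hs - hs'

/-- **The Steinberg pair generates, odd dimension.** -/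
theorem gen_odd [Finite F] (hφφ : ∀ x, φ (φ x) = x)
    (hgen : ∀ M : Matrix ι ι F, IsU φ M → M.det = 1 → M ∈ TM φ)
    {m : ℕ} (hm : 2 ≤ m) (W : Witt φ ι m)
    (gh gw gx : SUg ι φ) (a : ℕ → F)
    (hhe : ∀ i, i < m → gh • W.e i = a i • W.e i)
    (hhf : ∀ i, i < m → gh • W.f i = (φ (a i))⁻¹ • W.f i)
    (hhd : gh • W.d = W.d)
    {κ : F} (hκ0 : κ ≠ 0) (hκ : φ κ = -κ)
    (hwe : ∀ i, i + 1 < m → gw • W.e i = W.e (i + 1)) (hwe' : gw • W.e (m - 1) = κ • W.f 0)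
    (hwf : ∀ i, i + 1 < m → gw • W.f i = W.f (i + 1))
    (hwf' : gw • W.f (m - 1) = (-κ⁻¹) • W.e 0)
    (hwd : gw • W.d = W.d)
    {s0 : F} (hs0 : s0 + φ s0 + 1 = 0)
    (hgx : smat φ gx = sg φ (W.e 0) W.d s0)
    (hlam1 : φ (a 0) ≠ 1) (hc1 : a (m - 1) ≠ 1)
    (hclos : ∀ A : AddSubgroup F, (∀ c ∈ A, φ (a 0) * 1 * c ∈ A) →
      ∀ c₀ ∈ A, c₀ ≠ 0 → A = ⊤)
    (H : Subgroup (SUg ι φ)) (h1 : gh ∈ H) (h2 : gx * gw ∈ H) : H = ⊤ := by
  have h0m : 0 < m := by omega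
  have h1m : 1 < m := by omega
  have hm1 : m - 1 < m := by omega
  have hφne : ∀ x : F, x ≠ 0 → φ x ≠ 0 := fun x hx h => hx (by rw [← hφφ x, h, map_zero])
  have hφκ : φ κ ≠ 0 := hφne κ hκ0
  have hee := W.ee 0 0 h0m h0m
  have hff := W.ff 0 0 h0m h0m
  have hef : hdot φ (W.e 0) (W.f 0) = 1 := by rw [W.ef 0 0 h0m h0m, if_pos rfl]
  have hfe : hdot φ (W.f 0) (W.e 0) = 1 := by rw [W.fe 0 0 h0m h0m, if_pos rfl]
  have hde0 : hdot φ W.d (W.e 0) = 0 := W.de 0 h0m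
  have hτ : (-s0) + φ (-s0) = 1 := by rw [map_neg]; linear_combination -hs0
  -- the conjugate torus element
  set gp := gw * gh * gw⁻¹ with hgp
  have hκi : (-κ⁻¹ : F) ≠ 0 := neg_ne_zero.2 (inv_ne_zero hκ0)
  have hhd1 : gh • W.d = (1 : F) • W.d := by rw [one_smul]; exact hhd
  have hwd1 : gw • W.d = (1 : F) • W.d := by rw [one_smul]; exact hwd
  have gpe : ∀ i, i + 1 < m → gp • W.e (i + 1) = a i • W.e (i + 1) := by
    intro i hi
    exact conj_eig gw gh one_ne_zero (by rw [one_smul]; exact hwe i hi) (hhe i (by omega))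
  have gpf : ∀ i, i + 1 < m → gp • W.f (i + 1) = (φ (a i))⁻¹ • W.f (i + 1) := by
    intro i hi
    exact conj_eig gw gh one_ne_zero (by rw [one_smul]; exact hwf i hi) (hhf i (by omega))
  have gpf0 : gp • W.f 0 = a (m - 1) • W.f 0 := conj_eig gw gh hκ0 hwe' (hhe (m - 1) hm1)
  have gpe0 : gp • W.e 0 = (φ (a (m - 1)))⁻¹ • W.e 0 := conj_eig gw gh hκi hwf' (hhf (m - 1) hm1)
  have gpd : gp • W.d = (1 : F) • W.d := conj_eig gw gh one_ne_zero hwd1 hhd1
  -- commutation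
  have hcomm : gh * gp = gp * gh := by
    apply witt_ext_smul W
    · intro i hi
      rcases Nat.eq_zero_or_pos i with h0 | h0
      · subst h0
        exact comm_eig gh gp (hhe 0 hi) gpe0
      · obtain ⟨j, rfl⟩ : ∃ j, i = j + 1 := ⟨i - 1, by omega⟩
        exact comm_eig gh gp (hhe (j + 1) hi) (gpe j hi)
    · intro i hi
      rcases Nat.eq_zero_or_pos i with h0 | h0
      · subst h0
        exact comm_eig gh gp (hhf 0 hi) gpf0
      · obtain ⟨j, rfl⟩ : ∃ j, i = j + 1 := ⟨i - 1, by omega⟩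
        exact comm_eig gh gp (hhf (j + 1) hi) (gpf j hi)
    · exact comm_eig gh gp hhd1 gpd
  -- extraction
  obtain ⟨s, -, hmem⟩ := extract (H := H) hφφ hee hde0
    (by rw [W.dd]; exact hs0) gh gw gx hgx hcomm (hhe 0 h0m) hhd1 gpe0 gpd h1 h2
  have ht1 : (φ (a 0) * 1 - 1) * (1 - φ (φ (a (m - 1)))⁻¹ * 1) ≠ 0 := by
    apply mul_ne_zero
    · rw [mul_one]; exact sub_ne_zero.2 hlam1
    · rw [mul_one, map_inv₀, hφφ]
      intro h
      apply hc1
      have h3 : (a (m - 1))⁻¹ = 1 := by linear_combination -h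
      exact inv_eq_one.1 h3
  have hd1 : ((φ (a 0) * 1 - 1) * (1 - φ (φ (a (m - 1)))⁻¹ * 1)) • W.d ∈ B0 φ H (W.e 0) :=
    B0_of_mem hφφ (W.e 0) (W.f 0) _ s hee hfe (by rw [hdot_smul_left, hde0, mul_zero]) hmem
  have Ld : ∀ t : F, t • W.d ∈ B0 φ H (W.e 0) :=
    fill_B0 hφφ hee gh h1 (hhe 0 h0m) hhd1 hclos ht1 hd1
  have htv : ∀ c : F, c + φ c = 0 → tv φ (W.e 0) c ∈ MS φ H := by
    apply tv_of_B0 hφφ hee (f2 := W.d) (e2 := W.d) W.dd W.dd hτ Ld
    have := Ld 1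
    rwa [one_smul] at this
  -- the root groups
  have hX0 : ∀ t s : F, s + φ s + hdot φ (t • W.d) (t • W.d) = 0 →
      sg φ (W.e 0) (t • W.d) s ∈ MS φ H :=
    fun t s hs => sg_of_B0_one hφφ hee (Ld t) htv s hs
  have hcond1 : s0 + φ s0 + hdot φ ((1 : F) • W.d) ((1 : F) • W.d) = 0 := by
    rw [one_smul, W.dd]; exact hs0
  have hgxH : gx ∈ H := by
    apply mem_of_smat_mem
    rw [hgx]
    have := hX0 1 s0 hcond1
    rwa [one_smul] at this
  have hgwH : gw ∈ H := by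
    have : gw = gx⁻¹ * (gx * gw) := by group
    rw [this]
    exact H.mul_mem (H.inv_mem hgxH) h2
  have hwM : smat φ gw ∈ MS φ H := MS_of_mem gw hgwH
  have e_d : smat φ gw *ᵥ W.d = W.d := hwd
  have hXe : ∀ j, j < m → ∀ t s : F, s + φ s + hdot φ (t • W.d) (t • W.d) = 0 →
      sg φ (W.e j) (t • W.d) s ∈ MS φ H := by
    intro j
    induction j with
    | zero => intro _; exact hX0
    | succ j ih =>
      intro hj t s hs
      have := MS_sg_conj hwM _ _ _ (ih (by omega) t s hs)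
      rw [Matrix.mulVec_smul, e_d] at this
      have e1 : smat φ gw *ᵥ W.e j = W.e (j + 1) := hwe j hj
      rwa [e1] at this
  have hXf0 : ∀ t s : F, s + φ s + hdot φ (t • W.d) (t • W.d) = 0 →
      sg φ (W.f 0) (t • W.d) s ∈ MS φ H := by
    intro t s hs
    have hc : (κ * φ κ)⁻¹ * s + φ ((κ * φ κ)⁻¹ * s) +
        hdot φ (((φ κ)⁻¹ * t) • W.d) (((φ κ)⁻¹ * t) • W.d) = 0 := by
      rw [hdot_smul_left, hdot_smul_right, W.dd] at hs ⊢
      have hK : φ ((κ * φ κ)⁻¹) = (κ * φ κ)⁻¹ := by rw [map_inv₀, map_mul, hφφ, mul_comm]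
      have hT : (φ κ)⁻¹ * φ ((φ κ)⁻¹) = (κ * φ κ)⁻¹ := by
        rw [map_inv₀, hφφ, ← mul_inv, mul_comm]
      rw [map_mul, hK, map_mul]
      linear_combination (κ * φ κ)⁻¹ * hs + (t * φ t) * hT
    have := MS_sg_conj hwM _ _ _ (hXe (m - 1) hm1 ((φ κ)⁻¹ * t) ((κ * φ κ)⁻¹ * s) hc)
    rw [Matrix.mulVec_smul, e_d] at this
    have e1 : smat φ gw *ᵥ W.e (m - 1) = κ • W.f 0 := hwe'
    rw [e1, sg_scale φ hφφ, smul_smul] at this
    have e2 : φ κ * ((φ κ)⁻¹ * t) = t := by field_simp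
    have e3 : κ * φ κ * ((κ * φ κ)⁻¹ * s) = s := by field_simp
    rwa [e2, e3] at this
  have hXf : ∀ j, j < m → ∀ t s : F, s + φ s + hdot φ (t • W.d) (t • W.d) = 0 →
      sg φ (W.f j) (t • W.d) s ∈ MS φ H := by
    intro j
    induction j with
    | zero => intro _; exact hXf0
    | succ j ih =>
      intro hj t s hs
      have := MS_sg_conj hwM _ _ _ (ih (by omega) t s hs)
      rw [Matrix.mulVec_smul, e_d] at this
      have e1 : smat φ gw *ᵥ W.f j = W.f (j + 1) := hwf j hj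
      rwa [e1] at this
  -- lines in `B0`
  have Le0 : ∀ t : F, t • W.e 0 ∈ B0 φ H (W.e 0) := by
    intro t
    have := B0_shift hφφ hee t (B0_zero (φ := φ) (H := H) (e := W.e 0))
    rwa [zero_add] at this
  have Le : ∀ j, 1 ≤ j → j < m → ∀ t : F, t • W.e j ∈ B0 φ H (W.e 0) := by
    intro j hj1 hj t
    have hM := hXe j hj 1 s0 hcond1
    rw [one_smul] at hM
    have hMe : sg φ (W.e j) W.d s0 *ᵥ W.e 0 = W.e 0 := by
      apply sg_fix
      · exact W.ee 0 j h0m hj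
      · exact W.ed 0 h0m
    have := B0_act_sub hφφ hee hM hMe (Ld (-t))
    have e1 : sg φ (W.e j) W.d s0 *ᵥ (-t • W.d) - -t • W.d = t • W.e j := by
      rw [sg_mulVec, hdot_smul_left, hdot_smul_left, W.de j hj, W.dd]
      module
    rwa [e1] at this
  have Lf : ∀ j, 1 ≤ j → j < m → ∀ t : F, t • W.f j ∈ B0 φ H (W.e 0) := by
    intro j hj1 hj t
    have hM := hXf j hj 1 s0 hcond1
    rw [one_smul] at hM
    have hMe : sg φ (W.f j) W.d s0 *ᵥ W.e 0 = W.e 0 := by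
      apply sg_fix
      · rw [W.ef 0 j h0m hj, if_neg (by omega)]
      · exact W.ed 0 h0m
    have := B0_act_sub hφφ hee hM hMe (Ld (-t))
    have e1 : sg φ (W.f j) W.d s0 *ᵥ (-t • W.d) - -t • W.d = t • W.f j := by
      rw [sg_mulVec, hdot_smul_left, hdot_smul_left, W.df j hj, W.dd]
      module
    rwa [e1] at this
  have Le' : ∀ i, i < m → ∀ t : F, t • W.e i ∈ B0 φ H (W.e 0) := by
    intro i hi t
    rcases Nat.eq_zero_or_pos i with h0 | h0
    · subst h0; exact Le0 t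
    · exact Le i h0 hi t
  -- everything orthogonal to `e 0`
  have hall : ∀ w, hdot φ w (W.e 0) = 0 → w ∈ B0 φ H (W.e 0) := by
    intro w hw
    rw [W.expand w]
    apply B0_add hφφ hee _ (Ld _)
    apply B0_sum hφφ hee
    intro i hi
    rw [Finset.mem_range] at hi
    apply B0_add hφφ hee (Le' i hi _)
    rcases Nat.eq_zero_or_pos i with h0 | h0
    · subst h0
      rw [hw, zero_smul]
      exact B0_zero
    · exact Lf i h0 hi _
  have hQe := sg_of_B0 hφφ hee hall htv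
  -- a transvection along `f 0`
  have hpow : ∀ j, j < m → (gw ^ j) • W.e 0 = W.e j := by
    intro j
    induction j with
    | zero => intro _; rw [pow_zero, sug_smul_def, smat_one, Matrix.one_mulVec]
    | succ j ih =>
      intro hj
      rw [pow_succ', sug_mul_smul, ih (by omega), hwe j hj]
  have hpowm : (gw ^ m) • W.e 0 = κ • W.f 0 := by
    obtain ⟨j, rfl⟩ : ∃ j, m = j + 1 := ⟨m - 1, by omega⟩
    rw [pow_succ', sug_mul_smul, hpow j (by omega)]
    exact hwe'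
  have hκt : κ + φ κ = 0 := by rw [hκ]; ring
  have hL1 := MS_tv_conj (MS_of_mem (gw ^ m) (H.pow_mem hgwH m)) (W.e 0) κ (htv κ hκt)
  have e5 : smat φ (gw ^ m) *ᵥ W.e 0 = κ • W.f 0 := hpowm
  rw [e5, tv_smul_left] at hL1
  apply finish hφφ hgen H (W.e 0) (W.f 0) hee hff hef hfe (-(κ * φ κ * κ))
  · rw [map_neg, map_mul, map_mul, hφφ, hκ]
    ring
  · exact neg_ne_zero.2 (mul_ne_zero (mul_ne_zero hκ0 hφκ) hκ0)
  · rw [neg_neg]
    exact hL1
  · exact hQe

end Cfsg.Agent.Helper11.SU2G
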