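import Mathlib
import Cfsg.Agent.Lib.Helper11.SU2GOdd

set_option autoImplicit false

/-! Families of hyperbolic pairs; the torus element and the Coxeter element of the Steinberg pair
(for S2412). -/

namespace Cfsg.Agent.Helper11.SU2G

open Matrix Cfsg.Agent.Helper11.Herm Cfsg.Agent.Helper12.SUgen

variable {F : Type*} [Field F] {ι : Type*} [Fintype ι] [DecidableEq ι]

/-- `m` pairwise orthogonal hyperbolic pairs -/
structure Fam (φ : F →+* F) (ι : Type*) [Fintype ι] [DecidableEq ι] (m : ℕ) where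
  e : ℕ → ι → F
  f : ℕ → ι → F
  ee : ∀ i j, i < m → j < m → hdot φ (e i) (e j) = 0
  ff : ∀ i j, i < m → j < m → hdot φ (f i) (f j) = 0
  ef : ∀ i j, i < m → j < m → hdot φ (e i) (f j) = if i = j then 1 else 0
  fe : ∀ i j, i < m → j < m → hdot φ (f i) (e j) = if i = j then 1 else 0

variable {φ : F →+* F} {m : ℕ}

/-- the family of a Witt family (even dimension) -/
def WittE.fam (W : WittE φ ι m) : Fam φ ι m := ⟨W.e, W.f, W.ee, W.ff, W.ef, W.fe⟩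

/-- the family of a Witt family (odd dimension) -/
def wittFam (W : Witt φ ι m) : Fam φ ι m := ⟨W.e, W.f, W.ee, W.ff, W.ef, W.fe⟩

/-- the eigenvalues of the torus element -/
def aCo (m : ℕ) (k : F) (i : ℕ) : F := if i = 0 then k else if i = m - 1 then k⁻¹ else 1

variable (P : Fam φ ι m)

/-- the torus element of the Steinberg pair -/
def torus2 (k : F) : Matrix ι ι F :=
  torusEl φ (P.e 0) (P.f 0) k * torusEl φ (P.e (m - 1)) (P.f (m - 1)) k⁻¹

/-- the Coxeter element of the Steinberg pair -/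
def cox (κ : F) (A : Matrix ι ι F) : Matrix ι ι F := weylEl φ (P.e 0) (P.f 0) κ * A

section torus

variable (hφφ : ∀ x, φ (φ x) = x) (hm : 2 ≤ m) {k : F} (hk : k ≠ 0)

include hφφ hm hk in
theorem isU_torus2 : IsU φ (torus2 P k) := by
  have h0m : 0 < m := by omega
  have hm1 : m - 1 < m := by omega
  apply IsU.mul
  · exact isU_torusEl (P.ee 0 0 h0m h0m) (P.ff 0 0 h0m h0m)
      (by rw [P.ef 0 0 h0m h0m, if_pos rfl]) (by rw [P.fe 0 0 h0m h0m, if_pos rfl]) hφφ hk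
  · exact isU_torusEl (P.ee _ _ hm1 hm1) (P.ff _ _ hm1 hm1)
      (by rw [P.ef _ _ hm1 hm1, if_pos rfl]) (by rw [P.fe _ _ hm1 hm1, if_pos rfl]) hφφ
      (inv_ne_zero hk)

include hφφ hm hk in
theorem det_torus2 : (torus2 P k).det = 1 := by
  have h0m : 0 < m := by omega
  have hm1 : m - 1 < m := by omega
  have hφk : φ k ≠ 0 := fun h => hk (by rw [← hφφ k, h, map_zero])
  unfold torus2
  rw [Matrix.det_mul, det_torusEl (P.ee 0 0 h0m h0m) (P.ff 0 0 h0m h0m)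
      (by rw [P.ef 0 0 h0m h0m, if_pos rfl]) (by rw [P.fe 0 0 h0m h0m, if_pos rfl]),
    det_torusEl (P.ee _ _ hm1 hm1) (P.ff _ _ hm1 hm1)
      (by rw [P.ef _ _ hm1 hm1, if_pos rfl]) (by rw [P.fe _ _ hm1 hm1, if_pos rfl]), map_inv₀]
  field_simp

include hm in
theorem torus2_e (k : F) (i : ℕ) (hi : i < m) : torus2 P k *ᵥ P.e i = aCo m k i • P.e i := by
  have h0m : 0 < m := by omega
  have hm1 : m - 1 < m := by omega
  unfold torus2 aCo
  rw [← Matrix.mulVec_mulVec]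
  by_cases h0 : i = 0
  · subst h0
    rw [if_pos rfl, torusEl_fix (φ := φ) k⁻¹ (P.ee 0 _ h0m hm1)
      (by rw [P.ef 0 _ h0m hm1, if_neg (by omega)])]
    exact torusEl_e (P.ee 0 0 h0m h0m) (P.ff 0 0 h0m h0m)
      (by rw [P.ef 0 0 h0m h0m, if_pos rfl]) (by rw [P.fe 0 0 h0m h0m, if_pos rfl]) k
  · rw [if_neg h0]
    by_cases h1 : i = m - 1
    · subst h1
      rw [if_pos rfl, torusEl_e (P.ee _ _ hm1 hm1) (P.ff _ _ hm1 hm1)
        (by rw [P.ef _ _ hm1 hm1, if_pos rfl]) (by rw [P.fe _ _ hm1 hm1, if_pos rfl]),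
        Matrix.mulVec_smul, torusEl_fix (φ := φ) k (P.ee _ 0 hm1 h0m)
          (by rw [P.ef _ 0 hm1 h0m, if_neg h0])]
    · rw [if_neg h1, one_smul, torusEl_fix (φ := φ) k⁻¹ (P.ee i _ hi hm1)
        (by rw [P.ef i _ hi hm1, if_neg h1]), torusEl_fix (φ := φ) k (P.ee i 0 hi h0m)
        (by rw [P.ef i 0 hi h0m, if_neg h0])]

include hm in
theorem torus2_f (k : F) (i : ℕ) (hi : i < m) :
    torus2 P k *ᵥ P.f i = (φ (aCo m k i))⁻¹ • P.f i := by
  have h0m : 0 < m := by omega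
  have hm1 : m - 1 < m := by omega
  unfold torus2 aCo
  rw [← Matrix.mulVec_mulVec]
  by_cases h0 : i = 0
  · subst h0
    rw [if_pos rfl, torusEl_fix (φ := φ) k⁻¹ (by rw [P.fe 0 _ h0m hm1, if_neg (by omega)])
      (P.ff 0 _ h0m hm1)]
    exact torusEl_f (P.ee 0 0 h0m h0m) (P.ff 0 0 h0m h0m)
      (by rw [P.ef 0 0 h0m h0m, if_pos rfl]) (by rw [P.fe 0 0 h0m h0m, if_pos rfl]) k
  · rw [if_neg h0]
    by_cases h1 : i = m - 1
    · subst h1
      rw [if_pos rfl, torusEl_f (P.ee _ _ hm1 hm1) (P.ff _ _ hm1 hm1)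
        (by rw [P.ef _ _ hm1 hm1, if_pos rfl]) (by rw [P.fe _ _ hm1 hm1, if_pos rfl]),
        Matrix.mulVec_smul, torusEl_fix (φ := φ) k (by rw [P.fe _ 0 hm1 h0m, if_neg h0])
          (P.ff _ 0 hm1 h0m)]
    · rw [if_neg h1, map_one, inv_one, one_smul,
        torusEl_fix (φ := φ) k⁻¹ (by rw [P.fe i _ hi hm1, if_neg h1]) (P.ff i _ hi hm1),
        torusEl_fix (φ := φ) k (by rw [P.fe i 0 hi h0m, if_neg h0]) (P.ff i 0 hi h0m)]

include hm in
theorem torus2_fix (k : F) (x : ι → F) (h1 : ∀ i, i < m → hdot φ x (P.e i) = 0)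
    (h2 : ∀ i, i < m → hdot φ x (P.f i) = 0) : torus2 P k *ᵥ x = x := by
  have h0m : 0 < m := by omega
  have hm1 : m - 1 < m := by omega
  unfold torus2
  rw [← Matrix.mulVec_mulVec, torusEl_fix (φ := φ) k⁻¹ (h1 _ hm1) (h2 _ hm1),
    torusEl_fix (φ := φ) k (h1 _ h0m) (h2 _ h0m)]

end torus

section coxeter

variable (hφφ : ∀ x, φ (φ x) = x) (hm : 2 ≤ m) {κ : F} (hκ0 : κ ≠ 0) (hκ : φ κ = -κ)
variable {A : Matrix ι ι F}

include hφφ hm hκ0 hκ in
theorem isU_cox (hA : IsU φ A) : IsU φ (cox P κ A) := by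
  have h0m : 0 < m := by omega
  refine IsU.mul φ ?_ hA
  exact isU_weylEl (P.ee 0 0 h0m h0m) (P.ff 0 0 h0m h0m)
      (by rw [P.ef 0 0 h0m h0m, if_pos rfl]) (by rw [P.fe 0 0 h0m h0m, if_pos rfl]) hφφ hκ0 hκ

include hm hκ0 in
theorem det_cox (hA : A.det = 1) : (cox P κ A).det = 1 := by
  have h0m : 0 < m := by omega
  unfold cox
  rw [Matrix.det_mul, hA, mul_one]
  exact det_weylEl (P.ee 0 0 h0m h0m) (P.ff 0 0 h0m h0m)
      (by rw [P.ef 0 0 h0m h0m, if_pos rfl]) (by rw [P.fe 0 0 h0m h0m, if_pos rfl]) hκ0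

include hm in
theorem cox_e (κ : F) (hAe : ∀ i, i + 1 < m → A *ᵥ P.e i = P.e (i + 1)) (i : ℕ) (hi : i + 1 < m) :
    cox P κ A *ᵥ P.e i = P.e (i + 1) := by
  have h0m : 0 < m := by omega
  unfold cox
  rw [← Matrix.mulVec_mulVec, hAe i hi]
  exact weylEl_fix κ (P.ee _ 0 hi h0m) (by rw [P.ef _ 0 hi h0m, if_neg (by omega)])

include hm in
theorem cox_f (κ : F) (hAf : ∀ i, i + 1 < m → A *ᵥ P.f i = P.f (i + 1)) (i : ℕ) (hi : i + 1 < m) :
    cox P κ A *ᵥ P.f i = P.f (i + 1) := by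
  have h0m : 0 < m := by omega
  unfold cox
  rw [← Matrix.mulVec_mulVec, hAf i hi]
  exact weylEl_fix κ (by rw [P.fe _ 0 hi h0m, if_neg (by omega)]) (P.ff _ 0 hi h0m)

include hm in
theorem cox_e_last (κ : F) (hAe : A *ᵥ P.e (m - 1) = P.e 0) :
    cox P κ A *ᵥ P.e (m - 1) = κ • P.f 0 := by
  have h0m : 0 < m := by omega
  unfold cox
  rw [← Matrix.mulVec_mulVec, hAe]
  exact weylEl_e (P.ee 0 0 h0m h0m) (P.ff 0 0 h0m h0m)
      (by rw [P.ef 0 0 h0m h0m, if_pos rfl]) (by rw [P.fe 0 0 h0m h0m, if_pos rfl]) κ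

include hm in
theorem cox_f_last (κ : F) (hAf : A *ᵥ P.f (m - 1) = P.f 0) :
    cox P κ A *ᵥ P.f (m - 1) = (-κ⁻¹) • P.e 0 := by
  have h0m : 0 < m := by omega
  unfold cox
  rw [← Matrix.mulVec_mulVec, hAf]
  exact weylEl_f (P.ee 0 0 h0m h0m) (P.ff 0 0 h0m h0m)
      (by rw [P.ef 0 0 h0m h0m, if_pos rfl]) (by rw [P.fe 0 0 h0m h0m, if_pos rfl]) κ

theorem cox_fix (κ : F) {x : ι → F} (hAx : A *ᵥ x = x) (h1 : hdot φ x (P.e 0) = 0)
    (h2 : hdot φ x (P.f 0) = 0) : cox P κ A *ᵥ x = x := by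
  unfold cox
  rw [← Matrix.mulVec_mulVec, hAx]
  exact weylEl_fix κ h1 h2

end coxeter

end Cfsg.Agent.Helper11.SU2G
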