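import Mathlib
import Cfsg.Agent.Lib.Helper11.RankOne
import Cfsg.Agent.Lib.Helper11.UnitarySiegel

set_option autoImplicit false

/-! Involutions of unitary groups in characteristic two. -/

namespace Cfsg.Agent.Helper11.Herm

open Matrix

section invof

variable {F : Type*} [Field F] {ι : Type*} [Fintype ι] [DecidableEq ι] (φ : F →+* F)

/-- `1 + Σ y_i ⊗ φ(y_i)` -/
def invOf {k : ℕ} (y : Fin k → ι → F) : Matrix ι ι F :=
  1 + ∑ i, Matrix.vecMulVec (y i) (φ ∘ y i)

theorem invOf_mulVec {k : ℕ} (y : Fin k → ι → F) (x : ι → F) :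
    invOf φ y *ᵥ x = x + ∑ i, hdot φ x (y i) • y i := by
  unfold invOf
  rw [Matrix.add_mulVec, Matrix.one_mulVec, Matrix.sum_mulVec]
  congr 1
  apply Finset.sum_congr rfl
  intro i _
  rw [vecMulVec_mulVec']

theorem isU_mul_vecMulVec {M : Matrix ι ι F} (hM : IsU φ M) (v : ι → F) :
    M * Matrix.vecMulVec v (φ ∘ v) = Matrix.vecMulVec (M *ᵥ v) (φ ∘ (M *ᵥ v)) * M := by
  have h := isU_mul_tv φ hM v 1
  unfold tv at h
  rw [one_smul, one_smul, Matrix.mul_add, Matrix.add_mul, Matrix.mul_one, Matrix.one_mul] at h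
  exact add_left_cancel h

theorem isU_mul_invOf {M : Matrix ι ι F} (hM : IsU φ M) {k : ℕ} (y : Fin k → ι → F) :
    M * invOf φ y = invOf φ (fun i => M *ᵥ y i) * M := by
  unfold invOf
  rw [Matrix.mul_add, Matrix.add_mul, Matrix.mul_one, Matrix.one_mul, Finset.mul_sum,
    Finset.sum_mul]
  congr 1
  apply Finset.sum_congr rfl
  intro i _
  exact isU_mul_vecMulVec φ hM (y i)

theorem eq_zero_of_hdot_left (hφφ : ∀ x, φ (φ x) = x) (w : ι → F) (h : ∀ v, hdot φ v w = 0) :
    w = 0 := by
  apply eq_zero_of_hdot_right φ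
  intro v
  exact hdot_eq_zero_symm φ hφφ _ _ (h v)

end invof

section decomp

variable {F : Type*} [Field F] {ι : Type*} [Fintype ι] [DecidableEq ι] (φ : F →+* F)

theorem rank_lt_of_ker_lt (A B : Matrix ι ι F)
    (hle : ∀ v, A *ᵥ v = 0 → B *ᵥ v = 0) (x : ι → F) (hxB : B *ᵥ x = 0) (hxA : A *ᵥ x ≠ 0) :
    B.rank < A.rank := by
  have hA := LinearMap.finrank_range_add_finrank_ker A.mulVecLin
  have hB := LinearMap.finrank_range_add_finrank_ker B.mulVecLin
  have hlt : LinearMap.ker A.mulVecLin < LinearMap.ker B.mulVecLin := by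
    apply lt_of_le_of_ne
    · intro v hv
      rw [LinearMap.mem_ker, Matrix.mulVecLin_apply] at hv ⊢
      exact hle v hv
    · intro h
      have : x ∈ LinearMap.ker A.mulVecLin := by
        rw [h, LinearMap.mem_ker, Matrix.mulVecLin_apply]
        exact hxB
      rw [LinearMap.mem_ker, Matrix.mulVecLin_apply] at this
      exact hxA this
  have := Submodule.finrank_lt_finrank_of_lt hlt
  unfold Matrix.rank
  omega

/-- every unitary involution in characteristic two is `1 + Σ y_i ⊗ φ(y_i)` for a linearly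
independent family of mutually orthogonal isotropic vectors -/
theorem exists_invOf_of_involution (hφφ : ∀ x, φ (φ x) = x)
    (hN1 : ∀ c : F, c ≠ 0 → φ c = c → ∃ l : F, l ≠ 0 ∧ l * φ l = c)
    (hN2 : ∃ μ : F, μ + φ μ ≠ 0) (h2 : (2 : F) = 0) :
    ∀ (r : ℕ) (M : Matrix ι ι F), (M - 1).rank = r → IsU φ M → M * M = 1 →
      ∃ (k : ℕ) (y : Fin k → ι → F), LinearIndependent F y ∧
        (∀ i j, hdot φ (y i) (y j) = 0) ∧ M = invOf φ y := by
  intro r
  induction r using Nat.strong_induction_on with
  | _ r ih =>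
    intro M hrk hM hMM
    by_cases hM1 : M = 1
    · refine ⟨0, fun i => i.elim0, linearIndependent_empty_type, fun i => i.elim0, ?_⟩
      rw [hM1]
      simp [invOf]
    have h11 : (1 : F) + 1 = 0 := by rw [one_add_one_eq_two, h2]
    have hxx : ∀ x : ι → F, x + x = 0 := by
      intro x
      rw [← two_smul F x, h2, zero_smul]
    have hMMv : ∀ v, M *ᵥ (M *ᵥ v) = v := by
      intro v
      rw [Matrix.mulVec_mulVec, hMM, Matrix.one_mulVec]
    -- self-adjointness
    have hsa : ∀ u v, hdot φ (M *ᵥ u) v = hdot φ u (M *ᵥ v) := by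
      intro u v
      rw [← hM.hdot_mulVec φ u (M *ᵥ v), hMMv]
    obtain ⟨β, hβ⟩ : ∃ β : (ι → F) → (ι → F) → F, β = fun u v => hdot φ (M *ᵥ u - u) v := ⟨_, rfl⟩
    have hβdef : ∀ u v, β u v = hdot φ (M *ᵥ u - u) v := fun u v => by rw [hβ]
    have hβsa : ∀ u v, β u v = hdot φ u (M *ᵥ v - v) := by
      intro u v
      rw [hβdef, hdot_sub_left, hdot_sub_right, hsa]
    have hβherm : ∀ u v, φ (β u v) = β v u := by
      intro u v
      rw [hβdef, hdot_conj φ hφφ, ← hβsa]
    have hβadd : ∀ (l : F) (u v w : ι → F), β (l • u + v) w = l * β u w + β v w := by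
      intro l u v w
      rw [hβdef, hβdef, hβdef, Matrix.mulVec_add, Matrix.mulVec_smul]
      simp only [hdot_sub_left, hdot_add_left, hdot_smul_left]
      ring
    have hβaddr : ∀ (l : F) (u v w : ι → F), β w (l • u + v) = φ l * β w u + β w v := by
      intro l u v w
      rw [hβdef, hβdef, hβdef]
      simp only [hdot_add_right, hdot_smul_right]
    -- N N = 0
    have hNN : ∀ v, M *ᵥ (M *ᵥ v - v) - (M *ᵥ v - v) = 0 := by
      intro v
      rw [Matrix.mulVec_sub, hMMv]
      have := hxx (M *ᵥ v)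
      have h3 : v - M *ᵥ v - (M *ᵥ v - v) = (v + v) - (M *ᵥ v + M *ᵥ v) := by abel
      rw [h3, hxx, hxx, sub_zero]
    -- a vector with β x x ≠ 0
    obtain ⟨x, hx⟩ : ∃ x, β x x ≠ 0 := by
      by_contra hall
      push Not at hall
      obtain ⟨u, hu⟩ : ∃ u, M *ᵥ u - u ≠ 0 := by
        by_contra hcon
        push Not at hcon
        apply hM1
        rw [Matrix.ext_iff_mulVec]
        intro v
        rw [Matrix.one_mulVec]
        exact sub_eq_zero.1 (hcon v)
      obtain ⟨v, hv⟩ : ∃ v, hdot φ (M *ᵥ u - u) v ≠ 0 := by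
        by_contra hcon
        push Not at hcon
        exact hu (eq_zero_of_hdot_right φ _ hcon)
      obtain ⟨b, hb⟩ : ∃ b, b = β u v := ⟨_, rfl⟩
      have hb0 : b ≠ 0 := by
        rw [hb, hβdef]
        exact hv
      obtain ⟨μ, hμ⟩ := hN2
      apply hμ
      have h3 := hall ((μ / b) • u + v)
      rw [hβadd, hβaddr, hβaddr, hall u, hall v, ← hβherm u v, ← hb] at h3
      have h4 : μ / b * b = μ := by field_simp
      have h5 : φ (μ / b) * φ b = φ μ := by rw [← map_mul, h4]
      linear_combination h3 - h4 - h5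
    -- normalise
    have hφβ : φ (β x x) = β x x := hβherm x x
    obtain ⟨c, hc0, hc⟩ := hN1 (β x x)⁻¹ (inv_ne_zero hx) (by rw [map_inv₀, hφβ])
    obtain ⟨x1, hx1⟩ : ∃ x1, x1 = c • x := ⟨_, rfl⟩
    have hβx1 : β x1 x1 = 1 := by
      have h0 : ∀ w, β 0 w = 0 := by
        intro w
        rw [hβdef, Matrix.mulVec_zero, sub_zero, hdot_zero_left]
      have h0' : ∀ w, β w 0 = 0 := by
        intro w
        rw [hβdef, hdot_zero_right]
      have h3 : β (c • x) (c • x) = c * β x (c • x) := by
        have := hβadd c x 0 (c • x)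
        rw [add_zero, h0, add_zero] at this
        exact this
      have h4 : β x (c • x) = φ c * β x x := by
        have := hβaddr c x 0 x
        rw [add_zero, h0', add_zero] at this
        exact this
      rw [hx1, h3, h4, ← mul_assoc, hc]
      exact inv_mul_cancel₀ hx
    obtain ⟨y, hy⟩ : ∃ y, y = M *ᵥ x1 - x1 := ⟨_, rfl⟩
    have hyx1 : hdot φ y x1 = 1 := by rw [hy, ← hβdef, hβx1]
    have hx1y : hdot φ x1 y = 1 := by rw [← hdot_conj φ hφφ y x1, hyx1, map_one]
    have hMy : M *ᵥ y = y := by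
      have := hNN x1
      rw [← hy] at this
      exact sub_eq_zero.1 this
    have hβy : ∀ v, hdot φ (M *ᵥ v - v) y = 0 := by
      intro v
      rw [← hβdef, hβsa, hMy, sub_self, hdot_zero_right]
    have hyy : hdot φ y y = 0 := by
      have := hβy x1
      rw [← hy] at this
      exact this
    have hvy : ∀ v, hdot φ (M *ᵥ v) y = hdot φ v y := by
      intro v
      rw [hsa, hMy]
    have hfix : ∀ v, M *ᵥ v = v → hdot φ v y = 0 := by
      intro v hv
      rw [hy, ← hβsa, hβdef, hv, sub_self, hdot_zero_left]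
    -- the new involution
    have hT : IsU φ (tv φ y 1) := isU_tv φ hφφ y 1 (by
      rw [hyy, mul_zero, add_zero, map_one]
      exact h11)
    have hTT : tv φ y 1 * tv φ y 1 = 1 := by rw [tv_mul_tv φ y hyy, h11, tv_zero_right]
    have hcomm : M * tv φ y 1 = tv φ y 1 * M := by rw [isU_mul_tv φ hM, hMy]
    obtain ⟨M', hM'⟩ : ∃ M', M' = tv φ y 1 * M := ⟨_, rfl⟩
    have hM'U : IsU φ M' := by
      rw [hM']
      exact hT.mul φ hM
    have hM'M' : M' * M' = 1 := by
      rw [hM']
      calc tv φ y 1 * M * (tv φ y 1 * M) = tv φ y 1 * (M * tv φ y 1) * M := by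
            simp only [Matrix.mul_assoc]
        _ = tv φ y 1 * tv φ y 1 * (M * M) := by
            rw [hcomm]
            simp only [Matrix.mul_assoc]
        _ = 1 := by rw [hTT, hMM, Matrix.one_mul]
    have hM'v : ∀ v, M' *ᵥ v = M *ᵥ v + hdot φ v y • y := by
      intro v
      rw [hM', ← Matrix.mulVec_mulVec, tv_mulVec, one_mul, hvy]
    have hM'x1 : M' *ᵥ x1 = x1 := by
      rw [hM'v, hx1y, one_smul]
      have h3 : M *ᵥ x1 = y + x1 := by rw [hy]; abel
      rw [h3]
      have := hxx y
      calc y + x1 + y = (y + y) + x1 := by abel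
        _ = x1 := by rw [this, zero_add]
    have hx1M : M *ᵥ x1 ≠ x1 := by
      intro h
      have := hfix x1 h
      rw [hx1y] at this
      exact one_ne_zero this
    have hlt : (M' - 1).rank < r := by
      rw [← hrk]
      apply rank_lt_of_ker_lt (M - 1) (M' - 1) _ x1
      · rw [Matrix.sub_mulVec, Matrix.one_mulVec, hM'x1, sub_self]
      · rw [Matrix.sub_mulVec, Matrix.one_mulVec]
        exact fun h => hx1M (sub_eq_zero.1 h)
      · intro v hv
        rw [Matrix.sub_mulVec, Matrix.one_mulVec] at hv ⊢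
        have hv' : M *ᵥ v = v := sub_eq_zero.1 hv
        rw [hM'v, hv', hfix v hv', zero_smul, add_zero, sub_self]
    obtain ⟨k', y', hy'LI, hy'orth, hM'eq⟩ := ih _ hlt M' rfl hM'U hM'M'
    have hM'v' : ∀ v, M' *ᵥ v = v + ∑ i, hdot φ v (y' i) • y' i := by
      intro v
      rw [hM'eq, invOf_mulVec]
    -- orthogonality of y to the y'
    have hyy' : ∀ i, hdot φ y (y' i) = 0 := by
      have h3 : ∀ v, hdot φ (∑ i, hdot φ v (y' i) • y' i) y = 0 := by
        intro v
        have h4 : ∑ i, hdot φ v (y' i) • y' i = M' *ᵥ v - v := by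
          rw [hM'v']
          abel
        rw [h4, hM'v, hdot_sub_left, hdot_add_left, hdot_smul_left, hyy, mul_zero, add_zero,
          ← hdot_sub_left]
        exact hβy v
      have h5 : (∑ i, hdot φ y (y' i) • y' i) = 0 := by
        apply eq_zero_of_hdot_left φ hφφ
        intro v
        have := h3 v
        rw [hdot_sum_left] at this
        rw [hdot_sum_right]
        rw [← this]
        apply Finset.sum_congr rfl
        intro i _
        rw [hdot_smul_right, hdot_smul_left, hdot_conj φ hφφ]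
        ring
      exact Fintype.linearIndependent_iff.1 hy'LI _ h5
    have hy'y : ∀ i, hdot φ (y' i) y = 0 := fun i => hdot_eq_zero_symm φ hφφ _ _ (hyy' i)
    have hx1y' : ∀ i, hdot φ x1 (y' i) = 0 := by
      have h3 : (∑ i, hdot φ x1 (y' i) • y' i) = 0 := by
        have := hM'v' x1
        rw [hM'x1] at this
        exact (add_eq_left.1 this.symm)
      exact Fintype.linearIndependent_iff.1 hy'LI _ h3
    have hnot : y ∉ Submodule.span F (Set.range y') := by
      intro hmem
      rw [Submodule.mem_span_range_iff_exists_fun] at hmem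
      obtain ⟨c', hc'⟩ := hmem
      have : hdot φ x1 y = 0 := by
        rw [← hc', hdot_sum_right]
        apply Finset.sum_eq_zero
        intro i _
        rw [hdot_smul_right, hx1y', mul_zero]
      rw [hx1y] at this
      exact one_ne_zero this
    refine ⟨k' + 1, Fin.cons y y', linearIndependent_finCons.2 ⟨hy'LI, hnot⟩, ?_, ?_⟩
    · intro i j
      refine Fin.cases ?_ (fun i' => ?_) i
      · refine Fin.cases ?_ (fun j' => ?_) j
        · simpa using hyy
        · simpa using hyy' j'
      · refine Fin.cases ?_ (fun j' => ?_) j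
        · simpa using hy'y i'
        · simpa using hy'orth i' j'
    · rw [Matrix.ext_iff_mulVec]
      intro v
      have hMv : M *ᵥ v = tv φ y 1 *ᵥ (M' *ᵥ v) := by
        rw [hM', Matrix.mulVec_mulVec, ← Matrix.mul_assoc, hTT, Matrix.one_mul]
      rw [hMv, invOf_mulVec, Fin.sum_univ_succ, tv_mulVec, one_mul, hM'v']
      simp only [Fin.cons_zero, Fin.cons_succ]
      have h6 : hdot φ (v + ∑ i, hdot φ v (y' i) • y' i) y = hdot φ v y := by
        rw [hdot_add_left, hdot_sum_left]
        have : ∑ i, hdot φ (hdot φ v (y' i) • y' i) y = 0 := by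
          apply Finset.sum_eq_zero
          intro i _
          rw [hdot_smul_left, hy'y, mul_zero]
        rw [this, add_zero]
      rw [h6]
      abel

end decomp

section model

variable {F : Type*} [Field F] {ι : Type*} [Fintype ι] [DecidableEq ι] (φ : F →+* F)

/-- a totally isotropic independent family has at most half the dimension -/
theorem two_mul_le_card (hφφ : ∀ x, φ (φ x) = x) {k : ℕ} (y : Fin k → ι → F)
    (hLI : LinearIndependent F y) (horth : ∀ i j, hdot φ (y i) (y j) = 0) :
    2 * k ≤ Fintype.card ι := by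
  obtain ⟨A, hA⟩ : ∃ A : Matrix (Fin k) ι F, A = Matrix.of y := ⟨_, rfl⟩
  obtain ⟨B, hB⟩ : ∃ B : Matrix ι (Fin k) F, B = Matrix.of (fun l j => φ (y j l)) := ⟨_, rfl⟩
  have hAB : A * B = 0 := by
    ext i j
    rw [Matrix.mul_apply, Matrix.zero_apply, ← horth i j, hdot_def]
    apply Finset.sum_congr rfl
    intro l _
    rw [hA, hB]
    rfl
  have hrA : A.rank = k := by
    have : LinearIndependent F A.row := by
      rw [hA]
      exact hLI
    rw [this.rank_matrix, Fintype.card_fin]
  have hrB : B.rank = k := by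
    rw [← Matrix.rank_transpose]
    have : LinearIndependent F Bᵀ.row := by
      rw [Fintype.linearIndependent_iff]
      intro g hg
      have h1 : ∑ j, φ (g j) • y j = 0 := by
        funext l
        have := congrFun hg l
        rw [Finset.sum_apply] at this ⊢
        have h2 := congrArg φ this
        rw [map_sum, Pi.zero_apply, map_zero] at h2
        rw [Pi.zero_apply, ← h2]
        apply Finset.sum_congr rfl
        intro j _
        rw [Pi.smul_apply, Pi.smul_apply, smul_eq_mul, smul_eq_mul, map_mul, hB]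
        show φ (g j) * y j l = φ (g j) * φ (φ (y j l))
        rw [hφφ]
      intro j
      have := Fintype.linearIndependent_iff.1 hLI _ h1 j
      exact (map_eq_zero φ).1 this
    rw [this.rank_matrix, Fintype.card_fin]
  have := Matrix.rank_add_rank_le_card_of_mul_eq_zero hAB
  omega

/-- the model family `e_{i} + ε e_{i'}` -/
def modelY (ε : F) {k : ℕ} (e : Fin k ⊕ Fin k ↪ ι) : Fin k → ι → F :=
  fun i => Pi.single (e (Sum.inl i)) 1 + ε • Pi.single (e (Sum.inr i)) 1

theorem modelY_apply_inl (ε : F) {k : ℕ} (e : Fin k ⊕ Fin k ↪ ι) (i j : Fin k) :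
    modelY ε e j (e (Sum.inl i)) = if i = j then 1 else 0 := by
  have hne : e (Sum.inl i) ≠ e (Sum.inr j) := fun h => by simpa using e.injective h
  unfold modelY
  rw [Pi.add_apply, Pi.smul_apply, Pi.single_apply, Pi.single_apply, if_neg hne, smul_zero,
    add_zero]
  by_cases hij : i = j
  · rw [if_pos hij, if_pos (by rw [hij])]
  · rw [if_neg hij, if_neg (fun h => hij (Sum.inl_injective (e.injective h)))]

theorem hdot_single_modelY (ε : F) {k : ℕ} (e : Fin k ⊕ Fin k ↪ ι) (i j : Fin k) :
    hdot φ (Pi.single (e (Sum.inl i)) 1) (modelY ε e j) = if i = j then 1 else 0 := by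
  rw [hdot_single_left, modelY_apply_inl]
  by_cases hij : i = j
  · rw [if_pos hij, map_one]
  · rw [if_neg hij, map_zero]

theorem hdot_modelY (ε : F) (hε : ε * φ ε = -1) {k : ℕ} (e : Fin k ⊕ Fin k ↪ ι) (i j : Fin k) :
    hdot φ (modelY ε e i) (modelY ε e j) = 0 := by
  have hne : ∀ a b : Fin k, e (Sum.inl a) ≠ e (Sum.inr b) := fun a b h => by
    simpa using e.injective h
  unfold modelY
  simp only [hdot_add_left, hdot_add_right, hdot_smul_left, hdot_smul_right, hdot_single_single]
  rw [if_neg (hne i j), if_neg (Ne.symm (hne j i))]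
  by_cases hij : i = j
  · rw [if_pos (by rw [hij]), if_pos (by rw [hij])]
    linear_combination hε
  · rw [if_neg (fun h => hij (Sum.inl_injective (e.injective h))),
      if_neg (fun h => hij (Sum.inr_injective (e.injective h)))]
    ring

theorem linearIndependent_modelY (ε : F) {k : ℕ} (e : Fin k ⊕ Fin k ↪ ι) :
    LinearIndependent F (modelY ε e) := by
  rw [Fintype.linearIndependent_iff]
  intro g hg i
  have h1 := congrFun hg (e (Sum.inl i))
  rw [Finset.sum_apply, Pi.zero_apply] at h1
  have h2 : ∀ j ∈ Finset.univ, (g j • modelY ε e j) (e (Sum.inl i)) =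
      if j = i then g i else 0 := by
    intro j _
    rw [Pi.smul_apply, modelY_apply_inl, smul_eq_mul]
    by_cases hij : j = i
    · rw [if_pos hij, if_pos hij.symm, mul_one, hij]
    · rw [if_neg hij, if_neg (Ne.symm hij), mul_zero]
  rw [Finset.sum_congr rfl h2, Finset.sum_ite_eq' Finset.univ i, if_pos (Finset.mem_univ _)] at h1
  exact h1

theorem rank_invOf_modelY (ε : F) {k : ℕ} (e : Fin k ⊕ Fin k ↪ ι) :
    (invOf φ (modelY ε e) - 1).rank = k := by
  have hrange : LinearMap.range (invOf φ (modelY ε e) - 1).mulVecLin =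
      Submodule.span F (Set.range (modelY ε e)) := by
    apply le_antisymm
    · rintro _ ⟨v, rfl⟩
      rw [Matrix.mulVecLin_apply, Matrix.sub_mulVec, Matrix.one_mulVec, invOf_mulVec,
        add_sub_cancel_left]
      apply Submodule.sum_mem
      intro i _
      exact Submodule.smul_mem _ _ (Submodule.subset_span (Set.mem_range_self i))
    · rw [Submodule.span_le]
      rintro _ ⟨i, rfl⟩
      refine ⟨Pi.single (e (Sum.inl i)) 1, ?_⟩
      rw [Matrix.mulVecLin_apply, Matrix.sub_mulVec, Matrix.one_mulVec, invOf_mulVec,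
        add_sub_cancel_left]
      have h2 : ∀ j ∈ Finset.univ, hdot φ (Pi.single (e (Sum.inl i)) 1) (modelY ε e j) •
          modelY ε e j = if j = i then modelY ε e i else 0 := by
        intro j _
        rw [hdot_single_modelY]
        by_cases hij : j = i
        · rw [if_pos hij, if_pos hij.symm, one_smul, hij]
        · rw [if_neg hij, if_neg (Ne.symm hij), zero_smul]
      rw [Finset.sum_congr rfl h2, Finset.sum_ite_eq' Finset.univ i, if_pos (Finset.mem_univ _)]
  unfold Matrix.rank
  rw [hrange, finrank_span_eq_card (linearIndependent_modelY ε e), Fintype.card_fin]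

end model

section conj

variable {F : Type*} [Field F] [Finite F] {ι : Type*} [Fintype ι] [DecidableEq ι] (φ : F →+* F)

theorem exists_embedding_of_family (hφφ : ∀ x, φ (φ x) = x) {k : ℕ} (y : Fin k → ι → F)
    (hLI : LinearIndependent F y) (horth : ∀ i j, hdot φ (y i) (y j) = 0) :
    Nonempty (Fin k ⊕ Fin k ↪ ι) := by
  apply Function.Embedding.nonempty_of_card_le
  rw [Fintype.card_sum, Fintype.card_fin]
  have := two_mul_le_card φ hφφ y hLI horth
  omega

/-- the rank of `invOf y - 1` is the size of the family -/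
theorem rank_invOf (hφ : φ ≠ RingHom.id F) (hφφ : ∀ x, φ (φ x) = x)
    (hN1 : ∀ c : F, c ≠ 0 → φ c = c → ∃ l : F, l ≠ 0 ∧ l * φ l = c)
    {k : ℕ} (y : Fin k → ι → F) (hLI : LinearIndependent F y)
    (horth : ∀ i j, hdot φ (y i) (y j) = 0) : (invOf φ y - 1).rank = k := by
  obtain ⟨e⟩ := exists_embedding_of_family φ hφφ y hLI horth
  obtain ⟨ε, _, hε⟩ := hN1 (-1) (by simp) (by rw [map_neg, map_one])
  obtain ⟨g, hg, hgy⟩ := witt_family_UG φ hφ hφφ k (modelY ε e) y (linearIndependent_modelY ε e)
    hLI (fun i j => by rw [hdot_modelY φ ε hε, horth])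
  have h1 : g * invOf φ (modelY ε e) = invOf φ y * g := by
    rw [isU_mul_invOf φ hg]
    congr 2
    funext i
    exact hgy i
  have h2 : g * (invOf φ (modelY ε e) - 1) = (invOf φ y - 1) * g := by
    rw [Matrix.mul_sub, Matrix.sub_mul, h1, Matrix.mul_one, Matrix.one_mul]
  have hdet : IsUnit g.det := isUnit_iff_ne_zero.2 (hg.det_ne_zero φ)
  rw [← Matrix.rank_mul_eq_left_of_isUnit_det g _ hdet, ← h2,
    Matrix.rank_mul_eq_right_of_isUnit_det g _ hdet, rank_invOf_modelY]

theorem vecMulVec_smul_smul (l : F) (hl : l * φ l = 1) (v : ι → F) :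
    Matrix.vecMulVec (l • v) (φ ∘ (l • v)) = Matrix.vecMulVec v (φ ∘ v) := by
  ext i j
  simp only [Matrix.vecMulVec_apply, Function.comp_apply, Pi.smul_apply, smul_eq_mul, map_mul]
  linear_combination (v i * φ (v j)) * hl

/-- two unitary involutions of the same rank are conjugate under the special unitary group -/
theorem exists_conj_invOf (hφ : φ ≠ RingHom.id F) (hφφ : ∀ x, φ (φ x) = x)
    (hN1 : ∀ c : F, c ≠ 0 → φ c = c → ∃ l : F, l ≠ 0 ∧ l * φ l = c)
    (hsq : ∀ δ : F, δ * φ δ = 1 → ∃ l : F, l * φ l = 1 ∧ l * l = δ)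
    {k : ℕ} (y y' : Fin (k + 1) → ι → F) (hLI : LinearIndependent F y)
    (hLI' : LinearIndependent F y') (horth : ∀ i j, hdot φ (y i) (y j) = 0)
    (horth' : ∀ i j, hdot φ (y' i) (y' j) = 0) :
    ∃ G : Matrix ι ι F, IsU φ G ∧ G.det = 1 ∧ G * invOf φ y = invOf φ y' * G := by
  obtain ⟨e⟩ := exists_embedding_of_family φ hφφ y hLI horth
  obtain ⟨ε, _, hε⟩ := hN1 (-1) (by simp) (by rw [map_neg, map_one])
  obtain ⟨g0, hg0, hg0y⟩ := witt_family_UG φ hφ hφφ (k + 1) y (modelY ε e) hLI
    (linearIndependent_modelY ε e) (fun i j => by rw [hdot_modelY φ ε hε, horth])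
  obtain ⟨g1, hg1, hg1y⟩ := witt_family_UG φ hφ hφφ (k + 1) (modelY ε e) y'
    (linearIndependent_modelY ε e) hLI' (fun i j => by rw [hdot_modelY φ ε hε, horth'])
  have hd0 := hg0.det_norm φ
  have hd1 := hg1.det_norm φ
  have hd0ne := hg0.det_ne_zero φ
  have hd1ne := hg1.det_ne_zero φ
  obtain ⟨l, hl, hll⟩ := hsq (g1.det * g0.det)⁻¹ (by
    rw [map_inv₀, map_mul, ← mul_inv]
    have : g1.det * g0.det * (φ g1.det * φ g0.det) = 1 := by
      calc g1.det * g0.det * (φ g1.det * φ g0.det) = (g1.det * φ g1.det) * (g0.det * φ g0.det) := by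
            ring
        _ = 1 := by rw [hd0, hd1, mul_one]
    rw [this, inv_one])
  obtain ⟨i0, hi0⟩ : ∃ i0, i0 = e (Sum.inl 0) := ⟨_, rfl⟩
  obtain ⟨i1, hi1⟩ : ∃ i1, i1 = e (Sum.inr 0) := ⟨_, rfl⟩
  have hi01 : i0 ≠ i1 := by
    rw [hi0, hi1]
    intro h
    simpa using e.injective h
  obtain ⟨D, hD⟩ : ∃ D, D = tv φ (Pi.single i0 1) (l - 1) * tv φ (Pi.single i1 1) (l - 1) :=
    ⟨_, rfl⟩
  have hUt : ∀ i : ι, IsU φ (tv φ (Pi.single i 1) (l - 1)) := by
    intro i
    apply isU_tv φ hφφ
    rw [hdot_single_single, if_pos rfl, map_sub, map_one]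
    linear_combination hl
  have hDU : IsU φ D := by
    rw [hD]
    exact (hUt i0).mul φ (hUt i1)
  have hDdet : D.det = l * l := by
    rw [hD, Matrix.det_mul, det_tv, det_tv, hdot_single_single, hdot_single_single, if_pos rfl,
      if_pos rfl]
    ring
  have hDv : ∀ x : ι → F, D *ᵥ x = x + ((l - 1) * x i1) • Pi.single i1 1 +
      ((l - 1) * x i0) • Pi.single i0 1 := by
    intro x
    rw [hD, ← Matrix.mulVec_mulVec, tv_mulVec, tv_mulVec, hdot_single_right, hdot_single_right]
    congr 2
    rw [Pi.add_apply, Pi.smul_apply, Pi.single_apply, if_neg hi01, smul_zero, add_zero]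
  have hD0 : D *ᵥ modelY ε e 0 = l • modelY ε e 0 := by
    rw [hDv]
    have h1 : modelY ε e 0 i1 = ε := by
      unfold modelY
      rw [Pi.add_apply, Pi.smul_apply, ← hi0, ← hi1, Pi.single_apply, Pi.single_apply,
        if_neg (Ne.symm hi01), if_pos rfl, zero_add, smul_eq_mul, mul_one]
    have h2 : modelY ε e 0 i0 = 1 := by
      unfold modelY
      rw [Pi.add_apply, Pi.smul_apply, ← hi0, ← hi1, Pi.single_apply, Pi.single_apply,
        if_pos rfl, if_neg hi01, smul_zero, add_zero]
    rw [h1, h2]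
    unfold modelY
    rw [← hi0, ← hi1]
    module
  have hDi : ∀ i : Fin (k + 1), i ≠ 0 → D *ᵥ modelY ε e i = modelY ε e i := by
    intro i hi
    rw [hDv]
    have hne1 : e (Sum.inl i) ≠ i1 := by
      rw [hi1]
      intro h
      simpa using e.injective h
    have hne2 : e (Sum.inr i) ≠ i1 := by
      rw [hi1]
      intro h
      exact hi (Sum.inr_injective (e.injective h))
    have hne3 : e (Sum.inl i) ≠ i0 := by
      rw [hi0]
      intro h
      exact hi (Sum.inl_injective (e.injective h))
    have hne4 : e (Sum.inr i) ≠ i0 := by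
      rw [hi0]
      intro h
      simpa using e.injective h
    have h1 : modelY ε e i i1 = 0 := by
      unfold modelY
      rw [Pi.add_apply, Pi.smul_apply, Pi.single_apply, Pi.single_apply, if_neg (Ne.symm hne1),
        if_neg (Ne.symm hne2), smul_zero, add_zero]
    have h2 : modelY ε e i i0 = 0 := by
      unfold modelY
      rw [Pi.add_apply, Pi.smul_apply, Pi.single_apply, Pi.single_apply, if_neg (Ne.symm hne3),
        if_neg (Ne.symm hne4), smul_zero, add_zero]
    rw [h1, h2, mul_zero, zero_smul, zero_smul, add_zero, add_zero]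
  have hDJ : D * invOf φ (modelY ε e) = invOf φ (modelY ε e) * D := by
    rw [isU_mul_invOf φ hDU]
    congr 1
    unfold invOf
    congr 1
    apply Finset.sum_congr rfl
    intro i _
    show Matrix.vecMulVec (D *ᵥ modelY ε e i) (φ ∘ (D *ᵥ modelY ε e i)) =
      Matrix.vecMulVec (modelY ε e i) (φ ∘ modelY ε e i)
    by_cases hi : i = 0
    · rw [hi, hD0, vecMulVec_smul_smul φ l hl]
    · rw [hDi i hi]
  have h0 : g0 * invOf φ y = invOf φ (modelY ε e) * g0 := by
    rw [isU_mul_invOf φ hg0]
    congr 2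
    funext i
    exact hg0y i
  have h1 : g1 * invOf φ (modelY ε e) = invOf φ y' * g1 := by
    rw [isU_mul_invOf φ hg1]
    congr 2
    funext i
    exact hg1y i
  refine ⟨g1 * D * g0, (hg1.mul φ hDU).mul φ hg0, ?_, ?_⟩
  · rw [Matrix.det_mul, Matrix.det_mul, hDdet, hll]
    field_simp
  · calc g1 * D * g0 * invOf φ y = g1 * D * (g0 * invOf φ y) := by rw [Matrix.mul_assoc]
      _ = g1 * (D * invOf φ (modelY ε e)) * g0 := by
          rw [h0]
          simp only [Matrix.mul_assoc]
      _ = (g1 * invOf φ (modelY ε e)) * D * g0 := by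
          rw [hDJ]
          simp only [Matrix.mul_assoc]
      _ = invOf φ y' * (g1 * D * g0) := by
          rw [h1]
          simp only [Matrix.mul_assoc]

end conj

end Cfsg.Agent.Helper11.Herm
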