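import Mathlib
import Cfsg.Agent.Lib.Helper11.UnitaryInvol
import Cfsg.Agent.Lib.Helper11.UnitarySimple
import Cfsg.Agent.Lib.Helper11.HermLines

set_option autoImplicit false

/-! Isotropic frames of a Hermitian space and the order of the stabiliser of a totally
isotropic subspace in the unitary groups. -/

namespace Cfsg.Agent.Helper11.Herm

open Matrix

section frames

variable {F : Type*} [Field F] {ι : Type*} [Fintype ι] [DecidableEq ι] (φ : F →+* F)

/-- isotropic frames: linearly independent families of mutually orthogonal isotropic vectors -/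
def IsFr (k : ℕ) (x : Fin k → ι → F) : Prop :=
  LinearIndependent F x ∧ ∀ i j, hdot φ (x i) (x j) = 0

/-- the vectors extending an isotropic frame -/
def FrFib {k : ℕ} (s : Fin k → ι → F) : Type _ :=
  {v : ι → F // (∀ i, hdot φ v (s i) = 0) ∧ hdot φ v v = 0 ∧
    v ∉ Submodule.span F (Set.range s)}

/-- nonzero isotropic vectors of the standard space of dimension `m` -/
def IsoV (m : ℕ) : Type _ := {w : Fin m → F // hdot φ w w = 0 ∧ w ≠ 0}

variable {φ}

theorem isFr_cons (hφφ : ∀ x, φ (φ x) = x) {k : ℕ} {s : Fin k → ι → F} (hs : IsFr φ k s)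
    (v : FrFib φ s) : IsFr φ (k + 1) (Fin.cons v.1 s : Fin (k + 1) → ι → F) := by
  refine ⟨linearIndependent_finCons.mpr ⟨hs.1, v.2.2.2⟩, ?_⟩
  intro i j
  induction i using Fin.cases with
  | zero =>
    induction j using Fin.cases with
    | zero => simp only [Fin.cons_zero]; exact v.2.2.1
    | succ j => simp only [Fin.cons_zero, Fin.cons_succ]; exact v.2.1 j
  | succ i =>
    induction j using Fin.cases with
    | zero =>
      simp only [Fin.cons_zero, Fin.cons_succ]
      exact hdot_eq_zero_symm φ hφφ _ _ (v.2.1 i)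
    | succ j => simp only [Fin.cons_succ]; exact hs.2 i j

theorem isFr_tail {k : ℕ} {x : Fin (k + 1) → ι → F} (hx : IsFr φ (k + 1) x) :
    IsFr φ k (Fin.tail x) :=
  ⟨(linearIndependent_finSucc.mp hx.1).1, fun i j => hx.2 i.succ j.succ⟩

theorem isFr_head {k : ℕ} {x : Fin (k + 1) → ι → F} (hx : IsFr φ (k + 1) x) :
    (∀ i, hdot φ (x 0) (Fin.tail x i) = 0) ∧ hdot φ (x 0) (x 0) = 0 ∧
      x 0 ∉ Submodule.span F (Set.range (Fin.tail x)) :=
  ⟨fun i => hx.2 0 i.succ, hx.2 0 0, (linearIndependent_finSucc.mp hx.1).2⟩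

/-- frames of length `k+1` are frames of length `k` together with one more vector -/
def frEquiv (hφφ : ∀ x, φ (φ x) = x) (k : ℕ) :
    {x : Fin (k + 1) → ι → F // IsFr φ (k + 1) x} ≃
      Σ s : {s : Fin k → ι → F // IsFr φ k s}, FrFib φ s.1 where
  toFun x := ⟨⟨Fin.tail x.1, isFr_tail x.2⟩, ⟨x.1 0, isFr_head x.2⟩⟩
  invFun s := ⟨Fin.cons s.2.1 s.1.1, isFr_cons hφφ s.1.2 s.2⟩
  left_inv _ := by simp only [Fin.cons_self_tail, Subtype.coe_eta]
  right_inv := fun ⟨⟨s, hs⟩, ⟨v, hv⟩⟩ => rfl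

end frames

section transport

variable {F : Type*} [Field F] [Finite F] {ι : Type*} [Fintype ι] [DecidableEq ι] (φ : F →+* F)

instance instFiniteFrFib {k : ℕ} (s : Fin k → ι → F) : Finite (FrFib φ s) := by
  unfold FrFib
  infer_instance

instance instFiniteIsoV (m : ℕ) : Finite (IsoV φ m) := by
  unfold IsoV
  infer_instance

variable {φ}

theorem IsU.mulVec_eq_zero {M : Matrix ι ι F} (hM : IsU φ M) (x : ι → F) (hx : M *ᵥ x = 0) :
    x = 0 := by
  apply eq_zero_of_hdot_right φ
  intro y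
  rw [← hM.hdot_mulVec, hx, hdot_zero_left]

theorem IsU.mulVec_injective {M : Matrix ι ι F} (hM : IsU φ M) :
    Function.Injective (fun x => M *ᵥ x) := by
  intro x y hxy
  have : M *ᵥ (x - y) = 0 := by
    rw [Matrix.mulVec_sub]
    exact sub_eq_zero.2 hxy
  exact sub_eq_zero.1 (hM.mulVec_eq_zero _ this)

theorem card_FrFib_le {k : ℕ} (s s' : Fin k → ι → F) (M : Matrix ι ι F) (hM : IsU φ M)
    (hMs : ∀ i, M *ᵥ s i = s' i) : Nat.card (FrFib φ s) ≤ Nat.card (FrFib φ s') := by
  have hf : ∀ v : FrFib φ s, (∀ i, hdot φ (M *ᵥ v.1) (s' i) = 0) ∧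
      hdot φ (M *ᵥ v.1) (M *ᵥ v.1) = 0 ∧ M *ᵥ v.1 ∉ Submodule.span F (Set.range s') := by
    intro v
    refine ⟨fun i => ?_, ?_, ?_⟩
    · rw [← hMs, hM.hdot_mulVec]
      exact v.2.1 i
    · rw [hM.hdot_mulVec]
      exact v.2.2.1
    · intro hmem
      apply v.2.2.2
      rw [Submodule.mem_span_range_iff_exists_fun] at hmem ⊢
      obtain ⟨c, hc⟩ := hmem
      refine ⟨c, ?_⟩
      apply hM.mulVec_injective
      show M *ᵥ (∑ i, c i • s i) = M *ᵥ v.1
      rw [← hc, Matrix.mulVec_sum]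
      apply Finset.sum_congr rfl
      intro i _
      rw [Matrix.mulVec_smul, hMs]
  apply Nat.card_le_card_of_injective (fun v : FrFib φ s => (⟨M *ᵥ v.1, hf v⟩ : FrFib φ s'))
  intro v w hvw
  have := congrArg Subtype.val hvw
  exact Subtype.ext (hM.mulVec_injective this)

theorem card_FrFib_eq (hφ : φ ≠ RingHom.id F) (hφφ : ∀ x, φ (φ x) = x) {k : ℕ}
    (s s' : Fin k → ι → F) (hs : IsFr φ k s) (hs' : IsFr φ k s') :
    Nat.card (FrFib φ s) = Nat.card (FrFib φ s') := by
  obtain ⟨M, hM, hMs⟩ := witt_family_UG φ hφ hφφ k s s' hs.1 hs'.1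
    (fun i j => by rw [hs.2, hs'.2])
  obtain ⟨M', hM', hMs'⟩ := witt_family_UG φ hφ hφφ k s' s hs'.1 hs.1
    (fun i j => by rw [hs.2, hs'.2])
  exact le_antisymm (card_FrFib_le s s' M hM hMs) (card_FrFib_le s' s M' hM' hMs')

end transport

section model

variable {F : Type*} [Field F] {ι : Type*} [Fintype ι] [DecidableEq ι] (φ : F →+* F)
variable {k m : ℕ} (e : ι ≃ (Fin k ⊕ Fin k) ⊕ Fin m)

/-- the embedding of the hyperbolic part -/
def embL : Fin k ⊕ Fin k ↪ ι :=
  ⟨fun x => e.symm (Sum.inl x), fun _ _ h => Sum.inl_injective (e.symm.injective h)⟩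

theorem embL_apply (x : Fin k ⊕ Fin k) : embL e x = e.symm (Sum.inl x) := rfl

theorem hdot_modelY_right (ε : F) (v : ι → F) (j : Fin k) :
    hdot φ v (modelY ε (embL e) j) =
      v (e.symm (Sum.inl (Sum.inl j))) + φ ε * v (e.symm (Sum.inl (Sum.inr j))) := by
  unfold modelY
  rw [hdot_add_right, hdot_smul_right, hdot_single_right, hdot_single_right]
  rfl

theorem hdot_split3 (v w : ι → F) :
    hdot φ v w =
      (∑ j : Fin k, v (e.symm (Sum.inl (Sum.inl j))) * φ (w (e.symm (Sum.inl (Sum.inl j))))) +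
      (∑ j : Fin k, v (e.symm (Sum.inl (Sum.inr j))) * φ (w (e.symm (Sum.inl (Sum.inr j))))) +
      hdot φ (fun l : Fin m => v (e.symm (Sum.inr l))) (fun l => w (e.symm (Sum.inr l))) := by
  rw [hdot_def, ← Equiv.sum_comp e.symm, Fintype.sum_sum_type, Fintype.sum_sum_type]
  rfl

/-- the vector with prescribed coordinates -/
def vec3 (a b : Fin k → F) (w : Fin m → F) : ι → F := fun i => Sum.elim (Sum.elim a b) w (e i)

theorem vec3_inl_inl (a b : Fin k → F) (w : Fin m → F) (j : Fin k) :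
    vec3 e a b w (e.symm (Sum.inl (Sum.inl j))) = a j := by simp [vec3]

theorem vec3_inl_inr (a b : Fin k → F) (w : Fin m → F) (j : Fin k) :
    vec3 e a b w (e.symm (Sum.inl (Sum.inr j))) = b j := by simp [vec3]

theorem vec3_inr (a b : Fin k → F) (w : Fin m → F) (l : Fin m) :
    vec3 e a b w (e.symm (Sum.inr l)) = w l := by simp [vec3]

theorem vec3_eta (v : ι → F) :
    vec3 e (fun j => v (e.symm (Sum.inl (Sum.inl j)))) (fun j => v (e.symm (Sum.inl (Sum.inr j))))
      (fun l => v (e.symm (Sum.inr l))) = v := by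
  funext i
  obtain ⟨x, rfl⟩ := e.symm.surjective i
  rcases x with (j | j) | l <;> simp [vec3]

theorem sum_smul_modelY (ε : F) (c : Fin k → F) :
    ∑ j, c j • modelY ε (embL e) j = vec3 e c (fun j => c j * ε) 0 := by
  funext i
  obtain ⟨x, rfl⟩ := e.symm.surjective i
  rw [Finset.sum_apply]
  unfold modelY
  simp only [embL_apply, Pi.smul_apply, Pi.add_apply, Pi.single_apply, smul_eq_mul,
    EmbeddingLike.apply_eq_iff_eq]
  rcases x with (j | j) | l
  · rw [vec3_inl_inl]
    simp [Finset.sum_ite_eq]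
  · rw [vec3_inl_inr]
    simp [Finset.sum_ite_eq]
  · rw [vec3_inr]
    simp

theorem mem_span_modelY_iff (ε : F) (v : ι → F) :
    v ∈ Submodule.span F (Set.range (modelY ε (embL e))) ↔
      ∃ c : Fin k → F, vec3 e c (fun j => c j * ε) 0 = v := by
  rw [Submodule.mem_span_range_iff_exists_fun]
  constructor
  · rintro ⟨c, hc⟩
    exact ⟨c, by rw [← sum_smul_modelY, hc]⟩
  · rintro ⟨c, hc⟩
    exact ⟨c, by rw [sum_smul_modelY, hc]⟩

end model

section modelfib

variable {F : Type*} [Field F] {ι : Type*} [Fintype ι] [DecidableEq ι] (φ : F →+* F)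
variable {k m : ℕ} (e : ι ≃ (Fin k ⊕ Fin k) ⊕ Fin m)

theorem modelFib_aux1 (hφφ : ∀ x, φ (φ x) = x) (ε : F) (hε : ε * φ ε = -1) (v : ι → F)
    (horth : ∀ j, hdot φ v (modelY ε (embL e) j) = 0) :
    hdot φ v v = hdot φ (fun l : Fin m => v (e.symm (Sum.inr l)))
      (fun l => v (e.symm (Sum.inr l))) := by
  rw [hdot_split3 φ e v v, ← Finset.sum_add_distrib]
  have : ∀ j ∈ (Finset.univ : Finset (Fin k)),
      v (e.symm (Sum.inl (Sum.inl j))) * φ (v (e.symm (Sum.inl (Sum.inl j)))) +
      v (e.symm (Sum.inl (Sum.inr j))) * φ (v (e.symm (Sum.inl (Sum.inr j)))) = 0 := by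
    intro j _
    have h1 := horth j
    rw [hdot_modelY_right] at h1
    have h2 : v (e.symm (Sum.inl (Sum.inl j))) = -(φ ε * v (e.symm (Sum.inl (Sum.inr j)))) :=
      eq_neg_of_add_eq_zero_left h1
    rw [h2, map_neg, map_mul, hφφ]
    linear_combination (v (e.symm (Sum.inl (Sum.inr j))) * φ (v (e.symm (Sum.inl (Sum.inr j))))) * hε
  rw [Finset.sum_eq_zero this, zero_add]

theorem modelFib_aux2 (ε : F) (hε : ε * φ ε = -1) (v : ι → F)
    (horth : ∀ j, hdot φ v (modelY ε (embL e) j) = 0)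
    (hrest : (fun l : Fin m => v (e.symm (Sum.inr l))) = 0) :
    v ∈ Submodule.span F (Set.range (modelY ε (embL e))) := by
  rw [mem_span_modelY_iff]
  refine ⟨fun j => v (e.symm (Sum.inl (Sum.inl j))), ?_⟩
  rw [← hrest]
  have : (fun j => v (e.symm (Sum.inl (Sum.inl j))) * ε) =
      fun j => v (e.symm (Sum.inl (Sum.inr j))) := by
    funext j
    have h1 := horth j
    rw [hdot_modelY_right] at h1
    have h2 : v (e.symm (Sum.inl (Sum.inl j))) = -(φ ε * v (e.symm (Sum.inl (Sum.inr j)))) :=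
      eq_neg_of_add_eq_zero_left h1
    rw [h2]
    linear_combination (-v (e.symm (Sum.inl (Sum.inr j)))) * hε
  rw [this]
  exact vec3_eta e v

/-- the fibre over the model frame -/
noncomputable def modelFibEquiv (hφφ : ∀ x, φ (φ x) = x) (ε : F) (hε : ε * φ ε = -1) :
    FrFib φ (modelY ε (embL e)) ≃ (Fin k → F) × IsoV φ m where
  toFun v := (fun j => v.1 (e.symm (Sum.inl (Sum.inr j))),
    ⟨fun l => v.1 (e.symm (Sum.inr l)), by
      rw [← modelFib_aux1 φ e hφφ ε hε v.1 v.2.1]
      exact v.2.2.1, fun h => v.2.2.2 (modelFib_aux2 φ e ε hε v.1 v.2.1 h)⟩)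
  invFun p := ⟨vec3 e (fun j => -(φ ε * p.1 j)) p.1 p.2.1, by
    have horth : ∀ j, hdot φ (vec3 e (fun j => -(φ ε * p.1 j)) p.1 p.2.1)
        (modelY ε (embL e) j) = 0 := by
      intro j
      rw [hdot_modelY_right, vec3_inl_inl, vec3_inl_inr]
      ring
    refine ⟨horth, ?_, ?_⟩
    · rw [modelFib_aux1 φ e hφφ ε hε _ horth]
      simp only [vec3_inr]
      exact p.2.2.1
    · intro hmem
      rw [mem_span_modelY_iff] at hmem
      obtain ⟨c, hc⟩ := hmem
      apply p.2.2.2
      funext l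
      have := congrFun hc (e.symm (Sum.inr l))
      rw [vec3_inr, vec3_inr] at this
      rw [← this]⟩
  left_inv v := by
    apply Subtype.ext
    show vec3 e (fun j => -(φ ε * v.1 (e.symm (Sum.inl (Sum.inr j)))))
      (fun j => v.1 (e.symm (Sum.inl (Sum.inr j)))) (fun l => v.1 (e.symm (Sum.inr l))) = v.1
    have : (fun j => -(φ ε * v.1 (e.symm (Sum.inl (Sum.inr j))))) =
        fun j => v.1 (e.symm (Sum.inl (Sum.inl j))) := by
      funext j
      have h1 := v.2.1 j
      rw [hdot_modelY_right] at h1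
      exact (eq_neg_of_add_eq_zero_left h1).symm
    rw [this]
    exact vec3_eta e v.1
  right_inv p := by
    obtain ⟨b, w, hw⟩ := p
    apply Prod.ext
    · funext j
      exact vec3_inl_inr e _ _ _ j
    · apply Subtype.ext
      funext l
      exact vec3_inr e _ _ _ l

end modelfib

section count

variable {F : Type*} [Field F] [Fintype F] {ι : Type*} [Fintype ι] [DecidableEq ι] (φ : F →+* F)

theorem card_FrFib (hφ : φ ≠ RingHom.id F) (hφφ : ∀ x, φ (φ x) = x)
    (hN1 : ∀ c : F, c ≠ 0 → φ c = c → ∃ l : F, l ≠ 0 ∧ l * φ l = c) {k m : ℕ}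
    (hcard : Fintype.card ι = 2 * k + m) (s : Fin k → ι → F) (hs : IsFr φ k s) :
    Nat.card (FrFib φ s) = Fintype.card F ^ k * Nat.card (IsoV φ m) := by
  obtain ⟨e⟩ : Nonempty (ι ≃ (Fin k ⊕ Fin k) ⊕ Fin m) := Fintype.card_eq.1 (by
    rw [hcard, Fintype.card_sum, Fintype.card_sum, Fintype.card_fin, Fintype.card_fin]
    ring)
  obtain ⟨ε, _, hε⟩ := hN1 (-1) (by simp) (by rw [map_neg, map_one])
  rw [card_FrFib_eq hφ hφφ s (modelY ε (embL e)) hs
    ⟨linearIndependent_modelY ε _, hdot_modelY φ ε hε _⟩,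
    Nat.card_congr (modelFibEquiv φ e hφφ ε hε), Nat.card_prod, Nat.card_eq_fintype_card,
    Fintype.card_fun, Fintype.card_fin]

theorem card_frames (hφ : φ ≠ RingHom.id F) (hφφ : ∀ x, φ (φ x) = x)
    (hN1 : ∀ c : F, c ≠ 0 → φ c = c → ∃ l : F, l ≠ 0 ∧ l * φ l = c) (n : ℕ)
    (hn : Fintype.card ι = n) : ∀ k, 2 * k ≤ n →
    Nat.card {x : Fin k → ι → F // IsFr φ k x} =
      ∏ i ∈ Finset.range k, (Fintype.card F ^ i * Nat.card (IsoV φ (n - 2 * i))) := by
  intro k
  induction k with
  | zero =>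
    intro _
    rw [Finset.range_zero, Finset.prod_empty]
    have : Unique {x : Fin 0 → ι → F // IsFr φ 0 x} :=
      { default := ⟨Fin.elim0, linearIndependent_empty_type, fun i => i.elim0⟩
        uniq := fun x => Subtype.ext (funext fun i => i.elim0) }
    exact Nat.card_unique
  | succ k ih =>
    intro hk
    have : Fintype {s : Fin k → ι → F // IsFr φ k s} := Fintype.ofFinite _
    rw [Nat.card_congr (frEquiv hφφ k), Nat.card_sigma, Finset.prod_range_succ,
      ← ih (by omega)]
    rw [Finset.sum_congr rfl (fun s _ => card_FrFib φ hφ hφφ hN1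
      (by rw [hn]; omega : Fintype.card ι = 2 * k + (n - 2 * k)) s.1 s.2), Finset.sum_const,
      Finset.card_univ, smul_eq_mul,
      ← Nat.card_eq_fintype_card (α := {s : Fin k → ι → F // IsFr φ k s})]

end count

section orbits

variable {F : Type*} [Field F] {ι : Type*} [Fintype ι] [DecidableEq ι] (φ : F →+* F)

/-- the stabiliser of a subspace in the unitary group -/
def stabW (W : Submodule F (ι → F)) : Subgroup (UG ι φ) where
  carrier := {g | ∀ v, v ∈ W ↔ ((g : GL ι F) : Matrix ι ι F) *ᵥ v ∈ W}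
  mul_mem' {a b} ha hb := by
    intro v
    rw [Subgroup.coe_mul, Units.val_mul, ← Matrix.mulVec_mulVec]
    exact (hb v).trans (ha _)
  one_mem' := by
    intro v
    simp
  inv_mem' {a} ha := by
    intro v
    have h := ha ((((a⁻¹ : UG ι φ) : GL ι F) : Matrix ι ι F) *ᵥ v)
    rw [Matrix.mulVec_mulVec, ← Units.val_mul, ← Subgroup.coe_mul, mul_inv_cancel] at h
    simp only [OneMemClass.coe_one, Units.val_one, Matrix.one_mulVec] at h
    exact h.symm

variable {φ}

theorem mem_stabW (W : Submodule F (ι → F)) (g : UG ι φ) :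
    g ∈ stabW φ W ↔ ∀ v, v ∈ W ↔ ((g : GL ι F) : Matrix ι ι F) *ᵥ v ∈ W := Iff.rfl

theorem smul_fr_apply {k : ℕ} (g : UG ι φ) (x : Fin k → ι → F) (i : Fin k) :
    (g • x) i = ((g : GL ι F) : Matrix ι ι F) *ᵥ x i := rfl

theorem UG_mulVec_injective (g : UG ι φ) :
    Function.Injective (fun x => ((g : GL ι F) : Matrix ι ι F) *ᵥ x) := by
  intro x y hxy
  have hg : IsU φ ((g : GL ι F) : Matrix ι ι F) := g.2
  have : ((g : GL ι F) : Matrix ι ι F) *ᵥ (x - y) = 0 := by
    rw [Matrix.mulVec_sub]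
    exact sub_eq_zero.2 hxy
  apply sub_eq_zero.1
  apply eq_zero_of_hdot_right φ
  intro z
  rw [← hg.hdot_mulVec, this, hdot_zero_left]

theorem isFr_smul {k : ℕ} (g : UG ι φ) {x : Fin k → ι → F} (hx : IsFr φ k x) :
    IsFr φ k (g • x) := by
  have hg : IsU φ ((g : GL ι F) : Matrix ι ι F) := g.2
  constructor
  · have := hx.1.map' (Matrix.mulVecLin ((g : GL ι F) : Matrix ι ι F)) (by
      rw [LinearMap.ker_eq_bot]
      exact UG_mulVec_injective g)
    exact this
  · intro i j
    rw [smul_fr_apply, smul_fr_apply, hg.hdot_mulVec]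
    exact hx.2 i j

theorem span_smul_fr {k : ℕ} (g : UG ι φ) (x : Fin k → ι → F) :
    Submodule.span F (Set.range (g • x)) =
      (Submodule.span F (Set.range x)).map (Matrix.mulVecLin ((g : GL ι F) : Matrix ι ι F)) := by
  rw [Submodule.map_span]
  congr 1
  ext v
  constructor
  · rintro ⟨i, rfl⟩
    exact ⟨x i, ⟨i, rfl⟩, rfl⟩
  · rintro ⟨_, ⟨i, rfl⟩, rfl⟩
    exact ⟨i, rfl⟩

theorem hdot_span_fr {k : ℕ} {x : Fin k → ι → F} (hx : IsFr φ k x) :
    ∀ a ∈ Submodule.span F (Set.range x), ∀ b ∈ Submodule.span F (Set.range x),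
      hdot φ a b = 0 := by
  intro a ha b hb
  rw [Submodule.mem_span_range_iff_exists_fun] at ha hb
  obtain ⟨c, rfl⟩ := ha
  obtain ⟨d, rfl⟩ := hb
  rw [hdot_sum_left]
  apply Finset.sum_eq_zero
  intro i _
  rw [hdot_sum_right]
  apply Finset.sum_eq_zero
  intro j _
  rw [hdot_smul_left, hdot_smul_right, hx.2, mul_zero, mul_zero]

/-- a matrix mapping a finite-dimensional subspace into itself injectively stabilises it -/
theorem stab_iff_of_map_le (M : Matrix ι ι F) (hinj : Function.Injective (fun x => M *ᵥ x))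
    (W : Submodule F (ι → F)) (h : ∀ v ∈ W, M *ᵥ v ∈ W) : ∀ v, v ∈ W ↔ M *ᵥ v ∈ W := by
  have hle : W.map (Matrix.mulVecLin M) ≤ W := by
    rintro _ ⟨v, hv, rfl⟩
    exact h v hv
  have hfin : Module.finrank F (W.map (Matrix.mulVecLin M)) = Module.finrank F W :=
    (Submodule.equivMapOfInjective (Matrix.mulVecLin M) hinj W).finrank_eq.symm
  have heq := Submodule.eq_of_le_of_finrank_eq hle hfin
  intro v
  refine ⟨h v, fun hv => ?_⟩
  rw [← heq] at hv
  obtain ⟨w, hw, hwv⟩ := hv
  have : w = v := hinj hwv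
  rw [← this]
  exact hw

end orbits

section orbits2

variable {F : Type*} [Field F] [Finite F] {ι : Type*} [Fintype ι] [DecidableEq ι] {φ : F →+* F}

theorem orbit_eq_frames (hφ : φ ≠ RingHom.id F) (hφφ : ∀ x, φ (φ x) = x) {k : ℕ}
    {x : Fin k → ι → F} (hx : IsFr φ k x) :
    MulAction.orbit (UG ι φ) x = {y | IsFr φ k y} := by
  ext y
  constructor
  · rintro ⟨g, rfl⟩
    exact isFr_smul g hx
  · intro hy
    obtain ⟨M, hM, hMx⟩ := witt_family_UG φ hφ hφφ k x y hx.1 hy.1
      (fun i j => by rw [hx.2, hy.2])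
    exact ⟨hM.toUG φ, funext hMx⟩

theorem fix_span_of_smul_eq {k : ℕ} {g : UG ι φ} {x : Fin k → ι → F} (hg : g • x = x) :
    ∀ v ∈ Submodule.span F (Set.range x), ((g : GL ι F) : Matrix ι ι F) *ᵥ v = v := by
  intro v hv
  rw [Submodule.mem_span_range_iff_exists_fun] at hv
  obtain ⟨c, rfl⟩ := hv
  rw [Matrix.mulVec_sum]
  apply Finset.sum_congr rfl
  intro i _
  rw [Matrix.mulVec_smul]
  congr 1
  exact congrFun hg i

theorem stabilizer_le_stabW {k : ℕ} {x : Fin k → ι → F} :
    MulAction.stabilizer (UG ι φ) x ≤ stabW φ (Submodule.span F (Set.range x)) := by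
  intro g hg
  rw [MulAction.mem_stabilizer_iff] at hg
  have hfix := fix_span_of_smul_eq hg
  rw [mem_stabW]
  apply stab_iff_of_map_le _ (UG_mulVec_injective g)
  intro v hv
  rw [hfix v hv]
  exact hv

theorem orbit_stabW_eq (hφ : φ ≠ RingHom.id F) (hφφ : ∀ x, φ (φ x) = x) {k : ℕ}
    {x : Fin k → ι → F} (hx : IsFr φ k x) :
    MulAction.orbit (stabW φ (Submodule.span F (Set.range x))) x
      = {y | LinearIndependent F y ∧
        Submodule.span F (Set.range y) = Submodule.span F (Set.range x)} := by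
  ext y
  constructor
  · rintro ⟨g, rfl⟩
    have hgf := isFr_smul (g : UG ι φ) hx
    refine ⟨hgf.1, ?_⟩
    have hg := (mem_stabW _ _).1 g.2
    show Submodule.span F (Set.range ((g : UG ι φ) • x)) = _
    apply Submodule.eq_of_le_of_finrank_eq
    · rw [Submodule.span_le]
      rintro _ ⟨i, rfl⟩
      exact (hg _).1 (Submodule.subset_span ⟨i, rfl⟩)
    · rw [finrank_span_eq_card hgf.1, finrank_span_eq_card hx.1]
  · rintro ⟨hy1, hy2⟩
    have hy : IsFr φ k y := by
      refine ⟨hy1, fun i j => ?_⟩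
      apply hdot_span_fr hx
      · rw [← hy2]; exact Submodule.subset_span ⟨i, rfl⟩
      · rw [← hy2]; exact Submodule.subset_span ⟨j, rfl⟩
    obtain ⟨M, hM, hMx⟩ := witt_family_UG φ hφ hφφ k x y hx.1 hy.1
      (fun i j => by rw [hx.2, hy.2])
    have hgP : hM.toUG φ ∈ stabW φ (Submodule.span F (Set.range x)) := by
      rw [mem_stabW]
      apply stab_iff_of_map_le _ (UG_mulVec_injective (hM.toUG φ))
      intro v hv
      rw [Submodule.mem_span_range_iff_exists_fun] at hv
      obtain ⟨c, rfl⟩ := hv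
      rw [IsU.coe_toUG, Matrix.mulVec_sum]
      apply Submodule.sum_mem
      intro i _
      rw [Matrix.mulVec_smul, hMx, ← hy2]
      exact Submodule.smul_mem _ _ (Submodule.subset_span ⟨i, rfl⟩)
    exact ⟨⟨hM.toUG φ, hgP⟩, funext hMx⟩

instance instFiniteUG : Finite (UG ι φ) := by
  have : Finite (Matrix ι ι F) := by unfold Matrix; infer_instance
  have : Finite (GL ι F) := Finite.of_injective (fun g => (g : Matrix ι ι F)) Units.val_injective
  infer_instance

/-- orbit–stabiliser for isotropic frames: the stabiliser of a totally isotropic subspace -/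
theorem card_stabW_mul (hφ : φ ≠ RingHom.id F) (hφφ : ∀ x, φ (φ x) = x) {k : ℕ}
    {x : Fin k → ι → F} (hx : IsFr φ k x) :
    Nat.card (stabW φ (Submodule.span F (Set.range x))) *
        Nat.card {y : Fin k → ι → F // IsFr φ k y}
      = Nat.card {y : Fin k → ι → F // LinearIndependent F y ∧
          Submodule.span F (Set.range y) = Submodule.span F (Set.range x)}
        * Nat.card (UG ι φ) := by
  obtain ⟨P, hP⟩ : ∃ P, P = stabW φ (Submodule.span F (Set.range x)) := ⟨_, rfl⟩
  rw [← hP]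
  have h1 := Subgroup.card_mul_index (MulAction.stabilizer (UG ι φ) x)
  rw [MulAction.index_stabilizer, orbit_eq_frames hφ hφφ hx] at h1
  have h2 := Subgroup.card_mul_index (MulAction.stabilizer P x)
  rw [MulAction.index_stabilizer] at h2
  have h3 : MulAction.orbit P x = {y | LinearIndependent F y ∧
      Submodule.span F (Set.range y) = Submodule.span F (Set.range x)} := by
    rw [hP]; exact orbit_stabW_eq hφ hφφ hx
  rw [h3] at h2
  have h4 : MulAction.stabilizer P x = (MulAction.stabilizer (UG ι φ) x).subgroupOf P := by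
    ext g
    rfl
  have hle : MulAction.stabilizer (UG ι φ) x ≤ P := by
    rw [hP]; exact stabilizer_le_stabW
  rw [h4, Nat.card_congr (Subgroup.subgroupOfEquivOfLe hle).toEquiv] at h2
  rw [← h1, ← h2]
  show _ * Set.ncard {y | LinearIndependent F y ∧ _} * _ = _
  rw [← Nat.card_coe_set_eq, ← Nat.card_coe_set_eq]
  have e1 : Nat.card ↑{y : Fin k → ι → F | LinearIndependent F y ∧
      Submodule.span F (Set.range y) = Submodule.span F (Set.range x)}
      = Nat.card {y : Fin k → ι → F // LinearIndependent F y ∧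
      Submodule.span F (Set.range y) = Submodule.span F (Set.range x)} := rfl
  have e2 : Nat.card ↑{y : Fin k → ι → F | IsFr φ k y}
      = Nat.card {y : Fin k → ι → F // IsFr φ k y} := rfl
  rw [e1, e2]
  ring

end orbits2

section bases

variable {F : Type*} [Field F] [Fintype F] {ι : Type*} [Fintype ι] [DecidableEq ι]

/-- ordered bases of a subspace -/
noncomputable def basesEquiv {k : ℕ} (W : Submodule F (ι → F)) (hW : Module.finrank F W = k) :
    {y : Fin k → ι → F // LinearIndependent F y ∧ Submodule.span F (Set.range y) = W} ≃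
      {s : Fin k → W // LinearIndependent F s} where
  toFun y := ⟨fun i => ⟨y.1 i, by
      obtain ⟨y, hy1, hy2⟩ := y
      have h : y i ∈ Submodule.span F (Set.range y) := Submodule.subset_span ⟨i, rfl⟩
      rw [hy2] at h
      exact h⟩, by
    apply LinearIndependent.of_comp W.subtype
    exact y.2.1⟩
  invFun s := ⟨fun i => (s.1 i : ι → F), by
    have hLI : LinearIndependent F (fun i => (s.1 i : ι → F)) :=
      s.2.map' W.subtype (Submodule.ker_subtype W)
    refine ⟨hLI, ?_⟩
    apply Submodule.eq_of_le_of_finrank_eq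
    · rw [Submodule.span_le]
      rintro _ ⟨i, rfl⟩
      exact (s.1 i).2
    · rw [finrank_span_eq_card hLI, Fintype.card_fin, hW]⟩
  left_inv y := rfl
  right_inv s := rfl

theorem card_bases {k : ℕ} (W : Submodule F (ι → F)) (hW : Module.finrank F W = k) :
    Nat.card {y : Fin k → ι → F // LinearIndependent F y ∧
      Submodule.span F (Set.range y) = W} =
      ∏ i : Fin k, (Fintype.card F ^ k - Fintype.card F ^ (i : ℕ)) := by
  rw [Nat.card_congr (basesEquiv W hW), card_linearIndependent (le_of_eq hW.symm), hW]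

end bases

section rotation

variable {F : Type*} [Field F] {ι : Type*} [Fintype ι] [DecidableEq ι] (φ : F →+* F)

/-- rank one perturbation of the identity -/
def r1 (v w : ι → F) (c : F) : Matrix ι ι F := 1 + c • Matrix.vecMulVec v (φ ∘ w)

theorem r1_mulVec (v w : ι → F) (c : F) (x : ι → F) :
    r1 φ v w c *ᵥ x = x + (c * hdot φ x w) • v := by
  unfold r1
  rw [Matrix.add_mulVec, Matrix.one_mulVec, Matrix.smul_mulVec, vecMulVec_mulVec', smul_smul]

theorem det_r1 (v w : ι → F) (c : F) : (r1 φ v w c).det = 1 + c * hdot φ v w := by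
  unfold r1
  have : c • Matrix.vecMulVec v (φ ∘ w) = Matrix.replicateCol Unit (c • v) *
      Matrix.replicateRow Unit (φ ∘ w) := by
    ext i j
    simp [Matrix.vecMulVec_apply, Matrix.mul_apply, mul_assoc]
  rw [this, Matrix.det_one_add_replicateCol_mul_replicateRow]
  unfold hdot
  rw [dotProduct_smul, dotProduct_comm, smul_eq_mul]

/-- hyperbolic rotation: `u ↦ a u`, `f ↦ b f`, identity on the orthogonal complement -/
def hrot (u f : ι → F) (a b : F) : Matrix ι ι F := r1 φ u f (a - 1) * r1 φ f u (b - 1)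

theorem hrot_mulVec (u f : ι → F) (hff : hdot φ f f = 0) (a b : F) (x : ι → F) :
    hrot φ u f a b *ᵥ x = x + ((a - 1) * hdot φ x f) • u + ((b - 1) * hdot φ x u) • f := by
  unfold hrot
  rw [← Matrix.mulVec_mulVec, r1_mulVec, r1_mulVec, hdot_add_left, hdot_smul_left, hff, mul_zero,
    add_zero]
  abel

theorem det_hrot (u f : ι → F) (huf : hdot φ u f = 1) (hfu : hdot φ f u = 1) (a b : F) :
    (hrot φ u f a b).det = a * b := by
  unfold hrot
  rw [Matrix.det_mul, det_r1, det_r1, huf, hfu]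
  ring

theorem isU_hrot (hφφ : ∀ x, φ (φ x) = x) (u f : ι → F) (huu : hdot φ u u = 0)
    (hff : hdot φ f f = 0) (huf : hdot φ u f = 1) (a b : F) (hab : a * φ b = 1) :
    IsU φ (hrot φ u f a b) := by
  have hfu : hdot φ f u = 1 := by rw [← hdot_conj φ hφφ u f, huf, map_one]
  have hab' : b * φ a = 1 := by
    have := congrArg φ hab
    rw [map_mul, hφφ, map_one] at this
    rw [mul_comm]
    exact this
  apply isU_of_preserves
  intro x y
  rw [hrot_mulVec φ u f hff, hrot_mulVec φ u f hff]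
  simp only [hdot_add_left, hdot_add_right, hdot_smul_left, hdot_smul_right, map_mul, map_sub,
    map_one]
  rw [hdot_conj φ hφφ y u, hdot_conj φ hφφ y f, huu, hff, huf, hfu]
  linear_combination (hdot φ x f * hdot φ u y) * hab + (hdot φ x u * hdot φ f y) * hab'

/-- Hilbert 90 for the involution `φ` -/
theorem exists_hilbert90 (hφ : φ ≠ RingHom.id F) (hφφ : ∀ x, φ (φ x) = x) (δ : F)
    (hδ : δ * φ δ = 1) : ∃ l : F, l ≠ 0 ∧ l = δ * φ l := by
  obtain ⟨t, ht⟩ : ∃ t : F, t + δ * φ t ≠ 0 := by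
    by_contra h
    push Not at h
    have h1 := h 1
    rw [map_one, mul_one] at h1
    have hδ1 : δ = -1 := by linear_combination h1
    apply hφ
    ext t
    have := h t
    rw [hδ1] at this
    rw [RingHom.id_apply]
    linear_combination -this
  refine ⟨t + δ * φ t, ht, ?_⟩
  rw [map_add, map_mul, hφφ]
  linear_combination (-t) * hδ

end rotation

section detstab

variable {F : Type*} [Field F] {ι : Type*} [Fintype ι] [DecidableEq ι] (φ : F →+* F)

/-- the stabiliser of a totally isotropic subspace contains unitary matrices of every possible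
determinant -/
theorem exists_isU_det_stab (hφ : φ ≠ RingHom.id F) (hφφ : ∀ x, φ (φ x) = x) [Nonempty ι]
    (W : Submodule F (ι → F)) (hW : ∀ u ∈ W, ∀ v ∈ W, hdot φ u v = 0) (δ : F)
    (hδ : δ * φ δ = 1) :
    ∃ M : Matrix ι ι F, IsU φ M ∧ M.det = δ ∧ ∀ v, v ∈ W ↔ M *ᵥ v ∈ W := by
  by_cases hbot : W = ⊥
  · obtain ⟨i0⟩ := (inferInstance : Nonempty ι)
    obtain ⟨d, hd_def⟩ : ∃ d : ι → F, d = Function.update (fun _ => (1 : F)) i0 δ := ⟨_, rfl⟩
    have hd : ∀ i, d i * φ (d i) = 1 := by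
      intro i
      by_cases hi : i = i0
      · subst hi
        rw [hd_def, Function.update_self]
        exact hδ
      · rw [hd_def, Function.update_of_ne hi, map_one, mul_one]
    have hU := isU_diagonal φ d hd
    have hdet : (Matrix.diagonal d).det = δ := by
      rw [Matrix.det_diagonal, hd_def, Finset.prod_update_of_mem (Finset.mem_univ _)]
      simp
    refine ⟨Matrix.diagonal d, hU, hdet, ?_⟩
    apply stab_iff_of_map_le _ (fun x y hxy => by
      have : Matrix.diagonal d *ᵥ (x - y) = 0 := by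
        rw [Matrix.mulVec_sub]
        exact sub_eq_zero.2 hxy
      apply sub_eq_zero.1
      apply eq_zero_of_hdot_right φ
      intro z
      rw [← hU.hdot_mulVec, this, hdot_zero_left])
    intro v hv
    rw [hbot, Submodule.mem_bot] at hv
    rw [hv, Matrix.mulVec_zero]
    exact W.zero_mem
  · obtain ⟨u, huW, hu0⟩ := Submodule.exists_mem_ne_zero_of_ne_bot hbot
    have huu := hW u huW u huW
    obtain ⟨f, hff, huf⟩ := exists_partner φ hφ hφφ u huu hu0
    have hfu : hdot φ f u = 1 := by rw [← hdot_conj φ hφφ u f, huf, map_one]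
    obtain ⟨l, hl0, hl⟩ := exists_hilbert90 φ hφ hφφ δ hδ
    have hφl0 : φ l ≠ 0 := (map_ne_zero φ).2 hl0
    have hab : l * φ (φ l)⁻¹ = 1 := by
      rw [map_inv₀, hφφ]
      exact mul_inv_cancel₀ hl0
    have hU := isU_hrot φ hφφ u f huu hff huf l (φ l)⁻¹ hab
    refine ⟨hrot φ u f l (φ l)⁻¹, hU, ?_, ?_⟩
    · rw [det_hrot φ u f huf hfu]
      field_simp
      rw [mul_comm]
      exact hl
    · apply stab_iff_of_map_le _ (fun x y hxy => by
        have : hrot φ u f l (φ l)⁻¹ *ᵥ (x - y) = 0 := by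
          rw [Matrix.mulVec_sub]
          exact sub_eq_zero.2 hxy
        apply sub_eq_zero.1
        apply eq_zero_of_hdot_right φ
        intro z
        rw [← hU.hdot_mulVec, this, hdot_zero_left])
      intro v hv
      rw [hrot_mulVec φ u f hff, hW v hv u huW, mul_zero, zero_smul, add_zero]
      exact W.add_mem hv (W.smul_mem _ huW)

end detstab

section final

variable {F : Type*} [Field F] [Fintype F] {q : ℕ}

/-- determinant on the stabiliser -/
noncomputable def detStab {ι : Type*} [Fintype ι] [DecidableEq ι] (φ : F →+* F)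
    (W : Submodule F (ι → F)) : stabW φ W →* Fˣ :=
  Matrix.GeneralLinearGroup.det.comp ((UG ι φ).subtype.comp (stabW φ W).subtype)

theorem detStab_apply {ι : Type*} [Fintype ι] [DecidableEq ι] (φ : F →+* F)
    (W : Submodule F (ι → F)) (g : stabW φ W) :
    ((detStab φ W g : Fˣ) : F) = (((g : UG ι φ) : GL ι F) : Matrix ι ι F).det := rfl

theorem range_detStab (hF : Fintype.card F = q ^ 2) (φ : F →+* F) (hφ : ∀ x, φ x = x ^ q)
    (n : ℕ) (hn : 1 ≤ n) (W : Submodule F (Fin n → F))
    (hW : ∀ u ∈ W, ∀ v ∈ W, hdot φ u v = 0) :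
    (detStab φ W).range = (powMonoidHom (q + 1) : Fˣ →* Fˣ).ker := by
  have hφφ := frob_frob hF φ hφ
  have hφid := frob_ne_id hF φ hφ
  ext u
  constructor
  · rintro ⟨g, rfl⟩
    rw [MonoidHom.mem_ker, powMonoidHom_apply]
    apply Units.ext
    rw [Units.val_pow_eq_pow_val, Units.val_one, detStab_apply, pow_succ, mul_comm]
    have := IsU.det_norm φ (g : UG (Fin n) φ).2
    rw [hφ, mul_comm] at this
    rw [mul_comm]
    exact this
  · intro hu
    rw [MonoidHom.mem_ker, powMonoidHom_apply] at hu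
    have hu' : (u : F) * φ (u : F) = 1 := by
      have := congrArg Units.val hu
      rw [Units.val_pow_eq_pow_val, Units.val_one, pow_succ, mul_comm] at this
      rw [hφ]
      exact this
    have : Nonempty (Fin n) := ⟨⟨0, hn⟩⟩
    obtain ⟨M, hM, hdet, hstab⟩ := exists_isU_det_stab φ hφid hφφ W hW (u : F) hu'
    refine ⟨⟨hM.toUG φ, hstab⟩, ?_⟩
    apply Units.ext
    rw [detStab_apply]
    exact hdet

/-- the kernel of the determinant on the stabiliser is the stabiliser in `SU` -/
noncomputable def kerDetStabEquiv (φ : F →+* F) (hφ : ∀ x, φ x = x ^ q)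
    (n : ℕ) (W : Submodule F (Fin n → F)) :
    (detStab φ W).ker ≃ ((Cfsg.stabilizing (Cfsg.slToMat n F)
      (W : Set (Fin n → F))).subgroupOf (Cfsg.SU n F q)) where
  toFun k := ⟨⟨mkSL (((k.1 : UG (Fin n) φ) : GL (Fin n) F) : Matrix (Fin n) (Fin n) F) (by
      have := k.2
      rw [MonoidHom.mem_ker] at this
      have := congrArg Units.val this
      rw [detStab_apply, Units.val_one] at this
      exact this), by
    rw [mem_SU_iff_isU φ hφ]
    exact (k.1 : UG (Fin n) φ).2⟩, by
    rw [Subgroup.mem_subgroupOf]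
    exact k.1.2⟩
  invFun s := ⟨⟨⟨Matrix.SpecialLinearGroup.toGL s.1.1, by
      exact (mem_SU_iff_isU φ hφ n s.1.1).1 s.1.2⟩, by
      have := s.2
      rw [Subgroup.mem_subgroupOf] at this
      exact this⟩, by
    rw [MonoidHom.mem_ker]
    apply Units.ext
    rw [detStab_apply, Units.val_one]
    exact s.1.1.2⟩
  left_inv k := by
    apply Subtype.ext
    apply Subtype.ext
    apply Subtype.ext
    apply Units.ext
    rfl
  right_inv s := by
    apply Subtype.ext
    apply Subtype.ext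
    apply Subtype.ext
    rfl

theorem card_stabW_eq (hF : Fintype.card F = q ^ 2) (φ : F →+* F) (hφ : ∀ x, φ x = x ^ q)
    (n : ℕ) (hn : 1 ≤ n) (W : Submodule F (Fin n → F))
    (hW : ∀ u ∈ W, ∀ v ∈ W, hdot φ u v = 0) :
    (q + 1) * Nat.card ((Cfsg.stabilizing (Cfsg.slToMat n F)
      (W : Set (Fin n → F))).subgroupOf (Cfsg.SU n F q)) = Nat.card (stabW φ W) := by
  have : Finite (UG (Fin n) φ) := instFiniteUG
  have h1 := Subgroup.card_mul_index (detStab φ W).ker
  rw [Subgroup.index_ker, range_detStab hF φ hφ n hn W hW, card_ker_norm hF,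
    Nat.card_congr (kerDetStabEquiv φ hφ n W)] at h1
  rw [← h1, mul_comm]

end final

section arith

variable {F : Type*} [Field F] [Fintype F] {q : ℕ}

theorem card_IsoV_add_one (φ : F →+* F) (hφ : ∀ x, φ x = x ^ q) (m : ℕ) :
    Nat.card (IsoV φ m) + 1 = cnt F q m 0 := by
  have := card_iso_ne_zero (F := F) (q := q) m
  simp only [hermForm_eq_hdot φ hφ] at this
  exact this

theorem card_IsoV_int (hF : Fintype.card F = q ^ 2) (φ : F →+* F) (hφ : ∀ x, φ x = x ^ q)
    (m : ℕ) : (Nat.card (IsoV φ (m + 1)) : ℤ) =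
      ((q : ℤ) ^ (m + 1) - (-1) ^ (m + 1)) * ((q : ℤ) ^ m + (-1) ^ (m + 1)) := by
  have h1 := card_IsoV_add_one φ hφ (m + 1)
  have h2 := cnt_zero_sub_one hF m
  rw [← h2, ← h1]
  push_cast
  ring

theorem guOrder_add_two (hF : Fintype.card F = q ^ 2) (φ : F →+* F) (hφ : ∀ x, φ x = x ^ q)
    (m : ℕ) : guOrder q (m + 2) = q ^ (2 * m + 1) * Nat.card (IsoV φ (m + 2)) * guOrder q m := by
  have hq := two_le_q hF
  have h1 : ∀ j, 1 ≤ q ^ j := fun j => Nat.one_le_pow _ _ (by omega)
  have hI := card_IsoV_int hF φ hφ (m + 1)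
  rw [guOrder_succ q (m + 1), guOrder_succ q m]
  by_cases hm : Even m
  · have hm1 : ¬ Even (m + 1) := by rw [Nat.even_add_one]; exact not_not.2 hm
    have hm2 : Even (m + 1 + 1) := by rw [Nat.even_add_one]; exact hm1
    rw [if_pos hm2, if_neg hm1]
    have hN : Nat.card (IsoV φ (m + 2)) = (q ^ (m + 2) - 1) * (q ^ (m + 1) + 1) := by
      zify [h1 (m + 2)]
      rw [hI, hm2.neg_one_pow]
    rw [hN]
    have : 2 * m + 1 = (m + 1) + m := by ring
    rw [this, pow_add]
    ring
  · have hm1 : Even (m + 1) := by rw [Nat.even_add_one]; exact hm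
    have hm2 : ¬ Even (m + 1 + 1) := by rw [Nat.even_add_one]; exact not_not.2 hm1
    rw [if_neg hm2, if_pos hm1]
    have hodd : Odd (m + 1 + 1) := Nat.not_even_iff_odd.1 hm2
    have hN : Nat.card (IsoV φ (m + 2)) = (q ^ (m + 2) + 1) * (q ^ (m + 1) - 1) := by
      zify [h1 (m + 1)]
      rw [hI, hodd.neg_one_pow]
      ring
    rw [hN]
    have : 2 * m + 1 = (m + 1) + m := by ring
    rw [this, pow_add]
    ring

theorem guOrder_frames (hF : Fintype.card F = q ^ 2) (φ : F →+* F) (hφ : ∀ x, φ x = x ^ q)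
    (m k : ℕ) : guOrder q (m + 2 * k) = q ^ (k * (2 * m + k)) *
      (∏ i ∈ Finset.range k, ((q ^ 2) ^ i * Nat.card (IsoV φ (m + 2 * k - 2 * i)))) *
      guOrder q m := by
  induction k with
  | zero => simp
  | succ k ih =>
    have e1 : m + 2 * (k + 1) = (m + 2 * k) + 2 := by ring
    have e2 : ∀ i ∈ Finset.range k,
        (q ^ 2) ^ (i + 1) * Nat.card (IsoV φ (m + 2 * k + 2 - 2 * (i + 1))) =
        (q ^ 2) * ((q ^ 2) ^ i * Nat.card (IsoV φ (m + 2 * k - 2 * i))) := by
      intro i hi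
      have : m + 2 * k + 2 - 2 * (i + 1) = m + 2 * k - 2 * i := by omega
      rw [this, pow_succ]
      ring
    have hprod : (∏ i ∈ Finset.range (k + 1),
        ((q ^ 2) ^ i * Nat.card (IsoV φ (m + 2 * k + 2 - 2 * i)))) =
        (q ^ 2) ^ k * (∏ i ∈ Finset.range k,
          ((q ^ 2) ^ i * Nat.card (IsoV φ (m + 2 * k - 2 * i)))) *
          Nat.card (IsoV φ (m + 2 * k + 2)) := by
      rw [Finset.prod_range_succ', Finset.prod_congr rfl e2, Finset.prod_mul_distrib,
        Finset.prod_const, Finset.card_range]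
      simp only [Nat.mul_zero, Nat.sub_zero, pow_zero, one_mul]
    rw [e1, guOrder_add_two hF φ hφ, ih, hprod]
    have e3 : (k + 1) * (2 * m + (k + 1)) + 2 * k = (2 * (m + 2 * k) + 1) + k * (2 * m + k) := by
      ring
    have e4 : q ^ ((k + 1) * (2 * m + (k + 1))) * (q ^ 2) ^ k =
        q ^ (2 * (m + 2 * k) + 1) * q ^ (k * (2 * m + k)) := by
      rw [← pow_mul, ← pow_add, ← pow_add, e3]
    calc q ^ (2 * (m + 2 * k) + 1) * Nat.card (IsoV φ (m + 2 * k + 2)) *
          (q ^ (k * (2 * m + k)) *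
            (∏ i ∈ Finset.range k, ((q ^ 2) ^ i * Nat.card (IsoV φ (m + 2 * k - 2 * i)))) *
            guOrder q m)
        = (q ^ (2 * (m + 2 * k) + 1) * q ^ (k * (2 * m + k))) *
          (Nat.card (IsoV φ (m + 2 * k + 2)) *
            (∏ i ∈ Finset.range k, ((q ^ 2) ^ i * Nat.card (IsoV φ (m + 2 * k - 2 * i)))) *
            guOrder q m) := by ring
      _ = _ := by
        rw [← e4]
        ring

end arith

end Cfsg.Agent.Helper11.Herm
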