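import Mathlib
import Cfsg.Agent.Lib.Helper11.SU2GFam
import Cfsg.Agent.Lib.Helper12.SUgenM

set_option autoImplicit false

/-! The standard Witt family of a coordinate space and the cyclic shift matrix (for S2412). -/

namespace Cfsg.Agent.Helper11.SU2G

open Matrix Cfsg.Agent.Helper11.Herm Cfsg.Agent.Helper12.SUgen

variable {F : Type*} [Field F]

/-- the cyclic shift of the first `2 m` coordinates -/
def nx1 (m j : ℕ) : ℕ := if j + 1 < 2 * m then j + 1 else if j < 2 * m then 0 else j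

theorem nx1_lt {n m j : ℕ} (h2m : 2 * m ≤ n) (hj : j < n) : nx1 m j < n := by
  unfold nx1
  split_ifs <;> omega

theorem nx1_inj {m a b : ℕ} (h : nx1 m a = nx1 m b) : a = b := by
  unfold nx1 at h
  split_ifs at h <;> omega

theorem nx2_even {m i : ℕ} (hi : i + 1 < m) : nx1 m (nx1 m (2 * i)) = 2 * (i + 1) := by
  unfold nx1
  split_ifs <;> omega

theorem nx2_odd {m i : ℕ} (hi : i + 1 < m) : nx1 m (nx1 m (2 * i + 1)) = 2 * (i + 1) + 1 := by
  unfold nx1
  split_ifs <;> omega

theorem nx2_even_last {m : ℕ} (hm : 1 ≤ m) : nx1 m (nx1 m (2 * (m - 1))) = 2 * 0 := by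
  unfold nx1
  split_ifs <;> omega

theorem nx2_odd_last {m : ℕ} (hm : 1 ≤ m) : nx1 m (nx1 m (2 * (m - 1) + 1)) = 2 * 0 + 1 := by
  unfold nx1
  split_ifs <;> omega

theorem nx2_d {m : ℕ} : nx1 m (nx1 m (2 * m)) = 2 * m := by
  unfold nx1
  split_ifs <;> omega

/-- the permutation matrix of the cyclic shift -/
def shiftM (n m : ℕ) : Matrix (Fin n) (Fin n) F :=
  Matrix.of fun i j => if i.val = nx1 m j.val then 1 else 0

theorem shiftM_mulVec_bk (n m : ℕ) (j : ℕ) (hj : j < n) :
    (shiftM n m : Matrix (Fin n) (Fin n) F) *ᵥ bk n j = bk n (nx1 m j) := by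
  rw [bk_eq_single n j hj, Matrix.mulVec_single_one]
  funext i
  rfl

theorem shiftM_tr_mul (n m : ℕ) (h2m : 2 * m ≤ n) :
    (shiftM n m : Matrix (Fin n) (Fin n) F)ᵀ * shiftM n m = 1 := by
  ext i j
  rw [Matrix.mul_apply, Matrix.one_apply]
  rw [Finset.sum_eq_single (⟨nx1 m i.val, nx1_lt h2m i.isLt⟩ : Fin n)]
  · simp only [shiftM, Matrix.transpose_apply, Matrix.of_apply, if_true, one_mul]
    by_cases h : i = j
    · subst h
      rw [if_pos rfl, if_pos rfl]
    · rw [if_neg h, if_neg]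
      intro h2
      exact h (Fin.ext (nx1_inj h2))
  · intro k _ hk
    simp only [shiftM, Matrix.transpose_apply, Matrix.of_apply]
    rw [if_neg, zero_mul]
    intro h2
    exact hk (Fin.ext h2)
  · intro h
    exact absurd (Finset.mem_univ _) h

theorem shiftM_map (φ : F →+* F) (n m : ℕ) :
    (shiftM n m : Matrix (Fin n) (Fin n) F).map φ = shiftM n m := by
  ext i j
  simp only [shiftM, Matrix.map_apply, Matrix.of_apply]
  split_ifs
  · exact map_one φ
  · exact map_zero φ

theorem isU_shiftM (φ : F →+* F) (n m : ℕ) (h2m : 2 * m ≤ n) :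
    IsU φ (shiftM n m : Matrix (Fin n) (Fin n) F) := by
  unfold IsU
  rw [shiftM_map, shiftM_tr_mul n m h2m]

/-- the cyclic shift of the hyperbolic pairs -/
def shift2 (n m : ℕ) : Matrix (Fin n) (Fin n) F := shiftM n m * shiftM n m

theorem isU_shift2 (φ : F →+* F) (n m : ℕ) (h2m : 2 * m ≤ n) :
    IsU φ (shift2 n m : Matrix (Fin n) (Fin n) F) :=
  IsU.mul φ (isU_shiftM φ n m h2m) (isU_shiftM φ n m h2m)

theorem det_shift2 (n m : ℕ) (h2m : 2 * m ≤ n) :
    (shift2 n m : Matrix (Fin n) (Fin n) F).det = 1 := by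
  have h := congrArg Matrix.det (shiftM_tr_mul (F := F) n m h2m)
  rw [Matrix.det_mul, Matrix.det_transpose, Matrix.det_one] at h
  unfold shift2
  rw [Matrix.det_mul, h]

theorem shift2_mulVec_bk (n m : ℕ) (h2m : 2 * m ≤ n) (j : ℕ) (hj : j < n) :
    (shift2 n m : Matrix (Fin n) (Fin n) F) *ᵥ bk n j = bk n (nx1 m (nx1 m j)) := by
  unfold shift2
  rw [← Matrix.mulVec_mulVec, shiftM_mulVec_bk n m j hj,
    shiftM_mulVec_bk n m _ (nx1_lt h2m hj)]

/-- the standard isotropic vectors -/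
def ge (n : ℕ) (lam : F) (i : ℕ) : Fin n → F := bk n (2 * i) + lam • bk n (2 * i + 1)

def gf (n : ℕ) (lam τ : F) (i : ℕ) : Fin n → F := bk n (2 * i) - τ • ge n lam i

theorem shift2_ge (n m : ℕ) (h2m : 2 * m ≤ n) (lam : F) (i : ℕ) (hi : i + 1 < m) :
    (shift2 n m : Matrix (Fin n) (Fin n) F) *ᵥ ge n lam i = ge n lam (i + 1) := by
  unfold ge
  rw [Matrix.mulVec_add, Matrix.mulVec_smul, shift2_mulVec_bk n m h2m _ (by omega),
    shift2_mulVec_bk n m h2m _ (by omega), nx2_even hi, nx2_odd hi]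

theorem shift2_ge_last (n m : ℕ) (h2m : 2 * m ≤ n) (hm : 1 ≤ m) (lam : F) :
    (shift2 n m : Matrix (Fin n) (Fin n) F) *ᵥ ge n lam (m - 1) = ge n lam 0 := by
  unfold ge
  rw [Matrix.mulVec_add, Matrix.mulVec_smul, shift2_mulVec_bk n m h2m _ (by omega),
    shift2_mulVec_bk n m h2m _ (by omega), nx2_even_last hm, nx2_odd_last hm]

theorem shift2_gf (n m : ℕ) (h2m : 2 * m ≤ n) (lam τ : F) (i : ℕ) (hi : i + 1 < m) :
    (shift2 n m : Matrix (Fin n) (Fin n) F) *ᵥ gf n lam τ i = gf n lam τ (i + 1) := by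
  unfold gf
  rw [Matrix.mulVec_sub, Matrix.mulVec_smul, shift2_ge n m h2m lam i hi,
    shift2_mulVec_bk n m h2m _ (by omega), nx2_even hi]

theorem shift2_gf_last (n m : ℕ) (h2m : 2 * m ≤ n) (hm : 1 ≤ m) (lam τ : F) :
    (shift2 n m : Matrix (Fin n) (Fin n) F) *ᵥ gf n lam τ (m - 1) = gf n lam τ 0 := by
  unfold gf
  rw [Matrix.mulVec_sub, Matrix.mulVec_smul, shift2_ge_last n m h2m hm lam,
    shift2_mulVec_bk n m h2m _ (by omega), nx2_even_last hm]

theorem shift2_d (m : ℕ) :
    (shift2 (2 * m + 1) m : Matrix (Fin (2 * m + 1)) (Fin (2 * m + 1)) F) *ᵥ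
      bk (2 * m + 1) (2 * m) = bk (2 * m + 1) (2 * m) := by
  rw [shift2_mulVec_bk _ m (by omega) _ (by omega), nx2_d]

section relations

variable {φ : F →+* F} (n : ℕ) (lam τ : F) (hlam : lam * φ lam = -1) (hτ : τ + φ τ = 1)

include hlam in
theorem ge_ge (i j : ℕ) (hi : 2 * i + 1 < n) (hj : 2 * j + 1 < n) :
    hdot φ (ge n lam i) (ge n lam j) = 0 := by
  unfold ge
  simp only [hdot_add_left, hdot_add_right, hdot_smul_left, hdot_smul_right]
  rw [hbk φ _ (2 * i) (2 * j) (by omega) (by omega),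
    hbk φ _ (2 * i) (2 * j + 1) (by omega) (by omega),
    hbk φ _ (2 * i + 1) (2 * j) (by omega) (by omega),
    hbk φ _ (2 * i + 1) (2 * j + 1) (by omega) (by omega)]
  by_cases h : i = j
  · subst h
    rw [if_pos rfl, if_neg (by omega), if_neg (by omega), if_pos rfl]
    linear_combination hlam
  · rw [if_neg (by omega), if_neg (by omega), if_neg (by omega), if_neg (by omega)]
    ring

theorem bk_ge (i j : ℕ) (hi : 2 * i + 1 < n) (hj : 2 * j + 1 < n) :
    hdot φ (bk n (2 * i)) (ge n lam j) = if i = j then 1 else 0 := by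
  unfold ge
  simp only [hdot_add_right, hdot_smul_right]
  rw [hbk φ _ (2 * i) (2 * j) (by omega) (by omega),
    hbk φ _ (2 * i) (2 * j + 1) (by omega) (by omega)]
  by_cases h : i = j
  · subst h
    rw [if_pos rfl, if_neg (by omega), if_pos rfl]
    ring
  · rw [if_neg (by omega), if_neg (by omega), if_neg h]
    ring

theorem ge_bk (i j : ℕ) (hi : 2 * i + 1 < n) (hj : 2 * j + 1 < n) :
    hdot φ (ge n lam i) (bk n (2 * j)) = if i = j then 1 else 0 := by
  unfold ge
  simp only [hdot_add_left, hdot_smul_left]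
  rw [hbk φ _ (2 * i) (2 * j) (by omega) (by omega),
    hbk φ _ (2 * i + 1) (2 * j) (by omega) (by omega)]
  by_cases h : i = j
  · subst h
    rw [if_pos rfl, if_neg (by omega), if_pos rfl]
    ring
  · rw [if_neg (by omega), if_neg (by omega), if_neg h]
    ring

include hlam hτ in
theorem gf_gf (i j : ℕ) (hi : 2 * i + 1 < n) (hj : 2 * j + 1 < n) :
    hdot φ (gf n lam τ i) (gf n lam τ j) = 0 := by
  unfold gf
  simp only [hdot_sub_left, hdot_sub_right, hdot_smul_left, hdot_smul_right]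
  rw [ge_ge n lam hlam i j hi hj, bk_ge n lam i j hi hj, ge_bk n lam i j hi hj,
    hbk φ _ (2 * i) (2 * j) (by omega) (by omega)]
  by_cases h : i = j
  · subst h
    rw [if_pos rfl, if_pos rfl]
    linear_combination -hτ
  · rw [if_neg (by omega), if_neg h]
    ring

include hlam in
theorem ge_gf (i j : ℕ) (hi : 2 * i + 1 < n) (hj : 2 * j + 1 < n) :
    hdot φ (ge n lam i) (gf n lam τ j) = if i = j then 1 else 0 := by
  unfold gf
  simp only [hdot_sub_right, hdot_smul_right]
  rw [ge_ge n lam hlam i j hi hj, ge_bk n lam i j hi hj]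
  ring

include hlam in
theorem gf_ge (i j : ℕ) (hi : 2 * i + 1 < n) (hj : 2 * j + 1 < n) :
    hdot φ (gf n lam τ i) (ge n lam j) = if i = j then 1 else 0 := by
  unfold gf
  simp only [hdot_sub_left, hdot_smul_left]
  rw [ge_ge n lam hlam i j hi hj, bk_ge n lam i j hi hj]
  ring

/-- the standard Witt family in even dimension -/
def stdWittE (m : ℕ) : WittE φ (Fin (2 * m)) m where
  e := ge (2 * m) lam
  f := gf (2 * m) lam τ
  ee := fun i j hi hj => ge_ge _ lam hlam i j (by omega) (by omega)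
  ff := fun i j hi hj => gf_gf _ lam τ hlam hτ i j (by omega) (by omega)
  ef := fun i j hi hj => ge_gf _ lam τ hlam i j (by omega) (by omega)
  fe := fun i j hi hj => gf_ge _ lam τ hlam i j (by omega) (by omega)
  span := by
    intro S he hf x
    have hlam0 : lam ≠ 0 := by
      intro h
      rw [h, zero_mul] at hlam
      exact zero_ne_one (by linear_combination -hlam)
    have h0 : ∀ i, i < m → bk (2 * m) (2 * i) ∈ S := by
      intro i hi
      have := S.add_mem (hf i hi) (S.smul_mem τ (he i hi))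
      have e1 : gf (2 * m) lam τ i + τ • ge (2 * m) lam i = bk (2 * m) (2 * i) := by
        unfold gf; abel
      rwa [e1] at this
    have h1 : ∀ i, i < m → bk (2 * m) (2 * i + 1) ∈ S := by
      intro i hi
      have := S.smul_mem lam⁻¹ (S.sub_mem (he i hi) (h0 i hi))
      have e1 : lam⁻¹ • (ge (2 * m) lam i - bk (2 * m) (2 * i)) = bk (2 * m) (2 * i + 1) := by
        unfold ge
        rw [add_sub_cancel_left, smul_smul, inv_mul_cancel₀ hlam0, one_smul]
      rwa [e1] at this
    rw [pi_eq_sum_univ x]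
    apply S.sum_mem
    intro j _
    apply S.smul_mem
    have e2 : (fun j' : Fin (2 * m) => if j = j' then (1 : F) else 0) = bk (2 * m) j.val := by
      funext j'
      unfold bk
      simp only [Fin.ext_iff, eq_comm]
    rw [e2]
    have hj := j.isLt
    rcases Nat.even_or_odd' j.val with ⟨i, hi | hi⟩
    · rw [hi]; exact h0 i (by omega)
    · rw [hi]; exact h1 i (by omega)

end relations

end Cfsg.Agent.Helper11.SU2G
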