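import Mathlib
import Cfsg.Agent.Lib.Helper11.SU2GStd
import Cfsg.Agent.Lib.Helper28.SpTwoA

set_option autoImplicit false

/-! `SU_n(q)`, `n ≥ 4`, is generated by two elements (the Steinberg pair), for S2412. -/

namespace Cfsg.Agent.Helper11.SU2G

open Matrix Cfsg.Agent.Helper11.Herm Cfsg.Agent.Helper12.SUgen

variable {F : Type*} [Field F] [Fintype F] {q : ℕ}

theorem exists_params2 (hF : Fintype.card F = q ^ 2) (φ : F →+* F) (hφ : ∀ x, φ x = x ^ q) :
    ∃ (ν : Fˣ) (κ τ lam : F), (∀ x : Fˣ, x ∈ Subgroup.zpowers ν) ∧ φ κ = -κ ∧ κ ≠ 0 ∧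
      τ + φ τ = 1 ∧ lam * φ lam = -1 := by
  obtain ⟨κ, μ, τ, lam, td, hκ, hκ0, -, hμ0, hμ, hτ, hlam, -, -⟩ := exists_params hF φ hφ
  refine ⟨Units.mk0 μ hμ0, κ, τ, lam, ?_, hκ, hκ0, hτ, hlam⟩
  intro x
  obtain ⟨k, hk⟩ := hμ (x : F) x.ne_zero
  rw [Subgroup.mem_zpowers_iff]
  refine ⟨k, ?_⟩
  apply Units.ext
  rw [zpow_natCast, Units.val_pow_eq_pow_val, Units.val_mk0, hk]

theorem gen_facts (hF : Fintype.card F = q ^ 2) (φ : F →+* F) (hφ : ∀ x, φ x = x ^ q)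
    (ν : Fˣ) (hν : ∀ x : Fˣ, x ∈ Subgroup.zpowers ν) :
    (ν : F) ≠ 1 ∧ (ν : F) * ν ≠ 1 ∧ φ ν ≠ ν := by
  have hq := two_le_q hF
  have hord : orderOf ν = Fintype.card F - 1 := by
    rw [orderOf_eq_card_of_forall_mem_zpowers hν, Nat.card_units, Nat.card_eq_fintype_card]
  have hcard : 4 ≤ Fintype.card F := by
    rw [hF]
    nlinarith
  refine ⟨?_, ?_, ?_⟩
  · intro h
    have h1 : ν ^ 1 = 1 := by
      apply Units.ext
      rw [pow_one, h, Units.val_one]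
    have := Nat.le_of_dvd one_pos (orderOf_dvd_of_pow_eq_one h1)
    omega
  · intro h
    have h1 : ν ^ 2 = 1 := by
      apply Units.ext
      rw [pow_two, Units.val_mul, h, Units.val_one]
    have := Nat.le_of_dvd two_pos (orderOf_dvd_of_pow_eq_one h1)
    omega
  · intro h
    apply frob_ne_id hF φ hφ
    ext y
    rw [RingHom.id_apply]
    by_cases hy : y = 0
    · rw [hy, map_zero]
    · obtain ⟨k, hk⟩ := Subgroup.mem_zpowers_iff.1 (hν (Units.mk0 y hy))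
      have hk' : y = (ν : F) ^ k := by
        have := congrArg Units.val hk
        rw [Units.val_mk0, Units.val_zpow_eq_zpow_val] at this
        exact this.symm
      rw [hk', map_zpow₀, h]

theorem hclos_of_gen (ν : Fˣ) (hν : ∀ x : Fˣ, x ∈ Subgroup.zpowers ν) {l : F}
    (h : l = ν ∨ l = (ν : F) * ν) :
    ∀ A : AddSubgroup F, (∀ c ∈ A, l * c ∈ A) → ∀ c₀ ∈ A, c₀ ≠ 0 → A = ⊤ := by
  intro A hA c₀ hc₀ hne
  apply Cfsg.Agent.Helper28.SpTwo.addSubgroup_eq_top_of_sq ν hν A _ c₀ hc₀ hne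
  intro c hc
  rcases h with h | h
  · rw [mul_assoc, ← h]
    exact hA _ (hA c hc)
  · rw [← h]
    exact hA c hc

/-- even dimension -/
theorem two_gen_even (hF : Fintype.card F = q ^ 2) (φ : F →+* F) (hφ : ∀ x, φ x = x ^ q)
    (m : ℕ) (hm : 2 ≤ m) :
    ∃ a b : SUg (Fin (2 * m)) φ, Subgroup.closure ({a, b} : Set (SUg (Fin (2 * m)) φ)) = ⊤ := by
  have hφφ := frob_frob hF φ hφ
  have hne := frob_ne_id hF φ hφ
  have hN1 := frob_norm_surj hF φ hφ
  obtain ⟨ν, κ, τ, lam, hν, hκ, hκ0, hτ, hlam⟩ := exists_params2 hF φ hφ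
  obtain ⟨hν1, hν2, hνφ⟩ := gen_facts hF φ hφ ν hν
  have hgen : ∀ M : Matrix (Fin (2 * m)) (Fin (2 * m)) F, IsU φ M → M.det = 1 → M ∈ TM φ :=
    fun M hM hd => mem_TM_of_isU_of_det φ hne hφφ hN1
      (Or.inl (by rw [Fintype.card_fin]; omega)) ⟨0, by omega⟩ M hM hd
  have h0m : 0 < m := by omega
  have h1m : 1 < m := by omega
  set W : WittE φ (Fin (2 * m)) m := stdWittE lam τ hlam hτ m with hW
  have hk0 : φ (ν : F) ≠ 0 := fun h => ν.ne_zero (by rw [← hφφ (ν : F), h, map_zero])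
  have hee := W.ee 0 0 h0m h0m
  have hf1e0 : hdot φ (W.f 1) (W.e 0) = 0 := by rw [W.fe 1 0 h1m h0m, if_neg (by omega)]
  have he0f1 : hdot φ (W.e 0) (W.f 1) = 0 := by rw [W.ef 0 1 h0m h1m, if_neg (by omega)]
  have hf1f1 : hdot φ (W.f 1) (W.f 1) = 0 := W.ff 1 1 h1m h1m
  set gh : SUg (Fin (2 * m)) φ := mkS φ (torus2 W.fam (φ ν)) (isU_torus2 W.fam hφφ hm hk0)
    (det_torus2 W.fam hφφ hm hk0) with hgh
  set gw : SUg (Fin (2 * m)) φ := mkS φ (cox W.fam κ (shift2 (2 * m) m))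
    (isU_cox W.fam hφφ hm hκ0 hκ (isU_shift2 φ _ m le_rfl))
    (det_cox W.fam hm hκ0 (det_shift2 _ m le_rfl)) with hgw
  set gx : SUg (Fin (2 * m)) φ := mkS φ (sg φ (W.e 0) (W.f 1) 0)
    (isU_sg φ hφφ _ _ _ hee hf1e0 (by rw [map_zero, hf1f1]; ring))
    (det_sg φ _ _ _ hee hf1e0 he0f1) with hgx
  refine ⟨gh, gx * gw, ?_⟩
  have ha0 : aCo m (φ (ν : F)) 0 = φ ν := by unfold aCo; rw [if_pos rfl]
  have ham : aCo m (φ (ν : F)) (m - 1) = (φ (ν : F))⁻¹ := by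
    unfold aCo; rw [if_neg (by omega), if_pos rfl]
  have hlamval : φ (aCo m (φ (ν : F)) 0) * (φ (aCo m (φ (ν : F)) 1))⁻¹ = ν ∨
      φ (aCo m (φ (ν : F)) 0) * (φ (aCo m (φ (ν : F)) 1))⁻¹ = (ν : F) * ν := by
    rw [ha0, hφφ]
    by_cases h2 : m = 2
    · right
      have : aCo m (φ (ν : F)) 1 = (φ (ν : F))⁻¹ := by
        unfold aCo; rw [if_neg (by omega), if_pos (by omega)]
      rw [this, map_inv₀, hφφ, inv_inv]
    · left
      have : aCo m (φ (ν : F)) 1 = 1 := by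
        unfold aCo; rw [if_neg (by omega), if_neg (by omega)]
      rw [this, map_one, inv_one, mul_one]
  apply gen_even hφφ hgen hm W gh gw gx (aCo m (φ ν))
  · intro i hi
    unfold aCo
    split_ifs
    · exact hk0
    · exact inv_ne_zero hk0
    · exact one_ne_zero
  · exact fun i hi => torus2_e W.fam hm _ i hi
  · exact fun i hi => torus2_f W.fam hm _ i hi
  · exact hκ0
  · exact hκ
  · exact cox_e W.fam hm κ (fun i hi => shift2_ge (2 * m) m le_rfl lam i hi)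
  · exact cox_e_last W.fam hm κ (shift2_ge_last (2 * m) m le_rfl (by omega) lam)
  · exact cox_f W.fam hm κ (fun i hi => shift2_gf (2 * m) m le_rfl lam τ i hi)
  · exact cox_f_last W.fam hm κ (shift2_gf_last (2 * m) m le_rfl (by omega) lam τ)
  · rfl
  · rcases hlamval with h | h
    · rw [h]; exact hν1
    · rw [h]; exact hν2
  · rw [ham, ha0, hφφ, inv_inv]
    intro h
    apply hνφ
    have hν0 : (ν : F) ≠ 0 := ν.ne_zero
    field_simp at h
    exact h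
  · exact hclos_of_gen ν hν hlamval
  · exact hτ
  · exact Subgroup.subset_closure (by simp)
  · exact Subgroup.subset_closure (by simp)

/-- odd dimension -/
theorem two_gen_odd (hF : Fintype.card F = q ^ 2) (φ : F →+* F) (hφ : ∀ x, φ x = x ^ q)
    (m : ℕ) (hm : 2 ≤ m) :
    ∃ a b : SUg (Fin (2 * m + 1)) φ,
      Subgroup.closure ({a, b} : Set (SUg (Fin (2 * m + 1)) φ)) = ⊤ := by
  have hφφ := frob_frob hF φ hφ
  have hne := frob_ne_id hF φ hφ
  have hN1 := frob_norm_surj hF φ hφ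
  obtain ⟨ν, κ, τ, lam, hν, hκ, hκ0, hτ, hlam⟩ := exists_params2 hF φ hφ
  obtain ⟨hν1, hν2, hνφ⟩ := gen_facts hF φ hφ ν hν
  have hgen : ∀ M : Matrix (Fin (2 * m + 1)) (Fin (2 * m + 1)) F, IsU φ M → M.det = 1 →
      M ∈ TM φ :=
    fun M hM hd => mem_TM_of_isU_of_det φ hne hφφ hN1
      (Or.inl (by rw [Fintype.card_fin]; omega)) ⟨0, by omega⟩ M hM hd
  have h0m : 0 < m := by omega
  have h1m : 1 < m := by omega
  set W : Witt φ (Fin (2 * m + 1)) m := stdWitt m lam τ hlam hτ with hW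
  have hk0 : φ (ν : F) ≠ 0 := fun h => ν.ne_zero (by rw [← hφφ (ν : F), h, map_zero])
  have hee := W.ee 0 0 h0m h0m
  have hde0 : hdot φ W.d (W.e 0) = 0 := W.de 0 h0m
  have he0d : hdot φ (W.e 0) W.d = 0 := W.ed 0 h0m
  have hs0 : -τ + φ (-τ) + 1 = 0 := by rw [map_neg]; linear_combination -hτ
  set gh : SUg (Fin (2 * m + 1)) φ := mkS φ (torus2 (wittFam W) (φ ν))
    (isU_torus2 (wittFam W) hφφ hm hk0) (det_torus2 (wittFam W) hφφ hm hk0) with hgh
  set gw : SUg (Fin (2 * m + 1)) φ := mkS φ (cox (wittFam W) κ (shift2 (2 * m + 1) m))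
    (isU_cox (wittFam W) hφφ hm hκ0 hκ (isU_shift2 φ _ m (by omega)))
    (det_cox (wittFam W) hm hκ0 (det_shift2 _ m (by omega))) with hgw
  set gx : SUg (Fin (2 * m + 1)) φ := mkS φ (sg φ (W.e 0) W.d (-τ))
    (isU_sg φ hφφ _ _ _ hee hde0 (by rw [W.dd]; exact hs0))
    (det_sg φ _ _ _ hee hde0 he0d) with hgx
  refine ⟨gh, gx * gw, ?_⟩
  have ha0 : aCo m (φ (ν : F)) 0 = φ ν := by unfold aCo; rw [if_pos rfl]
  have ham : aCo m (φ (ν : F)) (m - 1) = (φ (ν : F))⁻¹ := by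
    unfold aCo; rw [if_neg (by omega), if_pos rfl]
  apply gen_odd hφφ hgen hm W gh gw gx (aCo m (φ ν))
  · exact fun i hi => torus2_e (wittFam W) hm _ i hi
  · exact fun i hi => torus2_f (wittFam W) hm _ i hi
  · exact torus2_fix (wittFam W) hm _ W.d W.de W.df
  · exact hκ0
  · exact hκ
  · exact cox_e (wittFam W) hm κ (fun i hi => shift2_ge (2 * m + 1) m (by omega) lam i hi)
  · exact cox_e_last (wittFam W) hm κ (shift2_ge_last (2 * m + 1) m (by omega) (by omega) lam)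
  · exact cox_f (wittFam W) hm κ (fun i hi => shift2_gf (2 * m + 1) m (by omega) lam τ i hi)
  · exact cox_f_last (wittFam W) hm κ
      (shift2_gf_last (2 * m + 1) m (by omega) (by omega) lam τ)
  · exact cox_fix (wittFam W) κ (shift2_d m) (W.de 0 h0m) (W.df 0 h0m)
  · exact hs0
  · rfl
  · rw [ha0, hφφ]; exact hν1
  · rw [ham]
    intro h
    apply hν1
    have h2 : φ (ν : F) = 1 := by rw [← inv_inv (φ (ν : F)), h, inv_one]
    rw [← hφφ (ν : F), h2, map_one]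
  · apply hclos_of_gen ν hν
    left
    rw [ha0, hφφ, mul_one]
  · exact Subgroup.subset_closure (by simp)
  · exact Subgroup.subset_closure (by simp)

/-- **`SU_n(q)` is generated by two elements for `n ≥ 4`.** -/
theorem two_gen_SUg (hF : Fintype.card F = q ^ 2) (φ : F →+* F) (hφ : ∀ x, φ x = x ^ q)
    (n : ℕ) (hn : 4 ≤ n) :
    ∃ a b : SUg (Fin n) φ, Subgroup.closure ({a, b} : Set (SUg (Fin n) φ)) = ⊤ := by
  rcases Nat.even_or_odd' n with ⟨m, rfl | rfl⟩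
  · exact two_gen_even hF φ hφ m (by omega)
  · exact two_gen_odd hF φ hφ m (by omega)

end Cfsg.Agent.Helper11.SU2G
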