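import Mathlib

/-!
Isometries of determinant one of a hermitian form on a three dimensional space: the elements
fixing an isotropic vector are unipotent, and a unipotent element other than the identity fixes
exactly one isotropic point.  Everything is done with the cross product on `Fin 3 → K`.
-/

set_option autoImplicit false

namespace Cfsg.Agent.Helper11.SU3

open Matrix

variable {K : Type*} [Field K]

/-- the vector with the ring endomorphism applied to its coordinates -/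
def cj (σ : K →+* K) (v : Fin 3 → K) : Fin 3 → K := fun i => σ (v i)

theorem cj_apply (σ : K →+* K) (v : Fin 3 → K) (i : Fin 3) : cj σ v i = σ (v i) := rfl

theorem cj_smul (σ : K →+* K) (t : K) (v : Fin 3 → K) : cj σ (t • v) = σ t • cj σ v := by
  ext i; simp [cj]

theorem cj_eq_zero {σ : K →+* K} {v : Fin 3 → K} : cj σ v = 0 ↔ v = 0 := by
  constructor
  · intro h
    ext i
    have := congrFun h i
    simpa [cj] using this
  · rintro rfl
    ext i; simp [cj]

theorem cj_cross (σ : K →+* K) (a b : Fin 3 → K) : cj σ (a ⨯₃ b) = cj σ a ⨯₃ cj σ b := by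
  ext i
  fin_cases i <;> simp [cj, cross_apply]

theorem dot_cj_symm {σ : K →+* K} (hσ : ∀ x, σ (σ x) = x) (u v : Fin 3 → K) :
    u ⬝ᵥ cj σ v = σ (v ⬝ᵥ cj σ u) := by
  simp only [dotProduct, cj, map_sum, map_mul, hσ]
  exact Finset.sum_congr rfl fun i _ => mul_comm _ _

/-- parallel vectors from a vanishing cross product -/
theorem parallel {a b : Fin 3 → K} (ha : a ≠ 0) (h : a ⨯₃ b = 0) : ∃ t : K, b = t • a := by
  by_contra hne
  push Not at hne
  have hli : LinearIndependent K ![a, b] :=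
    (LinearIndependent.pair_iff' ha).2 (fun t ht => hne t ht.symm)
  exact (crossProduct_ne_zero_iff_linearIndependent.2 hli) h

/-- the cofactor identity for the cross product -/
theorem transpose_mulVec_cross (g : Matrix (Fin 3) (Fin 3) K) (hdet : g.det = 1)
    (a b : Fin 3 → K) : gᵀ *ᵥ ((g *ᵥ a) ⨯₃ (g *ᵥ b)) = a ⨯₃ b := by
  rw [Matrix.det_fin_three] at hdet
  ext i
  fin_cases i
  · simp only [cross_apply, Matrix.mulVec, dotProduct, Fin.sum_univ_three, Matrix.transpose_apply,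
      Fin.zero_eta, Fin.isValue, Matrix.cons_val_zero, Matrix.cons_val_one, Matrix.cons_val]
    linear_combination (a 1 * b 2 - a 2 * b 1) * hdet
  · simp only [cross_apply, Matrix.mulVec, dotProduct, Fin.sum_univ_three, Matrix.transpose_apply,
      Fin.mk_one, Fin.isValue, Matrix.cons_val_zero, Matrix.cons_val_one, Matrix.cons_val]
    linear_combination (a 2 * b 0 - a 0 * b 2) * hdet
  · simp only [cross_apply, Matrix.mulVec, dotProduct, Fin.sum_univ_three, Matrix.transpose_apply,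
      Fin.reduceFinMk, Fin.isValue, Matrix.cons_val_zero, Matrix.cons_val_one, Matrix.cons_val]
    linear_combination (a 0 * b 1 - a 1 * b 0) * hdet

theorem mulVec_dot (g : Matrix (Fin 3) (Fin 3) K) (u y : Fin 3 → K) :
    (g *ᵥ u) ⬝ᵥ y = u ⬝ᵥ (gᵀ *ᵥ y) := by
  rw [dotProduct_comm, Matrix.dotProduct_mulVec, ← Matrix.mulVec_transpose, dotProduct_comm]

theorem eq_of_dot_eq {x y : Fin 3 → K} (h : ∀ u : Fin 3 → K, u ⬝ᵥ x = u ⬝ᵥ y) : x = y := by
  ext i
  have := h (Pi.single i 1)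
  simpa using this

/-- an isometry of determinant one of the hermitian form given by `σ` -/
structure IsU (σ : K →+* K) (g : Matrix (Fin 3) (Fin 3) K) : Prop where
  det : g.det = 1
  iso : ∀ u v : Fin 3 → K, (g *ᵥ u) ⬝ᵥ cj σ (g *ᵥ v) = u ⬝ᵥ cj σ v

variable {σ : K →+* K} {g : Matrix (Fin 3) (Fin 3) K}

theorem IsU.transpose_injective (hg : IsU σ g) : Function.Injective (gᵀ).mulVec := by
  have hu : IsUnit gᵀ := by
    rw [Matrix.isUnit_iff_isUnit_det, Matrix.det_transpose, hg.det]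
    exact isUnit_one
  exact Matrix.mulVec_injective_iff_isUnit.2 hu

theorem IsU.mulVec_ne_zero (hg : IsU σ g) {w : Fin 3 → K} (hw : w ≠ 0) : g *ᵥ w ≠ 0 := by
  have hu : IsUnit g := by
    rw [Matrix.isUnit_iff_isUnit_det, hg.det]
    exact isUnit_one
  have hinj := Matrix.mulVec_injective_iff_isUnit.2 hu
  intro h
  apply hw
  apply hinj
  rw [h, Matrix.mulVec_zero]

theorem IsU.fix_conj (hg : IsU σ g) {w : Fin 3 → K} (hfix : g *ᵥ w = w) :
    gᵀ *ᵥ cj σ w = cj σ w := by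
  apply eq_of_dot_eq
  intro u
  rw [← mulVec_dot]
  have := hg.iso u w
  rw [hfix] at this
  exact this

theorem sub_one_mulVec (v : Fin 3 → K) : (g - 1) *ᵥ v = g *ᵥ v - v := by
  rw [Matrix.sub_mulVec, Matrix.one_mulVec]

/-- the image of `g - 1` is orthogonal to a fixed vector -/
theorem IsU.sub_one_perp (hg : IsU σ g) {w : Fin 3 → K} (hfix : g *ᵥ w = w) (v : Fin 3 → K) :
    ((g - 1) *ᵥ v) ⬝ᵥ cj σ w = 0 := by
  rw [sub_one_mulVec, sub_dotProduct]
  have := hg.iso v w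
  rw [hfix] at this
  rw [this, sub_self]

/-- `g - 1` maps the orthogonal of a fixed isotropic vector into its span -/
theorem IsU.sub_one_of_perp (hg : IsU σ g) {w : Fin 3 → K} (hw : w ≠ 0)
    (hiso : w ⬝ᵥ cj σ w = 0) (hfix : g *ᵥ w = w) {v : Fin 3 → K} (hv : v ⬝ᵥ cj σ w = 0) :
    ∃ t : K, (g - 1) *ᵥ v = t • w := by
  have hW : cj σ w ≠ 0 := fun h => hw (cj_eq_zero.1 h)
  have h1 : cj σ w ⨯₃ (w ⨯₃ v) = 0 := by
    rw [cross_cross_eq_smul_sub_smul', dotProduct_comm (cj σ w) v, hv, hiso]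
    simp
  have h1' : (cj σ w) ⨯₃ (w ⨯₃ v) = 0 := h1
  obtain ⟨c, hc⟩ := parallel hW h1'
  have h2 := transpose_mulVec_cross g hg.det w v
  rw [hfix] at h2
  have h3 : gᵀ *ᵥ (w ⨯₃ v) = w ⨯₃ v := by
    rw [hc, Matrix.mulVec_smul, hg.fix_conj hfix]
  have h4 : w ⨯₃ (g *ᵥ v) = w ⨯₃ v := by
    apply hg.transpose_injective
    show gᵀ *ᵥ (w ⨯₃ (g *ᵥ v)) = gᵀ *ᵥ (w ⨯₃ v)
    rw [h2, h3]
  have h5 : w ⨯₃ ((g - 1) *ᵥ v) = 0 := by
    rw [sub_one_mulVec, map_sub, h4, sub_self]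
  exact parallel hw h5

/-- the elements fixing an isotropic vector are unipotent -/
theorem IsU.unip_of_fix (hg : IsU σ g) {w : Fin 3 → K} (hw : w ≠ 0)
    (hiso : w ⬝ᵥ cj σ w = 0) (hfix : g *ᵥ w = w) : (g - 1) ^ 3 = 0 := by
  have hNw : (g - 1) *ᵥ w = 0 := by rw [sub_one_mulVec, hfix, sub_self]
  apply Matrix.mulVec_injective
  funext v
  rw [Matrix.zero_mulVec]
  have e : (g - 1) ^ 3 *ᵥ v = (g - 1) *ᵥ ((g - 1) *ᵥ ((g - 1) *ᵥ v)) := by
    rw [Matrix.mulVec_mulVec, Matrix.mulVec_mulVec]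
    congr 1
    noncomm_ring
  rw [e]
  obtain ⟨t, ht⟩ := hg.sub_one_of_perp hw hiso hfix (hg.sub_one_perp hfix v)
  rw [ht, Matrix.mulVec_smul, hNw, smul_zero]

/-- a unipotent isometry other than the identity fixes an isotropic vector -/
theorem IsU.exists_fixed_isotropic (hg : IsU σ g) (hne : g ≠ 1) {m : ℕ}
    (hnil : (g - 1) ^ m = 0) :
    ∃ w : Fin 3 → K, w ≠ 0 ∧ w ⬝ᵥ cj σ w = 0 ∧ g *ᵥ w = w := by
  classical
  have hN : g - 1 ≠ 0 := sub_ne_zero.2 hne
  have hex : ∃ j, (g - 1) ^ j = 0 := ⟨m, hnil⟩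
  set j := Nat.find hex with hj
  have hj0 : (g - 1) ^ j = 0 := Nat.find_spec hex
  have hjmin : ∀ i, i < j → (g - 1) ^ i ≠ 0 := fun i hi => Nat.find_min hex hi
  have h2 : 2 ≤ j := by
    by_contra hlt
    push Not at hlt
    interval_cases j
    · rw [pow_zero] at hj0
      exact one_ne_zero hj0
    · rw [pow_one] at hj0
      exact hN hj0
  obtain ⟨i, hi⟩ : ∃ i, j = i + 2 := ⟨j - 2, by omega⟩
  have hne1 : (g - 1) ^ (i + 1) ≠ 0 := hjmin (i + 1) (by omega)
  have hexu : ∃ u : Fin 3 → K, (g - 1) ^ (i + 1) *ᵥ u ≠ 0 := by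
    by_contra hall
    push Not at hall
    apply hne1
    apply Matrix.mulVec_injective
    funext v
    rw [hall v, Matrix.zero_mulVec]
  obtain ⟨u, hu⟩ := hexu
  have hfix : g *ᵥ ((g - 1) ^ (i + 1) *ᵥ u) = (g - 1) ^ (i + 1) *ᵥ u := by
    have : (g - 1) *ᵥ ((g - 1) ^ (i + 1) *ᵥ u) = 0 := by
      rw [Matrix.mulVec_mulVec, ← pow_succ', ← hi, hj0, Matrix.zero_mulVec]
    rw [sub_one_mulVec, sub_eq_zero] at this
    exact this
  refine ⟨(g - 1) ^ (i + 1) *ᵥ u, hu, ?_, hfix⟩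
  have e : (g - 1) ^ (i + 1) *ᵥ u = (g - 1) *ᵥ ((g - 1) ^ i *ᵥ u) := by
    rw [Matrix.mulVec_mulVec, ← pow_succ']
  have := hg.sub_one_perp hfix ((g - 1) ^ i *ᵥ u)
  rw [← e] at this
  exact this

/-- two isotropic vectors fixed by a nontrivial isometry are parallel -/
theorem IsU.fixed_parallel (hσ : ∀ x, σ (σ x) = x) (hg : IsU σ g) (hne : g ≠ 1)
    {w w' : Fin 3 → K} (hw : w ≠ 0) (hw' : w' ≠ 0) (hi : w ⬝ᵥ cj σ w = 0)
    (hi' : w' ⬝ᵥ cj σ w' = 0) (hf : g *ᵥ w = w) (hf' : g *ᵥ w' = w') :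
    ∃ t : K, w' = t • w := by
  by_contra hpar
  push Not at hpar
  have hcr : w ⨯₃ w' ≠ 0 := by
    intro h
    obtain ⟨t, ht⟩ := parallel hw h
    exact hpar t ht
  by_cases hc : w' ⬝ᵥ cj σ w = 0
  · have hc' : w ⬝ᵥ cj σ w' = 0 := by rw [dot_cj_symm hσ, hc, map_zero]
    have h1 : cj σ w ⨯₃ (w ⨯₃ w') = 0 := by
      rw [cross_cross_eq_smul_sub_smul', dotProduct_comm (cj σ w) w', hc, hi]
      simp
    have h2 : cj σ w' ⨯₃ (w ⨯₃ w') = 0 := by
      rw [cross_cross_eq_smul_sub_smul', dotProduct_comm (cj σ w') w', hi', hc']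
      simp
    have h1' : (w ⨯₃ w') ⨯₃ cj σ w = 0 := by
      rw [← cross_anticomm, h1, neg_zero]
    have h2' : (w ⨯₃ w') ⨯₃ cj σ w' = 0 := by
      rw [← cross_anticomm, h2, neg_zero]
    obtain ⟨t₁, ht₁⟩ := parallel hcr h1'
    obtain ⟨t₂, ht₂⟩ := parallel hcr h2'
    have h3 : cj σ w ⨯₃ cj σ w' = 0 := by
      rw [ht₁, ht₂, map_smul, map_smul, LinearMap.smul_apply, cross_self, smul_zero, smul_zero]
    rw [← cj_cross] at h3
    exact hcr (cj_eq_zero.1 h3)
  · have hc' : w ⬝ᵥ cj σ w' ≠ 0 := by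
      rw [dot_cj_symm hσ]
      intro h
      apply hc
      have := congrArg σ h
      rw [hσ, map_zero] at this
      exact this
    apply hne
    have hNw : (g - 1) *ᵥ w = 0 := by rw [sub_one_mulVec, hf, sub_self]
    have hNw' : (g - 1) *ᵥ w' = 0 := by rw [sub_one_mulVec, hf', sub_self]
    have hzero : g - 1 = 0 := by
      apply Matrix.mulVec_injective
      funext v
      rw [Matrix.zero_mulVec]
      -- first decomposition
      set b := (v ⬝ᵥ cj σ w) / (w' ⬝ᵥ cj σ w) with hb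
      have hv1 : (v - b • w') ⬝ᵥ cj σ w = 0 := by
        rw [sub_dotProduct, smul_dotProduct, smul_eq_mul, hb, div_mul_cancel₀ _ hc, sub_self]
      obtain ⟨t, ht⟩ := hg.sub_one_of_perp hw hi hf hv1
      rw [Matrix.mulVec_sub, Matrix.mulVec_smul, hNw', smul_zero, sub_zero] at ht
      -- second decomposition
      set b' := (v ⬝ᵥ cj σ w') / (w ⬝ᵥ cj σ w') with hb'
      have hv2 : (v - b' • w) ⬝ᵥ cj σ w' = 0 := by
        rw [sub_dotProduct, smul_dotProduct, smul_eq_mul, hb', div_mul_cancel₀ _ hc', sub_self]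
      obtain ⟨t', ht'⟩ := hg.sub_one_of_perp hw' hi' hf' hv2
      rw [Matrix.mulVec_sub, Matrix.mulVec_smul, hNw, smul_zero, sub_zero] at ht'
      by_cases h0 : t' = 0
      · rw [ht', h0, zero_smul]
      · exfalso
        apply hpar (t'⁻¹ * t)
        have : t' • w' = t • w := by rw [← ht', ht]
        rw [mul_smul, ← this, smul_smul, inv_mul_cancel₀ h0, one_smul]
    exact sub_eq_zero.1 hzero

end Cfsg.Agent.Helper11.SU3
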