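import Mathlib
import Cfsg.Agent.Lib.Helper11.SU3Unip
import Cfsg.Agent.Lib.Helper11.QdFree

/-!
In a finite group of isometries of determinant one of a three dimensional hermitian space in odd
characteristic `p`, the product of two `p`-elements normalizing a nontrivial `p`-subgroup has
order dividing `p`.
-/

set_option autoImplicit false

namespace Cfsg.Agent.Helper11.SU3

open Matrix Cfsg.Agent.Helper11.QdFree

variable {K : Type*} [Field K] {p : ℕ} [hp : Fact p.Prime] [CharP K p]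

theorem eigen_pow (g : Matrix (Fin 3) (Fin 3) K) (w : Fin 3 → K) (t : K) (h : g *ᵥ w = t • w)
    (k : ℕ) : (g ^ k) *ᵥ w = t ^ k • w := by
  induction k with
  | zero => simp
  | succ k ih =>
    rw [pow_succ, ← Matrix.mulVec_mulVec, h, Matrix.mulVec_smul, ih, smul_smul, pow_succ, mul_comm]

omit hp in
theorem eq_one_of_pow_char_pow [Fact p.Prime] {t : K} {k : ℕ} (h : t ^ p ^ k = 1) : t = 1 := by
  have : (t - 1) ^ p ^ k = 0 := by rw [sub_pow_char_pow, h, one_pow, sub_self]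
  exact sub_eq_zero.1 (pow_eq_zero_iff (pow_pos (Fact.out : p.Prime).pos k).ne' |>.1 this)

/-- an eigenvalue of a `p`-element is one -/
theorem eigen_eq_one {g : Matrix (Fin 3) (Fin 3) K} {w : Fin 3 → K} (hw : w ≠ 0) {t : K}
    (h : g *ᵥ w = t • w) {k : ℕ} (hk : g ^ p ^ k = 1) : t = 1 := by
  have h1 := eigen_pow g w t h (p ^ k)
  rw [hk, Matrix.one_mulVec] at h1
  have h2 : (t ^ p ^ k - 1) • w = 0 := by rw [sub_smul, one_smul, ← h1, sub_self]
  rcases smul_eq_zero.1 h2 with h3 | h3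
  · exact eq_one_of_pow_char_pow (sub_eq_zero.1 h3)
  · exact absurd h3 hw

theorem sub_one_pow_char_pow (g : Matrix (Fin 3) (Fin 3) K) (k : ℕ) :
    (g - 1) ^ p ^ k = g ^ p ^ k - 1 := by
  rw [sub_pow_char_pow_of_commute p k (Commute.one_right g), one_pow]

theorem pow_char_eq_one_of_cube (hp3 : 3 ≤ p) {g : Matrix (Fin 3) (Fin 3) K}
    (h : (g - 1) ^ 3 = 0) : g ^ p = 1 := by
  have h1 : (g - 1) ^ p = 0 := by
    rw [show p = 3 + (p - 3) by omega, pow_add, h, zero_mul]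
  have h2 := sub_one_pow_char_pow (p := p) g 1
  rw [pow_one, h1] at h2
  exact (sub_eq_zero.1 h2.symm)

/-- the normalizer of a nontrivial `p`-subgroup is `p`-closed -/
theorem pc_normalizer {G : Type*} [Group G] [Finite G] (ρ : G →* Matrix (Fin 3) (Fin 3) K)
    (hρ : Function.Injective ρ) (σ : K →+* K) (hσ : ∀ x, σ (σ x) = x) (hU : ∀ g, IsU σ (ρ g))
    (hp3 : 3 ≤ p) (P : Subgroup G) (hP : IsPGroup p P) (hPne : P ≠ ⊥)
    (a : G) (ha : a ∈ Subgroup.normalizer (P : Set G)) (b : G)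
    (hb : b ∈ Subgroup.normalizer (P : Set G)) (hap : IsPEl p a) (hbp : IsPEl p b) :
    IsPEl p (a * b) := by
  classical
  have hρne : ∀ x : G, x ≠ 1 → ρ x ≠ 1 := fun x hx h => hx (hρ (by rw [h, map_one]))
  have hpel : ∀ x : G, IsPEl p x → ∃ k, ρ x ^ p ^ k = 1 := by
    rintro x ⟨k, hk⟩
    exact ⟨k, by rw [← map_pow, hk, map_one]⟩
  -- a central element of `P`
  have : Nontrivial ↥P := (Subgroup.nontrivial_iff_ne_bot P).2 hPne
  have hcen : Nontrivial (Subgroup.center ↥P) := hP.center_nontrivial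
  obtain ⟨z, hz1⟩ := exists_ne (1 : Subgroup.center ↥P)
  have hzP : ((z : ↥P) : G) ∈ P := (z : ↥P).2
  have hzne : ((z : ↥P) : G) ≠ 1 := by
    intro h
    apply hz1
    apply Subtype.ext
    apply Subtype.ext
    simpa using h
  have hzcomm : ∀ x : G, x ∈ P → x * ((z : ↥P) : G) = ((z : ↥P) : G) * x := by
    intro x hx
    have := (Subgroup.mem_center_iff.1 z.2) ⟨x, hx⟩
    exact congrArg Subtype.val this
  set z₀ : G := ((z : ↥P) : G) with hz₀
  have hzpel : IsPEl p z₀ := by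
    obtain ⟨k, hk⟩ := hP ⟨z₀, hzP⟩
    refine ⟨k, ?_⟩
    have := congrArg Subtype.val hk
    simpa using this
  obtain ⟨kz, hkz⟩ := hpel z₀ hzpel
  have hnil : (ρ z₀ - 1) ^ p ^ kz = 0 := by
    rw [sub_one_pow_char_pow, hkz, sub_self]
  obtain ⟨w, hw, hiso, hfix⟩ := (hU z₀).exists_fixed_isotropic (hρne z₀ hzne) hnil
  -- every element of `P` fixes `w`
  have hA : ∀ x : G, x ∈ P → ρ x *ᵥ w = w := by
    intro x hx
    have h1 : ρ z₀ *ᵥ (ρ x *ᵥ w) = ρ x *ᵥ w := by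
      rw [Matrix.mulVec_mulVec, ← map_mul, ← hzcomm x hx, map_mul, ← Matrix.mulVec_mulVec, hfix]
    have h2 : (ρ x *ᵥ w) ⬝ᵥ cj σ (ρ x *ᵥ w) = 0 := by rw [(hU x).iso, hiso]
    obtain ⟨t, ht⟩ := (hU z₀).fixed_parallel hσ (hρne z₀ hzne) hw ((hU x).mulVec_ne_zero hw)
      hiso h2 hfix h1
    obtain ⟨k, hk⟩ := hpel x (by
      obtain ⟨k, hk⟩ := hP ⟨x, hx⟩
      refine ⟨k, ?_⟩
      have := congrArg Subtype.val hk
      simpa using this)
    have := eigen_eq_one hw ht hk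
    rw [ht, this, one_smul]
  -- every element of the normalizer fixes the point spanned by `w`
  have hB : ∀ g : G, g ∈ Subgroup.normalizer (P : Set G) → ∃ t : K, ρ g *ᵥ w = t • w := by
    intro g hg
    have hz' : g * z₀ * g⁻¹ ∈ P := (Subgroup.mem_normalizer_iff.1 hg z₀).1 hzP
    have hz'ne : g * z₀ * g⁻¹ ≠ 1 := by
      intro h
      apply hzne
      have : z₀ = g⁻¹ * (g * z₀ * g⁻¹) * g := by group
      rw [this, h]; group
    have h1 : ρ (g * z₀ * g⁻¹) *ᵥ (ρ g *ᵥ w) = ρ g *ᵥ w := by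
      rw [Matrix.mulVec_mulVec, ← map_mul, show g * z₀ * g⁻¹ * g = g * z₀ by group, map_mul,
        ← Matrix.mulVec_mulVec, hfix]
    have h2 : (ρ g *ᵥ w) ⬝ᵥ cj σ (ρ g *ᵥ w) = 0 := by rw [(hU g).iso, hiso]
    exact (hU _).fixed_parallel hσ (hρne _ hz'ne) hw ((hU g).mulVec_ne_zero hw) hiso h2
      (hA _ hz') h1
  -- conclusion
  obtain ⟨ta, hta⟩ := hB a ha
  obtain ⟨tb, htb⟩ := hB b hb
  obtain ⟨ka, hka⟩ := hpel a hap
  obtain ⟨kb, hkb⟩ := hpel b hbp
  have h1a := eigen_eq_one hw hta hka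
  have h1b := eigen_eq_one hw htb hkb
  rw [h1a, one_smul] at hta
  rw [h1b, one_smul] at htb
  have hab : ρ (a * b) *ᵥ w = w := by
    rw [map_mul, ← Matrix.mulVec_mulVec, htb, hta]
  have hcube := (hU (a * b)).unip_of_fix hw hiso hab
  refine ⟨1, hρ ?_⟩
  rw [pow_one, map_pow, map_one]
  exact pow_char_eq_one_of_cube hp3 hcube

end Cfsg.Agent.Helper11.SU3
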