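import Mathlib

/-!
# S4395 piece SCH-MODABS (core): abstract module isomorphism, with the statements of
SCH-QUOT and SCH-FIELDISO as hypotheses.
-/

set_option autoImplicit false
set_option linter.unusedVariables false
set_option linter.style.haveILetI false

namespace Cfsg.Agent.Helper20.Sch

universe u

variable {p q : ℕ} [Fact p.Prime] [Fact q.Prime]

section moduleiso

/-- iterating the compatibility of `ψ` with `T` -/
theorem sch_modabs_pow {A : Type*} [CommGroup A] (T : MulAut A)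
    (I : Ideal (Polynomial (ZMod p))) (ψ : (Polynomial (ZMod p) ⧸ I) ≃+ Additive A)
    (hψ : ∀ f, ψ (Ideal.Quotient.mk I Polynomial.X * f) = Additive.ofMul (T (ψ f).toMul))
    (j : ℕ) (f : Polynomial (ZMod p) ⧸ I) :
    ψ ((Ideal.Quotient.mk I Polynomial.X) ^ j * f) = Additive.ofMul ((T ^ j) (ψ f).toMul) := by
  induction j generalizing f with
  | zero => simp
  | succ j ih =>
    rw [pow_succ', mul_assoc, hψ, ih, pow_succ', MulAut.mul_apply]
    rfl

/-- the multiplicative equivalence attached to an additive one -/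
def sch_modabs_theta {F A : Type*} [Field F] [CommGroup A] (φ : F ≃+ Additive A) :
    Multiplicative F ≃* A where
  toFun x := (φ x.toAdd).toMul
  invFun y := Multiplicative.ofAdd (φ.symm (Additive.ofMul y))
  left_inv x := by simp
  right_inv y := by simp
  map_mul' x y := by
    show (φ (x.toAdd + y.toAdd)).toMul = (φ x.toAdd).toMul * (φ y.toAdd).toMul
    rw [map_add]; rfl

theorem sch_modabs_theta_apply {F A : Type*} [Field F] [CommGroup A] (φ : F ≃+ Additive A)
    (x : F) : sch_modabs_theta φ (Multiplicative.ofAdd x) = (φ x).toMul := rfl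

/-- SCH-MODABS, core form. -/
theorem sch_modabs_core
    (A : Type*) [CommGroup A] [Finite A] [Nontrivial A]
    (T : MulAut A) (hTq : T ^ q = 1) (hT1 : T ≠ 1)
    (hQ : ∃ I : Ideal (Polynomial (ZMod p)), I.IsMaximal ∧
      ∃ ψ : (Polynomial (ZMod p) ⧸ I) ≃+ Additive A,
        ∀ f, ψ (Ideal.Quotient.mk I Polynomial.X * f) = Additive.ofMul (T (ψ f).toMul))
    (F : Type*) [Field F] [Finite F] (μ : F)
    (hFI : ∀ (K : Type) [Field K] [Finite K] [Algebra (ZMod p) K] (ξ : K),
      orderOf ξ = q → Algebra.adjoin (ZMod p) {ξ} = ⊤ →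
      ∃ κ : K ≃+* F, ∃ j : ℕ, j.Coprime q ∧ κ (ξ ^ j) = μ) :
    ∃ j : ℕ, j.Coprime q ∧ ∃ θ : Multiplicative F ≃* A,
      ∀ x : F, θ (Multiplicative.ofAdd (μ * x)) = (T ^ j) (θ (Multiplicative.ofAdd x)) := by
  obtain ⟨I, hI, ψ, hψ⟩ := hQ
  letI : Field (Polynomial (ZMod p) ⧸ I) := Ideal.Quotient.field I
  haveI : Finite (Polynomial (ZMod p) ⧸ I) := Finite.of_equiv _ ψ.symm.toEquiv
  set ξ : Polynomial (ZMod p) ⧸ I := Ideal.Quotient.mk I Polynomial.X with hξdef
  have hpow := sch_modabs_pow T I ψ hψ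
  -- `ξ ^ q = 1`
  have hξq : ξ ^ q = 1 := by
    have h := hpow q 1
    rw [hTq, MulAut.one_apply, mul_one] at h
    have h' : ψ (ξ ^ q) = ψ 1 := by rw [h]; rfl
    exact ψ.injective h'
  -- `ξ ≠ 1`
  have hξ1 : ξ ≠ 1 := by
    intro h1
    apply hT1
    ext x
    obtain ⟨f, hf⟩ := ψ.surjective (Additive.ofMul x)
    have h := hψ f
    rw [h1, one_mul, hf] at h
    have h2 : x = T x := congrArg Additive.toMul h
    rw [MulAut.one_apply]; exact h2.symm
  have hξ : orderOf ξ = q := orderOf_eq_prime hξq hξ1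
  -- `ξ` generates
  have hgen : Algebra.adjoin (ZMod p) {ξ} = ⊤ := by
    rw [Algebra.adjoin_singleton_eq_range_aeval, eq_top_iff]
    rintro y -
    obtain ⟨f, rfl⟩ := Ideal.Quotient.mk_surjective y
    refine ⟨f, ?_⟩
    have := Polynomial.aeval_algHom_apply (Ideal.Quotient.mkₐ (ZMod p) I) Polynomial.X f
    rw [Polynomial.aeval_X_left_apply] at this
    exact this
  obtain ⟨κ, j, hj, hκ⟩ := hFI (Polynomial (ZMod p) ⧸ I) ξ hξ hgen
  refine ⟨j, hj, sch_modabs_theta ((κ.symm : F ≃+ (Polynomial (ZMod p) ⧸ I)).trans ψ), ?_⟩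
  intro x
  rw [sch_modabs_theta_apply, sch_modabs_theta_apply]
  have e1 : κ.symm (μ * x) = ξ ^ j * κ.symm x := by
    rw [map_mul, ← hκ, RingEquiv.symm_apply_apply]
  show (ψ (κ.symm (μ * x))).toMul = (T ^ j) (ψ (κ.symm x)).toMul
  rw [e1, hpow]
  rfl

end moduleiso

end Cfsg.Agent.Helper20.Sch
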