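import Mathlib
import Cfsg.Agent.Lib.Helper1.SchFIELDISO
import Cfsg.Agent.Lib.Helper13.SchQUOT
import Cfsg.Agent.Lib.Helper11.SchMODABSCore

/-!
# S4395 piece SCH-MODABS: abstract module isomorphism (assembly of SCH-QUOT + SCH-FIELDISO).
-/

set_option autoImplicit false
set_option linter.unusedVariables false

namespace Cfsg.Agent.Helper20.Sch

universe u

variable {p q : ℕ} [Fact p.Prime] [Fact q.Prime]

section moduleiso

/-- SCH-MODABS (assembly of QUOT + FIELDISO): abstract module isomorphism. -/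
theorem exists_module_iso_abstract (hpq : p ≠ q) {a : ℕ} (ha : a = orderOf (p : ZMod q))
    (A : Type*) [CommGroup A] [Finite A] [Nontrivial A]
    (hexp : ∀ x : A, x ^ p = 1) (T : MulAut A) (hTq : T ^ q = 1) (hT1 : T ≠ 1)
    (hirr : ∀ H : Subgroup A, (∀ x ∈ H, T x ∈ H) → H = ⊥ ∨ H = ⊤)
    (F : Type*) [Field F] [Finite F] (hF : Nat.card F = p ^ a) (μ : F) (hμ : orderOf μ = q) :
    ∃ j : ℕ, j.Coprime q ∧ ∃ θ : Multiplicative F ≃* A,
      ∀ x : F, θ (Multiplicative.ofAdd (μ * x)) = (T ^ j) (θ (Multiplicative.ofAdd x)) :=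
  sch_modabs_core A T hTq hT1 (exists_quot_iso A hexp T hirr) F μ
    (fun K _ _ _ ξ hξ hgen => exists_field_iso hpq ha K ξ hξ hgen F hF μ hμ)

end moduleiso

end Cfsg.Agent.Helper20.Sch
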