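import Mathlib

/-!
# S4395 piece SCH-MU: `a_pos` and `exists_mu`.
-/

set_option autoImplicit false
set_option linter.unusedVariables false

namespace Cfsg.Agent.Helper20.Sch

universe u

variable {p q : ℕ} [Fact p.Prime] [Fact q.Prime]

section field

variable {a : ℕ} (F : Type*) [Field F] [Finite F]

theorem sch_mu_cast_ne_zero (hpq : p ≠ q) : (p : ZMod q) ≠ 0 := by
  intro h
  rw [ZMod.natCast_eq_zero_iff] at h
  exact hpq ((Nat.prime_dvd_prime_iff_eq (Fact.out : q.Prime) (Fact.out : p.Prime)).mp h).symm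

/-- SCH-APOS -/
theorem a_pos (hpq : p ≠ q) (ha : a = orderOf (p : ZMod q)) : 0 < a := by
  rw [ha, orderOf_pos_iff, isOfFinOrder_iff_pow_eq_one]
  exact ⟨q - 1, Nat.sub_pos_of_lt (Fact.out : q.Prime).one_lt,
    ZMod.pow_card_sub_one_eq_one (sch_mu_cast_ne_zero hpq)⟩

theorem sch_mu_dvd (ha : a = orderOf (p : ZMod q)) : q ∣ p ^ a - 1 := by
  have h1 : ((p : ZMod q)) ^ a = 1 := by rw [ha]; exact pow_orderOf_eq_one _
  have hpos : 1 ≤ p ^ a := Nat.one_le_pow _ _ (Fact.out : p.Prime).pos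
  rw [← ZMod.natCast_eq_zero_iff, Nat.cast_sub hpos, Nat.cast_pow, h1, Nat.cast_one, sub_self]

/-- SCH-MU -/
theorem exists_mu (hpq : p ≠ q) (ha : a = orderOf (p : ZMod q)) (hF : Nat.card F = p ^ a) :
    ∃ μ : F, orderOf μ = q := by
  have hdvd : q ∣ Nat.card Fˣ := by
    rw [Nat.card_units, hF]
    exact sch_mu_dvd ha
  obtain ⟨x, hx⟩ := exists_prime_orderOf_dvd_card' q hdvd
  exact ⟨(x : F), by rw [orderOf_units, hx]⟩

end field

end Cfsg.Agent.Helper20.Sch
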