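import Mathlib
import Cfsg.Prelude.Def_KGroupFacts

/-! Transport of the Schur multiplier predicate along isomorphisms, across universes (helper11). -/

set_option autoImplicit false

namespace Cfsg.Agent.Helper11.SchurTransport

universe u v w w'

/-- A finite group has an isomorphic copy in any universe. -/
theorem exists_mulEquiv_univ (Γ' : Type v) [Group Γ'] [Finite Γ'] :
    ∃ (Γ : Type u) (_ : Group Γ) (_ : Finite Γ), Nonempty (Γ ≃* Γ') := by
  let f : Γ' ≃ Fin (Nat.card Γ') := Finite.equivFin Γ'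
  let g : ULift.{u} (Fin (Nat.card Γ')) ≃ Γ' := Equiv.ulift.trans f.symm
  let _i : Group (ULift.{u} (Fin (Nat.card Γ'))) := g.group
  exact ⟨ULift.{u} (Fin (Nat.card Γ')), inferInstance, inferInstance, ⟨g.mulEquiv⟩⟩

/-- Transport of a stem extension along isomorphisms of both groups. -/
theorem isStem_comp {Γ₁ : Type u} {Γ₂ : Type v} {Q₁ : Type w} {Q₂ : Type w'} [Group Γ₁] [Group Γ₂]
    [Group Q₁] [Group Q₂] (j : Γ₁ ≃* Γ₂) (e : Q₂ ≃* Q₁) (σ₂ : Γ₂ →* Q₂)
    (h : Cfsg.IsStemExtension σ₂) :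
    Cfsg.IsStemExtension (e.toMonoidHom.comp (σ₂.comp j.toMonoidHom)) := by
  obtain ⟨hs, hc, hd⟩ := h
  have hker : ∀ x : Γ₁, x ∈ (e.toMonoidHom.comp (σ₂.comp j.toMonoidHom)).ker ↔ j x ∈ σ₂.ker := by
    intro x
    rw [MonoidHom.mem_ker, MonoidHom.mem_ker]
    simp
  refine ⟨?_, ?_, ?_⟩
  · exact e.surjective.comp (hs.comp j.surjective)
  · intro x hx
    have h1 := hc ((hker x).mp hx)
    rw [Subgroup.mem_center_iff] at h1 ⊢
    intro y
    apply j.injective
    rw [map_mul, map_mul]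
    exact h1 (j y)
  · intro x hx
    have h1 := hd ((hker x).mp hx)
    have h2 : (commutator Γ₁).map j.toMonoidHom = commutator Γ₂ := by
      rw [commutator_def, Subgroup.map_commutator,
        Subgroup.map_top_of_surjective _ j.surjective, ← commutator_def]
    rw [← h2] at h1
    obtain ⟨y, hy, hyx⟩ := h1
    have : y = x := j.injective hyx
    rwa [← this]

/-- The kernels correspond. -/
noncomputable def kerEquiv {Γ₁ : Type u} {Γ₂ : Type v} {Q₁ : Type w} {Q₂ : Type w'} [Group Γ₁]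
    [Group Γ₂] [Group Q₁] [Group Q₂] (j : Γ₁ ≃* Γ₂) (e : Q₂ ≃* Q₁) (σ₂ : Γ₂ →* Q₂) :
    (e.toMonoidHom.comp (σ₂.comp j.toMonoidHom)).ker ≃* σ₂.ker :=
  (j.subgroupMap _).trans (MulEquiv.subgroupCongr (by
    ext y
    rw [Subgroup.mem_map, MonoidHom.mem_ker]
    constructor
    · rintro ⟨x, hx, rfl⟩
      rw [MonoidHom.mem_ker] at hx
      simpa using hx
    · intro hy
      refine ⟨j.symm y, ?_, by simp⟩
      rw [MonoidHom.mem_ker]
      simp [hy]))

/-- The Schur multiplier predicate is invariant under isomorphism of the group, across universes. -/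
theorem hasSchurMultiplier_of_mulEquiv {Q : Type u} {Q' : Type v} [Group Q] [Group Q']
    (e : Q ≃* Q') {B : Type w} [CommGroup B] (h : Cfsg.HasSchurMultiplier Q' B) :
    Cfsg.HasSchurMultiplier Q B := by
  obtain ⟨⟨Γ', _, _, σ', hσ', ⟨k'⟩⟩, h2⟩ := h
  constructor
  · obtain ⟨Γ, _, _, ⟨j⟩⟩ := exists_mulEquiv_univ.{u, v} Γ'
    exact ⟨Γ, inferInstance, inferInstance, e.symm.toMonoidHom.comp (σ'.comp j.toMonoidHom),
      isStem_comp j e.symm σ' hσ', ⟨(kerEquiv j e.symm σ').trans k'⟩⟩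
  · intro Γ _ _ σ hσ
    obtain ⟨Γ'', _, _, ⟨j⟩⟩ := exists_mulEquiv_univ.{v, u} Γ
    have hst := isStem_comp j e σ hσ
    obtain ⟨π, hπ⟩ := h2 Γ'' (e.toMonoidHom.comp (σ.comp j.toMonoidHom)) hst
    exact ⟨(kerEquiv j e σ).toMonoidHom.comp π, (kerEquiv j e σ).surjective.comp hπ⟩

/-- The Schur multiplier predicate is invariant under isomorphism of the multiplier. -/
theorem hasSchurMultiplier_congr {Q : Type u} [Group Q] {A : Type v} {B : Type w} [CommGroup A]
    [CommGroup B] (f : A ≃* B) (h : Cfsg.HasSchurMultiplier Q A) : Cfsg.HasSchurMultiplier Q B := by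
  obtain ⟨⟨Γ', _, _, σ', hσ', ⟨k'⟩⟩, h2⟩ := h
  refine ⟨⟨Γ', inferInstance, inferInstance, σ', hσ', ⟨k'.trans f⟩⟩, ?_⟩
  intro Γ _ _ σ hσ
  obtain ⟨π, hπ⟩ := h2 Γ σ hσ
  exact ⟨π.comp f.symm.toMonoidHom, hπ.comp f.symm.surjective⟩

end Cfsg.Agent.Helper11.SchurTransport
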