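import Mathlib
import Cfsg.Agent.Lib.Helper11.SchurTransport
import Cfsg.Agent.Lib.Helper20.SchurCover3
import Cfsg.Agent.Lib.Helper2.PSL27
import Cfsg.Agent.Lib.Helper2.PSLSimple
import Cfsg.Agent.Lib.Helper2.PSLMapEquiv
import Cfsg.Agent.Lib.Helper2.CardSL
import Cfsg.Agent.S1004
import Cfsg.Agent.S3950
import Cfsg.Agent.S3954
import Cfsg.Agent.S3965

/-! The Schur multiplier of `PSL₃(2)` (helper11). -/

set_option autoImplicit false

namespace Cfsg.Agent.Helper11.SchurPSL32

open Cfsg.Agent.Helper11.SchurTransport Cfsg.Agent.Helper20 Cfsg.Agent.Helper2.P27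

universe u

/-- The model group `PSL₃(𝔽₂)`. -/
abbrev Q0 := Matrix.ProjectiveSpecialLinearGroup (Fin 3) (ZMod 2)

instance finite_Q0 : Finite Q0 :=
  Nat.finite_of_card_ne_zero (by rw [card_PSL32]; norm_num)

instance simple_Q0 : IsSimpleGroup Q0 :=
  Cfsg.Agent.Helper2.PSL_isSimpleGroup (by simp)

theorem card_Q0 : Nat.card Q0 = 168 := card_PSL32

/-- Order of a Sylow subgroup. -/
theorem sylow_card' {G : Type*} [Group G] [Finite G] {p a m : ℕ} [hp : Fact p.Prime]
    (P : Sylow p G) (h : Nat.card G = p ^ a * m) (hm : ¬ p ∣ m) : Nat.card P = p ^ a := by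
  have hm0 : m ≠ 0 := by
    rintro rfl
    exact hm (dvd_zero p)
  rw [Sylow.card_eq_multiplicity, h]
  congr 1
  rw [Nat.factorization_mul (pow_ne_zero _ hp.out.ne_zero) hm0, Finsupp.add_apply,
    Nat.factorization_pow, Finsupp.smul_apply, hp.out.factorization_self,
    Nat.factorization_eq_zero_of_not_dvd hm]
  simp

/-- Groups of prime order have trivial Schur multiplier. -/
theorem trivialSchur_of_prime_card {H : Type u} [Group H] [Finite H] {p : ℕ} [Fact p.Prime]
    (h : Nat.card H = p) : Cfsg.HasCyclicSchurMultiplier H 1 := by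
  have hc : IsCyclic H := isCyclic_of_prime_card h
  let _i : CommGroup H := IsCyclic.commGroup
  exact (Cfsg.Agent.S3950.result (G := H)).mpr hc

/-- If a subgroup has trivial Schur multiplier, its index kills the multiplier of the group. -/
theorem pow_index_eq_one {G : Type u} [Group G] [Finite G] (U : Subgroup G) {A : Type*}
    [CommGroup A] (hA : Cfsg.HasSchurMultiplier G A) (hU : Cfsg.HasCyclicSchurMultiplier U 1)
    (m : A) : m ^ U.index = 1 := by
  obtain ⟨C, ⟨e⟩⟩ := Cfsg.Agent.S3954.result U hA hU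
  have hsub : Subsingleton (Multiplicative (ZMod 1)) := by
    change Subsingleton (ZMod 1)
    infer_instance
  have hC : Subsingleton C := inferInstance
  have h1 : e ⟨m ^ U.index, ⟨m, rfl⟩⟩ = e 1 := Subsingleton.elim _ _
  have h2 := e.injective h1
  exact congrArg Subtype.val h2

/-- The explicit elements of `SL₂(7)` with commutator `-1`. -/
def aSL : SL27 := ⟨!![0, 1; -1, 0], by rw [Matrix.det_fin_two]; decide⟩

def bSL : SL27 := ⟨!![2, 3; 3, -2], by rw [Matrix.det_fin_two]; decide⟩

theorem key_sq : ∀ r : ZMod 7, r ^ 2 = 1 → r = 1 ∨ r = -1 := by decide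

theorem ab_eq : (aSL : Matrix (Fin 2) (Fin 2) (ZMod 7)) * bSL
    = Matrix.scalar (Fin 2) (-1 : ZMod 7) * ((bSL : Matrix (Fin 2) (Fin 2) (ZMod 7)) * aSL) := by
  decide

theorem center_le_commutator : Subgroup.center SL27 ≤ commutator SL27 := by
  intro x hx
  have hxc := hx
  rw [Matrix.SpecialLinearGroup.mem_center_iff] at hx
  obtain ⟨r, hr, hxr⟩ := hx
  rw [Fintype.card_fin] at hr
  rcases key_sq r hr with rfl | rfl
  · have : x = 1 := by
      apply Subtype.ext
      rw [← hxr]
      simp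
    rw [this]
    exact Subgroup.one_mem _
  · have h1 : aSL * bSL = x * (bSL * aSL) := by
      apply Subtype.ext
      rw [Matrix.SpecialLinearGroup.coe_mul, Matrix.SpecialLinearGroup.coe_mul,
        Matrix.SpecialLinearGroup.coe_mul, ← hxr]
      exact ab_eq
    have h2 : x = aSL * bSL * aSL⁻¹ * bSL⁻¹ := by
      rw [h1]
      group
    have h3 := Subgroup.commutator_mem_commutator (H₁ := ⊤) (H₂ := ⊤) (Subgroup.mem_top aSL)
      (Subgroup.mem_top bSL)
    rw [commutatorElement_def, ← h2] at h3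
    rw [commutator_def]
    exact h3

/-- The covering map `SL₂(7) → PSL₃(2)`. -/
noncomputable def sigma0 : SL27 →* Q0 :=
  psl27Equiv.toMonoidHom.comp (QuotientGroup.mk' (Subgroup.center SL27))

theorem ker_sigma0 : sigma0.ker = Subgroup.center SL27 := by
  ext x
  rw [MonoidHom.mem_ker]
  change psl27Equiv (QuotientGroup.mk x) = 1 ↔ _
  rw [MulEquiv.map_eq_one_iff, QuotientGroup.eq_one_iff]

theorem sigma0_isStem : Cfsg.IsStemExtension sigma0 := by
  refine ⟨?_, ?_, ?_⟩
  · exact psl27Equiv.surjective.comp (QuotientGroup.mk'_surjective _)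
  · rw [ker_sigma0]
  · rw [ker_sigma0]
    exact center_le_commutator

instance fact_two : Fact (Nat.Prime 2) := ⟨Nat.prime_two⟩

theorem card_ker_sigma0 : Nat.card sigma0.ker = 2 := by
  rw [ker_sigma0]
  have := Cfsg.Agent.Helper2.card_center_SL (F := ZMod 7) 2 (by norm_num)
  rw [this, ZMod.card]
  rfl

theorem card_mult_zmod2 : Nat.card (Multiplicative (ZMod 2)) = 2 := by
  change Nat.card (ZMod 2) = 2
  rw [Nat.card_eq_fintype_card, ZMod.card]


instance fact_three : Fact (Nat.Prime 3) := ⟨Nat.prime_three⟩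

instance fact_seven : Fact (Nat.Prime 7) := ⟨by norm_num⟩

/-- The index of a Sylow subgroup from the orders. -/
theorem sylow_index {G : Type*} [Group G] [Finite G] {p : ℕ} [Fact p.Prime] (P : Sylow p G)
    (a m : ℕ) (h : Nat.card G = p ^ a * m) (hm : ¬ p ∣ m) : (P : Subgroup G).index = m := by
  have h1 := sylow_card' P h hm
  have h2 := Subgroup.card_mul_index (P : Subgroup G)
  rw [h1, h] at h2
  exact Nat.eq_of_mul_eq_mul_left (pow_pos (Fact.out : p.Prime).pos a) h2

theorem pow_eight_eq_one (m : schurM Q0) : m ^ 8 = 1 := by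
  have hM := hasSchurMultiplier_schurM Q0
  obtain ⟨P3⟩ : Nonempty (Sylow 3 Q0) := inferInstance
  obtain ⟨P7⟩ : Nonempty (Sylow 7 Q0) := inferInstance
  have c3 : Nat.card P3 = 3 ^ 1 := sylow_card' P3 (m := 56) (by rw [card_Q0]; norm_num) (by norm_num)
  have c7 : Nat.card P7 = 7 ^ 1 := sylow_card' P7 (m := 24) (by rw [card_Q0]; norm_num) (by norm_num)
  have i3 : (P3 : Subgroup Q0).index = 56 :=
    sylow_index P3 1 56 (by rw [card_Q0]; norm_num) (by norm_num)
  have i7 : (P7 : Subgroup Q0).index = 24 :=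
    sylow_index P7 1 24 (by rw [card_Q0]; norm_num) (by norm_num)
  have h3 := pow_index_eq_one (P3 : Subgroup Q0) hM
    (trivialSchur_of_prime_card (p := 3) (by rw [c3, pow_one])) m
  have h7 := pow_index_eq_one (P7 : Subgroup Q0) hM
    (trivialSchur_of_prime_card (p := 7) (by rw [c7, pow_one])) m
  rw [i3] at h3
  rw [i7] at h7
  have d3 := orderOf_dvd_of_pow_eq_one h3
  have d7 := orderOf_dvd_of_pow_eq_one h7
  have d8 : orderOf m ∣ 8 := by
    have := Nat.dvd_gcd d3 d7
    norm_num at this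
    exact this
  exact orderOf_dvd_iff_pow_eq_one.mp d8

theorem card_schurM_le : Nat.card (schurM Q0) ≤ 2 := by
  have hM := hasSchurMultiplier_schurM Q0
  obtain ⟨T⟩ : Nonempty (Sylow 2 Q0) := inferInstance
  obtain ⟨⟨eT⟩, -, -⟩ := Cfsg.Agent.S1004.result card_Q0 T
  have hT : Cfsg.HasSchurMultiplier (T : Subgroup Q0) (Multiplicative (ZMod 2)) :=
    hasSchurMultiplier_of_mulEquiv eT (Cfsg.Agent.S3965.result 4 (by decide))
  have iT : (T : Subgroup Q0).index = 21 :=
    sylow_index T 3 21 (by rw [card_Q0]; norm_num) (by norm_num)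
  obtain ⟨C, ⟨e⟩⟩ := Cfsg.Agent.S3954.result (T : Subgroup Q0) hM hT
  rw [iT] at e
  have hinj : Function.Injective (powMonoidHom 21 : schurM Q0 →* schurM Q0) := by
    rw [injective_iff_map_eq_one]
    intro m hm
    rw [powMonoidHom_apply] at hm
    have d21 := orderOf_dvd_of_pow_eq_one hm
    have d8 := orderOf_dvd_of_pow_eq_one (pow_eight_eq_one m)
    have := Nat.dvd_gcd d21 d8
    norm_num at this
    exact this
  have h1 : Nat.card (schurM Q0) = Nat.card (powMonoidHom 21 : schurM Q0 →* schurM Q0).range :=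
    Nat.card_congr (MonoidHom.ofInjective hinj).toEquiv
  rw [h1, Nat.card_congr e.toEquiv]
  calc Nat.card C ≤ Nat.card (Multiplicative (ZMod 2)) := Subgroup.card_le_card_group C
    _ = 2 := card_mult_zmod2

theorem card_schurM : Nat.card (schurM Q0) = 2 := by
  apply le_antisymm card_schurM_le
  have hM := hasSchurMultiplier_schurM Q0
  obtain ⟨π, hπ⟩ := hM.2 SL27 sigma0 sigma0_isStem
  have := Nat.card_le_card_of_surjective π hπ
  rwa [card_ker_sigma0] at this

/-- The Schur multiplier of `PSL₃(𝔽₂)` is cyclic of order two. -/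
theorem hasSchur_Q0 : Cfsg.HasCyclicSchurMultiplier Q0 2 :=
  hasSchurMultiplier_congr (mulEquivOfPrimeCardEq card_schurM card_mult_zmod2)
    (hasSchurMultiplier_schurM Q0)

/-- The Schur multiplier of `PSL₃(F)`, `|F| = 2`, is cyclic of order two. -/
theorem hasSchur_PSL32 {F : Type*} [Field F] [Fintype F] (hF : Fintype.card F = 2) :
    Cfsg.HasCyclicSchurMultiplier (Matrix.ProjectiveSpecialLinearGroup (Fin 3) F) 2 := by
  have e2 : ZMod 2 ≃+* F := ZMod.ringEquivOfPrime F Nat.prime_two hF
  exact hasSchurMultiplier_of_mulEquiv (Cfsg.Agent.Helper2.pslMapEquiv e2.symm) hasSchur_Q0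

end Cfsg.Agent.Helper11.SchurPSL32
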