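import Mathlib

/-!
# S3050 piece SLH-E4RING: the abstract ring identity behind the exponent-4 case.
-/

set_option autoImplicit false

namespace Cfsg.Agent.Helper23.Slh

theorem slh_e4ring_aux1 {E : Type*} [Ring E] (a P C X Y : E)
    (h : 2 * (a * (Y * P * (C * X))) = 0) :
    a * Y * (P * C + C * P) * X = a * (Y * C * P * X) - a * (Y * P * (C * X)) := by
  have e : a * Y * (P * C + C * P) * X =
      (a * (Y * C * P * X) - a * (Y * P * (C * X))) + 2 * (a * (Y * P * (C * X))) := by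
    noncomm_ring
  rw [e, h, add_zero]

theorem slh_e4ring_aux2 {E : Type*} [Ring E] (C : E) (i k : ℕ) :
    C ^ i * (C * C - C) * C ^ k = C ^ (i + (1 + (1 + k))) - C ^ (i + (1 + k)) := by
  simp only [pow_add, pow_one]
  noncomm_ring

theorem slh_e4ring_aux3 {E : Type*} [Ring E] (a Y W X : E) :
    2 * (a * Y * W) * X = 2 * (a * (Y * W * X)) := by
  noncomm_ring

/-- PIECE SLH-E4RING. -/
theorem exp4_ring {E : Type*} [Ring E] (J : AddSubgroup E) (h4 : (4 : E) = 0)
    (hJL : ∀ f g : E, f ∈ J → g * f ∈ J) (hJR : ∀ f g : E, f ∈ J → f * g ∈ J)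
    (hJJ : ∀ f g : E, f ∈ J → g ∈ J → f * g = 0) (hJ2 : ∀ f : E, f ∈ J → 2 * f = 0)
    (a b C : E) (ha : a * a = -(2 * a)) (hb : b * b = -(2 * b)) (hab : a * b = b * a)
    (hP : b - a * C ∈ J) (hC : a * C - C * a ∈ J) (m : ℕ) (hm : Odd m) (hCm : C ^ m - 1 ∈ J) :
    2 * (a * (C - 1)) = 0 := by
  obtain ⟨P, hPJ, hbP⟩ : ∃ P ∈ J, b = a * C + P := ⟨b - a * C, hP, by abel⟩
  obtain ⟨j, hjJ, hCmj⟩ : ∃ j ∈ J, C ^ m = 1 + j := ⟨C ^ m - 1, hCm, by abel⟩
  subst hbP
  have hPP : P * P = 0 := hJJ P P hPJ hPJ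
  have h2P : 2 * P = 0 := hJ2 P hPJ
  -- the key identity
  have G1 : a * (P * C + C * P) = 2 * (a * (C * C - C)) := by
    have e : a * (P * C + C * P) - 2 * (a * (C * C - C)) =
        ((a * C + P) * (a * C + P) + 2 * (a * C + P)) - (a * a + 2 * a) * C * C
          + (a * (a * C + P) - (a * C + P) * a) * C - P * P - 2 * P := by noncomm_ring
    have e1 : (a * C + P) * (a * C + P) + 2 * (a * C + P) = 0 := by
      rw [hb]; exact neg_add_cancel _
    have e2 : a * a + 2 * a = 0 := by rw [ha]; exact neg_add_cancel _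
    have e3 : a * (a * C + P) - (a * C + P) * a = 0 := sub_eq_zero.mpr hab
    rw [e1, e2, e3, hPP, h2P] at e
    simp only [zero_mul, sub_zero, add_zero] at e
    exact sub_eq_zero.mp e
  -- `a` commutes with powers of `C` modulo `J`
  have hcomm : ∀ i : ℕ, a * C ^ i - C ^ i * a ∈ J := by
    intro i
    induction i with
    | zero => simp
    | succ i ih =>
      have e : a * C ^ (i + 1) - C ^ (i + 1) * a =
          (a * C ^ i - C ^ i * a) * C + C ^ i * (a * C - C * a) := by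
        rw [pow_succ]; noncomm_ring
      rw [e]
      exact J.add_mem (hJR _ _ ih) (hJL _ _ hC)
  have hQ : P * C + C * P ∈ J := J.add_mem (hJR _ _ hPJ) (hJL _ _ hPJ)
  have G1i : ∀ i : ℕ, a * C ^ i * (P * C + C * P) = 2 * (a * C ^ i * (C * C - C)) := by
    intro i
    obtain ⟨k, hkJ, hk⟩ : ∃ k ∈ J, a * C ^ i = C ^ i * a + k := ⟨_, hcomm i, by abel⟩
    have hk0 : k * (P * C + C * P) = 0 := hJJ _ _ hkJ hQ
    have h2k : 2 * k = 0 := hJ2 _ hkJ
    calc a * C ^ i * (P * C + C * P)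
        = C ^ i * (a * (P * C + C * P)) + k * (P * C + C * P) := by
          rw [hk]; noncomm_ring
      _ = C ^ i * (2 * (a * (C * C - C))) := by rw [G1, hk0, add_zero]
      _ = 2 * ((C ^ i * a + k) * (C * C - C)) - (2 * k) * (C * C - C) := by noncomm_ring
      _ = 2 * (a * C ^ i * (C * C - C)) := by rw [← hk, h2k, zero_mul, sub_zero]
  -- sum both sides
  have hsum : ∑ i ∈ Finset.range m, a * C ^ i * (P * C + C * P) * C ^ (m - 1 - i)
      = ∑ i ∈ Finset.range m, 2 * (a * C ^ i * (C * C - C)) * C ^ (m - 1 - i) := by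
    apply Finset.sum_congr rfl
    intro i _
    rw [G1i]
  -- the left side telescopes to zero
  have hL : ∑ i ∈ Finset.range m, a * C ^ i * (P * C + C * P) * C ^ (m - 1 - i) = 0 := by
    have hg : ∀ i ∈ Finset.range m, a * C ^ i * (P * C + C * P) * C ^ (m - 1 - i) =
        a * (C ^ (i + 1) * P * C ^ (m - (i + 1))) - a * (C ^ i * P * C ^ (m - i)) := by
      intro i hi
      have hi' : i < m := Finset.mem_range.mp hi
      have e1 : m - i = (m - 1 - i) + 1 := by omega
      have e2 : m - (i + 1) = m - 1 - i := by omega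
      have hgJ : C ^ i * P * C ^ (m - i) ∈ J := hJR _ _ (hJL _ _ hPJ)
      have h2g : 2 * (a * (C ^ i * P * C ^ (m - i))) = 0 := hJ2 _ (hJL _ _ hgJ)
      rw [e2]
      rw [e1, pow_succ' C (m - 1 - i)] at h2g ⊢
      rw [pow_succ C i]
      exact slh_e4ring_aux1 a P C (C ^ (m - 1 - i)) (C ^ i) h2g
    rw [Finset.sum_congr rfl hg,
      Finset.sum_range_sub (fun i => a * (C ^ i * P * C ^ (m - i))) m]
    have hjP : j * P = 0 := hJJ _ _ hjJ hPJ
    have hPj : P * j = 0 := hJJ _ _ hPJ hjJ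
    simp only [Nat.sub_self, pow_zero, mul_one, one_mul, Nat.sub_zero, hCmj]
    simp only [add_mul, mul_add, one_mul, mul_one, hjP, hPj, add_zero, sub_self]
  -- the right side is `m • (2 * (a * (C - 1)))`
  have hR : ∑ i ∈ Finset.range m, 2 * (a * C ^ i * (C * C - C)) * C ^ (m - 1 - i)
      = m • (2 * (a * (C - 1))) := by
    have hterm : ∀ i ∈ Finset.range m, 2 * (a * C ^ i * (C * C - C)) * C ^ (m - 1 - i) =
        2 * (a * (C - 1)) := by
      intro i hi
      have hi' : i < m := Finset.mem_range.mp hi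
      have e1 : i + (1 + (1 + (m - 1 - i))) = m + 1 := by omega
      have e2 : i + (1 + (m - 1 - i)) = m := by omega
      rw [slh_e4ring_aux3, slh_e4ring_aux2, e1, e2, pow_succ, hCmj]
      have hz : 2 * (a * j * (C - 1)) = 0 := hJ2 _ (hJR _ _ (hJL _ _ hjJ))
      have e : 2 * (a * ((1 + j) * C - (1 + j))) = 2 * (a * (C - 1)) + 2 * (a * j * (C - 1)) := by
        noncomm_ring
      rw [e, hz, add_zero]
    rw [Finset.sum_congr rfl hterm, Finset.sum_const, Finset.card_range]
  -- conclude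
  have hfin : m • (2 * (a * (C - 1))) = 0 := by rw [← hR, ← hsum, hL]
  obtain ⟨t, ht⟩ := hm
  have hyy : 2 * (a * (C - 1)) + 2 * (a * (C - 1)) = 0 := by
    have e : 2 * (a * (C - 1)) + 2 * (a * (C - 1)) = 4 * (a * (C - 1)) := by noncomm_ring
    rw [e, h4, zero_mul]
  rw [ht, add_smul, one_smul, mul_comm 2 t, mul_smul, two_smul, hyy, smul_zero, zero_add] at hfin
  exact hfin

end Cfsg.Agent.Helper23.Slh
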