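import Mathlib
import Cfsg.Agent.Lib.Helper11.DicksonSol7
import Cfsg.Agent.Lib.Helper11.InvGraph6
import Cfsg.Agent.Lib.Helper12.MaxSubT

set_option autoImplicit false
set_option linter.unusedVariables false
set_option linter.unusedSectionVars false
set_option linter.unusedSimpArgs false

/-! Basic tools for two-generator subgroups of `PSL₂(F)` in odd characteristic. -/

namespace Cfsg.Agent.Helper11.Sol3

open Matrix Matrix.SpecialLinearGroup
open scoped MatrixGroups
open Cfsg.Agent.Helper2.SL2S
open Cfsg.Agent.Helper12 Cfsg.Agent.Helper4.DC Cfsg.Agent.Helper4.DSL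
open Cfsg.Agent.Helper11.Klein Cfsg.Agent.Helper11.Dickson
open Cfsg.Agent.Helper2.PN (mkn mkn_surjective mkn_eq_iff)

section general

variable {G : Type*} [Group G]

/-- conjugation invariance of solvability of a two-generator subgroup -/
theorem isSolvable_closure_conj (g x y : G)
    (h : Group.IsSolvable (Subgroup.closure ({x, y} : Set G))) :
    Group.IsSolvable (Subgroup.closure ({g * x * g⁻¹, g * y * g⁻¹} : Set G)) := by
  have key : Subgroup.closure ({g * x * g⁻¹, g * y * g⁻¹} : Set G) =
      (Subgroup.closure ({x, y} : Set G)).map (MulAut.conj g).toMonoidHom := by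
    rw [MonoidHom.map_closure]
    congr 1
    ext z
    simp only [Set.mem_insert_iff, Set.mem_singleton_iff, Set.image_insert_eq, Set.image_singleton,
      MulEquiv.coe_toMonoidHom, MulAut.conj_apply]
  rw [key]
  exact Group.isSolvable_of_surjective
    (f := ((MulAut.conj g).toMonoidHom.subgroupMap (Subgroup.closure ({x, y} : Set G))))
    (MonoidHom.subgroupMap_surjective _ _)

theorem isSolvable_closure_swap (x y : G)
    (h : Group.IsSolvable (Subgroup.closure ({x, y} : Set G))) :
    Group.IsSolvable (Subgroup.closure ({y, x} : Set G)) := by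
  rwa [Set.pair_comm]

/-- two commuting elements generate a solvable group -/
theorem isSolvable_closure_of_comm (x y : G) (h : x * y = y * x) :
    Group.IsSolvable (Subgroup.closure ({x, y} : Set G)) := by
  have hcomm : ∀ a ∈ ({x, y} : Set G), ∀ b ∈ ({x, y} : Set G), a * b = b * a := by
    intro a ha b hb
    rcases ha with rfl | ha <;> rcases hb with rfl | hb
    · rfl
    · rw [Set.mem_singleton_iff] at hb; subst hb; exact h
    · rw [Set.mem_singleton_iff] at ha; subst ha; exact h.symm
    · rw [Set.mem_singleton_iff] at ha hb; subst ha; subst hb; rfl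
  apply Group.isSolvable_of_comm
  intro a b
  apply Subtype.ext
  have := Subgroup.closure_le_centralizer_centralizer ({x, y} : Set G)
  have hcent : Subgroup.closure ({x, y} : Set G) ≤ Subgroup.centralizer ({x, y} : Set G) := by
    rw [Subgroup.closure_le]
    intro z hz
    rw [SetLike.mem_coe, Subgroup.mem_centralizer_iff]
    intro w hw
    exact hcomm w hw z hz
  have ha := this a.2
  rw [Subgroup.mem_centralizer_iff] at ha
  exact (ha b.1 (hcent b.2)).symm

/-- an involution inverting an element generates a solvable group with it -/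
theorem isSolvable_closure_of_inverting [Finite G] (x y : G) (hy : y * y = 1)
    (hxy : (x * y) * (x * y) = 1) :
    Group.IsSolvable (Subgroup.closure ({x, y} : Set G)) := by
  have hsol := Cfsg.Agent.Helper11.Dickson.isSolvable_closure_pair (x * y) y hxy hy
  apply Cfsg.Agent.Helper11.Dickson.isSolvable_closure_of_mem _ hsol
  · have e1 : x = (x * y) * y⁻¹ := by group
    rw [e1]
    exact Subgroup.mul_mem _ (Subgroup.subset_closure (by simp))
      (Subgroup.inv_mem _ (Subgroup.subset_closure (by simp)))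
  · exact Subgroup.subset_closure (by simp)

end general

variable {F : Type*} [Field F]

/-! ### entries of the negative -/

theorem ng00 (h : SL(2, F)) : (negOneSL * h).1 0 0 = -h.1 0 0 := by
  rw [m00, neg00, neg01]; ring

theorem ng01 (h : SL(2, F)) : (negOneSL * h).1 0 1 = -h.1 0 1 := by
  rw [m01, neg00, neg01]; ring

theorem ng10 (h : SL(2, F)) : (negOneSL * h).1 1 0 = -h.1 1 0 := by
  rw [m10, neg10, neg11]; ring

theorem ng11 (h : SL(2, F)) : (negOneSL * h).1 1 1 = -h.1 1 1 := by
  rw [m11, neg10, neg11]; ring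

theorem mkn_negOne : mkn (negOneSL : SL(2, F)) = 1 :=
  Cfsg.Agent.Helper12.MaxSub.negOneSL_mem_ker

theorem mkn_neg_mul (h : SL(2, F)) : mkn (negOneSL * h) = mkn h := by
  rw [map_mul, mkn_negOne, one_mul]

/-- two elements of `SL₂` with the same image in `PSL₂` agree up to sign -/
theorem mkn_eq_mkn_iff (g h : SL(2, F)) : mkn g = mkn h ↔ g = h ∨ g = negOneSL * h := by
  constructor
  · intro hgh
    have h1 : mkn (g * h⁻¹) = 1 := by
      rw [map_mul, map_inv, hgh, mul_inv_cancel]
    rcases (Cfsg.Agent.Helper12.MaxSub.mkP_eq_one_iff (g * h⁻¹)).1 h1 with h2 | h2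
    · left
      exact mul_inv_eq_one.1 h2
    · right
      exact mul_inv_eq_iff_eq_mul.1 h2
  · rintro (rfl | rfl)
    · rfl
    · exact mkn_neg_mul h

/-! ### frames -/

theorem frame_u' (s : SL(2, F)) {a : F} (ha : a ≠ 0) (h : (s * u a * s⁻¹).1 1 0 = 0) :
    s.1 1 0 = 0 := by
  simp only [m10, m00, m11, m01, i00, i10, u00, u01, u10, u11] at h
  have : a * s.1 1 0 ^ 2 = 0 := by linear_combination -h
  rcases mul_eq_zero.1 this with h1 | h1
  · exact absurd h1 ha
  · exact pow_eq_zero_iff (two_ne_zero) |>.1 h1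

theorem frame_upper' (s y : SL(2, F)) (hs : s.1 1 0 = 0) (h : (s * y * s⁻¹).1 1 0 = 0) :
    y.1 1 0 = 0 := by
  simp only [m10, m00, m11, m01, i00, i10, hs] at h
  have hdet := sl2_det s
  rw [hs] at hdet
  have h11 : s.1 1 1 ≠ 0 := by
    intro h0
    rw [h0] at hdet
    simp at hdet
  have : s.1 1 1 ^ 2 * y.1 1 0 = 0 := by linear_combination h
  rcases mul_eq_zero.1 this with h1 | h1
  · exact absurd (pow_eq_zero_iff (two_ne_zero) |>.1 h1) h11
  · exact h1

theorem frame_lower' (s y : SL(2, F)) (hs : s.1 1 1 = 0) (h : (s * y * s⁻¹).1 1 0 = 0) :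
    y.1 0 1 = 0 := by
  simp only [m10, m00, m11, m01, i00, i10, hs] at h
  have hdet := sl2_det s
  rw [hs] at hdet
  have h10 : s.1 1 0 ≠ 0 := by
    intro h0
    rw [h0] at hdet
    simp at hdet
  have : s.1 1 0 ^ 2 * y.1 0 1 = 0 := by linear_combination -h
  rcases mul_eq_zero.1 this with h1 | h1
  · exact absurd (pow_eq_zero_iff (two_ne_zero) |>.1 h1) h10
  · exact h1

theorem frame_diag' (s d : SL(2, F)) (hd : IsSplitReg d) (h : (s * d * s⁻¹).1 1 0 = 0) :
    s.1 1 0 = 0 ∨ s.1 1 1 = 0 := by
  simp only [m10, m00, m11, m01, i00, i10, hd.h01, hd.h10] at h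
  have hne := hd.entry_ne
  have : s.1 1 0 * s.1 1 1 * (d.1 0 0 - d.1 1 1) = 0 := by linear_combination h
  rcases mul_eq_zero.1 this with h1 | h1
  · exact mul_eq_zero.1 h1
  · exact absurd (sub_eq_zero.1 h1) hne

/-- an upper triangular conjugate gives a root of the characteristic polynomial -/
theorem root_of_frame (s g : SL(2, F)) (h : (s * g * s⁻¹).1 1 0 = 0) :
    ∃ l : F, l ^ 2 - (g.1 0 0 + g.1 1 1) * l + 1 = 0 := by
  set k := s * g * s⁻¹ with hk
  have hdet := sl2_det k
  have htr : k.1 0 0 + k.1 1 1 = g.1 0 0 + g.1 1 1 := by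
    have hs := sl2_det s
    simp only [hk, m10, m00, m11, m01, i00, i10, i01, i11]
    linear_combination (g.1 0 0 + g.1 1 1) * hs
  refine ⟨k.1 0 0, ?_⟩
  rw [h] at hdet
  rw [← htr]
  linear_combination -hdet

variable [Fintype F]

theorem isSolvable_closure_of_frame' (s x y : SL(2, F)) (hx : (s * x * s⁻¹).1 1 0 = 0)
    (hy : (s * y * s⁻¹).1 1 0 = 0) :
    Group.IsSolvable (Subgroup.closure
      ({mkn x, mkn y} : Set (Matrix.ProjectiveSpecialLinearGroup (Fin 2) F))) := by
  set K : Subgroup SL(2, F) := (borelSL2 F).comap (MulAut.conj s).toMonoidHom with hK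
  have hmemK : ∀ h : SL(2, F), h ∈ K ↔ (s * h * s⁻¹).1 1 0 = 0 := by
    intro h
    rw [hK, Subgroup.mem_comap]
    exact mem_borelSL2_iff _
  set B := K.map (mkn (ι := Fin 2) (F := F)) with hB
  have hsol : Group.IsSolvable B := by
    apply isSolvable_of_frame B s
    intro h hh
    obtain ⟨k, hk, hkh⟩ := (show mkn h ∈ B from hh)
    rcases (mkn_eq_mkn_iff k h).1 hkh with rfl | rfl
    · exact (hmemK k).1 hk
    · have hk' := (hmemK _).1 hk
      have e1 : s * (negOneSL * h) * s⁻¹ = negOneSL * (s * h * s⁻¹) := by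
        rw [← mul_assoc, ← negOneSL_comm s, mul_assoc, mul_assoc, mul_assoc]
      rw [e1, ng10] at hk'
      exact neg_eq_zero.1 hk'
  exact isSolvable_closure_of_mem B hsol _ _ ⟨x, (hmemK x).2 hx, rfl⟩ ⟨y, (hmemK y).2 hy, rfl⟩

/-- counting in `SL₂` instead of `PSL₂` -/
theorem card_lift (P : Matrix.ProjectiveSpecialLinearGroup (Fin 2) F → Prop) :
    Nat.card {y : SL(2, F) // P (mkn y)} =
      Nat.card {y : Matrix.ProjectiveSpecialLinearGroup (Fin 2) F // P y} *
        Nat.gcd 2 (Fintype.card F - 1) := by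
  rw [← Cfsg.Agent.Helper2.card_center_SL 2 (by norm_num), ← Nat.card_prod]
  apply Nat.card_congr
  let e := Subgroup.groupEquivQuotientProdSubgroup (s := Subgroup.center SL(2, F))
  exact (Equiv.subtypeEquiv e (q := fun b => P b.1) (fun a => Iff.rfl)).trans
    (Equiv.prodSubtypeFstEquivSubtypeProd (p := P))

end Cfsg.Agent.Helper11.Sol3
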