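import Mathlib
import Cfsg.Agent.Lib.Helper11.Sol3A

set_option autoImplicit false
set_option linter.unusedVariables false
set_option linter.unusedSectionVars false
set_option linter.unusedSimpArgs false

/-! The solvable subgroups of `PSL₂(3^p)`, `p` an odd prime. -/

namespace Cfsg.Agent.Helper11.Sol3

open Matrix Matrix.SpecialLinearGroup
open scoped MatrixGroups
open Cfsg.Agent.Helper2.SL2S
open Cfsg.Agent.Helper12 Cfsg.Agent.Helper4.DC Cfsg.Agent.Helper4.DSL
open Cfsg.Agent.Helper11.Klein Cfsg.Agent.Helper11.Dickson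
open Cfsg.Agent.Helper2.PN (mkn mkn_surjective mkn_eq_iff)

/-! ### arithmetic -/

theorem nine_pow_mod_sixteen (k : ℕ) : 9 ^ k % 16 = 1 ∨ 9 ^ k % 16 = 9 := by
  induction k with
  | zero => left; rfl
  | succ k ih =>
    rw [pow_succ, Nat.mul_mod]
    rcases ih with h | h <;> rw [h] <;> simp

theorem three_pow_mod_sixteen {p : ℕ} (hodd : Odd p) : 3 ^ p % 16 = 3 ∨ 3 ^ p % 16 = 11 := by
  obtain ⟨k, rfl⟩ := hodd
  have e : 3 ^ (2 * k + 1) = 9 ^ k * 3 := by rw [pow_succ, pow_mul]; norm_num
  rw [e]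
  have h9 := nine_pow_mod_sixteen k
  generalize 9 ^ k = x at h9 ⊢
  omega

theorem three_pow_ge {p : ℕ} (hp : p.Prime) (hodd : Odd p) : 27 ≤ 3 ^ p := by
  have h3 : 3 ≤ p := by
    rcases hp.eq_two_or_odd' with h | h
    · subst h; exact absurd hodd (by decide)
    · have := hp.two_le
      obtain ⟨k, hk⟩ := h
      omega
  calc 27 = 3 ^ 3 := by norm_num
    _ ≤ 3 ^ p := Nat.pow_le_pow_right (by norm_num) h3

theorem three_dvd_pow {p : ℕ} (hp : p.Prime) : 3 ∣ 3 ^ p := dvd_pow_self 3 hp.ne_zero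

/-- `q (q - 1) (q + 1)` is not divisible by `16` -/
theorem not_sixteen_dvd {q : ℕ} (hq : q % 16 = 3 ∨ q % 16 = 11) :
    ¬ 16 ∣ q * (q - 1) * (q + 1) := by
  intro h
  have h1 : 1 ≤ q := by omega
  obtain ⟨r, rfl⟩ : ∃ r, q = r + 1 := ⟨q - 1, by omega⟩
  have e : r + 1 - 1 = r := by omega
  rw [e] at h
  have h2 : (r + 1) * r * (r + 1 + 1) % 16 = 0 := Nat.mod_eq_zero_of_dvd h
  rw [Nat.mul_mod, Nat.mul_mod (r + 1) r] at h2
  have h3 : r % 16 = 2 ∨ r % 16 = 10 := by omega
  have h4 : (r + 1) % 16 = 3 ∨ (r + 1) % 16 = 11 := hq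
  have h5 : (r + 1 + 1) % 16 = 4 ∨ (r + 1 + 1) % 16 = 12 := by omega
  rcases h3 with h3 | h3 <;> rcases h4 with h4 | h4 <;> rcases h5 with h5 | h5 <;>
    rw [h3, h4, h5] at h2 <;> omega

variable {F : Type*} [Field F] [Fintype F]

section setup

variable (p : ℕ) (hp : p.Prime) (hodd : Odd p) (hF : Fintype.card F = 3 ^ p)

include hp hF in
theorem three_eq_zero : (3 : F) = 0 := by
  have h := Nat.cast_card_eq_zero F
  rw [hF] at h
  push_cast at h
  exact pow_eq_zero_iff hp.ne_zero |>.1 h

include hp hF in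
theorem charP_three : CharP F 3 := by
  have h3 : ((3 : ℕ) : F) = 0 := by exact_mod_cast three_eq_zero p hp hF
  have hdvd := ringChar.dvd h3
  have hpr : (ringChar F).Prime := CharP.char_is_prime F (ringChar F)
  have := (Nat.prime_dvd_prime_iff_eq hpr Nat.prime_three).1 hdvd
  exact ringChar.of_eq this

include hp hF in
theorem ringChar_ne_two : ringChar F ≠ 2 := by
  haveI := charP_three p hp hF
  rw [ringChar.eq F 3]
  norm_num

include hp hF in
theorem two_ne_zero' : (2 : F) ≠ 0 := Ring.two_ne_zero (ringChar_ne_two p hp hF)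

include hp hF in
theorem two_eq_neg_one : (2 : F) = -1 := by
  have := three_eq_zero p hp hF
  linear_combination this

include hodd hF in
theorem card_mod_four : Fintype.card F % 4 = 3 := by
  rw [hF]
  have := three_pow_mod_sixteen hodd
  omega

include hodd hF in
theorem not_isSquare_neg_one : ¬ IsSquare (-1 : F) := by
  rw [FiniteField.isSquare_neg_one_iff]
  have := card_mod_four p hodd hF
  omega

include hodd hF in
theorem sq_add_one_ne_zero (a : F) : a ^ 2 + 1 ≠ 0 := by
  intro h
  apply not_isSquare_neg_one p hodd hF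
  exact ⟨a, by linear_combination (-1 : F) * h⟩

include hodd hF in
theorem gcd_two_card : Nat.gcd 2 (Fintype.card F - 1) = 2 := by
  have := card_mod_four p hodd hF
  have h2 : 2 ∣ Fintype.card F - 1 := by omega
  exact Nat.gcd_eq_left h2

include hodd hF in
theorem two_mul_card_G : 2 * Nat.card (Matrix.ProjectiveSpecialLinearGroup (Fin 2) F) =
    3 ^ p * (3 ^ p - 1) * (3 ^ p + 1) := by
  have := card_PSL2_mul (F := F)
  rwa [gcd_two_card p hodd hF, hF] at this

include hp hodd hF in
theorem minList : MinList (Fintype.card F) := by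
  right; left
  refine ⟨p, hp, ?_, hF⟩
  rintro rfl
  exact absurd hodd (by decide)

include hp hodd hF in
theorem simple_G : IsSimpleGroup (Matrix.ProjectiveSpecialLinearGroup (Fin 2) F) :=
  Matrix.ProjectiveSpecialLinearGroup.rank_two_simple
    (by rw [Nat.card_eq_fintype_card]; exact (minList p hp hodd hF).four_le)

include hp hodd hF in
/-- a subgroup of order `24` does not exist -/
theorem card_ne_24 (H : Subgroup (Matrix.ProjectiveSpecialLinearGroup (Fin 2) F)) :
    Nat.card H ≠ 24 := by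
  intro h
  have hdvd : 24 ∣ Nat.card (Matrix.ProjectiveSpecialLinearGroup (Fin 2) F) := by
    rw [← h]; exact Subgroup.card_subgroup_dvd_card H
  have h2 := two_mul_card_G p hodd hF
  have h16 : 16 ∣ 3 ^ p * (3 ^ p - 1) * (3 ^ p + 1) := by
    rw [← h2]
    obtain ⟨c, hc⟩ := hdvd
    rw [hc]
    exact ⟨3 * c, by ring⟩
  exact not_sixteen_dvd (three_pow_mod_sixteen hodd) h16

end setup

/-- the possible structure of a solvable subgroup of `PSL₂(3^p)` -/
theorem sol_cases (p : ℕ) (hp : p.Prime) (hodd : Odd p) (hF : Fintype.card F = 3 ^ p)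
    (H : Subgroup (Matrix.ProjectiveSpecialLinearGroup (Fin 2) F)) (hH : Group.IsSolvable H) :
    (¬ 3 ∣ Nat.card H ∧ ∀ a ∈ H, ∀ b ∈ H, a * a = 1 ∨ a * b = b * a ∨ b * a * b⁻¹ = a⁻¹) ∨
    (∃ s : SL(2, F), ∀ h ∈ preim H, (s * h * s⁻¹).1 1 0 = 0) ∨
    (∀ h ∈ H, h ^ 2 = 1 ∨ h ^ 3 = 1) := by
  classical
  haveI : Fact (Nat.Prime 3) := ⟨Nat.prime_three⟩
  haveI := charP_three p hp hF
  haveI := simple_G p hp hodd hF
  have hml := minList p hp hodd hF
  have hq27 := three_pow_ge hp hodd
  have hgcd := gcd_two_card p hodd hF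
  have hq3 : 3 ∣ Fintype.card F := by rw [hF]; exact three_dvd_pow hp
  have hq4 := card_mod_four p hodd hF
  have hd1 : 2 ∣ Fintype.card F + 1 := by omega
  have hd2 : 2 ∣ Fintype.card F - 1 := by omega
  have hHtop : H ≠ ⊤ := by
    intro h
    exact not_solvable_of_equiv ((MulEquiv.subgroupCongr h).trans Subgroup.topEquiv)
      psl2_noncomm hH
  have hk3 : ∀ k : ℕ, (k ∣ (Fintype.card F + 1) / Nat.gcd 2 (Fintype.card F - 1) ∨
      k ∣ (Fintype.card F - 1) / Nat.gcd 2 (Fintype.card F - 1)) → ¬ 3 ∣ 2 * k := by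
    intro k hk h3
    rw [hgcd] at hk
    have h3k : 3 ∣ k := (Nat.Coprime.dvd_mul_left (by norm_num)).1 h3
    rcases hk with hk | hk
    · have h1 : 3 ∣ Fintype.card F + 1 :=
        (h3k.trans hk).trans (Nat.div_dvd_of_dvd hd1)
      omega
    · have h1 : 3 ∣ Fintype.card F - 1 :=
        (h3k.trans hk).trans (Nat.div_dvd_of_dvd hd2)
      omega
  rcases dickson_refined rfl 3 H with ⟨k, hk, ⟨hc, hcard⟩ | ⟨⟨e⟩⟩⟩ | ⟨-, s, hs⟩ | ⟨⟨e⟩⟩ | ⟨⟨e⟩⟩ |
    ⟨⟨e⟩⟩ | ⟨K, _, _, m, hm, hK⟩
  · left
    refine ⟨?_, ?_⟩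
    · rw [hcard]
      intro h3
      exact hk3 k hk (Dvd.dvd.mul_left h3 2)
    · intro a ha b hb
      right; left
      exact comm_of_isCyclic H hc a ha b hb
  · left
    refine ⟨?_, ?_⟩
    · rw [Nat.card_congr e.toEquiv, DihedralGroup.nat_card]
      exact hk3 k hk
    · intro a ha b hb
      by_cases haa : e ⟨a, ha⟩ * e ⟨a, ha⟩ = 1
      · left
        rw [← map_mul, ← map_one e] at haa
        exact congrArg Subtype.val (e.injective haa)
      · right
        rcases dihedral_rot_cases (e ⟨a, ha⟩) (e ⟨b, hb⟩) haa with h | h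
        · left
          rw [← map_mul, ← map_mul] at h
          exact congrArg Subtype.val (e.injective h)
        · right
          rw [← map_inv, ← map_mul, ← map_inv, ← map_mul] at h
          exact congrArg Subtype.val (e.injective h)
  · right; left
    exact ⟨s, hs⟩
  · right; right
    intro h hh
    rcases alt_four_pow (e ⟨h, hh⟩) with h1 | h1
    · left
      rw [← map_pow, ← map_one e] at h1
      exact congrArg Subtype.val (e.injective h1)
    · right
      rw [← map_pow, ← map_one e] at h1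
      exact congrArg Subtype.val (e.injective h1)
  · exfalso
    apply card_ne_24 p hp hodd hF H
    rw [Nat.card_congr e.toEquiv, card_perm_four]
  · exfalso
    exact not_solvable_of_equiv e alt_five_noncomm hH
  · have hm2 : 2 ≤ m := subfield_two_le H hHtop K m hm hK
    have hK2 : 2 ≤ Fintype.card K := Fintype.one_lt_card
    have hK3 : Fintype.card K ≤ 3 := hml.subfield hK2 hm2 hm
    have hK3' : Fintype.card K = 3 := by
      rcases Nat.lt_or_ge (Fintype.card K) 3 with h | h
      · exfalso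
        have h2 : Fintype.card K = 2 := by omega
        rw [h2, hF] at hm
        have h6 : Even (2 ^ m) := (Nat.even_pow.2 ⟨even_two, by omega⟩)
        have h7 : Odd (3 ^ p) := Odd.pow (by decide)
        rw [hm] at h6
        exact (Nat.not_even_iff_odd.2 h7) h6
      · omega
    rcases hK with ⟨⟨e⟩⟩ | ⟨⟨e⟩⟩
    · right; right
      haveI : CharP K 3 := Cfsg.Agent.Helper12.MaxSub.charP_of_card_pow 3 K (m := 1) (f := 1)
        one_ne_zero (by rw [hK3'])
      intro h hh
      have hord := psl_orderOf_dvd 3 (e ⟨h, hh⟩)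
      rw [hK3'] at hord
      have e1 : (3 - 1) / Nat.gcd 2 (3 - 1) = 1 := by decide
      have e2 : (3 + 1) / Nat.gcd 2 (3 - 1) = 2 := by decide
      rw [e1, e2] at hord
      rcases hord with h1 | h1 | h1
      · right
        have h2 := orderOf_dvd_iff_pow_eq_one.1 h1
        rw [← map_pow, ← map_one e] at h2
        exact congrArg Subtype.val (e.injective h2)
      · left
        have h2 := orderOf_dvd_iff_pow_eq_one.1 (h1.trans (by norm_num : 1 ∣ 2))
        rw [← map_pow, ← map_one e] at h2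
        exact congrArg Subtype.val (e.injective h2)
      · left
        have h2 := orderOf_dvd_iff_pow_eq_one.1 h1
        rw [← map_pow, ← map_one e] at h2
        exact congrArg Subtype.val (e.injective h2)
    · exfalso
      apply card_ne_24 p hp hodd hF H
      rw [Nat.card_congr e.toEquiv, card_PGL2_eq K, hK3']

end Cfsg.Agent.Helper11.Sol3
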