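import Mathlib
import Cfsg.Agent.Lib.Helper11.Sol3B

set_option autoImplicit false
set_option linter.unusedVariables false
set_option linter.unusedSectionVars false
set_option linter.unusedSimpArgs false

/-! Relations in `PSL₂(F)` read in `SL₂(F)`. -/

namespace Cfsg.Agent.Helper11.Sol3

open Matrix Matrix.SpecialLinearGroup
open scoped MatrixGroups
open Cfsg.Agent.Helper2.SL2S
open Cfsg.Agent.Helper12 Cfsg.Agent.Helper4.DC Cfsg.Agent.Helper4.DSL
open Cfsg.Agent.Helper11.Klein Cfsg.Agent.Helper11.Dickson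
open Cfsg.Agent.Helper2.PN (mkn mkn_surjective mkn_eq_iff)

variable {F : Type*} [Field F]

theorem one00 : (1 : SL(2, F)).1 0 0 = 1 := by simp
theorem one01 : (1 : SL(2, F)).1 0 1 = 0 := by simp
theorem one10 : (1 : SL(2, F)).1 1 0 = 0 := by simp
theorem one11 : (1 : SL(2, F)).1 1 1 = 1 := by simp

/-- the trace is invariant under conjugation, entrywise -/
theorem tr_conj (s g : SL(2, F)) :
    (s * g * s⁻¹).1 0 0 + (s * g * s⁻¹).1 1 1 = g.1 0 0 + g.1 1 1 := by
  have hs := sl2_det s
  simp only [m10, m00, m11, m01, i00, i10, i01, i11]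
  linear_combination (g.1 0 0 + g.1 1 1) * hs

/-- an element of trace zero has square `-1` -/
theorem mul_self_of_trace_zero (g : SL(2, F)) (ht : g.1 0 0 + g.1 1 1 = 0) :
    g * g = negOneSL := by
  have hdet := sl2_det g
  have h11 : g.1 1 1 = -g.1 0 0 := by linear_combination ht
  apply sl2_ext
  · rw [m00, neg00]
    rw [h11] at hdet
    linear_combination -hdet
  · rw [m01, neg01]
    linear_combination (g.1 0 1) * ht
  · rw [m10, neg10]
    linear_combination (g.1 1 0) * ht
  · rw [m11, neg11]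
    rw [h11] at hdet ⊢
    linear_combination -hdet

theorem mkn_sq_of_trace_zero (g : SL(2, F)) (ht : g.1 0 0 + g.1 1 1 = 0) :
    mkn g * mkn g = (1 : Matrix.ProjectiveSpecialLinearGroup (Fin 2) F) := by
  rw [← map_mul, mul_self_of_trace_zero g ht, mkn_negOne]

/-- elements of `PSL₂` of order at most two -/
theorem sq_cases (g : SL(2, F))
    (h : mkn g * mkn g = (1 : Matrix.ProjectiveSpecialLinearGroup (Fin 2) F)) :
    g = 1 ∨ g = negOneSL ∨ g.1 0 0 + g.1 1 1 = 0 := by
  have hdet := sl2_det g
  rw [← map_mul] at h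
  by_cases ht : g.1 0 0 + g.1 1 1 = 0
  · right; right; exact ht
  rcases (Cfsg.Agent.Helper12.MaxSub.mkP_eq_one_iff (g * g)).1 h with h1 | h1
  · have e00 := congrArg (fun x : SL(2, F) => x.1 0 0) h1
    have e01 := congrArg (fun x : SL(2, F) => x.1 0 1) h1
    have e10 := congrArg (fun x : SL(2, F) => x.1 1 0) h1
    have e11 := congrArg (fun x : SL(2, F) => x.1 1 1) h1
    simp only [m00, m01, m10, m11, one00, one01, one10, one11] at e00 e01 e10 e11
    have h01 : g.1 0 1 = 0 := by
      have : g.1 0 1 * (g.1 0 0 + g.1 1 1) = 0 := by linear_combination e01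
      exact (mul_eq_zero.1 this).resolve_right ht
    have h10 : g.1 1 0 = 0 := by
      have : g.1 1 0 * (g.1 0 0 + g.1 1 1) = 0 := by linear_combination e10
      exact (mul_eq_zero.1 this).resolve_right ht
    rw [h01, h10] at e00 e11 hdet
    have hsq : (g.1 0 0 - 1) * (g.1 0 0 + 1) = 0 := by linear_combination e00
    have h11 : g.1 1 1 = g.1 0 0 := by linear_combination (g.1 0 0) * hdet - (g.1 1 1) * e00
    rcases mul_eq_zero.1 hsq with h0 | h0
    · left
      apply sl2_ext
      · rw [one00]; linear_combination h0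
      · rw [one01]; exact h01
      · rw [one10]; exact h10
      · rw [one11, h11]; linear_combination h0
    · right; left
      apply sl2_ext
      · rw [neg00]; linear_combination h0
      · rw [neg01]; exact h01
      · rw [neg10]; exact h10
      · rw [neg11, h11]; linear_combination h0
  · exfalso
    have e00 := congrArg (fun x : SL(2, F) => x.1 0 0) h1
    have e01 := congrArg (fun x : SL(2, F) => x.1 0 1) h1
    have e10 := congrArg (fun x : SL(2, F) => x.1 1 0) h1
    have e11 := congrArg (fun x : SL(2, F) => x.1 1 1) h1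
    simp only [m00, m01, m10, m11, neg00, neg01, neg10, neg11] at e00 e01 e10 e11
    have h01 : g.1 0 1 = 0 := by
      have : g.1 0 1 * (g.1 0 0 + g.1 1 1) = 0 := by linear_combination e01
      exact (mul_eq_zero.1 this).resolve_right ht
    have h10 : g.1 1 0 = 0 := by
      have : g.1 1 0 * (g.1 0 0 + g.1 1 1) = 0 := by linear_combination e10
      exact (mul_eq_zero.1 this).resolve_right ht
    rw [h01, h10] at e00 e11 hdet
    -- g00^2 = -1, g00 g11 = 1, so g11 = -g00
    apply ht
    linear_combination (g.1 1 1) * e00 - (g.1 0 0) * hdet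

/-- commuting in `PSL₂` -/
theorem comm_cases (h2 : (2 : F) ≠ 0) (g h : SL(2, F))
    (hc : mkn g * mkn h = mkn h * mkn g) :
    g * h = h * g ∨ (g.1 0 0 + g.1 1 1 = 0 ∧ h.1 0 0 + h.1 1 1 = 0) := by
  rw [← map_mul, ← map_mul] at hc
  rcases (mkn_eq_mkn_iff _ _).1 hc with h1 | h1
  · left; exact h1
  · right
    have hg' : h * g = negOneSL * (g * h) := by
      rw [h1, ← mul_assoc, negOneSL_mul_self, one_mul]
    constructor
    · have e : h * g * h⁻¹ = negOneSL * g := by
        rw [hg', mul_assoc, mul_assoc, mul_inv_cancel, mul_one]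
      have e00 := congrArg (fun x : SL(2, F) => x.1 0 0) e
      have e11 := congrArg (fun x : SL(2, F) => x.1 1 1) e
      simp only [ng00, ng11] at e00 e11
      have ht := tr_conj h g
      have : 2 * (g.1 0 0 + g.1 1 1) = 0 := by linear_combination e00 + e11 - ht
      exact (mul_eq_zero.1 this).resolve_left h2
    · have e : g⁻¹ * h * g⁻¹⁻¹ = negOneSL * h := by
        rw [inv_inv, mul_assoc, hg', ← mul_assoc, ← negOneSL_comm, mul_assoc, inv_mul_cancel_left]
      have e00 := congrArg (fun x : SL(2, F) => x.1 0 0) e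
      have e11 := congrArg (fun x : SL(2, F) => x.1 1 1) e
      simp only [ng00, ng11] at e00 e11
      have ht := tr_conj g⁻¹ h
      have : 2 * (h.1 0 0 + h.1 1 1) = 0 := by linear_combination e00 + e11 - ht
      exact (mul_eq_zero.1 this).resolve_left h2

/-- inverting in `PSL₂` -/
theorem inv_cases (h2 : (2 : F) ≠ 0) (g h : SL(2, F))
    (hc : mkn h * mkn g * (mkn h)⁻¹ = (mkn g)⁻¹) :
    h * g * h⁻¹ = g⁻¹ ∨ g.1 0 0 + g.1 1 1 = 0 := by
  rw [← map_inv, ← map_mul, ← map_inv, ← map_mul] at hc
  rcases (mkn_eq_mkn_iff _ _).1 hc with h1 | h1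
  · left; exact h1
  · right
    have e00 := congrArg (fun x : SL(2, F) => x.1 0 0) h1
    have e11 := congrArg (fun x : SL(2, F) => x.1 1 1) h1
    simp only [ng00, ng11, i00, i11] at e00 e11
    have ht := tr_conj h g
    have : 2 * (g.1 0 0 + g.1 1 1) = 0 := by linear_combination e00 + e11 - ht
    exact (mul_eq_zero.1 this).resolve_left h2

/-- an element inverting a non-scalar element has trace zero -/
theorem inverting_trace_zero (g h : SL(2, F)) (hinv : h * g * h⁻¹ = g⁻¹)
    (hns : g.1 1 0 ≠ 0 ∨ g.1 0 1 ≠ 0 ∨ g.1 0 0 ≠ g.1 1 1) : h.1 0 0 + h.1 1 1 = 0 := by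
  have e : h * g = g⁻¹ * h := by
    rw [← hinv]; group
  have e00 := congrArg (fun x : SL(2, F) => x.1 0 0) e
  have e01 := congrArg (fun x : SL(2, F) => x.1 0 1) e
  have e10 := congrArg (fun x : SL(2, F) => x.1 1 0) e
  have e11 := congrArg (fun x : SL(2, F) => x.1 1 1) e
  simp only [m00, m01, m10, m11, i00, i01, i10, i11] at e00 e01 e10 e11
  rcases hns with h1 | h1 | h1
  · have : g.1 1 0 * (h.1 0 0 + h.1 1 1) = 0 := by linear_combination e10
    exact (mul_eq_zero.1 this).resolve_left h1
  · have : g.1 0 1 * (h.1 0 0 + h.1 1 1) = 0 := by linear_combination e01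
    exact (mul_eq_zero.1 this).resolve_left h1
  · have : (g.1 0 0 - g.1 1 1) * (h.1 0 0 + h.1 1 1) = 0 := by linear_combination e00 - e11
    exact (mul_eq_zero.1 this).resolve_left (sub_ne_zero.2 h1)

/-- elements of `PSL₂` of order dividing three, in characteristic three -/
theorem cube_trace (h3 : (3 : F) = 0) (g : SL(2, F))
    (h : (mkn g) ^ 3 = (1 : Matrix.ProjectiveSpecialLinearGroup (Fin 2) F)) :
    (g.1 0 0 + g.1 1 1) ^ 2 = 1 := by
  have hdet := sl2_det g
  rw [← map_pow] at h
  have hggg : g ^ 3 = g * g * g := by rw [pow_succ, pow_two]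
  rw [hggg] at h
  set t := g.1 0 0 + g.1 1 1 with ht
  by_contra hne
  have hne' : t ^ 2 - 1 ≠ 0 := sub_ne_zero.2 hne
  -- entries of the cube
  have c00 : (g * g * g).1 0 0 = (t ^ 2 - 1) * g.1 0 0 - t := by
    simp only [m00, m01, m10, m11, ht]
    linear_combination (-(2 * g.1 0 0 + g.1 1 1)) * hdet
  have c01 : (g * g * g).1 0 1 = (t ^ 2 - 1) * g.1 0 1 := by
    simp only [m00, m01, m10, m11, ht]
    linear_combination (-(g.1 0 1)) * hdet
  have c10 : (g * g * g).1 1 0 = (t ^ 2 - 1) * g.1 1 0 := by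
    simp only [m00, m01, m10, m11, ht]
    linear_combination (-(g.1 1 0)) * hdet
  have c11 : (g * g * g).1 1 1 = (t ^ 2 - 1) * g.1 1 1 - t := by
    simp only [m00, m01, m10, m11, ht]
    linear_combination (-(g.1 0 0 + 2 * g.1 1 1)) * hdet
  have key : ∀ ε : F, (g * g * g).1 0 0 = ε → (g * g * g).1 0 1 = 0 → (g * g * g).1 1 0 = 0 →
      (g * g * g).1 1 1 = ε → False := by
    intro ε e00 e01 e10 e11
    rw [c00] at e00
    rw [c01] at e01
    rw [c10] at e10
    rw [c11] at e11
    have h01 : g.1 0 1 = 0 := (mul_eq_zero.1 e01).resolve_left hne'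
    have h10 : g.1 1 0 = 0 := (mul_eq_zero.1 e10).resolve_left hne'
    have hd : g.1 0 0 = g.1 1 1 := by
      have : (t ^ 2 - 1) * (g.1 0 0 - g.1 1 1) = 0 := by linear_combination e00 - e11
      exact sub_eq_zero.1 ((mul_eq_zero.1 this).resolve_left hne')
    rw [h01, h10, ← hd] at hdet
    apply hne
    rw [ht, ← hd]
    linear_combination 4 * hdet + h3
  rcases (Cfsg.Agent.Helper12.MaxSub.mkP_eq_one_iff (g * g * g)).1 h with h1 | h1
  · apply key 1 <;> rw [h1]
    · exact one00
    · exact one01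
    · exact one10
    · exact one11
  · apply key (-1) <;> rw [h1]
    · exact neg00
    · exact neg01
    · exact neg10
    · exact neg11

/-- elements of order at most three have trace in the prime field -/
theorem trace_pow_three (h3 : (3 : F) = 0) (g : SL(2, F))
    (h : (mkn g) ^ 2 = (1 : Matrix.ProjectiveSpecialLinearGroup (Fin 2) F) ∨
      (mkn g) ^ 3 = (1 : Matrix.ProjectiveSpecialLinearGroup (Fin 2) F)) :
    (g.1 0 0 + g.1 1 1) ^ 3 = g.1 0 0 + g.1 1 1 := by
  rcases h with h | h
  · rw [pow_two] at h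
    rcases sq_cases g h with h1 | h1 | h1
    · rw [h1, one00, one11]
      linear_combination 2 * h3
    · rw [h1, neg00, neg11]
      linear_combination (-2 : F) * h3
    · rw [h1]; ring
  · have := cube_trace h3 g h
    linear_combination (g.1 0 0 + g.1 1 1) * this

end Cfsg.Agent.Helper11.Sol3
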