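import Mathlib
import Cfsg.Agent.Lib.Helper11.Sol3C

set_option autoImplicit false
set_option linter.unusedVariables false
set_option linter.unusedSectionVars false
set_option linter.unusedSimpArgs false

/-! The solubilizer of an element of order three in `PSL₂(3^p)`. -/

namespace Cfsg.Agent.Helper11.Sol3

open Matrix Matrix.SpecialLinearGroup
open scoped MatrixGroups
open Cfsg.Agent.Helper2.SL2S
open Cfsg.Agent.Helper12 Cfsg.Agent.Helper4.DC Cfsg.Agent.Helper4.DSL
open Cfsg.Agent.Helper11.Klein Cfsg.Agent.Helper11.Dickson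
open Cfsg.Agent.Helper2.PN (mkn mkn_surjective mkn_eq_iff)

variable {F : Type*} [Field F]

/-- membership in the prime field, in characteristic three -/
def IsT (z : F) : Prop := z ^ 3 = z

theorem isT_zero : IsT (0 : F) := by unfold IsT; ring
theorem isT_one : IsT (1 : F) := by unfold IsT; ring
theorem isT_neg {z : F} (hz : IsT z) : IsT (-z) := by
  unfold IsT at *; linear_combination (-1 : F) * hz
theorem isT_mul {z w : F} (hz : IsT z) (hw : IsT w) : IsT (z * w) := by
  unfold IsT at *; rw [mul_pow, hz, hw]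
theorem isT_add (h3 : (3 : F) = 0) {z w : F} (hz : IsT z) (hw : IsT w) : IsT (z + w) := by
  unfold IsT at *
  linear_combination hz + hw + (z ^ 2 * w + z * w ^ 2) * h3

/-- elements of the prime field -/
theorem isT_cases {z : F} (hz : IsT z) : z = 0 ∨ z = 1 ∨ z = -1 := by
  unfold IsT at hz
  have : z * ((z - 1) * (z + 1)) = 0 := by linear_combination hz
  rcases mul_eq_zero.1 this with h | h
  · left; exact h
  · rcases mul_eq_zero.1 h with h | h
    · right; left; exact sub_eq_zero.1 h
    · right; right; exact eq_neg_of_add_eq_zero_left h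

/-- the conjugate of `SL₂(𝔽₃)` by a diagonal matrix -/
def P3 (h3 : (3 : F) = 0) (l : F) (hl : l ≠ 0) : Subgroup SL(2, F) where
  carrier := {g | IsT (g.1 0 0) ∧ IsT (g.1 0 1 / l) ∧ IsT (l * g.1 1 0) ∧ IsT (g.1 1 1)}
  mul_mem' := by
    rintro g h ⟨g00, g01, g10, g11⟩ ⟨h00, h01, h10, h11⟩
    refine ⟨?_, ?_, ?_, ?_⟩
    · have e : (g * h).1 0 0 = g.1 0 0 * h.1 0 0 + (g.1 0 1 / l) * (l * h.1 1 0) := by
        rw [m00]; field_simp
      rw [e]
      exact isT_add h3 (isT_mul g00 h00) (isT_mul g01 h10)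
    · have e : (g * h).1 0 1 / l = g.1 0 0 * (h.1 0 1 / l) + (g.1 0 1 / l) * h.1 1 1 := by
        rw [m01]; field_simp
      rw [e]
      exact isT_add h3 (isT_mul g00 h01) (isT_mul g01 h11)
    · have e : l * (g * h).1 1 0 = (l * g.1 1 0) * h.1 0 0 + g.1 1 1 * (l * h.1 1 0) := by
        rw [m10]; ring
      rw [e]
      exact isT_add h3 (isT_mul g10 h00) (isT_mul g11 h10)
    · have e : (g * h).1 1 1 = (l * g.1 1 0) * (h.1 0 1 / l) + g.1 1 1 * h.1 1 1 := by
        rw [m11]; field_simp
      rw [e]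
      exact isT_add h3 (isT_mul g10 h01) (isT_mul g11 h11)
  one_mem' := by
    refine ⟨?_, ?_, ?_, ?_⟩
    · rw [one00]; exact isT_one
    · rw [one01, zero_div]; exact isT_zero
    · rw [one10, mul_zero]; exact isT_zero
    · rw [one11]; exact isT_one
  inv_mem' := by
    rintro g ⟨g00, g01, g10, g11⟩
    refine ⟨?_, ?_, ?_, ?_⟩
    · rw [i00]; exact g11
    · rw [i01, neg_div]; exact isT_neg g01
    · rw [i10, mul_neg]; exact isT_neg g10
    · rw [i11]; exact g00

theorem mem_P3 (h3 : (3 : F) = 0) (l : F) (hl : l ≠ 0) (g : SL(2, F)) :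
    g ∈ P3 h3 l hl ↔
      IsT (g.1 0 0) ∧ IsT (g.1 0 1 / l) ∧ IsT (l * g.1 1 0) ∧ IsT (g.1 1 1) := Iff.rfl

/-- two matrices of the big cell with the same first column and last entry are equal -/
theorem ext_of_cell {x y : SL(2, F)} (h00 : x.1 0 0 = y.1 0 0) (h10 : x.1 1 0 = y.1 1 0)
    (h11 : x.1 1 1 = y.1 1 1) (hγ : x.1 1 0 ≠ 0) : x = y := by
  apply sl2_ext h00 _ h10 h11
  have dx := sl2_det x
  have dy := sl2_det y
  rw [h00, h10, h11] at dx
  rw [h10] at hγ
  have : (x.1 0 1 - y.1 0 1) * y.1 1 0 = 0 := by linear_combination dy - dx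
  exact sub_eq_zero.1 ((mul_eq_zero.1 this).resolve_right hγ)

variable [Fintype F]

section setup

variable (p : ℕ) (hp : p.Prime) (hodd : Odd p) (hF : Fintype.card F = 3 ^ p)

include hp hodd hF in
theorem exists_not_isT : ∃ z : F, ¬ IsT z := by
  classical
  by_contra hall
  push Not at hall
  have h2 := two_ne_zero' p hp hF
  have hsub : (Finset.univ : Finset F) ⊆ {0, 1, -1} := by
    intro z _
    rcases isT_cases (hall z) with h | h | h <;> rw [h] <;> simp
  have h1 := Finset.card_le_card hsub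
  have h3 : ({0, 1, -1} : Finset F).card ≤ 3 := Finset.card_le_three
  rw [Finset.card_univ, hF] at h1
  have := three_pow_ge hp hodd
  omega

include hp hodd hF in
/-- the image of `P3` is a proper subgroup -/
theorem map_P3_ne_top (l : F) (hl : l ≠ 0) :
    (P3 (three_eq_zero p hp hF) l hl).map (mkn (ι := Fin 2) (F := F)) ≠ ⊤ := by
  intro htop
  obtain ⟨z, hz⟩ := exists_not_isT p hp hodd hF
  have hmem : mkn (u (l * z)) ∈ (P3 (three_eq_zero p hp hF) l hl).map
      (mkn (ι := Fin 2) (F := F)) := by rw [htop]; trivial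
  obtain ⟨g, hg, hgm⟩ := hmem
  rcases (mkn_eq_mkn_iff _ _).1 hgm with rfl | rfl
  · have := hg.2.1
    rw [u01, mul_div_cancel_left₀ z hl] at this
    exact hz this
  · have := hg.2.1
    rw [ng01, u01, neg_div, mul_div_cancel_left₀ z hl] at this
    have h' := isT_neg this
    rw [neg_neg] at h'
    exact hz h'

include hp hodd hF in
/-- the subgroups of type `A₄` containing a unipotent element -/
theorem sol_of_prime_field {a : F} (ha : a ≠ 0) (y : SL(2, F)) (hc : (a * y.1 1 0) ^ 2 = 1)
    (ht : IsT (y.1 0 0 + y.1 1 1)) :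
    Group.IsSolvable (Subgroup.closure
      ({mkn (u a), mkn y} : Set (Matrix.ProjectiveSpecialLinearGroup (Fin 2) F))) := by
  have h3 := three_eq_zero p hp hF
  have hc0 : y.1 1 0 ≠ 0 := by
    intro h0
    rw [h0, mul_zero] at hc
    simp at hc
  set s : SL(2, F) := u (-(y.1 0 0) / y.1 1 0) with hs
  set z : SL(2, F) := s * y * s⁻¹ with hz
  have hsx : s * u a * s⁻¹ = u a := by
    apply sl2_ext <;> simp only [hs, m10, m00, m11, m01, i00, i10, i01, i11, u00, u01, u10, u11] <;>
      ring
  have z00 : z.1 0 0 = 0 := by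
    simp only [hz, hs, m10, m00, m11, m01, i00, i10, i01, i11, u00, u01, u10, u11]
    field_simp
    ring
  have z10 : z.1 1 0 = y.1 1 0 := by
    simp only [hz, hs, m10, m00, m11, m01, i00, i10, i01, i11, u00, u01, u10, u11]
    ring
  have z11 : z.1 1 1 = y.1 0 0 + y.1 1 1 := by
    have := tr_conj s y
    rw [← hz, z00] at this
    linear_combination this
  have zdet := sl2_det z
  rw [z00, z10, z11] at zdet
  set M := (P3 h3 a ha).map (mkn (ι := Fin 2) (F := F)) with hM
  have hMtop : M ≠ ⊤ := map_P3_ne_top p hp hodd hF a ha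
  have hsolM : Group.IsSolvable M := solvable_of_list rfl (minList p hp hodd hF) M hMtop
  have hu : u a ∈ P3 h3 a ha := by
    refine ⟨?_, ?_, ?_, ?_⟩
    · rw [u00]; exact isT_one
    · rw [u01, div_self ha]; exact isT_one
    · rw [u10, mul_zero]; exact isT_zero
    · rw [u11]; exact isT_one
  have hzm : z ∈ P3 h3 a ha := by
    refine ⟨?_, ?_, ?_, ?_⟩
    · rw [z00]; exact isT_zero
    · have e : z.1 0 1 / a = -(a * y.1 1 0) := by
        field_simp
        linear_combination (-(z.1 0 1)) * hc + (-(a ^ 2 * y.1 1 0)) * zdet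
      rw [e]
      apply isT_neg
      unfold IsT
      linear_combination (a * y.1 1 0) * hc
    · rw [z10]
      unfold IsT
      linear_combination (a * y.1 1 0) * hc
    · rw [z11]; exact ht
  have hsol : Group.IsSolvable (Subgroup.closure
      ({mkn (s * u a * s⁻¹), mkn z} : Set (Matrix.ProjectiveSpecialLinearGroup (Fin 2) F))) := by
    rw [hsx]
    exact isSolvable_closure_of_mem M hsolM _ _ ⟨u a, hu, rfl⟩ ⟨z, hzm, rfl⟩
  have hconj := isSolvable_closure_conj (mkn s)⁻¹ _ _ hsol
  have e1 : (mkn s)⁻¹ * mkn (s * u a * s⁻¹) * (mkn s)⁻¹⁻¹ =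
      (mkn (u a) : Matrix.ProjectiveSpecialLinearGroup (Fin 2) F) := by
    rw [map_mul, map_mul, map_inv]; group
  have e2 : (mkn s)⁻¹ * mkn z * (mkn s)⁻¹⁻¹ =
      (mkn y : Matrix.ProjectiveSpecialLinearGroup (Fin 2) F) := by
    rw [hz, map_mul, map_mul, map_inv]; group
  rw [e1, e2] at hconj
  exact hconj

include hp hF in
theorem mkn_u_ne_one {a : F} (ha : a ≠ 0) :
    mkn (u a) ≠ (1 : Matrix.ProjectiveSpecialLinearGroup (Fin 2) F) := by
  intro h
  have h2 := two_ne_zero' p hp hF
  rcases (Cfsg.Agent.Helper12.MaxSub.mkP_eq_one_iff (u a)).1 h with h1 | h1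
  · have := congrArg (fun x : SL(2, F) => x.1 0 1) h1
    simp only [u01, one01] at this
    exact ha this
  · have := congrArg (fun x : SL(2, F) => x.1 0 1) h1
    simp only [u01, neg01] at this
    exact ha this

include hp hF in
theorem orderOf_mkn_u {a : F} (ha : a ≠ 0) :
    orderOf (mkn (u a) : Matrix.ProjectiveSpecialLinearGroup (Fin 2) F) = 3 := by
  haveI : Fact (Nat.Prime 3) := ⟨Nat.prime_three⟩
  apply orderOf_eq_prime
  · rw [← map_pow, u_pow]
    have : ((3 : ℕ) : F) * a = 0 := by
      have h3 := three_eq_zero p hp hF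
      push_cast
      rw [h3, zero_mul]
    rw [this, u_zero, map_one]
  · exact mkn_u_ne_one p hp hF ha

include hp hodd hF in
/-- the solubilizer of an element of order three -/
theorem sol_iff_unip3 {a : F} (ha : a ≠ 0) (y : SL(2, F)) :
    Group.IsSolvable (Subgroup.closure
      ({mkn (u a), mkn y} : Set (Matrix.ProjectiveSpecialLinearGroup (Fin 2) F))) ↔
      (y.1 1 0 = 0 ∨ ((a * y.1 1 0) ^ 2 = 1 ∧ (y.1 0 0 + y.1 1 1) ^ 3 = y.1 0 0 + y.1 1 1)) := by
  have h3 := three_eq_zero p hp hF
  constructor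
  · intro hs
    set H := Subgroup.closure
      ({mkn (u a), mkn y} : Set (Matrix.ProjectiveSpecialLinearGroup (Fin 2) F)) with hH
    have hxH : mkn (u a) ∈ H := Subgroup.subset_closure (by simp)
    have hyH : mkn y ∈ H := Subgroup.subset_closure (by simp)
    rcases sol_cases p hp hodd hF H hs with ⟨hn3, -⟩ | ⟨s, hsf⟩ | hall
    · exfalso
      apply hn3
      rw [← orderOf_mkn_u p hp hF ha]
      exact Subgroup.orderOf_dvd_natCard H hxH
    · left
      have h1 := frame_u' s ha (hsf (u a) hxH)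
      exact frame_upper' s y h1 (hsf y hyH)
    · have t1 := trace_pow_three h3 y (hall _ hyH)
      have hxyH : mkn (u a * y) ∈ H := by
        rw [map_mul]; exact Subgroup.mul_mem _ hxH hyH
      have t2 := trace_pow_three h3 (u a * y) (hall _ hxyH)
      simp only [m00, m11, u00, u01, u10, u11] at t2
      have t3 : IsT (a * y.1 1 0) := by
        unfold IsT
        linear_combination t2 - t1 -
          ((y.1 0 0 + y.1 1 1) ^ 2 * (a * y.1 1 0) + (y.1 0 0 + y.1 1 1) * (a * y.1 1 0) ^ 2) * h3
      rcases isT_cases t3 with h | h | h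
      · left
        exact (mul_eq_zero.1 h).resolve_left ha
      · right
        exact ⟨by rw [h]; ring, t1⟩
      · right
        exact ⟨by rw [h]; ring, t1⟩
  · rintro (h | ⟨h1, h2⟩)
    · apply isSolvable_closure_of_frame' 1 (u a) y
      · simp only [one_mul, inv_one, mul_one, u10]
      · simp only [one_mul, inv_one, mul_one]
        exact h
    · exact sol_of_prime_field p hp hodd hF ha y h1 h2

end setup

end Cfsg.Agent.Helper11.Sol3
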