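import Mathlib
import Cfsg.Agent.Lib.Helper11.Sol3D

set_option autoImplicit false
set_option linter.unusedVariables false
set_option linter.unusedSectionVars false
set_option linter.unusedSimpArgs false

/-! Counting the solubilizer of an element of order three in `PSL₂(3^p)`. -/

namespace Cfsg.Agent.Helper11.Sol3

open Matrix Matrix.SpecialLinearGroup
open scoped MatrixGroups
open Cfsg.Agent.Helper2.SL2S
open Cfsg.Agent.Helper12 Cfsg.Agent.Helper4.DC Cfsg.Agent.Helper4.DSL
open Cfsg.Agent.Helper11.Klein Cfsg.Agent.Helper11.Dickson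
open Cfsg.Agent.Helper2.PN (mkn mkn_surjective mkn_eq_iff)

variable {F : Type*} [Field F]

/-- the two signs -/
def sg (b : Bool) : F := if b then 1 else -1

theorem sg_sq (b : Bool) : (sg b : F) ^ 2 = 1 := by
  cases b <;> simp [sg]

theorem sg_ne_zero (b : Bool) : (sg b : F) ≠ 0 := by
  cases b <;> simp [sg]

theorem sg_injective (h2 : (2 : F) ≠ 0) : Function.Injective (sg : Bool → F) := by
  have hne : (1 : F) ≠ -1 := by
    intro h
    apply h2
    linear_combination h
  intro b c h
  cases b <;> cases c <;> simp [sg] at h ⊢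
  · exact hne h.symm
  · exact hne h

theorem exists_sg {x : F} (hx : x ^ 2 = 1) : ∃ b : Bool, x = sg b := by
  have : (x - 1) * (x + 1) = 0 := by linear_combination hx
  rcases mul_eq_zero.1 this with h | h
  · exact ⟨true, by simp [sg]; exact sub_eq_zero.1 h⟩
  · exact ⟨false, by simp [sg]; exact eq_neg_of_add_eq_zero_left h⟩

/-- the three elements of the prime field -/
def t3 (j : Fin 3) : F := ![0, 1, -1] j

theorem t3_isT (j : Fin 3) : IsT (t3 j : F) := by
  fin_cases j
  · exact isT_zero
  · exact isT_one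
  · exact isT_neg isT_one

theorem t3_injective (h2 : (2 : F) ≠ 0) : Function.Injective (t3 : Fin 3 → F) := by
  have hne : (1 : F) ≠ -1 := by
    intro h
    apply h2
    linear_combination h
  intro i j h
  fin_cases i <;> fin_cases j <;> simp [t3] at h ⊢
  · exact hne h
  · exact hne h.symm

theorem exists_t3 {x : F} (hx : IsT x) : ∃ j : Fin 3, x = t3 j := by
  rcases isT_cases hx with h | h | h
  · exact ⟨0, by rw [h]; rfl⟩
  · exact ⟨1, by rw [h]; rfl⟩
  · exact ⟨2, by rw [h]; rfl⟩

variable [Fintype F]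

/-- the number of matrices with prescribed lower left entry up to sign and trace in the prime
field -/
theorem ncard_prime_field (h2 : (2 : F) ≠ 0) {a : F} (ha : a ≠ 0) :
    ({y : SL(2, F) | (a * y.1 1 0) ^ 2 = 1 ∧
      (y.1 0 0 + y.1 1 1) ^ 3 = y.1 0 0 + y.1 1 1} : Set SL(2, F)).ncard =
      6 * Fintype.card F := by
  classical
  let φ : F × Bool × Fin 3 → SL(2, F) := fun t =>
    cellSL t.1 (sg t.2.1 / a) (t3 t.2.2 - t.1) (div_ne_zero (sg_ne_zero _) ha)
  have hφ : Function.Injective φ := by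
    intro t t' h
    have h0 := congrArg (fun y : SL(2, F) => y.1 0 0) h
    have h1 := congrArg (fun y : SL(2, F) => y.1 1 0) h
    have h11 := congrArg (fun y : SL(2, F) => y.1 1 1) h
    simp only [φ, cellSL_00, cellSL_10, cellSL_11] at h0 h1 h11
    have e1 : t.2.1 = t'.2.1 := sg_injective h2 ((div_left_inj' ha).1 h1)
    have e2 : t.2.2 = t'.2.2 := by
      apply t3_injective h2
      rw [h0] at h11
      linear_combination h11
    exact Prod.ext h0 (Prod.ext e1 e2)
  have hrange : Set.range φ = {y : SL(2, F) | (a * y.1 1 0) ^ 2 = 1 ∧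
      (y.1 0 0 + y.1 1 1) ^ 3 = y.1 0 0 + y.1 1 1} := by
    ext y
    constructor
    · rintro ⟨t, rfl⟩
      simp only [φ, Set.mem_setOf_eq, cellSL_00, cellSL_10, cellSL_11]
      constructor
      · rw [mul_div_cancel₀ _ ha]
        exact sg_sq _
      · have := t3_isT (F := F) t.2.2
        unfold IsT at this
        have e : t.1 + (t3 t.2.2 - t.1) = t3 t.2.2 := by ring
        rw [e]
        exact this
    · rintro ⟨h1, h2'⟩
      obtain ⟨b, hb⟩ := exists_sg h1
      obtain ⟨j, hj⟩ := exists_t3 (x := y.1 0 0 + y.1 1 1) h2'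
      refine ⟨(y.1 0 0, b, j), ?_⟩
      have h10 : y.1 1 0 = sg b / a := by
        rw [← hb]; field_simp
      apply ext_of_cell
      · simp only [φ, cellSL_00]
      · simp only [φ, cellSL_10]
        exact h10.symm
      · simp only [φ, cellSL_11]
        rw [← hj]; ring
      · simp only [φ, cellSL_10]
        exact div_ne_zero (sg_ne_zero _) ha
  rw [← hrange, ← Set.image_univ, Set.ncard_image_of_injective _ hφ, Set.ncard_univ,
    Nat.card_prod, Nat.card_prod, Nat.card_eq_fintype_card, Nat.card_eq_fintype_card,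
    Nat.card_eq_fintype_card, Fintype.card_bool, Fintype.card_fin]
  ring

/-- the count for an element of order three -/
theorem ncard_unip3 (h2 : (2 : F) ≠ 0) {a : F} (ha : a ≠ 0) :
    ({y : SL(2, F) | y.1 1 0 = 0 ∨ ((a * y.1 1 0) ^ 2 = 1 ∧
      (y.1 0 0 + y.1 1 1) ^ 3 = y.1 0 0 + y.1 1 1)} : Set SL(2, F)).ncard =
      Fintype.card F * (Fintype.card F - 1) + 6 * Fintype.card F := by
  set B : Set SL(2, F) := {y : SL(2, F) | y.1 1 0 = 0} with hB
  set A : Set SL(2, F) := {y : SL(2, F) | (a * y.1 1 0) ^ 2 = 1 ∧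
      (y.1 0 0 + y.1 1 1) ^ 3 = y.1 0 0 + y.1 1 1} with hA
  have hset : {y : SL(2, F) | y.1 1 0 = 0 ∨ ((a * y.1 1 0) ^ 2 = 1 ∧
      (y.1 0 0 + y.1 1 1) ^ 3 = y.1 0 0 + y.1 1 1)} = B ∪ A := by
    ext y
    simp only [Set.mem_setOf_eq, Set.mem_union, hB, hA]
  have hd : Disjoint B A := by
    rw [Set.disjoint_left]
    intro y hy hy'
    have h0 : y.1 1 0 = 0 := hy
    have h1 := hy'.1
    rw [h0, mul_zero] at h1
    simp at h1
  rw [hset, Set.ncard_union_eq hd (Set.toFinite _) (Set.toFinite _), ncard_borel,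
    ncard_prime_field h2 ha]

/-- the count for a split semisimple element -/
theorem ncard_split' :
    ({y : SL(2, F) | y.1 1 0 = 0 ∨ y.1 0 1 = 0 ∨ (y.1 0 0 = 0 ∧ y.1 1 1 = 0)} :
      Set SL(2, F)).ncard = 2 * Fintype.card F * (Fintype.card F - 1) := by
  set B : Set SL(2, F) := {y : SL(2, F) | y.1 1 0 = 0} with hB
  set A1 : Set SL(2, F) :=
    {y : SL(2, F) | y.1 1 0 ≠ 0 ∧ y.1 1 1 = (fun α γ : F => α⁻¹) (y.1 0 0) (y.1 1 0)} with hA1
  have hset : {y : SL(2, F) | y.1 1 0 = 0 ∨ y.1 0 1 = 0 ∨ (y.1 0 0 = 0 ∧ y.1 1 1 = 0)} =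
      B ∪ A1 := by
    ext y
    have hdet := sl2_det y
    simp only [Set.mem_setOf_eq, Set.mem_union, hB, hA1]
    constructor
    · rintro (h | h | ⟨h, h'⟩)
      · left; exact h
      · by_cases h0 : y.1 1 0 = 0
        · left; exact h0
        · right
          refine ⟨h0, ?_⟩
          rw [h] at hdet
          have h1 : y.1 0 0 * y.1 1 1 = 1 := by linear_combination hdet
          exact eq_inv_of_mul_eq_one_right h1
      · by_cases h0 : y.1 1 0 = 0
        · left; exact h0
        · right
          refine ⟨h0, ?_⟩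
          rw [h, h', _root_.inv_zero]
    · rintro (h | ⟨h0, h⟩)
      · left; exact h
      · right
        by_cases h00 : y.1 0 0 = 0
        · right
          rw [h00, _root_.inv_zero] at h
          exact ⟨h00, h⟩
        · left
          rw [h, mul_inv_cancel₀ h00] at hdet
          have h1 : y.1 0 1 * y.1 1 0 = 0 := by linear_combination -hdet
          exact (mul_eq_zero.1 h1).resolve_right h0
  have hd1 : Disjoint B A1 := by
    rw [Set.disjoint_left]
    intro y hy hy'
    exact hy'.1 hy
  have hBn : B.ncard = Fintype.card F * (Fintype.card F - 1) := ncard_borel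
  have hA1n : A1.ncard = Fintype.card F * (Fintype.card F - 1) :=
    ncard_graph (fun α γ : F => α⁻¹)
  rw [hset, Set.ncard_union_eq hd1 (Set.toFinite _) (Set.toFinite _), hBn, hA1n]
  ring

section setup

variable (p : ℕ) (hp : p.Prime) (hodd : Odd p) (hF : Fintype.card F = 3 ^ p)

include hp hodd hF in
/-- counting the solubilizer through `SL₂` -/
theorem card_sol_of_iff (x : SL(2, F)) (S : Set SL(2, F))
    (hS : ∀ y : SL(2, F), Group.IsSolvable (Subgroup.closure
      ({mkn x, mkn y} : Set (Matrix.ProjectiveSpecialLinearGroup (Fin 2) F))) ↔ y ∈ S) :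
    2 * Nat.card {y : Matrix.ProjectiveSpecialLinearGroup (Fin 2) F // Group.IsSolvable
      (Subgroup.closure ({mkn x, y} : Set (Matrix.ProjectiveSpecialLinearGroup (Fin 2) F)))} =
      S.ncard := by
  have h1 := card_lift (F := F) (fun y => Group.IsSolvable
      (Subgroup.closure ({mkn x, y} : Set (Matrix.ProjectiveSpecialLinearGroup (Fin 2) F))))
  rw [gcd_two_card p hodd hF] at h1
  rw [mul_comm, ← h1, ← _root_.Nat.card_coe_set_eq]
  apply Nat.card_congr
  exact Equiv.subtypeEquivRight (fun y => hS y)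

include hp hodd hF in
/-- the solubilizer of an element of order three -/
theorem card_sol_unip3 {a : F} (ha : a ≠ 0) :
    2 * Nat.card {y : Matrix.ProjectiveSpecialLinearGroup (Fin 2) F // Group.IsSolvable
      (Subgroup.closure ({mkn (u a), y} :
        Set (Matrix.ProjectiveSpecialLinearGroup (Fin 2) F)))} =
      Fintype.card F * (Fintype.card F + 5) := by
  have h := card_sol_of_iff p hp hodd hF (u a)
    {y : SL(2, F) | y.1 1 0 = 0 ∨ ((a * y.1 1 0) ^ 2 = 1 ∧
      (y.1 0 0 + y.1 1 1) ^ 3 = y.1 0 0 + y.1 1 1)}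
    (fun y => sol_iff_unip3 p hp hodd hF ha y)
  rw [h, ncard_unip3 (two_ne_zero' p hp hF) ha]
  have : 1 ≤ Fintype.card F := Fintype.card_pos
  obtain ⟨n, hn⟩ : ∃ n, Fintype.card F = n + 1 := ⟨Fintype.card F - 1, by omega⟩
  rw [hn]
  have : n + 1 - 1 = n := by omega
  rw [this]
  ring

end setup

end Cfsg.Agent.Helper11.Sol3
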