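import Mathlib
import Cfsg.Agent.Lib.Helper11.Sol3E

set_option autoImplicit false
set_option linter.unusedVariables false
set_option linter.unusedSectionVars false
set_option linter.unusedSimpArgs false

/-! The solubilizers of the semisimple elements of odd order in `PSL₂(3^p)`. -/

namespace Cfsg.Agent.Helper11.Sol3

open Matrix Matrix.SpecialLinearGroup
open scoped MatrixGroups
open Cfsg.Agent.Helper2.SL2S
open Cfsg.Agent.Helper12 Cfsg.Agent.Helper4.DC Cfsg.Agent.Helper4.DSL
open Cfsg.Agent.Helper11.Klein Cfsg.Agent.Helper11.Dickson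
open Cfsg.Agent.Helper2.PN (mkn mkn_surjective mkn_eq_iff)

variable {F : Type*} [Field F] [Fintype F]

section setup

variable (p : ℕ) (hp : p.Prime) (hodd : Odd p) (hF : Fintype.card F = 3 ^ p)

include hp hodd hF in
/-- the solubilizer of a split semisimple element of order at least three -/
theorem sol_iff_split3 (d : SL(2, F)) (hd : IsSplitReg d) (hd4 : d.1 0 0 ^ 2 ≠ -1)
    (y : SL(2, F)) :
    Group.IsSolvable (Subgroup.closure
      ({mkn d, mkn y} : Set (Matrix.ProjectiveSpecialLinearGroup (Fin 2) F))) ↔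
      (y.1 1 0 = 0 ∨ y.1 0 1 = 0 ∨ (y.1 0 0 = 0 ∧ y.1 1 1 = 0)) := by
  have h3 := three_eq_zero p hp hF
  have h2 := two_ne_zero' p hp hF
  have hne := hd.entry_ne
  have hmul := hd.mul_eq_one
  have htr : d.1 0 0 + d.1 1 1 ≠ 0 := by
    intro h
    apply hd4
    have : d.1 1 1 = -d.1 0 0 := by linear_combination h
    rw [this] at hmul
    linear_combination -hmul
  have hsq : ¬ (mkn d * mkn d = (1 : Matrix.ProjectiveSpecialLinearGroup (Fin 2) F)) := by
    intro h
    rcases sq_cases d h with h1 | h1 | h1
    · apply hd.hsq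
      rw [h1, one00]; ring
    · apply hd.hsq
      rw [h1, neg00]; ring
    · exact htr h1
  constructor
  · intro hs
    set H := Subgroup.closure
      ({mkn d, mkn y} : Set (Matrix.ProjectiveSpecialLinearGroup (Fin 2) F)) with hH
    have hxH : mkn d ∈ H := Subgroup.subset_closure (by simp)
    have hyH : mkn y ∈ H := Subgroup.subset_closure (by simp)
    rcases sol_cases p hp hodd hF H hs with ⟨-, hab⟩ | ⟨s, hsf⟩ | hall
    · rcases hab _ hxH _ hyH with h | h | h
      · exact absurd h hsq
      · rcases comm_cases h2 d y h with h1 | ⟨h1, -⟩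
        · right; left
          have h5 := congrArg (fun x : SL(2, F) => x.1 0 1) h1
          simp only [m01, hd.h01, hd.h10] at h5
          have : y.1 0 1 * (d.1 0 0 - d.1 1 1) = 0 := by linear_combination h5
          rcases mul_eq_zero.1 this with h6 | h6
          · exact h6
          · exact absurd (sub_eq_zero.1 h6) hne
        · exact absurd h1 htr
      · rcases inv_cases h2 d y h with h1 | h1
        · right; right
          have h0 : y * d = d⁻¹ * y := by
            rw [← h1]; group
          have h5 := congrArg (fun x : SL(2, F) => x.1 0 0) h0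
          have h6 := congrArg (fun x : SL(2, F) => x.1 1 1) h0
          simp only [m00, m11, i00, i01, i10, i11, hd.h01, hd.h10] at h5 h6
          constructor
          · have : y.1 0 0 * (d.1 0 0 - d.1 1 1) = 0 := by linear_combination h5
            rcases mul_eq_zero.1 this with h7 | h7
            · exact h7
            · exact absurd (sub_eq_zero.1 h7) hne
          · have : y.1 1 1 * (d.1 1 1 - d.1 0 0) = 0 := by linear_combination h6
            rcases mul_eq_zero.1 this with h7 | h7
            · exact h7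
            · exact absurd (sub_eq_zero.1 h7).symm hne
        · exact absurd h1 htr
    · rcases frame_diag' s d hd (hsf d hxH) with h1 | h1
      · left
        exact frame_upper' s y h1 (hsf y hyH)
      · right; left
        exact frame_lower' s y h1 (hsf y hyH)
    · exfalso
      rcases hall _ hxH with h | h
      · rw [pow_two] at h
        exact hsq h
      · have hc := cube_trace h3 d h
        apply hd.hsq
        have : (d.1 0 0 ^ 2 - 1) ^ 2 = 0 := by
          linear_combination (d.1 0 0 ^ 2) * hc -
            (2 * d.1 0 0 ^ 2 + d.1 0 0 * d.1 1 1 + 1) * hmul - (d.1 0 0 ^ 2) * h3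
        have := pow_eq_zero_iff (two_ne_zero) |>.1 this
        linear_combination this
  · rintro (h | h | ⟨h, h'⟩)
    · apply isSolvable_closure_of_frame' 1 d y
      · simp only [one_mul, inv_one, mul_one]
        exact hd.h10
      · simp only [one_mul, inv_one, mul_one]
        exact h
    · apply isSolvable_closure_of_frame' (nn 1) d y
      · simp only [m10, m00, m11, m01, i00, i10, nn00 one_ne_zero, nn01 one_ne_zero, nn10,
          nn11 one_ne_zero, hd.h01, hd.h10]
        ring
      · simp only [m10, m00, m11, m01, i00, i10, nn00 one_ne_zero, nn01 one_ne_zero, nn10,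
          nn11 one_ne_zero, h]
        ring
    · have hy : mkn y * mkn y = (1 : Matrix.ProjectiveSpecialLinearGroup (Fin 2) F) :=
        mkn_sq_of_trace_zero y (by rw [h, h']; ring)
      have hz : (mkn d * mkn y) * (mkn d * mkn y) =
          (1 : Matrix.ProjectiveSpecialLinearGroup (Fin 2) F) := by
        rw [← map_mul]
        apply mkn_sq_of_trace_zero
        simp only [m00, m11, hd.h01, hd.h10, h, h']
        ring
      exact isSolvable_closure_of_inverting _ _ hy hz

include hp hodd hF in
theorem card_sol_split3 (d : SL(2, F)) (hd : IsSplitReg d) (hd4 : d.1 0 0 ^ 2 ≠ -1) :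
    Nat.card {y : Matrix.ProjectiveSpecialLinearGroup (Fin 2) F // Group.IsSolvable
      (Subgroup.closure ({mkn d, y} :
        Set (Matrix.ProjectiveSpecialLinearGroup (Fin 2) F)))} =
      Fintype.card F * (Fintype.card F - 1) := by
  have h := card_sol_of_iff p hp hodd hF d
    {y : SL(2, F) | y.1 1 0 = 0 ∨ y.1 0 1 = 0 ∨ (y.1 0 0 = 0 ∧ y.1 1 1 = 0)}
    (fun y => sol_iff_split3 p hp hodd hF d hd hd4 y)
  rw [ncard_split'] at h
  have : 2 * Fintype.card F * (Fintype.card F - 1) =
      2 * (Fintype.card F * (Fintype.card F - 1)) := by ring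
  rw [this] at h
  exact Nat.eq_of_mul_eq_mul_left (by norm_num) h

include hp hodd hF in
/-- the solubilizer of a non-split semisimple element of order at least three -/
theorem sol_iff_ell (g : SL(2, F))
    (hirr : ∀ l : F, l ^ 2 - (g.1 0 0 + g.1 1 1) * l + 1 ≠ 0) (ht : g.1 0 0 + g.1 1 1 ≠ 0)
    (y : SL(2, F)) :
    Group.IsSolvable (Subgroup.closure
      ({mkn g, mkn y} : Set (Matrix.ProjectiveSpecialLinearGroup (Fin 2) F))) ↔
      (g * y = y * g ∨ y * g * y⁻¹ = g⁻¹) := by
  have h3 := three_eq_zero p hp hF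
  have h2 := two_ne_zero' p hp hF
  have hsq : ¬ (mkn g * mkn g = (1 : Matrix.ProjectiveSpecialLinearGroup (Fin 2) F)) := by
    intro h
    rcases sq_cases g h with h1 | h1 | h1
    · apply hirr 1
      rw [h1, one00, one11]; ring
    · apply hirr (-1)
      rw [h1, neg00, neg11]; ring
    · exact ht h1
  have hg10 : g.1 1 0 ≠ 0 := by
    intro h0
    apply hirr (g.1 0 0)
    have hdet := sl2_det g
    rw [h0] at hdet
    linear_combination -hdet
  constructor
  · intro hs
    set H := Subgroup.closure
      ({mkn g, mkn y} : Set (Matrix.ProjectiveSpecialLinearGroup (Fin 2) F)) with hH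
    have hxH : mkn g ∈ H := Subgroup.subset_closure (by simp)
    have hyH : mkn y ∈ H := Subgroup.subset_closure (by simp)
    rcases sol_cases p hp hodd hF H hs with ⟨-, hab⟩ | ⟨s, hsf⟩ | hall
    · rcases hab _ hxH _ hyH with h | h | h
      · exact absurd h hsq
      · rcases comm_cases h2 g y h with h1 | ⟨h1, -⟩
        · left; exact h1
        · exact absurd h1 ht
      · rcases inv_cases h2 g y h with h1 | h1
        · right; exact h1
        · exact absurd h1 ht
    · exfalso
      obtain ⟨l, hl⟩ := root_of_frame s g (hsf g hxH)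
      exact hirr l hl
    · exfalso
      rcases hall _ hxH with h | h
      · rw [pow_two] at h
        exact hsq h
      · have hc := cube_trace h3 g h
        apply hirr (-(g.1 0 0 + g.1 1 1))
        linear_combination 2 * hc + h3
  · rintro (h | h)
    · apply isSolvable_closure_of_comm
      rw [← map_mul, ← map_mul, h]
    · have hty := inverting_trace_zero g y h (Or.inl hg10)
      have hy : mkn y * mkn y = (1 : Matrix.ProjectiveSpecialLinearGroup (Fin 2) F) :=
        mkn_sq_of_trace_zero y hty
      have hyg : y * g = g⁻¹ * y := by rw [← h]; group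
      have e : g * y * (g * y) = y * y := by
        calc g * y * (g * y) = g * (y * g) * y := by group
          _ = g * (g⁻¹ * y) * y := by rw [hyg]
          _ = y * y := by group
      have hz : (mkn g * mkn y) * (mkn g * mkn y) =
          (1 : Matrix.ProjectiveSpecialLinearGroup (Fin 2) F) := by
        rw [← map_mul, ← map_mul, e, map_mul, hy]
      exact isSolvable_closure_of_inverting _ _ hy hz

include hp hodd hF in
/-- the centralizer of an element without eigenvalues, counted -/
theorem ncard_cent (g : SL(2, F))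
    (hirr : ∀ l : F, l ^ 2 - (g.1 0 0 + g.1 1 1) * l + 1 ≠ 0) :
    ({y : SL(2, F) | g * y = y * g} : Set SL(2, F)).ncard = Fintype.card F + 1 := by
  classical
  have hFc := ringChar_ne_two p hp hF
  have hirr' : ∀ a : F, a ^ 2 - (g : Matrix (Fin 2) (Fin 2) F).trace * a + 1 ≠ 0 := by
    intro a
    rw [Matrix.trace_fin_two]
    exact hirr a
  have h1 := card_centralizer_elliptic hFc g (isElliptic_of_charpoly g hirr')
  rw [← h1, ← _root_.Nat.card_coe_set_eq]
  apply Nat.card_congr
  exact Equiv.subtypeEquivRight (fun y => (mem_torus_iff g y).symm)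

include hp hodd hF in
/-- the elements inverting an element without eigenvalues, counted -/
theorem ncard_invert (g : SL(2, F))
    (hirr : ∀ l : F, l ^ 2 - (g.1 0 0 + g.1 1 1) * l + 1 ≠ 0) :
    ({y : SL(2, F) | y * g * y⁻¹ = g⁻¹} : Set SL(2, F)).ncard = Fintype.card F + 1 := by
  classical
  have h2 := two_ne_zero' p hp hF
  have hFc := ringChar_ne_two p hp hF
  have hg10 : g.1 1 0 ≠ 0 := by
    intro h0
    apply hirr (g.1 0 0)
    have hdet := sl2_det g
    rw [h0] at hdet
    linear_combination -hdet
  have hirr' : ∀ a : F, a ^ 2 - (g : Matrix (Fin 2) (Fin 2) F).trace * a + 1 ≠ 0 := by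
    intro a
    rw [Matrix.trace_fin_two]
    exact hirr a
  set C : Set SL(2, F) := {y : SL(2, F) | g * y = y * g} with hC
  set I : Set SL(2, F) := {y : SL(2, F) | y * g * y⁻¹ = g⁻¹} with hI
  have hCn : C.ncard = Fintype.card F + 1 := ncard_cent p hp hodd hF g hirr
  -- an inverting element
  have hns : ¬ IsScalar2 (g : Matrix (Fin 2) (Fin 2) F) := fun h => hg10 h.2.1
  have hns' : ¬ IsScalar2 ((g⁻¹ : SL(2, F)) : Matrix (Fin 2) (Fin 2) F) := by
    intro h
    have := h.2.1
    rw [i10] at this
    exact hg10 (neg_eq_zero.1 this)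
  have htr4 : (g : Matrix (Fin 2) (Fin 2) F).trace ^ 2 ≠ 4 := by
    intro h
    apply hirr' ((g : Matrix (Fin 2) (Fin 2) F).trace / 2)
    field_simp
    linear_combination (-1 : F) * h
  have htr4' : ((g⁻¹ : SL(2, F)) : Matrix (Fin 2) (Fin 2) F).trace ^ 2 ≠ 4 := by
    rw [Matrix.trace_fin_two, i00, i11, add_comm, ← Matrix.trace_fin_two]
    exact htr4
  have hconj : IsConj g g⁻¹ := by
    rw [SL2_isConj_iff hFc g g⁻¹ hns hns']
    refine ⟨?_, ?_⟩
    · rw [Matrix.trace_fin_two, Matrix.trace_fin_two, i00, i11, add_comm]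
    · exact iff_of_true (rep1_of_trace_sq_ne hFc g htr4) (rep1_of_trace_sq_ne hFc g⁻¹ htr4')
  obtain ⟨y0, hy0⟩ := isConj_iff.1 hconj
  have hIC : I = (fun z => y0 * z) '' C := by
    ext y
    simp only [hI, hC, Set.mem_setOf_eq, Set.mem_image]
    constructor
    · intro hy
      refine ⟨y0⁻¹ * y, ?_, by group⟩
      have e1 : g = y0⁻¹ * g⁻¹ * y0 := by rw [← hy0]; group
      have e2 : y0⁻¹ * y * g = y0⁻¹ * g⁻¹ * y0 * (y0⁻¹ * y) := by
        have : y * g = g⁻¹ * y := by rw [← hy]; group
        calc y0⁻¹ * y * g = y0⁻¹ * (y * g) := by group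
          _ = y0⁻¹ * (g⁻¹ * y) := by rw [this]
          _ = y0⁻¹ * g⁻¹ * y0 * (y0⁻¹ * y) := by group
      rw [← e1] at e2
      exact e2.symm
    · rintro ⟨z, hz, rfl⟩
      have : z * g * z⁻¹ = g := by rw [← hz]; group
      calc y0 * z * g * (y0 * z)⁻¹ = y0 * (z * g * z⁻¹) * y0⁻¹ := by group
        _ = g⁻¹ := by rw [this, hy0]
  rw [hIC, Set.ncard_image_of_injective _ (mul_right_injective y0), hCn]

include hp hodd hF in
/-- the normalizer of a non-split torus of `SL₂`, counted -/
theorem ncard_ell (g : SL(2, F))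
    (hirr : ∀ l : F, l ^ 2 - (g.1 0 0 + g.1 1 1) * l + 1 ≠ 0) (ht : g.1 0 0 + g.1 1 1 ≠ 0) :
    ({y : SL(2, F) | g * y = y * g ∨ y * g * y⁻¹ = g⁻¹} : Set SL(2, F)).ncard =
      2 * (Fintype.card F + 1) := by
  set C : Set SL(2, F) := {y : SL(2, F) | g * y = y * g} with hC
  set I : Set SL(2, F) := {y : SL(2, F) | y * g * y⁻¹ = g⁻¹} with hI
  have hCn : C.ncard = Fintype.card F + 1 := ncard_cent p hp hodd hF g hirr
  have hIn : I.ncard = Fintype.card F + 1 := ncard_invert p hp hodd hF g hirr
  have hd : Disjoint C I := by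
    rw [Set.disjoint_left]
    intro y hy hy'
    have h1 : g * y = y * g := hy
    have h2' : y * g * y⁻¹ = g⁻¹ := hy'
    have h3' : y * g * y⁻¹ = g := by rw [← h1]; group
    have h4 : g * g = 1 := by
      have : g = g⁻¹ := h3'.symm.trans h2'
      calc g * g = g * g⁻¹ := by rw [← this]
        _ = 1 := mul_inv_cancel g
    have h5 : mkn g * mkn g = (1 : Matrix.ProjectiveSpecialLinearGroup (Fin 2) F) := by
      rw [← map_mul, h4, map_one]
    rcases sq_cases g h5 with h6 | h6 | h6
    · apply hirr 1
      rw [h6, one00, one11]; ring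
    · apply hirr (-1)
      rw [h6, neg00, neg11]; ring
    · exact ht h6
  have hset : {y : SL(2, F) | g * y = y * g ∨ y * g * y⁻¹ = g⁻¹} = C ∪ I := by
    ext y
    simp only [Set.mem_setOf_eq, Set.mem_union, hC, hI]
  rw [hset, Set.ncard_union_eq hd (Set.toFinite _) (Set.toFinite _), hCn, hIn]
  ring

include hp hodd hF in
theorem card_sol_ell (g : SL(2, F))
    (hirr : ∀ l : F, l ^ 2 - (g.1 0 0 + g.1 1 1) * l + 1 ≠ 0) (ht : g.1 0 0 + g.1 1 1 ≠ 0) :
    Nat.card {y : Matrix.ProjectiveSpecialLinearGroup (Fin 2) F // Group.IsSolvable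
      (Subgroup.closure ({mkn g, y} :
        Set (Matrix.ProjectiveSpecialLinearGroup (Fin 2) F)))} = Fintype.card F + 1 := by
  have h := card_sol_of_iff p hp hodd hF g
    {y : SL(2, F) | g * y = y * g ∨ y * g * y⁻¹ = g⁻¹}
    (fun y => sol_iff_ell p hp hodd hF g hirr ht y)
  rw [ncard_ell p hp hodd hF g hirr ht] at h
  exact Nat.eq_of_mul_eq_mul_left (by norm_num) h

end setup

end Cfsg.Agent.Helper11.Sol3
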