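import Mathlib
import Cfsg.Agent.Lib.Helper11.Sol3F

set_option autoImplicit false
set_option linter.unusedVariables false
set_option linter.unusedSectionVars false
set_option linter.unusedSimpArgs false

/-! The solubilizer of an involution of `PSL₂(3^p)`: the criterion. -/

namespace Cfsg.Agent.Helper11.Sol3

open Matrix Matrix.SpecialLinearGroup
open scoped MatrixGroups
open Cfsg.Agent.Helper2.SL2S
open Cfsg.Agent.Helper12 Cfsg.Agent.Helper4.DC Cfsg.Agent.Helper4.DSL
open Cfsg.Agent.Helper11.Klein Cfsg.Agent.Helper11.Dickson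
open Cfsg.Agent.Helper2.PN (mkn mkn_surjective mkn_eq_iff)
open Cfsg.Agent.Helper11.InvGraph (mk2 mk2_00 mk2_01 mk2_10 mk2_11 x0 x0_00 x0_01 x0_10 x0_11)

variable {F : Type*} [Field F] [Fintype F]

/-- the entries of `x0 * y` -/
theorem x0m00 (y : SL(2, F)) : (x0 * y).1 0 0 = -y.1 1 0 := by
  rw [m00, x0_00, x0_01]; ring
theorem x0m01 (y : SL(2, F)) : (x0 * y).1 0 1 = -y.1 1 1 := by
  rw [m01, x0_00, x0_01]; ring
theorem x0m10 (y : SL(2, F)) : (x0 * y).1 1 0 = y.1 0 0 := by
  rw [m10, x0_10, x0_11]; ring
theorem x0m11 (y : SL(2, F)) : (x0 * y).1 1 1 = y.1 0 1 := by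
  rw [m11, x0_10, x0_11]; ring

/-- the entries of `y * x0` -/
theorem mx000 (y : SL(2, F)) : (y * x0).1 0 0 = y.1 0 1 := by
  rw [m00, x0_00, x0_10]; ring
theorem mx001 (y : SL(2, F)) : (y * x0).1 0 1 = -y.1 0 0 := by
  rw [m01, x0_01, x0_11]; ring
theorem mx010 (y : SL(2, F)) : (y * x0).1 1 0 = y.1 1 1 := by
  rw [m10, x0_00, x0_10]; ring
theorem mx011 (y : SL(2, F)) : (y * x0).1 1 1 = -y.1 1 0 := by
  rw [m11, x0_01, x0_11]; ring

theorem mkn_x0_sq :
    mkn (x0 : SL(2, F)) * mkn x0 = (1 : Matrix.ProjectiveSpecialLinearGroup (Fin 2) F) :=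
  mkn_sq_of_trace_zero x0 (by rw [x0_00, x0_11]; ring)

section setup

variable (p : ℕ) (hp : p.Prime) (hodd : Odd p) (hF : Fintype.card F = 3 ^ p)

include hp hodd hF in
/-- an element of order three whose product with the involution has order three -/
theorem sol_inv_of_A4 (y : SL(2, F)) (htr : y.1 0 0 + y.1 1 1 = -1)
    (he : (y.1 0 1 - y.1 1 0) ^ 2 = 1) :
    Group.IsSolvable (Subgroup.closure
      ({mkn x0, mkn y} : Set (Matrix.ProjectiveSpecialLinearGroup (Fin 2) F))) := by
  haveI : Fact (Nat.Prime 3) := ⟨Nat.prime_three⟩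
  haveI := charP_three p hp hF
  have h3 := three_eq_zero p hp hF
  have hy3 : y ^ 3 = 1 := by
    apply Subtype.ext
    rw [Matrix.SpecialLinearGroup.coe_pow, Matrix.SpecialLinearGroup.coe_one]
    have := pow_char_eq_smul_of_root (y : Matrix (Fin 2) (Fin 2) F) y.2 1
      (by rw [Matrix.trace_fin_two, htr]; linear_combination h3) (by ring) 3
    rw [this]
    simp
  have hy1 : y ≠ 1 := by
    intro h
    rw [h, one01, one10] at he
    simp at he
  obtain ⟨s, a, ha, hs⟩ := exists_conj_u 3 y hy3 hy1
  set z : SL(2, F) := s * x0 * s⁻¹ with hz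
  have htz : z.1 0 0 + z.1 1 1 = 0 := by
    rw [hz, tr_conj, x0_00, x0_11]; ring
  have hprod : u a * z = s * (y * x0) * s⁻¹ := by
    rw [← hs, hz]; group
  have htp : (u a * z).1 0 0 + (u a * z).1 1 1 = y.1 0 1 - y.1 1 0 := by
    rw [hprod, tr_conj, mx000, mx011]; ring
  have hc : (a * z.1 1 0) ^ 2 = 1 := by
    simp only [m00, m11, u00, u01, u10, u11] at htp
    have : a * z.1 1 0 = y.1 0 1 - y.1 1 0 := by linear_combination htp - htz
    rw [this]
    exact he
  have ht : IsT (z.1 0 0 + z.1 1 1) := by
    rw [htz]; exact isT_zero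
  have hsol := sol_of_prime_field p hp hodd hF ha z hc ht
  rw [← hs] at hsol
  have hconj := isSolvable_closure_conj (mkn s)⁻¹ _ _ hsol
  have e1 : (mkn s)⁻¹ * mkn (s * y * s⁻¹) * (mkn s)⁻¹⁻¹ =
      (mkn y : Matrix.ProjectiveSpecialLinearGroup (Fin 2) F) := by
    rw [map_mul, map_mul, map_inv]; group
  have e2 : (mkn s)⁻¹ * mkn z * (mkn s)⁻¹⁻¹ =
      (mkn x0 : Matrix.ProjectiveSpecialLinearGroup (Fin 2) F) := by
    rw [hz, map_mul, map_mul, map_inv]; group
  rw [e1, e2] at hconj
  exact isSolvable_closure_swap _ _ hconj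

include hp hodd hF in
/-- the solubilizer of an involution -/
theorem sol_iff_inv (y : SL(2, F)) :
    Group.IsSolvable (Subgroup.closure
      ({mkn x0, mkn y} : Set (Matrix.ProjectiveSpecialLinearGroup (Fin 2) F))) ↔
      (y.1 0 0 + y.1 1 1 = 0 ∨ y.1 0 1 = y.1 1 0 ∨ (y.1 0 0 = y.1 1 1 ∧ y.1 0 1 = -y.1 1 0) ∨
        ((y.1 0 0 + y.1 1 1) ^ 2 = 1 ∧ (y.1 0 1 - y.1 1 0) ^ 2 = 1)) := by
  have h3 := three_eq_zero p hp hF
  have h2 := two_ne_zero' p hp hF
  have hsqy : mkn y * mkn y = (1 : Matrix.ProjectiveSpecialLinearGroup (Fin 2) F) →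
      (y.1 0 0 + y.1 1 1 = 0 ∨ y.1 0 1 = y.1 1 0) := by
    intro h
    rcases sq_cases y h with h1 | h1 | h1
    · right; rw [h1, one01, one10]
    · right; rw [h1, neg01, neg10]
    · left; exact h1
  constructor
  · intro hs
    set H := Subgroup.closure
      ({mkn x0, mkn y} : Set (Matrix.ProjectiveSpecialLinearGroup (Fin 2) F)) with hH
    have hxH : mkn x0 ∈ H := Subgroup.subset_closure (by simp)
    have hyH : mkn y ∈ H := Subgroup.subset_closure (by simp)
    rcases sol_cases p hp hodd hF H hs with ⟨-, hab⟩ | ⟨s, hsf⟩ | hall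
    · rcases hab _ hyH _ hxH with h | h | h
      · rcases hsqy h with h1 | h1
        · left; exact h1
        · right; left; exact h1
      · rcases comm_cases h2 y x0 h with h1 | ⟨h1, -⟩
        · right; right; left
          have e00 := congrArg (fun x : SL(2, F) => x.1 0 0) h1
          have e01 := congrArg (fun x : SL(2, F) => x.1 0 1) h1
          simp only [x0m00, x0m01, mx000, mx001] at e00 e01
          exact ⟨by linear_combination (-1 : F) * e01, e00⟩
        · left; exact h1
      · rcases inv_cases h2 y x0 h with h1 | h1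
        · right; left
          have h0 : x0 * y = y⁻¹ * x0 := by rw [← h1]; group
          have e00 := congrArg (fun x : SL(2, F) => x.1 0 0) h0
          simp only [x0m00, mx000, i01] at e00
          linear_combination e00
        · left; exact h1
    · exfalso
      obtain ⟨l, hl⟩ := root_of_frame s x0 (hsf x0 hxH)
      rw [x0_00, x0_11] at hl
      apply sq_add_one_ne_zero p hodd hF l
      linear_combination hl
    · rcases hall _ hyH with h | h
      · rw [pow_two] at h
        rcases hsqy h with h1 | h1
        · left; exact h1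
        · right; left; exact h1
      · have hc := cube_trace h3 y h
        have hxyH : mkn (x0 * y) ∈ H := by
          rw [map_mul]; exact Subgroup.mul_mem _ hxH hyH
        rcases hall _ hxyH with h' | h'
        · rw [pow_two] at h'
          rcases sq_cases (x0 * y) h' with h1 | h1 | h1
          · left
            have e01 := congrArg (fun x : SL(2, F) => x.1 0 1) h1
            have e10 := congrArg (fun x : SL(2, F) => x.1 1 0) h1
            simp only [x0m01, x0m10, one01, one10] at e01 e10
            linear_combination e10 - e01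
          · left
            have e01 := congrArg (fun x : SL(2, F) => x.1 0 1) h1
            have e10 := congrArg (fun x : SL(2, F) => x.1 1 0) h1
            simp only [x0m01, x0m10, neg01, neg10] at e01 e10
            linear_combination e10 - e01
          · right; left
            rw [x0m00, x0m11] at h1
            linear_combination h1
        · right; right; right
          have hc' := cube_trace h3 (x0 * y) h'
          rw [x0m00, x0m11] at hc'
          exact ⟨hc, by linear_combination hc'⟩
  · rintro (h | h | ⟨h, h'⟩ | ⟨h, h'⟩)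
    · exact isSolvable_closure_pair _ _ mkn_x0_sq (mkn_sq_of_trace_zero y h)
    · apply isSolvable_closure_swap
      apply isSolvable_closure_of_inverting _ _ mkn_x0_sq
      rw [← map_mul]
      apply mkn_sq_of_trace_zero
      rw [mx000, mx011]
      linear_combination h
    · apply isSolvable_closure_of_comm
      rw [← map_mul, ← map_mul]
      congr 1
      apply sl2_ext
      · rw [x0m00, mx000]; linear_combination (-1 : F) * h'
      · rw [x0m01, mx001]; linear_combination h
      · rw [x0m10, mx010]; exact h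
      · rw [x0m11, mx011]; exact h'
    · obtain ⟨b, hb⟩ := exists_sg h
      cases b
      · -- trace -1
        apply sol_inv_of_A4 p hp hodd hF y _ h'
        rw [hb]; simp [sg]
      · -- trace 1 : pass to the negative
        have hsol := sol_inv_of_A4 p hp hodd hF (negOneSL * y)
          (by rw [ng00, ng11]; rw [sg] at hb; simp at hb; linear_combination (-1 : F) * hb)
          (by rw [ng01, ng10]; linear_combination h')
        rwa [mkn_neg_mul] at hsol

end setup

end Cfsg.Agent.Helper11.Sol3
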