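import Mathlib
import Cfsg.Agent.Lib.Helper11.Sol3G

set_option autoImplicit false
set_option linter.unusedVariables false
set_option linter.unusedSectionVars false
set_option linter.unusedSimpArgs false

/-! The solubilizer of an involution of `PSL₂(3^p)`: the count. -/

namespace Cfsg.Agent.Helper11.Sol3

open Matrix Matrix.SpecialLinearGroup
open scoped MatrixGroups
open Cfsg.Agent.Helper2.SL2S
open Cfsg.Agent.Helper12 Cfsg.Agent.Helper4.DC Cfsg.Agent.Helper4.DSL
open Cfsg.Agent.Helper11.Klein Cfsg.Agent.Helper11.Dickson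
open Cfsg.Agent.Helper2.PN (mkn mkn_surjective mkn_eq_iff)
open Cfsg.Agent.Helper11.InvGraph (mk2 mk2_00 mk2_01 mk2_10 mk2_11 x0 x0_00 x0_01 x0_10 x0_11)

variable {F : Type*} [Field F] [Fintype F]

/-- trace zero -/
def S1 (F : Type*) [Field F] : Set SL(2, F) := {y | y.1 0 0 + y.1 1 1 = 0}
/-- the centralizer of `x0` -/
def S2 (F : Type*) [Field F] : Set SL(2, F) := {y | y.1 0 0 = y.1 1 1 ∧ y.1 0 1 = -y.1 1 0}
/-- symmetric matrices -/
def S3 (F : Type*) [Field F] : Set SL(2, F) := {y | y.1 0 1 = y.1 1 0}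
/-- the elements generating a group of type `A₄` with `x0` -/
def S4 (F : Type*) [Field F] : Set SL(2, F) :=
  {y | (y.1 0 0 + y.1 1 1) ^ 2 = 1 ∧ (y.1 0 1 - y.1 1 0) ^ 2 = 1}

theorem circle_of_mem_S2 {z : SL(2, F)} (hz : z ∈ S2 F) : z.1 0 0 ^ 2 + z.1 1 0 ^ 2 = 1 := by
  have hdet := sl2_det z
  rw [← hz.1, hz.2] at hdet
  linear_combination hdet

/-- the parametrization of `S4` -/
def phi4 (A B : F) (hAB : A ^ 2 + B ^ 2 = 1) (τ ε : Bool) : SL(2, F) :=
  mk2 (A - sg τ) (B - sg ε) (B + sg ε) (-sg τ - A) (by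
    have h1 := sg_sq (F := F) τ
    have h2 := sg_sq (F := F) ε
    linear_combination (-1 : F) * hAB + h1 + h2)

theorem S2_eq_cent : S2 F = {y : SL(2, F) | x0 * y = y * x0} := by
  ext y
  simp only [S2, Set.mem_setOf_eq]
  constructor
  · rintro ⟨h, h'⟩
    apply sl2_ext
    · rw [x0m00, mx000]; linear_combination (-1 : F) * h'
    · rw [x0m01, mx001]; linear_combination h
    · rw [x0m10, mx010]; exact h
    · rw [x0m11, mx011]; exact h'
  · intro h1
    have e00 := congrArg (fun x : SL(2, F) => x.1 0 0) h1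
    have e01 := congrArg (fun x : SL(2, F) => x.1 0 1) h1
    simp only [x0m00, x0m01, mx000, mx001] at e00 e01
    exact ⟨by linear_combination e01, by linear_combination (-1 : F) * e00⟩

theorem S13_eq_invert : S1 F ∩ S3 F = {y : SL(2, F) | y * x0 * y⁻¹ = x0⁻¹} := by
  ext y
  simp only [S1, S3, Set.mem_inter_iff, Set.mem_setOf_eq]
  constructor
  · rintro ⟨h, h'⟩
    have e : y * x0 = x0⁻¹ * y := by
      apply sl2_ext
      · rw [mx000, m00, i00, i01, x0_11, x0_01]; linear_combination h'
      · rw [mx001, m01, i00, i01, x0_11, x0_01]; linear_combination (-1 : F) * h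
      · rw [mx010, m10, i10, i11, x0_10, x0_00]; linear_combination h
      · rw [mx011, m11, i10, i11, x0_10, x0_00]; linear_combination h'
    rw [e]; group
  · intro h1
    have e : y * x0 = x0⁻¹ * y := by rw [← h1]; group
    have e00 := congrArg (fun x : SL(2, F) => x.1 0 0) e
    have e01 := congrArg (fun x : SL(2, F) => x.1 0 1) e
    rw [mx000, m00, i00, i01, x0_11, x0_01] at e00
    rw [mx001, m01, i00, i01, x0_11, x0_01] at e01
    exact ⟨by linear_combination (-1 : F) * e01, by linear_combination e00⟩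

theorem mem_S3_iff (y : SL(2, F)) : y ∈ S3 F ↔ x0 * y ∈ S1 F := by
  simp only [S1, S3, Set.mem_setOf_eq, x0m00, x0m11]
  constructor
  · intro h; linear_combination h
  · intro h; linear_combination h

section setup

variable (p : ℕ) (hp : p.Prime) (hodd : Odd p) (hF : Fintype.card F = 3 ^ p)

include hp hodd hF in
theorem x0_irr : ∀ l : F, l ^ 2 - ((x0 : SL(2, F)).1 0 0 + (x0 : SL(2, F)).1 1 1) * l + 1 ≠ 0 := by
  intro l hl
  rw [x0_00, x0_11] at hl
  apply sq_add_one_ne_zero p hodd hF l
  linear_combination hl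

include hp hodd hF in
theorem ncard_S1 : (S1 F).ncard = Fintype.card F * (Fintype.card F - 1) := by
  classical
  have h := card_trace_eq (F := F) 0 (by
    intro a ha
    apply sq_add_one_ne_zero p hodd hF a
    linear_combination ha)
  rw [← h, ← _root_.Nat.card_coe_set_eq]
  apply Nat.card_congr
  exact Equiv.subtypeEquivRight (fun y => by
    rw [Matrix.trace_fin_two]; rfl)

include hp hodd hF in
theorem ncard_S3 : (S3 F).ncard = Fintype.card F * (Fintype.card F - 1) := by
  have h : S3 F = (fun z => (x0 : SL(2, F))⁻¹ * z) '' S1 F := by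
    ext y
    rw [mem_S3_iff, Set.mem_image]
    constructor
    · intro hy
      exact ⟨x0 * y, hy, by group⟩
    · rintro ⟨z, hz, rfl⟩
      have : x0 * (x0⁻¹ * z) = z := by group
      rw [this]; exact hz
  rw [h, Set.ncard_image_of_injective _ (mul_right_injective _), ncard_S1 p hp hodd hF]

include hp hodd hF in
theorem ncard_S2 : (S2 F).ncard = Fintype.card F + 1 := by
  rw [S2_eq_cent]
  exact ncard_cent p hp hodd hF x0 (x0_irr p hp hodd hF)

include hp hodd hF in
theorem ncard_S13 : (S1 F ∩ S3 F).ncard = Fintype.card F + 1 := by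
  rw [S13_eq_invert]
  exact ncard_invert p hp hodd hF x0 (x0_irr p hp hodd hF)

include hp hodd hF in
theorem ncard_S4 : (S4 F).ncard = 4 * (Fintype.card F + 1) := by
  classical
  have h2 := two_ne_zero' p hp hF
  have h3 := three_eq_zero p hp hF
  let φ : ↥(S2 F) × Bool × Bool → SL(2, F) := fun t =>
    phi4 (t.1.1.1 0 0) (t.1.1.1 1 0) (circle_of_mem_S2 t.1.2) t.2.1 t.2.2
  have hφ : Function.Injective φ := by
    intro t t' h
    have e00 := congrArg (fun y : SL(2, F) => y.1 0 0) h
    have e01 := congrArg (fun y : SL(2, F) => y.1 0 1) h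
    have e10 := congrArg (fun y : SL(2, F) => y.1 1 0) h
    have e11 := congrArg (fun y : SL(2, F) => y.1 1 1) h
    simp only [φ, phi4, mk2_00, mk2_01, mk2_10, mk2_11] at e00 e01 e10 e11
    have hτ : sg t.2.1 = (sg t'.2.1 : F) := by
      have : 2 * (sg t.2.1 - sg t'.2.1 : F) = 0 := by linear_combination (-1 : F) * e00 - e11
      exact sub_eq_zero.1 ((mul_eq_zero.1 this).resolve_left h2)
    have hε : sg t.2.2 = (sg t'.2.2 : F) := by
      have : 2 * (sg t.2.2 - sg t'.2.2 : F) = 0 := by linear_combination e10 - e01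
      exact sub_eq_zero.1 ((mul_eq_zero.1 this).resolve_left h2)
    have hA : t.1.1.1 0 0 = t'.1.1.1 0 0 := by linear_combination e00 + hτ
    have hB : t.1.1.1 1 0 = t'.1.1.1 1 0 := by linear_combination e01 + hε
    refine Prod.ext ?_ (Prod.ext (sg_injective h2 hτ) (sg_injective h2 hε))
    apply Subtype.ext
    apply sl2_ext hA _ hB
    · rw [← t.1.2.1, ← t'.1.2.1]; exact hA
    · rw [t.1.2.2, t'.1.2.2, hB]
  have hrange : Set.range φ = S4 F := by
    ext y
    constructor
    · rintro ⟨t, rfl⟩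
      simp only [φ, phi4, S4, Set.mem_setOf_eq, mk2_00, mk2_01, mk2_10, mk2_11]
      have h1 := sg_sq (F := F) t.2.1
      have h2' := sg_sq (F := F) t.2.2
      constructor
      · linear_combination 4 * h1 + h3
      · linear_combination 4 * h2' + h3
    · rintro ⟨h1, h1'⟩
      obtain ⟨τ, hτ⟩ := exists_sg h1
      obtain ⟨ε, hε⟩ := exists_sg h1'
      have hdet := sl2_det y
      have hAB : (y.1 0 0 + sg τ) ^ 2 + (y.1 0 1 + sg ε) ^ 2 = 1 := by
        have e1 := sg_sq (F := F) τ
        have e2 := sg_sq (F := F) ε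
        have e11 : y.1 1 1 = sg τ - y.1 0 0 := by linear_combination hτ
        have e10 : y.1 1 0 = y.1 0 1 - sg ε := by linear_combination (-1 : F) * hε
        rw [e11, e10] at hdet
        linear_combination (-1 : F) * hdet + e1 + e2 + (sg τ * y.1 0 0 + sg ε * y.1 0 1) * h3
      set z : SL(2, F) := mk2 (y.1 0 0 + sg τ) (-(y.1 0 1 + sg ε)) (y.1 0 1 + sg ε)
        (y.1 0 0 + sg τ) (by linear_combination hAB) with hz
      have hzS : z ∈ S2 F := by
        simp only [S2, Set.mem_setOf_eq, hz, mk2_00, mk2_01, mk2_10, mk2_11]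
        exact ⟨trivial, trivial⟩
      refine ⟨(⟨z, hzS⟩, τ, ε), ?_⟩
      apply sl2_ext
      · simp only [φ, phi4, hz, mk2_00, mk2_01, mk2_10, mk2_11]; ring
      · simp only [φ, phi4, hz, mk2_00, mk2_01, mk2_10, mk2_11]; ring
      · simp only [φ, phi4, hz, mk2_00, mk2_01, mk2_10, mk2_11]
        linear_combination hε + (sg ε) * h3
      · simp only [φ, phi4, hz, mk2_00, mk2_01, mk2_10, mk2_11]
        linear_combination (-1 : F) * hτ - (sg τ) * h3
  rw [← hrange, ← Set.image_univ, Set.ncard_image_of_injective _ hφ, Set.ncard_univ,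
    Nat.card_prod, Nat.card_prod, _root_.Nat.card_coe_set_eq, ncard_S2 p hp hodd hF,
    Nat.card_eq_fintype_card, Fintype.card_bool]
  ring

include hp hodd hF in
/-- the part of the centralizer of `x0` consisting of elements of order at most two -/
theorem ncard_T : (S2 F ∩ (S1 F ∪ S3 F)).ncard = 4 := by
  have h2 := two_ne_zero' p hp hF
  have hne : (1 : F) ≠ -1 := by
    intro h
    apply h2
    linear_combination h
  have hA : S2 F ∩ S1 F = {x0, negOneSL * x0} := by
    ext y
    simp only [S1, S2, Set.mem_inter_iff, Set.mem_setOf_eq, Set.mem_insert_iff,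
      Set.mem_singleton_iff]
    constructor
    · rintro ⟨⟨h, h'⟩, h''⟩
      have h00 : y.1 0 0 = 0 := by
        have : 2 * y.1 0 0 = 0 := by linear_combination h'' + h
        exact (mul_eq_zero.1 this).resolve_left h2
      have h11 : y.1 1 1 = 0 := by rw [← h, h00]
      have hdet := sl2_det y
      rw [h00, h11, h'] at hdet
      have : (y.1 1 0 - 1) * (y.1 1 0 + 1) = 0 := by linear_combination hdet
      rcases mul_eq_zero.1 this with h10 | h10
      · left
        apply sl2_ext
        · rw [h00, x0_00]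
        · rw [h', x0_01]; linear_combination (-1 : F) * h10
        · rw [x0_10]; linear_combination h10
        · rw [h11, x0_11]
      · right
        apply sl2_ext
        · rw [h00, ng00, x0_00]; ring
        · rw [h', ng01, x0_01]; linear_combination (-1 : F) * h10
        · rw [ng10, x0_10]; linear_combination h10
        · rw [h11, ng11, x0_11]; ring
    · rintro (rfl | rfl)
      · refine ⟨⟨by rw [x0_00, x0_11], by rw [x0_01, x0_10]⟩, by rw [x0_00, x0_11]; ring⟩
      · refine ⟨⟨by rw [ng00, ng11, x0_00, x0_11], by rw [ng01, ng10, x0_01, x0_10]⟩,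
          by rw [ng00, ng11, x0_00, x0_11]; ring⟩
  have hB : S2 F ∩ S3 F = {1, negOneSL} := by
    ext y
    simp only [S3, S2, Set.mem_inter_iff, Set.mem_setOf_eq, Set.mem_insert_iff,
      Set.mem_singleton_iff]
    constructor
    · rintro ⟨⟨h, h'⟩, h''⟩
      have h10 : y.1 1 0 = 0 := by
        have : 2 * y.1 1 0 = 0 := by linear_combination h' - h''
        exact (mul_eq_zero.1 this).resolve_left h2
      have h01 : y.1 0 1 = 0 := by rw [h'', h10]
      have hdet := sl2_det y
      rw [h01, h10, ← h] at hdet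
      have : (y.1 0 0 - 1) * (y.1 0 0 + 1) = 0 := by linear_combination hdet
      rcases mul_eq_zero.1 this with h00 | h00
      · left
        apply sl2_ext
        · rw [one00]; linear_combination h00
        · rw [h01, one01]
        · rw [h10, one10]
        · rw [← h, one11]; linear_combination h00
      · right
        apply sl2_ext
        · rw [neg00]; linear_combination h00
        · rw [h01, neg01]
        · rw [h10, neg10]
        · rw [← h, neg11]; linear_combination h00
    · rintro (rfl | rfl)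
      · refine ⟨⟨by rw [one00, one11], by rw [one01, one10]; ring⟩, by rw [one01, one10]⟩
      · refine ⟨⟨by rw [neg00, neg11], by rw [neg01, neg10]; ring⟩, by rw [neg01, neg10]⟩
  have hAn : (S2 F ∩ S1 F).ncard = 2 := by
    rw [hA]
    apply Set.ncard_pair
    intro h
    have := congrArg (fun x : SL(2, F) => x.1 1 0) h
    simp only [ng10, x0_10] at this
    exact hne this
  have hBn : (S2 F ∩ S3 F).ncard = 2 := by
    rw [hB]
    apply Set.ncard_pair
    intro h
    have := congrArg (fun x : SL(2, F) => x.1 0 0) h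
    simp only [neg00, one00] at this
    exact hne this
  have hd : Disjoint (S2 F ∩ S1 F) (S2 F ∩ S3 F) := by
    rw [Set.disjoint_left]
    intro y hy hy'
    obtain ⟨⟨h, h'⟩, h''⟩ := hy
    obtain ⟨-, h3'⟩ := hy'
    have h''' : y.1 0 0 + y.1 1 1 = 0 := h''
    have h4 : y.1 0 1 = y.1 1 0 := h3'
    have h00 : y.1 0 0 = 0 := by
      have : 2 * y.1 0 0 = 0 := by linear_combination h''' + h
      exact (mul_eq_zero.1 this).resolve_left h2
    have h10 : y.1 1 0 = 0 := by
      have : 2 * y.1 1 0 = 0 := by linear_combination h' - h4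
      exact (mul_eq_zero.1 this).resolve_left h2
    have hdet := sl2_det y
    rw [h00, h10] at hdet
    simp at hdet
  rw [Set.inter_union_distrib_left, Set.ncard_union_eq hd (Set.toFinite _) (Set.toFinite _),
    hAn, hBn]

include hp hodd hF in
/-- the count for an involution -/
theorem ncard_inv :
    ({y : SL(2, F) | y.1 0 0 + y.1 1 1 = 0 ∨ y.1 0 1 = y.1 1 0 ∨
      (y.1 0 0 = y.1 1 1 ∧ y.1 0 1 = -y.1 1 0) ∨
        ((y.1 0 0 + y.1 1 1) ^ 2 = 1 ∧ (y.1 0 1 - y.1 1 0) ^ 2 = 1)} : Set SL(2, F)).ncard =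
      2 * (Fintype.card F * (Fintype.card F + 1)) := by
  have h2 := two_ne_zero' p hp hF
  have h3 := three_eq_zero p hp hF
  have hset : {y : SL(2, F) | y.1 0 0 + y.1 1 1 = 0 ∨ y.1 0 1 = y.1 1 0 ∨
      (y.1 0 0 = y.1 1 1 ∧ y.1 0 1 = -y.1 1 0) ∨
        ((y.1 0 0 + y.1 1 1) ^ 2 = 1 ∧ (y.1 0 1 - y.1 1 0) ^ 2 = 1)} =
      ((S1 F ∪ S3 F) ∪ S2 F) ∪ S4 F := by
    ext y
    simp only [S1, S2, S3, S4, Set.mem_setOf_eq, Set.mem_union, or_assoc]
  have hd : Disjoint ((S1 F ∪ S3 F) ∪ S2 F) (S4 F) := by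
    rw [Set.disjoint_left]
    rintro y ((hy | hy) | hy) ⟨h4, h4'⟩
    · have : y.1 0 0 + y.1 1 1 = 0 := hy
      rw [this] at h4
      simp at h4
    · have : y.1 0 1 = y.1 1 0 := hy
      rw [this, sub_self] at h4'
      simp at h4'
    · obtain ⟨h, h'⟩ := hy
      have hdet := sl2_det y
      rw [← h] at h4 hdet
      rw [h'] at h4' hdet
      -- 4 y00^2 = 1, 4 y10^2 = 1, y00^2 + y10^2 = 1
      have : (2 : F) = 0 := by
        linear_combination h4 + h4' - 4 * hdet
      exact h2 this
  have e1 := Set.ncard_union_add_ncard_inter (S1 F) (S3 F)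
  have e2 := Set.ncard_union_add_ncard_inter (S1 F ∪ S3 F) (S2 F)
  rw [Set.inter_comm (S1 F ∪ S3 F) (S2 F), ncard_T p hp hodd hF, ncard_S2 p hp hodd hF] at e2
  rw [ncard_S13 p hp hodd hF, ncard_S1 p hp hodd hF, ncard_S3 p hp hodd hF] at e1
  rw [hset, Set.ncard_union_eq hd (Set.toFinite _) (Set.toFinite _), ncard_S4 p hp hodd hF]
  have hq : 1 ≤ Fintype.card F := Fintype.card_pos
  obtain ⟨n, hn⟩ : ∃ n, Fintype.card F = n + 1 := ⟨Fintype.card F - 1, by omega⟩
  rw [hn] at e1 e2 ⊢
  have e3 : n + 1 - 1 = n := by omega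
  rw [e3] at e1
  have e4 : (n + 1) * (n + 1 + 1) = (n + 1) * n + 2 * (n + 1) := by ring
  rw [e4]
  generalize (n + 1) * n = N at e1 ⊢
  omega

include hp hodd hF in
theorem card_sol_inv :
    Nat.card {y : Matrix.ProjectiveSpecialLinearGroup (Fin 2) F // Group.IsSolvable
      (Subgroup.closure ({mkn (x0 : SL(2, F)), y} :
        Set (Matrix.ProjectiveSpecialLinearGroup (Fin 2) F)))} =
      Fintype.card F * (Fintype.card F + 1) := by
  have h := card_sol_of_iff p hp hodd hF (x0 : SL(2, F))
    {y : SL(2, F) | y.1 0 0 + y.1 1 1 = 0 ∨ y.1 0 1 = y.1 1 0 ∨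
      (y.1 0 0 = y.1 1 1 ∧ y.1 0 1 = -y.1 1 0) ∨
        ((y.1 0 0 + y.1 1 1) ^ 2 = 1 ∧ (y.1 0 1 - y.1 1 0) ^ 2 = 1)}
    (fun y => sol_iff_inv p hp hodd hF y)
  rw [ncard_inv p hp hodd hF] at h
  exact Nat.eq_of_mul_eq_mul_left (by norm_num) h

end setup

end Cfsg.Agent.Helper11.Sol3
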