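import Mathlib
import Cfsg.Agent.Lib.Helper11.Sol3H

set_option autoImplicit false
set_option linter.unusedVariables false
set_option linter.unusedSectionVars false
set_option linter.unusedSimpArgs false

/-! The sizes of the solubilizers in `PSL₂(3^p)`. -/

namespace Cfsg.Agent.Helper11.Sol3

open Matrix Matrix.SpecialLinearGroup
open scoped MatrixGroups
open Cfsg.Agent.Helper2.SL2S
open Cfsg.Agent.Helper12 Cfsg.Agent.Helper4.DC Cfsg.Agent.Helper4.DSL
open Cfsg.Agent.Helper11.Klein Cfsg.Agent.Helper11.Dickson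
open Cfsg.Agent.Helper2.PN (mkn mkn_surjective mkn_eq_iff)
open Cfsg.Agent.Helper11.InvGraph (mk2 mk2_00 mk2_01 mk2_10 mk2_11 x0 x0_00 x0_01 x0_10 x0_11)

variable {F : Type*} [Field F] [Fintype F]

section setup

variable (p : ℕ) (hp : p.Prime) (hodd : Odd p) (hF : Fintype.card F = 3 ^ p)

include hp hodd hF in
/-- the solubilizer of an involution -/
theorem card_sol_invol (x : Matrix.ProjectiveSpecialLinearGroup (Fin 2) F)
    (hx : orderOf x = 2) :
    Nat.card {y : Matrix.ProjectiveSpecialLinearGroup (Fin 2) F // Group.IsSolvable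
      (Subgroup.closure ({x, y} : Set (Matrix.ProjectiveSpecialLinearGroup (Fin 2) F)))} =
      Fintype.card F * (Fintype.card F + 1) := by
  have hFc := ringChar_ne_two p hp hF
  obtain ⟨g, rfl⟩ := mkn_surjective x
  have htr := Cfsg.Agent.Helper11.InvGraph.trace_zero_of_orderOf_two hFc g hx
  have htr0 : ((x0 : SL(2, F)) : Matrix (Fin 2) (Fin 2) F).trace = 0 := by
    rw [Matrix.trace_fin_two, x0_00, x0_11]; ring
  have hconj := Cfsg.Agent.Helper11.InvGraph.isConj_of_trace_zero hFc x0 g htr0 htr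
  obtain ⟨c, hc⟩ := isConj_iff.1 hconj
  have hc' : c * mkn (x0 : SL(2, F)) * c⁻¹ = mkn g := hc
  rw [← hc', card_sol_conj]
  exact card_sol_inv p hp hodd hF

include hp hodd hF in
/-- the solubilizer of an element of order three -/
theorem card_sol_order3 (x : Matrix.ProjectiveSpecialLinearGroup (Fin 2) F)
    (hx : orderOf x = 3) :
    2 * Nat.card {y : Matrix.ProjectiveSpecialLinearGroup (Fin 2) F // Group.IsSolvable
      (Subgroup.closure ({x, y} : Set (Matrix.ProjectiveSpecialLinearGroup (Fin 2) F)))} =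
      Fintype.card F * (Fintype.card F + 5) := by
  haveI : Fact (Nat.Prime 3) := ⟨Nat.prime_three⟩
  haveI := charP_three p hp hF
  obtain ⟨g, rfl⟩ := mkn_surjective x
  have hx3 : (mkn g) ^ 3 = (1 : Matrix.ProjectiveSpecialLinearGroup (Fin 2) F) := by
    rw [← hx]; exact pow_orderOf_eq_one _
  have hx1 : mkn g ≠ (1 : Matrix.ProjectiveSpecialLinearGroup (Fin 2) F) := by
    intro h
    rw [h, orderOf_one] at hx
    norm_num at hx
  -- a lift of order three
  obtain ⟨g', hg', hg3⟩ : ∃ g' : SL(2, F), mkn g' = mkn g ∧ g' ^ 3 = 1 := by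
    rw [← map_pow] at hx3
    rcases (Cfsg.Agent.Helper12.MaxSub.mkP_eq_one_iff (g ^ 3)).1 hx3 with h | h
    · exact ⟨g, rfl, h⟩
    · refine ⟨negOneSL * g, mkn_neg_mul g, ?_⟩
      have hcomm : Commute (negOneSL : SL(2, F)) g := negOneSL_comm g
      rw [hcomm.mul_pow, h]
      have : (negOneSL : SL(2, F)) ^ 3 = negOneSL := by
        rw [pow_succ, pow_two, negOneSL_mul_self, one_mul]
      rw [this, negOneSL_mul_self]
  have hg1 : g' ≠ 1 := by
    intro h
    apply hx1
    rw [← hg', h, map_one]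
  obtain ⟨s, a, ha, hs⟩ := exists_conj_u 3 g' hg3 hg1
  have e : mkn g = (mkn s)⁻¹ * mkn (u a) * (mkn s)⁻¹⁻¹ := by
    rw [← hg', ← hs, map_mul, map_mul, map_inv]; group
  rw [e, card_sol_conj]
  exact card_sol_unip3 p hp hodd hF ha

include hp hodd hF in
theorem orderOf_dvd_two_absurd (x : Matrix.ProjectiveSpecialLinearGroup (Fin 2) F)
    (hx1 : x ≠ 1) (hx2 : orderOf x ≠ 2) (h : orderOf x ∣ 2) : False := by
  rcases (Nat.dvd_prime Nat.prime_two).1 h with h1 | h1
  · exact hx1 (orderOf_eq_one_iff.1 h1)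
  · exact hx2 h1

include hp hodd hF in
/-- an element killed by three is trivial if its order divides `q ± 1` -/
theorem orderOf_dvd_three_absurd (x : Matrix.ProjectiveSpecialLinearGroup (Fin 2) F)
    (hx1 : x ≠ 1) (h : orderOf x ∣ 3)
    (h' : orderOf x ∣ Fintype.card F - 1 ∨ orderOf x ∣ Fintype.card F + 1) : False := by
  have hq3 : 3 ∣ Fintype.card F := by rw [hF]; exact three_dvd_pow hp
  have hq : 1 ≤ Fintype.card F := Fintype.card_pos
  rcases (Nat.dvd_prime Nat.prime_three).1 h with h1 | h1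
  · exact hx1 (orderOf_eq_one_iff.1 h1)
  · rw [h1] at h'
    rcases h' with h' | h' <;> omega

include hp hodd hF in
/-- the solubilizer of a split semisimple element -/
theorem card_sol_split (x : Matrix.ProjectiveSpecialLinearGroup (Fin 2) F)
    (hx1 : x ≠ 1) (hx2 : orderOf x ≠ 2) (hx : orderOf x ∣ Fintype.card F - 1) :
    Nat.card {y : Matrix.ProjectiveSpecialLinearGroup (Fin 2) F // Group.IsSolvable
      (Subgroup.closure ({x, y} : Set (Matrix.ProjectiveSpecialLinearGroup (Fin 2) F)))} =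
      Fintype.card F * (Fintype.card F - 1) := by
  haveI : Fact (Nat.Prime 3) := ⟨Nat.prime_three⟩
  haveI := charP_three p hp hF
  have hgcd := gcd_two_card p hodd hF
  have hq4 := card_mod_four p hodd hF
  obtain ⟨g, rfl⟩ := mkn_surjective x
  -- an eigenvalue
  have hroot : ∃ l : F, l ^ 2 - (g : Matrix (Fin 2) (Fin 2) F).trace * l + 1 = 0 := by
    by_contra hno
    push Not at hno
    obtain ⟨c, hc, hpow⟩ := pow_eq_smul_of_no_root (g : Matrix (Fin 2) (Fin 2) F) g.2 hno
    rw [hgcd] at hpow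
    have h1 : (mkn g) ^ ((Fintype.card F + 1) / 2) =
        (1 : Matrix.ProjectiveSpecialLinearGroup (Fin 2) F) :=
      (psl_pow_eq_one_iff g _).2 ⟨c, hc, hpow⟩
    have h2 := orderOf_dvd_of_pow_eq_one h1
    have h3 : orderOf (mkn g : Matrix.ProjectiveSpecialLinearGroup (Fin 2) F) ∣
        Fintype.card F + 1 := h2.trans (Nat.div_dvd_of_dvd (by omega))
    have h4 : orderOf (mkn g : Matrix.ProjectiveSpecialLinearGroup (Fin 2) F) ∣ 2 := by
      have e : Fintype.card F + 1 = (Fintype.card F - 1) + 2 := by omega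
      rw [e] at h3
      exact (Nat.dvd_add_right hx).1 h3
    exact orderOf_dvd_two_absurd p hp hodd hF _ hx1 hx2 h4
  obtain ⟨l, hl⟩ := hroot
  have hl1 : l ^ 2 ≠ 1 := by
    intro hl1
    have hpow := pow_char_eq_smul_of_root (g : Matrix (Fin 2) (Fin 2) F) g.2 l hl hl1 3
    have h1 : (mkn g) ^ 3 = (1 : Matrix.ProjectiveSpecialLinearGroup (Fin 2) F) :=
      (psl_pow_eq_one_iff g _).2 ⟨l ^ 3, by rw [← pow_mul, mul_comm, pow_mul, hl1, one_pow], hpow⟩
    exact orderOf_dvd_three_absurd p hp hodd hF _ hx1 (orderOf_dvd_of_pow_eq_one h1) (Or.inl hx)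
  obtain ⟨s, d, hd, hgd⟩ := exists_conj_split g l hl hl1
  have e : mkn g = mkn s * mkn d * (mkn s)⁻¹ := by
    rw [hgd, map_mul, map_mul, map_inv]
  have hd4 : d.1 0 0 ^ 2 ≠ -1 := by
    intro h
    have hmul := hd.mul_eq_one
    have h00 : d.1 0 0 ≠ 0 := by
      intro h0
      rw [h0] at hmul
      simp at hmul
    have htr : d.1 0 0 + d.1 1 1 = 0 := by
      have : d.1 0 0 * (d.1 0 0 + d.1 1 1) = 0 := by linear_combination h + hmul
      exact (mul_eq_zero.1 this).resolve_left h00
    have hsq := mkn_sq_of_trace_zero d htr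
    have h2 : (mkn g) ^ 2 = (1 : Matrix.ProjectiveSpecialLinearGroup (Fin 2) F) := by
      rw [e, conj_pow, pow_two, hsq]; group
    exact orderOf_dvd_two_absurd p hp hodd hF _ hx1 hx2 (orderOf_dvd_of_pow_eq_one h2)
  rw [e, card_sol_conj]
  exact card_sol_split3 p hp hodd hF d hd hd4

include hp hodd hF in
/-- the solubilizer of a non-split semisimple element -/
theorem card_sol_nonsplit (x : Matrix.ProjectiveSpecialLinearGroup (Fin 2) F)
    (hx1 : x ≠ 1) (hx2 : orderOf x ≠ 2) (hx : orderOf x ∣ Fintype.card F + 1) :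
    Nat.card {y : Matrix.ProjectiveSpecialLinearGroup (Fin 2) F // Group.IsSolvable
      (Subgroup.closure ({x, y} : Set (Matrix.ProjectiveSpecialLinearGroup (Fin 2) F)))} =
      Fintype.card F + 1 := by
  haveI : Fact (Nat.Prime 3) := ⟨Nat.prime_three⟩
  haveI := charP_three p hp hF
  have hq4 := card_mod_four p hodd hF
  obtain ⟨g, rfl⟩ := mkn_surjective x
  have hirr' : ∀ l : F, l ^ 2 - (g : Matrix (Fin 2) (Fin 2) F).trace * l + 1 ≠ 0 := by
    intro l hl
    by_cases hl1 : l ^ 2 = 1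
    · have hpow := pow_char_eq_smul_of_root (g : Matrix (Fin 2) (Fin 2) F) g.2 l hl hl1 3
      have h1 : (mkn g) ^ 3 = (1 : Matrix.ProjectiveSpecialLinearGroup (Fin 2) F) :=
        (psl_pow_eq_one_iff g _).2
          ⟨l ^ 3, by rw [← pow_mul, mul_comm, pow_mul, hl1, one_pow], hpow⟩
      exact orderOf_dvd_three_absurd p hp hodd hF _ hx1 (orderOf_dvd_of_pow_eq_one h1)
        (Or.inr hx)
    · have hl0 : l ≠ 0 := by
        rintro rfl
        simp at hl
      have hk : l ^ (2 * ((Fintype.card F - 1) / 2)) = 1 := by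
        have : 2 * ((Fintype.card F - 1) / 2) = Fintype.card F - 1 := by omega
        rw [this]
        exact FiniteField.pow_card_sub_one_eq_one l hl0
      have hpow := pow_eq_smul_of_root (g : Matrix (Fin 2) (Fin 2) F) g.2 l hl hl1 _ hk
      have h1 : (mkn g) ^ ((Fintype.card F - 1) / 2) =
          (1 : Matrix.ProjectiveSpecialLinearGroup (Fin 2) F) :=
        (psl_pow_eq_one_iff g _).2
          ⟨l ^ ((Fintype.card F - 1) / 2), by rw [← pow_mul, mul_comm]; exact hk, hpow⟩
      have h2 := orderOf_dvd_of_pow_eq_one h1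
      have h3 : orderOf (mkn g : Matrix.ProjectiveSpecialLinearGroup (Fin 2) F) ∣
          Fintype.card F - 1 := h2.trans (Nat.div_dvd_of_dvd (by omega))
      have h4 : orderOf (mkn g : Matrix.ProjectiveSpecialLinearGroup (Fin 2) F) ∣ 2 := by
        have e : Fintype.card F + 1 = (Fintype.card F - 1) + 2 := by omega
        rw [e] at hx
        exact (Nat.dvd_add_right h3).1 hx
      exact orderOf_dvd_two_absurd p hp hodd hF _ hx1 hx2 h4
  have hirr : ∀ l : F, l ^ 2 - (g.1 0 0 + g.1 1 1) * l + 1 ≠ 0 := by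
    intro l
    have := hirr' l
    rwa [Matrix.trace_fin_two] at this
  have ht : g.1 0 0 + g.1 1 1 ≠ 0 := by
    intro h
    have hsq := mkn_sq_of_trace_zero g h
    have h2 : (mkn g) ^ 2 = (1 : Matrix.ProjectiveSpecialLinearGroup (Fin 2) F) := by
      rw [pow_two, hsq]
    exact orderOf_dvd_two_absurd p hp hodd hF _ hx1 hx2 (orderOf_dvd_of_pow_eq_one h2)
  exact card_sol_ell p hp hodd hF g hirr ht

end setup

end Cfsg.Agent.Helper11.Sol3
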