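import Mathlib

set_option autoImplicit false

namespace Cfsg.Agent.Helper11

open Module

variable {K V : Type*} [Field K] [AddCommGroup V] [Module K V]

/-- determinant of an endomorphism with an eigenbasis -/
theorem det_eq_prod_of_eigenbasis {ι : Type*} [Fintype ι] [DecidableEq ι] (b : Module.Basis ι K V)
    (f : V →ₗ[K] V) (c : ι → K) (h : ∀ i, f (b i) = c i • b i) : LinearMap.det f = ∏ i, c i := by
  rw [← LinearMap.det_toMatrix b]
  have : LinearMap.toMatrix b b f = Matrix.diagonal c := by
    ext x y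
    rw [LinearMap.toMatrix_apply, h y, map_smul, Module.Basis.repr_self, Matrix.diagonal_apply]
    simp only [Finsupp.smul_apply, Finsupp.single_apply, smul_eq_mul]
    by_cases hxy : x = y
    · rw [if_pos hxy, if_pos hxy.symm, mul_one, hxy]
    · rw [if_neg hxy, if_neg (Ne.symm hxy), mul_zero]
  rw [this, Matrix.det_diagonal]

/-- Adapted basis for an endomorphism of square zero. -/
theorem exists_adapted_basis [FiniteDimensional K V] (N : V →ₗ[K] V) (hN : N ∘ₗ N = 0)
    (n ℓ : ℕ) (hn : Module.finrank K V = n) (hℓ : Module.finrank K (LinearMap.range N) = ℓ) :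
    2 * ℓ ≤ n ∧ ∃ B : Module.Basis (Fin ℓ ⊕ (Fin ℓ ⊕ Fin (n - 2 * ℓ))) K V,
      (∀ i, N (B (Sum.inl i)) = B (Sum.inr (Sum.inl i))) ∧
      (∀ i, N (B (Sum.inr (Sum.inl i))) = 0) ∧ (∀ j, N (B (Sum.inr (Sum.inr j))) = 0) := by
  classical
  have hNN : ∀ v, N (N v) = 0 := fun v => by
    have := congrArg (fun f : V →ₗ[K] V => f v) hN
    simpa using this
  have hRK : LinearMap.range N ≤ LinearMap.ker N := by
    rintro _ ⟨v, rfl⟩
    exact LinearMap.mem_ker.mpr (hNN v)
  have hrk : Module.finrank K (LinearMap.range N) + Module.finrank K (LinearMap.ker N) = n := by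
    rw [← hn]; exact LinearMap.finrank_range_add_finrank_ker N
  have hle : Module.finrank K (LinearMap.range N) ≤ Module.finrank K (LinearMap.ker N) :=
    Submodule.finrank_mono hRK
  have h2l : 2 * ℓ ≤ n := by omega
  refine ⟨h2l, ?_⟩
  -- basis of the range
  let w : Module.Basis (Fin ℓ) K (LinearMap.range N) := Module.finBasisOfFinrankEq K _ hℓ
  have hex : ∀ i, ∃ e : V, N e = (w i : V) := fun i => (w i).2
  choose e he using hex
  -- complement of the range inside the kernel
  let R' : Submodule K (LinearMap.ker N) := (LinearMap.range N).comap (LinearMap.ker N).subtype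
  obtain ⟨D', hD'⟩ := Submodule.exists_isCompl R'
  have hR'rank : Module.finrank K R' = ℓ := by
    rw [← hℓ]
    have : R'.map (LinearMap.ker N).subtype = LinearMap.range N := by
      rw [Submodule.map_comap_eq, Submodule.range_subtype]
      exact inf_eq_right.mpr hRK
    rw [← this]
    exact (Submodule.finrank_map_subtype_eq _ _).symm
  have hD'rank : Module.finrank K D' = n - 2 * ℓ := by
    have := Submodule.finrank_add_eq_of_isCompl hD'
    omega
  let d : Module.Basis (Fin (n - 2 * ℓ)) K D' := Module.finBasisOfFinrankEq K _ hD'rank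
  -- the family
  let v : Fin ℓ ⊕ (Fin ℓ ⊕ Fin (n - 2 * ℓ)) → V :=
    Sum.elim e (Sum.elim (fun i => (w i : V)) (fun j => ((d j : LinearMap.ker N) : V)))
  have hNw : ∀ i, N (w i : V) = 0 := fun i => LinearMap.mem_ker.mp (hRK (w i).2)
  have hNd : ∀ j, N ((d j : LinearMap.ker N) : V) = 0 := fun j => LinearMap.mem_ker.mp (d j).1.2
  have hli : LinearIndependent K v := by
    rw [Fintype.linearIndependent_iff]
    intro g hg
    rw [Fintype.sum_sum_type, Fintype.sum_sum_type] at hg
    simp only [v, Sum.elim_inl, Sum.elim_inr] at hg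
    -- apply N
    have h1 := congrArg N hg
    simp only [map_add, map_sum, map_smul, he, hNw, hNd, smul_zero, Finset.sum_const_zero,
      add_zero, map_zero] at h1
    have h1' : ∑ i, g (Sum.inl i) • w i = 0 := by
      apply Subtype.ext
      simpa using h1
    have hg1 : ∀ i, g (Sum.inl i) = 0 := Fintype.linearIndependent_iff.mp w.linearIndependent _ h1'
    simp only [hg1, zero_smul, Finset.sum_const_zero, zero_add] at hg
    -- now inside the kernel
    let x : LinearMap.ker N := ∑ i, g (Sum.inr (Sum.inl i)) • (⟨(w i : V), hRK (w i).2⟩ : LinearMap.ker N)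
    let y : LinearMap.ker N := ∑ j, g (Sum.inr (Sum.inr j)) • (d j : LinearMap.ker N)
    have hxy : x + y = 0 := by
      apply Subtype.ext
      simpa [x, y] using hg
    have hx : x ∈ R' := by
      apply Submodule.sum_mem
      intro i _
      apply Submodule.smul_mem
      exact (w i).2
    have hy : y ∈ D' := by
      apply Submodule.sum_mem
      intro j _
      apply Submodule.smul_mem
      exact (d j).2
    have hx0 : x = 0 := by
      have hxD : x ∈ D' := by
        have : x = -y := eq_neg_of_add_eq_zero_left hxy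
        rw [this]; exact D'.neg_mem hy
      have := hD'.disjoint.le_bot (Submodule.mem_inf.mpr ⟨hx, hxD⟩)
      simpa using this
    have hy0 : y = 0 := by rw [hx0, zero_add] at hxy; exact hxy
    have hg2 : ∀ i, g (Sum.inr (Sum.inl i)) = 0 := by
      have : ∑ i, g (Sum.inr (Sum.inl i)) • w i = 0 := by
        apply Subtype.ext
        have := congrArg (fun z : LinearMap.ker N => (z : V)) hx0
        simpa [x] using this
      exact Fintype.linearIndependent_iff.mp w.linearIndependent _ this
    have hg3 : ∀ j, g (Sum.inr (Sum.inr j)) = 0 := by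
      have : ∑ j, g (Sum.inr (Sum.inr j)) • d j = 0 := by
        apply Subtype.ext
        simpa [y] using hy0
      exact Fintype.linearIndependent_iff.mp d.linearIndependent _ this
    intro a
    rcases a with i | i | j
    · exact hg1 i
    · exact hg2 i
    · exact hg3 j
  have hcard : Fintype.card (Fin ℓ ⊕ (Fin ℓ ⊕ Fin (n - 2 * ℓ))) = Module.finrank K V := by
    simp only [Fintype.card_sum, Fintype.card_fin]
    omega
  refine ⟨basisOfLinearIndependentOfCardEqFinrank' v hli hcard, ?_, ?_, ?_⟩
  · intro i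
    simp only [coe_basisOfLinearIndependentOfCardEqFinrank', v, Sum.elim_inl, Sum.elim_inr]
    exact he i
  · intro i
    simp only [coe_basisOfLinearIndependentOfCardEqFinrank', v, Sum.elim_inl, Sum.elim_inr]
    exact hNw i
  · intro j
    simp only [coe_basisOfLinearIndependentOfCardEqFinrank', v, Sum.elim_inl, Sum.elim_inr]
    exact hNd j

/-- Two square-zero endomorphisms of the same positive rank are conjugate by a map of
determinant one, provided every scalar is a square. -/
theorem exists_conj_of_square_zero [FiniteDimensional K V] (N N' : V →ₗ[K] V)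
    (hN : N ∘ₗ N = 0) (hN' : N' ∘ₗ N' = 0) (n ℓ : ℕ) (hn : Module.finrank K V = n)
    (hℓ : Module.finrank K (LinearMap.range N) = ℓ)
    (hℓ' : Module.finrank K (LinearMap.range N') = ℓ) (hpos : 1 ≤ ℓ)
    (hsq : ∀ x : K, ∃ y, y * y = x) :
    ∃ T : V →ₗ[K] V, LinearMap.det T = 1 ∧ T ∘ₗ N = N' ∘ₗ T := by
  classical
  obtain ⟨-, B, hB1, hB2, hB3⟩ := exists_adapted_basis N hN n ℓ hn hℓ
  obtain ⟨-, B', hB1', hB2', hB3'⟩ := exists_adapted_basis N' hN' n ℓ hn hℓ'
  let T₀ : V ≃ₗ[K] V := B.equiv B' (Equiv.refl _)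
  have hT₀ : ∀ x, T₀ (B x) = B' x := fun x => by simp [T₀]
  have hδ : LinearMap.det (T₀ : V →ₗ[K] V) ≠ 0 := (LinearEquiv.isUnit_det' T₀).ne_zero
  obtain ⟨c, hc⟩ := hsq (LinearMap.det (T₀ : V →ₗ[K] V))⁻¹
  let i₀ : Fin ℓ := ⟨0, hpos⟩
  let u : Fin ℓ ⊕ (Fin ℓ ⊕ Fin (n - 2 * ℓ)) → K :=
    Sum.elim (fun i => if i = i₀ then c else 1)
      (Sum.elim (fun i => if i = i₀ then c else 1) (fun _ => 1))
  let S : V →ₗ[K] V := B'.constr K (fun x => u x • B' x)
  have hS : ∀ x, S (B' x) = u x • B' x := fun x => by simp [S, Module.Basis.constr_basis]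
  have hdetS : LinearMap.det S = c * c := by
    rw [det_eq_prod_of_eigenbasis B' S u hS, Fintype.prod_sum_type, Fintype.prod_sum_type]
    simp [u]
  refine ⟨S ∘ₗ (T₀ : V →ₗ[K] V), ?_, ?_⟩
  · rw [LinearMap.det_comp, hdetS, hc, inv_mul_cancel₀ hδ]
  · apply B.ext
    intro x
    simp only [LinearMap.coe_comp, Function.comp_apply, LinearEquiv.coe_coe]
    rcases x with i | i | j
    · rw [hB1 i, hT₀, hT₀, hS, hS, map_smul, hB1' i]
      rfl
    · rw [hB2 i, map_zero, map_zero, hT₀, hS, map_smul, hB2' i, smul_zero]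
    · rw [hB3 j, map_zero, map_zero, hT₀, hS, map_smul, hB3' j, smul_zero]

end Cfsg.Agent.Helper11
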