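import Mathlib
import Cfsg.Prelude
import Cfsg.Agent.Lib.Helper2.OrthOrders

set_option autoImplicit false

/-! S2549 piece DET2: in characteristic two the isometries of the minus type form have determinant
one. -/

namespace Cfsg.Agent.Helper13.StP

open Matrix Cfsg.Agent.Helper13

/-- a matrix preserving `v ↦ vᵀ M v` preserves the polar form `M + Mᵀ` -/
theorem det2_gram {F : Type*} [Field F] {ι : Type*} [Fintype ι] [DecidableEq ι]
    (M g : Matrix ι ι F) (hg : ∀ v, matQ M (g *ᵥ v) = matQ M v) :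
    gᵀ * (M + Mᵀ) * g = M + Mᵀ := by
  have hpol : ∀ u v, QuadraticMap.polar (matQ M) (g *ᵥ u) (g *ᵥ v) =
      QuadraticMap.polar (matQ M) u v := by
    intro u v
    unfold QuadraticMap.polar
    rw [← Matrix.mulVec_add, hg, hg, hg]
  ext i j
  have h := hpol (Pi.single i 1) (Pi.single j 1)
  rw [polar_matQ, polar_matQ] at h
  have e1 : (g *ᵥ Pi.single i 1) ⬝ᵥ ((M + Mᵀ) *ᵥ (g *ᵥ Pi.single j 1)) =
      (gᵀ * (M + Mᵀ) * g) i j := by
    rw [← Matrix.vecMul_transpose, ← Matrix.dotProduct_mulVec, Matrix.mulVec_mulVec,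
      Matrix.mulVec_mulVec, Matrix.mulVec_single_one, single_one_dotProduct]
    rfl
  have e2 : (Pi.single i 1 : ι → F) ⬝ᵥ ((M + Mᵀ) *ᵥ Pi.single j 1) = (M + Mᵀ) i j := by
    rw [Matrix.mulVec_single_one, single_one_dotProduct]
    rfl
  rw [e1, e2] at h
  exact h

theorem det2_core {F : Type*} [Field F] (h2 : (2 : F) = 0) {ι : Type*} [Fintype ι]
    [DecidableEq ι] (M g : Matrix ι ι F) (hM : (M + Mᵀ).det ≠ 0)
    (hg : ∀ v, matQ M (g *ᵥ v) = matQ M v) : g.det = 1 := by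
  have h := congrArg Matrix.det (det2_gram M g hg)
  rw [Matrix.det_mul, Matrix.det_mul, Matrix.det_transpose] at h
  have h3 : g.det * g.det = 1 := by
    apply mul_right_cancel₀ hM
    linear_combination h
  have h4 : (g.det - 1) * (g.det - 1) = 0 := by
    linear_combination h3 + (1 - g.det) * h2
  have h5 := mul_self_eq_zero.1 h4
  linear_combination h5

theorem det_eq_one_of_two {F : Type*} [Field F] [Fintype F] (h2 : (2 : F) = 0) (m : ℕ) (a b : F)
    (hab : ∀ z₁ z₂ : F, z₁ ^ 2 + a * z₁ * z₂ + b * z₂ ^ 2 = 0 → z₁ = 0 ∧ z₂ = 0)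
    (g : Cfsg.isometryGroup F (Cfsg.quadFormMinus m F a b)) :
    ((g : GL ((Fin m ⊕ Fin m) ⊕ Fin 2) F) :
      Matrix ((Fin m ⊕ Fin m) ⊕ Fin 2) ((Fin m ⊕ Fin m) ⊕ Fin 2) F).det = 1 := by
  apply det2_core h2 (minusMat m a b)
  · rw [minusMat_det]
    exact mul_ne_zero (pow_ne_zero _ (neg_ne_zero.2 one_ne_zero))
      (Cfsg.Agent.Helper2.Orth.disc_ne_zero a b hab)
  · intro v
    have h : Cfsg.quadFormMinus m F a b (((g : GL ((Fin m ⊕ Fin m) ⊕ Fin 2) F) :
        Matrix ((Fin m ⊕ Fin m) ⊕ Fin 2) ((Fin m ⊕ Fin m) ⊕ Fin 2) F) *ᵥ v) =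
        Cfsg.quadFormMinus m F a b v := g.2 v v
    have hA := congrFun (Cfsg.Agent.Helper2.Orth.quadFormMinus_eq (F := F) m a b)
    rw [← hA, ← hA]
    exact h

end Cfsg.Agent.Helper13.StP
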