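import Mathlib

set_option autoImplicit false

/-! S2549 piece FIELDEXT: the quadratic extension of a finite field attached to an anisotropic binary form. -/

namespace Cfsg.Agent.Helper13.StP

open Polynomial

theorem exists_quadExt.{u} {F : Type u} [Field F] [Fintype F] (a b : F)
    (hab : ∀ z₁ z₂ : F, z₁ ^ 2 + a * z₁ * z₂ + b * z₂ ^ 2 = 0 → z₁ = 0 ∧ z₂ = 0) :
    ∃ (K : Type u) (_ : Field K) (_ : Fintype K) (ι : F →+* K) (φ : K →+* K) (ω : K),
      (∀ x, φ (φ x) = x) ∧ (∀ x, φ x = x ↔ x ∈ ι.range) ∧
      ω + φ ω = - ι a ∧ ω * φ ω = ι b ∧ φ ω ≠ ω := by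
  classical
  set f : F[X] := X ^ 2 + C a * X + C b with hf
  have hmonic : f.Monic := by rw [hf]; monicity!
  have hdeg : f.natDegree = 2 := by rw [hf]; compute_degree!
  have hnoroot : ∀ z : F, ¬ f.IsRoot z := by
    intro z hz
    rw [IsRoot, hf] at hz
    simp only [eval_add, eval_pow, eval_X, eval_mul, eval_C] at hz
    have := hab z 1 (by linear_combination hz)
    exact one_ne_zero this.2
  have hirr : Irreducible f :=
    irreducible_of_degree_le_three_of_not_isRoot (by rw [hdeg]; simp) hnoroot
  have : Fact (Irreducible f) := ⟨hirr⟩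
  have hf0 : f ≠ 0 := hmonic.ne_zero
  have : Module.Finite F (AdjoinRoot f) := (AdjoinRoot.powerBasis hf0).finite
  have : Finite (AdjoinRoot f) := Module.finite_of_finite F
  let _ : Fintype (AdjoinRoot f) := Fintype.ofFinite (AdjoinRoot f)
  have hfr : Module.finrank F (AdjoinRoot f) = 2 := by
    rw [(AdjoinRoot.powerBasis hf0).finrank, AdjoinRoot.powerBasis_dim, hdeg]
  have hcard : Fintype.card (AdjoinRoot f) = Fintype.card F ^ 2 := by
    rw [Module.card_eq_pow_finrank (K := F) (V := AdjoinRoot f), hfr]
  refine ⟨AdjoinRoot f, inferInstance, inferInstance, algebraMap F (AdjoinRoot f),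
    (FiniteField.frobeniusAlgHom F (AdjoinRoot f)).toRingHom, AdjoinRoot.root f, ?_⟩
  set ι : F →+* AdjoinRoot f := algebraMap F (AdjoinRoot f) with hι
  set φ : AdjoinRoot f →+* AdjoinRoot f :=
    (FiniteField.frobeniusAlgHom F (AdjoinRoot f)).toRingHom with hφdef
  set ω : AdjoinRoot f := AdjoinRoot.root f with hω
  have hφ : ∀ x, φ x = x ^ Fintype.card F := fun x => rfl
  have hφι : ∀ y : F, φ (ι y) = ι y := by
    intro y
    rw [hφ, ← map_pow, FiniteField.pow_card]
  have hιinj : Function.Injective ι := ι.injective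
  have hφφ : ∀ x, φ (φ x) = x := by
    intro x
    rw [hφ, hφ, ← pow_mul, ← pow_two, ← hcard, FiniteField.pow_card]
  -- fixed points
  have hfix : ∀ x, φ x = x ↔ x ∈ ι.range := by
    intro x
    constructor
    · intro hx
      -- counting roots of X^q - X
      set q := Fintype.card F with hq
      have hq1 : 1 < q := Fintype.one_lt_card
      set P : (AdjoinRoot f)[X] := X ^ q - X with hP
      have hPdeg : P.natDegree = q := FiniteField.X_pow_card_sub_X_natDegree_eq _ hq1
      have hP0 : P ≠ 0 := FiniteField.X_pow_card_sub_X_ne_zero _ hq1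
      have hsub : (Finset.univ.image ι) ⊆ P.roots.toFinset := by
        intro y hy
        obtain ⟨z, -, rfl⟩ := Finset.mem_image.1 hy
        rw [Multiset.mem_toFinset, mem_roots hP0, IsRoot, hP, eval_sub, eval_pow, eval_X,
          ← hφ, hφι, sub_self]
      have hc1 : (Finset.univ.image ι).card = q := by
        rw [Finset.card_image_of_injective _ hιinj, Finset.card_univ]
      have hc2 : P.roots.toFinset.card ≤ q := by
        calc P.roots.toFinset.card ≤ Multiset.card P.roots := Multiset.toFinset_card_le _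
          _ ≤ P.natDegree := card_roots' P
          _ = q := hPdeg
      have heq := Finset.eq_of_subset_of_card_le hsub (by rw [hc1]; exact hc2)
      have hxr : x ∈ P.roots.toFinset := by
        rw [Multiset.mem_toFinset, mem_roots hP0, IsRoot, hP, eval_sub, eval_pow, eval_X,
          ← hφ, hx, sub_self]
      rw [← heq] at hxr
      obtain ⟨z, -, rfl⟩ := Finset.mem_image.1 hxr
      exact ⟨z, rfl⟩
    · rintro ⟨y, rfl⟩
      exact hφι y
  -- the root
  have hroot : ω ^ 2 + ι a * ω + ι b = 0 := by
    have h := AdjoinRoot.eval₂_root f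
    rw [hf] at h
    simp only [eval₂_add, eval₂_pow, eval₂_X, eval₂_mul, eval₂_C] at h
    exact h
  have hroot' : (φ ω) ^ 2 + ι a * φ ω + ι b = 0 := by
    have := congrArg φ hroot
    rw [map_add, map_add, map_pow, map_mul, hφι, hφι, map_zero] at this
    exact this
  have hne : φ ω ≠ ω := by
    intro h
    obtain ⟨z, hz⟩ := (hfix ω).1 h
    apply hnoroot z
    rw [IsRoot, hf]
    simp only [eval_add, eval_pow, eval_X, eval_mul, eval_C]
    apply hιinj
    rw [map_add, map_add, map_pow, map_mul, hz, map_zero]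
    exact hroot
  have hsum : ω + φ ω = - ι a := by
    have h1 : (ω - φ ω) * (ω + φ ω + ι a) = 0 := by linear_combination hroot - hroot'
    rcases mul_eq_zero.1 h1 with h2 | h2
    · exact absurd (sub_eq_zero.1 h2).symm hne
    · linear_combination h2
  refine ⟨hφφ, hfix, hsum, ?_, hne⟩
  have : φ ω = - ι a - ω := by linear_combination hsum
  rw [this]
  linear_combination -hroot

end Cfsg.Agent.Helper13.StP
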