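import Mathlib
import Cfsg.Prelude
import Cfsg.Agent.Lib.Helper23.SdD1
import Cfsg.Agent.Lib.Helper2.OrthOrders

set_option autoImplicit false

/-! S2549 piece M0: the commutator subgroup of `O⁻₂(F)` is commutative, hence `PΩ⁻₂(F)` is trivial. -/

namespace Cfsg.Agent.Helper13.StP

open Matrix Cfsg.Agent.Helper13.SdP

/-- the algebraic heart: the second column of an isometry of an anisotropic binary form -/
theorem m0_alg {F : Type*} [Field F] {a b p q r s : F} (hdisc : 4 * b - a ^ 2 ≠ 0)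
    (E1 : p ^ 2 + a * p * r + b * r ^ 2 = 1) (E2 : q ^ 2 + a * q * s + b * s ^ 2 = b)
    (E3 : 2 * p * q + a * (p * s + q * r) + 2 * b * r * s = a) :
    (q = -(b * r) ∧ s = p + a * r) ∨ (q = a * p + b * r ∧ s = -p) := by
  obtain ⟨c, hc⟩ : ∃ c, c = (p + a * r) * q + b * r * s := ⟨_, rfl⟩
  obtain ⟨d, hd⟩ : ∃ d, d = p * s - r * q := ⟨_, rfl⟩
  have hq : q = p * c - b * r * d := by rw [hc, hd]; linear_combination (-q) * E1
  have hs : s = r * c + (p + a * r) * d := by rw [hc, hd]; linear_combination (-s) * E1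
  have h2c : 2 * c + a * d = a := by rw [hc, hd]; linear_combination E3
  have hQ : c ^ 2 + a * c * d + b * d ^ 2 = b := by
    rw [hc, hd]; linear_combination (q ^ 2 + a * q * s + b * s ^ 2) * E1 + E2
  have key : (c = 0 ∧ d = 1) ∨ (c = a ∧ d = -1) := by
    by_cases h2 : (2 : F) = 0
    · have ha : a ≠ 0 := by
        intro h
        apply hdisc
        rw [h]
        linear_combination (2 * b) * h2
      have hd1 : d = 1 := by
        have : a * (d - 1) = 0 := by linear_combination h2c - c * h2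
        rcases mul_eq_zero.1 this with h | h
        · exact absurd h ha
        · linear_combination h
      have hcc : c * (c + a) = 0 := by rw [hd1] at hQ; linear_combination hQ
      rcases mul_eq_zero.1 hcc with h | h
      · left; exact ⟨h, hd1⟩
      · right
        refine ⟨?_, ?_⟩
        · linear_combination h - a * h2
        · rw [hd1]; linear_combination h2
    · have h4 : (1 - d) * ((1 + d) * (a ^ 2 - 4 * b)) = 0 := by
        linear_combination 4 * hQ - (a + 2 * c + a * d) * h2c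
      have hdisc' : a ^ 2 - 4 * b ≠ 0 := fun h => hdisc (by linear_combination -h)
      rcases mul_eq_zero.1 h4 with h | h
      · left
        have hd1 : d = 1 := by linear_combination -h
        refine ⟨?_, hd1⟩
        have : 2 * c = 0 := by rw [hd1] at h2c; linear_combination h2c
        exact (mul_eq_zero.1 this).resolve_left h2
      · right
        have hd1 : d = -1 := by
          have := (mul_eq_zero.1 h).resolve_right hdisc'
          linear_combination this
        refine ⟨?_, hd1⟩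
        have : 2 * (c - a) = 0 := by rw [hd1] at h2c; linear_combination h2c
        have := (mul_eq_zero.1 this).resolve_left h2
        linear_combination this
  rcases key with ⟨h1, h2⟩ | ⟨h1, h2⟩
  · left
    rw [h1, h2] at hq hs
    exact ⟨by linear_combination hq, by linear_combination hs⟩
  · right
    rw [h1, h2] at hq hs
    exact ⟨by linear_combination hq, by linear_combination hs⟩

/-- the index type of the anisotropic plane -/
abbrev K2 : Type := (Fin 0 ⊕ Fin 0) ⊕ Fin 2

section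
variable {F : Type*} [Field F]

theorem m0_mul_apply (M N : Matrix K2 K2 F) (i j : K2) :
    (M * N) i j = M i (.inr 0) * N (.inr 0) j + M i (.inr 1) * N (.inr 1) j := by
  rw [Matrix.mul_apply, Fintype.sum_sum_type]
  simp [Fin.sum_univ_two]

theorem m0_mulVec (M : Matrix K2 K2 F) (v : K2 → F) (i : K2) :
    (M *ᵥ v) i = M i (.inr 0) * v (.inr 0) + M i (.inr 1) * v (.inr 1) := by
  rw [Matrix.mulVec, dotProduct, Fintype.sum_sum_type]
  simp [Fin.sum_univ_two]

theorem m0_ext {M N : Matrix K2 K2 F} (h00 : M (.inr 0) (.inr 0) = N (.inr 0) (.inr 0))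
    (h01 : M (.inr 0) (.inr 1) = N (.inr 0) (.inr 1))
    (h10 : M (.inr 1) (.inr 0) = N (.inr 1) (.inr 0))
    (h11 : M (.inr 1) (.inr 1) = N (.inr 1) (.inr 1)) : M = N := by
  ext i j
  rcases i with (i | i) | i
  · exact i.elim0
  · exact i.elim0
  rcases j with (j | j) | j
  · exact j.elim0
  · exact j.elim0
  fin_cases i <;> fin_cases j
  · exact h00
  · exact h01
  · exact h10
  · exact h11

/-- multiplication by the root, as a matrix -/
def m0J (a b : F) : Matrix K2 K2 F := Matrix.fromBlocks 0 0 0 !![0, -b; 1, a]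

/-- the rotations: the matrices commuting with `m0J` -/
def rotGL (a b : F) : Subgroup (GL K2 F) where
  carrier := {g | (g : Matrix K2 K2 F) * m0J a b = m0J a b * (g : Matrix K2 K2 F)}
  one_mem' := by
    show ((1 : GL K2 F) : Matrix K2 K2 F) * m0J a b = m0J a b * ((1 : GL K2 F) : Matrix K2 K2 F)
    rw [Units.val_one, Matrix.one_mul, Matrix.mul_one]
  mul_mem' := by
    intro g h hg hh
    show ((g * h : GL K2 F) : Matrix K2 K2 F) * m0J a b =
      m0J a b * ((g * h : GL K2 F) : Matrix K2 K2 F)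
    have hg' : (g : Matrix K2 K2 F) * m0J a b = m0J a b * (g : Matrix K2 K2 F) := hg
    have hh' : (h : Matrix K2 K2 F) * m0J a b = m0J a b * (h : Matrix K2 K2 F) := hh
    rw [Units.val_mul, Matrix.mul_assoc, hh', ← Matrix.mul_assoc, hg', Matrix.mul_assoc]
  inv_mem' := by
    intro g hg
    show ((g⁻¹ : GL K2 F) : Matrix K2 K2 F) * m0J a b =
      m0J a b * ((g⁻¹ : GL K2 F) : Matrix K2 K2 F)
    have hg' : (g : Matrix K2 K2 F) * m0J a b = m0J a b * (g : Matrix K2 K2 F) := hg
    have h1 : ((g⁻¹ : GL K2 F) : Matrix K2 K2 F) * (g : Matrix K2 K2 F) = 1 := by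
      rw [← Units.val_mul, inv_mul_cancel, Units.val_one]
    have h2 : (g : Matrix K2 K2 F) * ((g⁻¹ : GL K2 F) : Matrix K2 K2 F) = 1 := by
      rw [← Units.val_mul, mul_inv_cancel, Units.val_one]
    calc ((g⁻¹ : GL K2 F) : Matrix K2 K2 F) * m0J a b
        = ((g⁻¹ : GL K2 F) : Matrix K2 K2 F) * m0J a b *
            ((g : Matrix K2 K2 F) * ((g⁻¹ : GL K2 F) : Matrix K2 K2 F)) := by
          rw [h2, Matrix.mul_one]
      _ = ((g⁻¹ : GL K2 F) : Matrix K2 K2 F) * (m0J a b * (g : Matrix K2 K2 F)) *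
            ((g⁻¹ : GL K2 F) : Matrix K2 K2 F) := by
          simp only [Matrix.mul_assoc]
      _ = ((g⁻¹ : GL K2 F) : Matrix K2 K2 F) * ((g : Matrix K2 K2 F) * m0J a b) *
            ((g⁻¹ : GL K2 F) : Matrix K2 K2 F) := by rw [hg']
      _ = (((g⁻¹ : GL K2 F) : Matrix K2 K2 F) * (g : Matrix K2 K2 F)) * m0J a b *
            ((g⁻¹ : GL K2 F) : Matrix K2 K2 F) := by
          simp only [Matrix.mul_assoc]
      _ = m0J a b * ((g⁻¹ : GL K2 F) : Matrix K2 K2 F) := by rw [h1, Matrix.one_mul]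

theorem mem_rotGL (a b : F) (g : GL K2 F) : g ∈ rotGL a b ↔
    (g : Matrix K2 K2 F) (.inr 0) (.inr 1) = -(b * (g : Matrix K2 K2 F) (.inr 1) (.inr 0)) ∧
    (g : Matrix K2 K2 F) (.inr 1) (.inr 1) =
      (g : Matrix K2 K2 F) (.inr 0) (.inr 0) + a * (g : Matrix K2 K2 F) (.inr 1) (.inr 0) := by
  have hJ00 : m0J a b (.inr 0) (.inr 0) = 0 := by simp [m0J]
  have hJ01 : m0J a b (.inr 0) (.inr 1) = -b := by simp [m0J]
  have hJ10 : m0J a b (.inr 1) (.inr 0) = 1 := by simp [m0J]
  have hJ11 : m0J a b (.inr 1) (.inr 1) = a := by simp [m0J]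
  constructor
  · intro h
    have h' : (g : Matrix K2 K2 F) * m0J a b = m0J a b * (g : Matrix K2 K2 F) := h
    have e00 := congrFun (congrFun h' (.inr 0)) (.inr 0)
    have e10 := congrFun (congrFun h' (.inr 1)) (.inr 0)
    rw [m0_mul_apply, m0_mul_apply, hJ00, hJ10, hJ01] at e00
    rw [m0_mul_apply, m0_mul_apply, hJ00, hJ10, hJ11] at e10
    exact ⟨by linear_combination e00, by linear_combination e10⟩
  · rintro ⟨h1, h2⟩
    show (g : Matrix K2 K2 F) * m0J a b = m0J a b * (g : Matrix K2 K2 F)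
    apply m0_ext
    · rw [m0_mul_apply, m0_mul_apply, hJ00, hJ10, hJ01]; linear_combination h1
    · rw [m0_mul_apply, m0_mul_apply, hJ01, hJ11, hJ00]; linear_combination a * h1 + b * h2
    · rw [m0_mul_apply, m0_mul_apply, hJ00, hJ10, hJ11]; linear_combination h2
    · rw [m0_mul_apply, m0_mul_apply, hJ01, hJ11, hJ10]; linear_combination -h1

theorem rot_comm {a b : F} {g h : GL K2 F} (hg : g ∈ rotGL a b) (hh : h ∈ rotGL a b) :
    g * h = h * g := by
  rw [mem_rotGL] at hg hh
  obtain ⟨g1, g2⟩ := hg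
  obtain ⟨h1, h2⟩ := hh
  apply Units.ext
  rw [Units.val_mul, Units.val_mul]
  apply m0_ext
  · rw [m0_mul_apply, m0_mul_apply, g1, h1]; ring
  · rw [m0_mul_apply, m0_mul_apply, g1, h1, g2, h2]; ring
  · rw [m0_mul_apply, m0_mul_apply, g2, h2]; ring
  · rw [m0_mul_apply, m0_mul_apply, g1, h1, g2, h2]; ring

/-- an isometry of the anisotropic plane that is not a rotation is a reflection -/
theorem refl_of_not_rot {a b : F} (hdisc : 4 * b - a ^ 2 ≠ 0) {g : GL K2 F}
    (hg : g ∈ Cfsg.isometryGroup F (Cfsg.quadFormMinus 0 F a b)) (hd : g ∉ rotGL a b) :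
    (g : Matrix K2 K2 F) (.inr 0) (.inr 1) =
      a * (g : Matrix K2 K2 F) (.inr 0) (.inr 0) + b * (g : Matrix K2 K2 F) (.inr 1) (.inr 0) ∧
    (g : Matrix K2 K2 F) (.inr 1) (.inr 1) = -(g : Matrix K2 K2 F) (.inr 0) (.inr 0) := by
  rw [mem_isometryGroup_iff] at hg
  have hQ : ∀ v : K2 → F, Cfsg.quadFormMinus 0 F a b v =
      v (.inr 0) ^ 2 + a * v (.inr 0) * v (.inr 1) + b * v (.inr 1) ^ 2 := by
    intro v
    simp [Cfsg.quadFormMinus]
  set p := (g : Matrix K2 K2 F) (.inr 0) (.inr 0) with hp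
  set q := (g : Matrix K2 K2 F) (.inr 0) (.inr 1) with hq
  set r := (g : Matrix K2 K2 F) (.inr 1) (.inr 0) with hr
  set s := (g : Matrix K2 K2 F) (.inr 1) (.inr 1) with hs
  have h1 := hg (Sum.elim (fun x => x.elim (fun i => i.elim0) (fun i => i.elim0)) ![1, 0])
  have h2 := hg (Sum.elim (fun x => x.elim (fun i => i.elim0) (fun i => i.elim0)) ![0, 1])
  have h3 := hg (Sum.elim (fun x => x.elim (fun i => i.elim0) (fun i => i.elim0)) ![1, 1])
  rw [hQ, hQ, m0_mulVec, m0_mulVec] at h1 h2 h3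
  simp only [Sum.elim_inr, Matrix.cons_val_zero, Matrix.cons_val_one, mul_one, mul_zero, add_zero,
    zero_add, ← hp, ← hq, ← hr, ← hs] at h1 h2 h3
  have E1 : p ^ 2 + a * p * r + b * r ^ 2 = 1 := by linear_combination h1
  have E2 : q ^ 2 + a * q * s + b * s ^ 2 = b := by linear_combination h2
  have E3 : 2 * p * q + a * (p * s + q * r) + 2 * b * r * s = a := by
    linear_combination h3 - h1 - h2
  rcases m0_alg hdisc E1 E2 E3 with h | h
  · exfalso
    apply hd
    rw [mem_rotGL]
    exact h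
  · exact h

/-- the commutator subgroup of `O⁻₂(F)` consists of rotations -/
theorem commutator_le_rot {a b : F} (hdisc : 4 * b - a ^ 2 ≠ 0) :
    commutator (Cfsg.isometryGroup F (Cfsg.quadFormMinus 0 F a b)) ≤
      (rotGL a b).subgroupOf (Cfsg.isometryGroup F (Cfsg.quadFormMinus 0 F a b)) := by
  set O := Cfsg.isometryGroup F (Cfsg.quadFormMinus 0 F a b) with hO
  set T := (rotGL a b).subgroupOf O with hT
  by_cases hex : ∃ x : O, x ∉ T
  · obtain ⟨x, hx⟩ := hex
    have hidx : T.index = 2 := by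
      rw [Subgroup.index_eq_two_iff]
      refine ⟨x, fun y => ?_⟩
      by_cases hy : y ∈ T
      · right
        refine ⟨hy, fun hyx => hx ?_⟩
        have := T.mul_mem (T.inv_mem hy) hyx
        rwa [inv_mul_cancel_left] at this
      · left
        refine ⟨?_, hy⟩
        rw [hT, Subgroup.mem_subgroupOf] at hx hy ⊢
        obtain ⟨x1, x2⟩ := refl_of_not_rot hdisc x.2 hx
        obtain ⟨y1, y2⟩ := refl_of_not_rot hdisc y.2 hy
        rw [Subgroup.coe_mul, mem_rotGL, Units.val_mul]
        simp only [m0_mul_apply]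
        rw [x1, x2, y1, y2]
        constructor <;> ring
    have hn : T.Normal := Subgroup.normal_of_index_eq_two hidx
    rw [← Subgroup.Normal.quotient_commutative_iff_commutator_le]
    have hc : Nat.card (O ⧸ T) = 2 := by
      rw [← Subgroup.index_eq_card, hidx]
    have : Fact (Nat.Prime 2) := ⟨Nat.prime_two⟩
    exact (isCyclic_of_prime_card hc).isMulCommutative
  · push Not at hex
    intro x _
    exact hex x

end

/-- PIECE M0 of `plans/StSkel.lean.txt`, exact signature -/
theorem minus_zero {F : Type*} [Field F] [Fintype F] (p : ℕ) [Fact p.Prime] [CharP F p] (a b : F)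
    (hab : ∀ z₁ z₂ : F, z₁ ^ 2 + a * z₁ * z₂ + b * z₂ ^ 2 = 0 → z₁ = 0 ∧ z₂ = 0) :
    ∃ χ : Cfsg.POmega F (Cfsg.quadFormMinus 0 F a b) → ℂ,
      Cfsg.IsIrrCharacter (Cfsg.POmega F (Cfsg.quadFormMinus 0 F a b)) χ ∧
      ∀ P : Sylow p (Cfsg.POmega F (Cfsg.quadFormMinus 0 F a b)), χ 1 = Nat.card P ∧
        ∀ x : Cfsg.POmega F (Cfsg.quadFormMinus 0 F a b), x ∈ P → x ≠ 1 → χ x = 0 := by
  have hdisc := Cfsg.Agent.Helper2.Orth.disc_ne_zero a b hab
  apply steinberg_of_comm
  intro x y
  have hx := commutator_le_rot hdisc x.2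
  have hy := commutator_le_rot hdisc y.2
  rw [Subgroup.mem_subgroupOf] at hx hy
  apply Subtype.ext
  apply Subtype.ext
  exact rot_comm hx hy

end Cfsg.Agent.Helper13.StP
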