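import Mathlib
import Cfsg.Prelude.Def_KGroupFacts

/-!
# Piece STEMC for helper29 (S2036): the commutator subgroup of a central extension of a perfect
group is a stem extension.
-/

set_option autoImplicit false

namespace Cfsg.Agent.Helper11.StemC

open scoped commutatorElement

theorem commutatorElement_mul_central_left {Γ : Type*} [Group Γ] (x y k : Γ)
    (hk : ∀ g : Γ, g * k = k * g) : ⁅x * k, y⁆ = ⁅x, y⁆ := by
  rw [commutatorElement_def, commutatorElement_def, mul_inv_rev]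
  calc x * k * y * (k⁻¹ * x⁻¹) * y⁻¹ = x * (y * k)⁻¹⁻¹ * k⁻¹ * x⁻¹ * y⁻¹ := by
        rw [inv_inv, hk y]; group
    _ = x * y * x⁻¹ * y⁻¹ := by group

theorem commutatorElement_mul_central_right {Γ : Type*} [Group Γ] (x y k : Γ)
    (hk : ∀ g : Γ, g * k = k * g) : ⁅x, y * k⁆ = ⁅x, y⁆ := by
  rw [commutatorElement_def, commutatorElement_def, mul_inv_rev]
  calc x * (y * k) * x⁻¹ * (k⁻¹ * y⁻¹) = x * y * (x⁻¹ * k)⁻¹⁻¹ * k⁻¹ * y⁻¹ := by
        rw [inv_inv, hk x⁻¹]; group
    _ = x * y * x⁻¹ * y⁻¹ := by group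

theorem stem_of_central {Γ G : Type*} [Group Γ] [Group G] (σ : Γ →* G)
    (hs : Function.Surjective σ) (hK : σ.ker ≤ Subgroup.center Γ) (hperf : commutator G = ⊤) :
    Cfsg.IsStemExtension (σ.comp (commutator Γ).subtype) := by
  set C : Subgroup Γ := commutator Γ with hC
  -- the commutator subgroup maps onto G
  have hmap : C.map σ = ⊤ := by
    rw [hC, commutator_def, Subgroup.map_commutator, ← MonoidHom.range_eq_map,
      MonoidHom.range_eq_top.2 hs, ← commutator_def, hperf]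
  have hlift : ∀ a : Γ, ∃ c ∈ C, ∃ k : Γ, (∀ g : Γ, g * k = k * g) ∧ a = c * k := by
    intro a
    have : σ a ∈ C.map σ := by rw [hmap]; exact Subgroup.mem_top _
    obtain ⟨c, hc, hca⟩ := this
    refine ⟨c, hc, c⁻¹ * a, ?_, by group⟩
    have hker : c⁻¹ * a ∈ σ.ker := by
      rw [MonoidHom.mem_ker, map_mul, map_inv, hca, inv_mul_cancel]
    have := hK hker
    exact fun g => Subgroup.mem_center_iff.1 this g
  refine ⟨?_, ?_, ?_⟩
  · intro g
    have : g ∈ C.map σ := by rw [hmap]; exact Subgroup.mem_top _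
    obtain ⟨c, hc, hcg⟩ := this
    exact ⟨⟨c, hc⟩, hcg⟩
  · intro x hx
    rw [MonoidHom.mem_ker] at hx
    have hx' : (x : Γ) ∈ σ.ker := hx
    have hcen := hK hx'
    rw [Subgroup.mem_center_iff]
    intro g
    apply Subtype.ext
    exact Subgroup.mem_center_iff.1 hcen (g : Γ)
  · -- the commutator subgroup is perfect
    have hgen : commutatorSet Γ ⊆ (((commutator ↥C).map C.subtype : Subgroup Γ) : Set Γ) := by
      rintro _ ⟨a, b, rfl⟩
      obtain ⟨c₁, hc₁, k₁, hk₁, rfl⟩ := hlift a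
      obtain ⟨c₂, hc₂, k₂, hk₂, rfl⟩ := hlift b
      rw [commutatorElement_mul_central_left _ _ _ hk₁,
        commutatorElement_mul_central_right _ _ _ hk₂]
      refine ⟨⁅(⟨c₁, hc₁⟩ : ↥C), ⟨c₂, hc₂⟩⁆, ?_, rfl⟩
      rw [SetLike.mem_coe, commutator_eq_closure]
      exact Subgroup.subset_closure ⟨_, _, rfl⟩
    have h1 : C = Subgroup.closure (commutatorSet Γ) := commutator_eq_closure Γ
    have hle : C ≤ (commutator ↥C).map C.subtype :=
      h1.le.trans ((Subgroup.closure_le _).2 hgen)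
    intro x _
    obtain ⟨y, hy, hyx⟩ := hle x.2
    have : y = x := Subtype.ext hyx
    rw [← this]
    exact hy

end Cfsg.Agent.Helper11.StemC
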