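import Mathlib
import Cfsg.Prelude
import Cfsg.Agent.Lib.Helper13.SylODefs
import Cfsg.Agent.Lib.Helper20.SdSYLBN

/-! # S4613 (uniform (B,N)-pair route) piece SYLO-SYL (helper11): `U` is a Sylow subgroup; Sylow
conjugacy and opposition in elementwise form. -/

set_option autoImplicit false
set_option linter.unusedSectionVars false

namespace Cfsg.Agent.Helper13.SylO

open Cfsg Cfsg.Agent.Helper2.WordLen Cfsg.Agent.Helper2.BN Cfsg.Agent.Helper17.BNCox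

section data
variable {H : Type*} [Group H] {P : Cfsg.BNPair H} {p : ℕ} [Fact p.Prime] (D : Data P p)

/-- PIECE SYLO-SYL (1). -/
theorem Data.eq_of_le [Finite H] (Q : Subgroup H) (hQ : IsPGroup p Q) (hle : D.U ≤ Q) : Q = D.U :=
  Cfsg.Agent.Helper13.SdP.isMax_of_bn P p D.U D.hUB D.hUn D.hs D.hUp (Nat.card D.T) D.hcard D.hTp hQ hle

/-- the Sylow subgroup `U` -/
def Data.sylow [Finite H] : Sylow p H :=
  { D.U with
    isPGroup' := D.hUp
    is_maximal' := fun {Q} hQ hle => D.eq_of_le Q hQ hle }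

/-- PIECE SYLO-SYL (2). -/
theorem Data.exists_conj [Finite H] (W : Sylow p H) :
    ∃ a : H, ∀ x : H, x ∈ (W : Subgroup H) ↔ a⁻¹ * x * a ∈ D.U := by
  obtain ⟨a, ha⟩ := MulAction.exists_smul_eq H D.sylow W
  refine ⟨a, fun x => ?_⟩
  rw [← ha, Sylow.coe_subgroup_smul, Subgroup.mem_pointwise_smul_iff_inv_smul_mem]
  have : (MulAut.conj a)⁻¹ • x = a⁻¹ * x * a := by
    rw [← map_inv, MulAut.smul_def, MulAut.conj_apply, inv_inv]
  rw [this]
  rfl

/-- PIECE SYLO-SYL (3). -/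
theorem Data.inf_eq_bot_iff [Finite H] (W W' : Sylow p H) (a b : H)
    (ha : ∀ x : H, x ∈ (W : Subgroup H) ↔ a⁻¹ * x * a ∈ D.U)
    (hb : ∀ x : H, x ∈ (W' : Subgroup H) ↔ b⁻¹ * x * b ∈ D.U) :
    (W : Subgroup H) ⊓ (W' : Subgroup H) = ⊥ ↔ D.Opp (a⁻¹ * b) := by
  constructor
  · intro h y hy hy'
    -- `x := a y a⁻¹ ∈ W ⊓ W'`
    have hxW : a * y * a⁻¹ ∈ (W : Subgroup H) := by
      rw [ha]
      have : a⁻¹ * (a * y * a⁻¹) * a = y := by group
      rw [this]; exact hy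
    have hxW' : a * y * a⁻¹ ∈ (W' : Subgroup H) := by
      rw [hb]
      have : b⁻¹ * (a * y * a⁻¹) * b = (a⁻¹ * b)⁻¹ * y * (a⁻¹ * b) := by group
      rw [this]; exact hy'
    have hx : a * y * a⁻¹ ∈ (W : Subgroup H) ⊓ (W' : Subgroup H) := ⟨hxW, hxW'⟩
    rw [h, Subgroup.mem_bot] at hx
    calc y = a⁻¹ * (a * y * a⁻¹) * a := by group
      _ = 1 := by rw [hx]; group
  · intro h
    rw [eq_bot_iff]
    rintro x ⟨hxW, hxW'⟩
    rw [Subgroup.mem_bot]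
    have h1 : a⁻¹ * x * a ∈ D.U := (ha x).1 hxW
    have h2 : (a⁻¹ * b)⁻¹ * (a⁻¹ * x * a) * (a⁻¹ * b) ∈ D.U := by
      have : (a⁻¹ * b)⁻¹ * (a⁻¹ * x * a) * (a⁻¹ * b) = b⁻¹ * x * b := by group
      rw [this]; exact (hb x).1 hxW'
    have h3 := h _ h1 h2
    calc x = a * (a⁻¹ * x * a) * a⁻¹ := by group
      _ = 1 := by rw [h3]; group

end data

end Cfsg.Agent.Helper13.SylO
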