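import Mathlib
import Cfsg.Prelude
import Cfsg.Agent.Lib.Helper13.SylODefs

/-! # S4613 (uniform (B,N)-pair route) piece SYLO-TWO core (helper11): the cell of `w σ_t` has at
least twice as many cosets as the cell of `w` when `ℓ w < ℓ (w σ_t)`. -/

set_option autoImplicit false
set_option linter.unusedSectionVars false

namespace Cfsg.Agent.Helper13.SylO

open Cfsg Cfsg.Agent.Helper2.WordLen Cfsg.Agent.Helper2.BN Cfsg.Agent.Helper17.BNCox

section pure
variable {H : Type*} [Group H] (P : Cfsg.BNPair H)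

/-- a representative of a coset in the cell of `w` lies in `C w` -/
theorem two_out_mem (w : W P) (c : H ⧸ P.B) (hc : cellQ P c = w) :
    (Quotient.out c : H) ∈ C P w := by
  have h1 : cellQ P ((Quotient.out c : H) : H ⧸ P.B) = w := by
    rw [QuotientGroup.out_eq']; exact hc
  rw [cellQ_mk] at h1
  rw [← h1]
  exact mem_C_cell P _

/-- PIECE SYLO-TWO, with SYLO-PREV as a hypothesis. -/
theorem two_core [Finite H]
    (hprev : ∀ (w : W P) (t : P.S), ℓ P w < ℓ P (w * σ P t) → ∀ g g₁ g₂ : H,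
      g₁ ∈ C P w → g₂ ∈ C P w → g₁⁻¹ * g ∈ C P (σ P t) → g₂⁻¹ * g ∈ C P (σ P t) →
      g₁⁻¹ * g₂ ∈ P.B)
    (w : W P) (t : P.S) (hlt : ℓ P w < ℓ P (w * σ P t)) :
    2 * Nat.card {c : H ⧸ P.B // cellQ P c = w} ≤
      Nat.card {c : H ⧸ P.B // cellQ P c = w * σ P t} := by
  classical
  obtain ⟨β, hβ, hnot⟩ := exists_not_mem P t
  -- the two representatives
  let x : Fin 2 → H := fun i => if i = 0 then (t : H) else β * (t : H)
  have hx0 : x 0 = (t : H) := rfl
  have hx1 : x 1 = β * (t : H) := rfl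
  have hx : ∀ i, x i ∈ C P (σ P t) := by
    intro i
    fin_cases i
    · exact gen_mem_C P t
    · exact B_mul_C P hβ (gen_mem_C P t)
  have hkey : (t : H)⁻¹ * β * (t : H) ∉ P.B := by
    intro h
    apply hnot
    have : (t : H) * β * t = ((t : H) * t) * ((t : H)⁻¹ * β * t) := by group
    rw [this]
    exact P.B.mul_mem (P.sq_mem t t.2) h
  have hx01 : ∀ i j, (x i)⁻¹ * x j ∈ P.B → i = j := by
    intro i j h
    fin_cases i <;> fin_cases j
    · rfl
    · exfalso
      apply hkey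
      have e : (x 0)⁻¹ * x 1 = (t : H)⁻¹ * β * t := by rw [hx0, hx1]; group
      rw [← e]; exact h
    · exfalso
      apply hkey
      have e : (t : H)⁻¹ * β * t = ((x 1)⁻¹ * x 0)⁻¹ := by rw [hx0, hx1]; group
      rw [e]; exact P.B.inv_mem h
    · rfl
  have hlen : ℓ P (w * σ P t) = ℓ P w + ℓ P (σ P t) := by
    have h1 := ℓ_mul_gen_le P t w
    have h2 := ℓ_σ P t
    omega
  -- the map
  let f : {c : H ⧸ P.B // cellQ P c = w} × Fin 2 → {c : H ⧸ P.B // cellQ P c = w * σ P t} :=
    fun ci => ⟨(((Quotient.out ci.1.1 : H) * x ci.2 : H) : H ⧸ P.B), by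
      rw [cellQ_mk]
      exact cell_eq P (mul_mem_C P hlen (two_out_mem P w ci.1.1 ci.1.2) (hx ci.2))⟩
  have hf : Function.Injective f := by
    rintro ⟨c, i⟩ ⟨c', j⟩ h
    have h1 : (((Quotient.out c.1 : H) * x i : H) : H ⧸ P.B) =
        (((Quotient.out c'.1 : H) * x j : H) : H ⧸ P.B) := congrArg Subtype.val h
    rw [QuotientGroup.eq] at h1
    set g₁ : H := Quotient.out c.1 with hg₁
    set g₂ : H := Quotient.out c'.1 with hg₂
    set b : H := (g₁ * x i)⁻¹ * (g₂ * x j) with hb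
    have hcc : g₁⁻¹ * g₂ ∈ P.B := by
      refine hprev w t hlt (g₁ * x i) g₁ g₂ (two_out_mem P w c.1 c.2) (two_out_mem P w c'.1 c'.2) ?_ ?_
      · have : g₁⁻¹ * (g₁ * x i) = x i := by group
        rw [this]; exact hx i
      · have : g₂⁻¹ * (g₁ * x i) = x j * b⁻¹ := by rw [hb]; group
        rw [this]
        exact C_mul_B P (hx j) (P.B.inv_mem h1)
    have hceq : c = c' := by
      apply Subtype.ext
      have h2 : ((g₁ : H) : H ⧸ P.B) = ((g₂ : H) : H ⧸ P.B) := QuotientGroup.eq.2 hcc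
      rw [hg₁, hg₂, QuotientGroup.out_eq', QuotientGroup.out_eq'] at h2
      exact h2
    have hgg : g₂ = g₁ := by rw [hg₁, hg₂, hceq]
    have hij : i = j := by
      apply hx01
      have : (x i)⁻¹ * x j = b := by rw [hb, hgg]; group
      rw [this]; exact h1
    exact Prod.ext hceq hij
  have hle := Nat.card_le_card_of_injective f hf
  rw [Nat.card_prod, Nat.card_fin] at hle
  omega

end pure

end Cfsg.Agent.Helper13.SylO
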