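import Mathlib
import Cfsg.Prelude
import Cfsg.Agent.Lib.Helper13.SylODefs
import Cfsg.Agent.Lib.Helper11.SylOTWO

/-! # S4613 (uniform (B,N)-pair route) piece SYLO-TWO (helper11): exact-signature
`two_mul_card_cell_le`; self-contained (own copy `two_prev` of the statement of SYLO-PREV). -/

set_option autoImplicit false
set_option linter.unusedSectionVars false

namespace Cfsg.Agent.Helper13.SylO

open Cfsg Cfsg.Agent.Helper2.WordLen Cfsg.Agent.Helper2.BN Cfsg.Agent.Helper17.BNCox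

section pure
variable {H : Type*} [Group H] (P : Cfsg.BNPair H)

/-- the statement of SYLO-PREV (own proof, so that TWO does not wait) -/
theorem two_prev (w : W P) (t : P.S) (hlt : ℓ P w < ℓ P (w * σ P t)) (g g₁ g₂ : H)
    (h1 : g₁ ∈ C P w) (h2 : g₂ ∈ C P w) (h1' : g₁⁻¹ * g ∈ C P (σ P t))
    (h2' : g₂⁻¹ * g ∈ C P (σ P t)) : g₁⁻¹ * g₂ ∈ P.B := by
  -- `(g₂⁻¹ g)⁻¹ ∈ C (σ t)`
  have h3 : (g₂⁻¹ * g)⁻¹ ∈ C P (σ P t) := by
    have := C_inv P h2'
    rwa [σ_inv] at this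
  -- `g₁⁻¹ g = b t b'`
  have hσ : σ P t = π P ⟨t, P.subset t.2⟩ := rfl
  have h1'' := h1'
  rw [hσ, mem_C_iff] at h1''
  obtain ⟨b, hb, b', hb', hbb⟩ := h1''
  have hbb' : g₁⁻¹ * g = b * (t : H) * b' := hbb
  set y : H := b' * (g₂⁻¹ * g)⁻¹ with hy
  have hyC : y ∈ C P (σ P t) := B_mul_C P hb' h3
  have hx : g₁⁻¹ * g₂ = b * ((t : H) * y) := by
    have : g₁⁻¹ * g₂ = (g₁⁻¹ * g) * (g₂⁻¹ * g)⁻¹ := by group
    rw [this, hbb', hy]; group
  rcases L1 P t hyC with h | h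
  · -- `t y ∈ C 1 = B`
    rw [σ_mul_self, C_one] at h
    rw [hx]
    exact P.B.mul_mem hb h
  · -- `t y ∈ C (σ t)`: impossible
    exfalso
    have hxC : g₁⁻¹ * g₂ ∈ C P (σ P t) := by
      rw [hx]; exact B_mul_C P hb h
    have hlen : ℓ P (w * σ P t) = ℓ P w + ℓ P (σ P t) := by
      have e1 := ℓ_mul_gen_le P t w
      have e2 := ℓ_σ P t
      omega
    have h4 : g₁ * (g₁⁻¹ * g₂) ∈ C P (w * σ P t) := mul_mem_C P hlen h1 hxC
    have e : g₁ * (g₁⁻¹ * g₂) = g₂ := by group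
    rw [e] at h4
    have h5 : w = w * σ P t := C_inj P h2 h4
    apply σ_ne_one P t
    calc σ P t = w⁻¹ * (w * σ P t) := by group
      _ = w⁻¹ * w := by rw [← h5]
      _ = 1 := by group

/-- PIECE SYLO-TWO. -/
theorem two_mul_card_cell_le [Finite H] (w : W P) (t : P.S) (hlt : ℓ P w < ℓ P (w * σ P t)) :
    2 * Nat.card {c : H ⧸ P.B // cellQ P c = w} ≤
      Nat.card {c : H ⧸ P.B // cellQ P c = w * σ P t} :=
  two_core P (two_prev P) w t hlt

end pure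

end Cfsg.Agent.Helper13.SylO
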