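import Mathlib
import Cfsg.Agent.Lib.Helper11.TGBase
import Cfsg.Agent.Lib.Lead.TwD4Grp

/-!
# Two-generation of `³D₄(q)` (S2407): the data
-/

set_option autoImplicit false

namespace Cfsg.Agent.Helper11.TG

open Cfsg Cfsg.Lie Cfsg.Agent.Lead.Chev Cfsg.Agent.Lead.Tw Cfsg.Agent.Helper11.CG

/-- the twisted Coxeter word of `³D₄` -/
def wD4 : List ℕ := [1, 0, 2, 3]

/-- `h_{p₁}(a) h_{p₃}(f a) h_{p₄}(f (f a)) h_{p₂}(b)` -/
noncomputable def hD4 {K : Type*} [Field K] (f : K ≃+* K) (a b : K) : GL chevD4.Idx K :=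
  ((hGLt chevD4 (D4.hF (K := K)).xadd (chevD4.simple 0) a *
      hGLt chevD4 (D4.hF (K := K)).xadd (chevD4.simple 2) (f a)) *
      hGLt chevD4 (D4.hF (K := K)).xadd (chevD4.simple 3) (f (f a))) *
    hGLt chevD4 (D4.hF (K := K)).xadd (chevD4.simple 1) b

end Cfsg.Agent.Helper11.TG
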