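import Mathlib
import Cfsg.Agent.Lib.Helper11.TGBase
import Cfsg.Agent.Lib.Lead.TwE6Grp

/-!
# Two-generation of `²E₆(q)` (S2406): the data
-/

set_option autoImplicit false

namespace Cfsg.Agent.Helper11.TG

open Cfsg Cfsg.Lie Cfsg.Agent.Lead.Chev Cfsg.Agent.Lead.Tw Cfsg.Agent.Helper11.CG

/-- the twisted Coxeter word of `²E₆` -/
def wE6 : List ℕ := [1, 3, 2, 4, 0, 5]

/-- `h_{p₁}(k) h_{p₆}(f k) h_{p₃}(k) h_{p₅}(f k)` -/
noncomputable def hE6 {K : Type*} [Field K] (f : K ≃+* K) (k : K) : GL chevE6.Idx K :=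
  (hGLt chevE6 (E6.hF (K := K)).xadd (chevE6.simple 0) k *
      hGLt chevE6 (E6.hF (K := K)).xadd (chevE6.simple 5) (f k)) *
    (hGLt chevE6 (E6.hF (K := K)).xadd (chevE6.simple 2) k *
      hGLt chevE6 (E6.hF (K := K)).xadd (chevE6.simple 4) (f k))

/-- generators in a subgroup, seen in the subtype -/
theorem tg_closure_subtype_eq_top {G : Type*} [Group G] (G₁ : Subgroup G) (a b : G) (ha : a ∈ G₁)
    (hb : b ∈ G₁) (h : G₁ ≤ Subgroup.closure {a, b}) :
    Subgroup.closure ({⟨a, ha⟩, ⟨b, hb⟩} : Set ↥G₁) = ⊤ := by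
  rw [eq_top_iff]
  intro g _
  have hg : (g : G) ∈ Subgroup.closure {a, b} := h g.2
  have e : (Subgroup.closure ({⟨a, ha⟩, ⟨b, hb⟩} : Set ↥G₁)).map G₁.subtype =
      Subgroup.closure {a, b} := by
    rw [MonoidHom.map_closure]
    congr 1
    ext x
    simp only [Set.image_insert_eq, Set.image_singleton, Subgroup.coe_subtype]
  rw [← e] at hg
  obtain ⟨g', hg', hgg'⟩ := hg
  have e2 : g' = g := Subtype.ext hgg'
  rw [← e2]
  exact hg'

/-- a generator of `Kˣ` is not `1` when `K` has more than two elements -/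
theorem tg_gen_ne_one {K : Type*} [Field K] [Fintype K] (hc : 2 < Fintype.card K) (k : K)
    (hgen : ∀ v : K, v ≠ 0 → ∃ m : ℕ, v = k ^ m) : k ≠ 1 := by
  intro h1
  obtain ⟨v, hv0, hv1⟩ : ∃ v : K, v ≠ 0 ∧ v ≠ 1 := by
    by_contra hne
    have hne' : ∀ v : K, v ≠ 0 → v = 1 := by
      intro v hv
      by_contra h
      exact hne ⟨v, hv, h⟩
    have : Fintype.card K ≤ 2 := by
      classical
      calc Fintype.card K = (Finset.univ : Finset K).card := rfl
        _ ≤ ({0, 1} : Finset K).card := by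
          apply Finset.card_le_card
          intro x _
          by_cases hx : x = 0
          · simp [hx]
          · simp [hne' x hx]
        _ ≤ 2 := Finset.card_le_two
    omega
  obtain ⟨m, hm⟩ := hgen v hv0
  rw [h1, one_pow] at hm
  exact hv1 hm

end Cfsg.Agent.Helper11.TG
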