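import Mathlib
import Cfsg.Agent.Lib.Helper11.TGBase
import Cfsg.Agent.Lib.Helper11.TGDefsE6
import Cfsg.Agent.Lib.Lead.TwE6Grp
import Cfsg.Agent.Lib.Lead.TwClass

/-!
# S2406, PIECE E6COMM: the commutator of the class elements of `42` and `43` is
`x_44(a * f b + b * f a)`
-/

set_option autoImplicit false

namespace Cfsg.Agent.Helper11.TG

open Cfsg Cfsg.Lie Cfsg.Agent.Lead.Chev Cfsg.Agent.Lead.Tw Cfsg.Agent.Helper11.CG
open scoped commutatorElement

/-- two crossed pairs with central commutators -/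
theorem e6comm_group {G : Type*} [Group G] (a1 a2 b1 b2 z1 z2 : G)
    (h12 : b2 * a1 = a1 * b2 * z1) (h21 : b1 * a2 = a2 * b1 * z2)
    (h11 : Commute b1 a1) (h22 : Commute b2 a2)
    (hz1 : ∀ x ∈ [a1, a2, b1, b2], Commute z1 x)
    (hz2 : ∀ x ∈ [a1, a2, b1, b2], Commute z2 x) :
    ⁅a1 * a2, b1 * b2⁆ = (z2 * z1)⁻¹ := by
  have e12 : ∀ c, b2 * (a1 * c) = a1 * (b2 * (z1 * c)) := fun c => by
    rw [← mul_assoc, h12, mul_assoc, mul_assoc]
  have e21 : ∀ c, b1 * (a2 * c) = a2 * (b1 * (z2 * c)) := fun c => by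
    rw [← mul_assoc, h21, mul_assoc, mul_assoc]
  have key : ∀ x, b1 * (b2 * (a1 * (a2 * x))) = a1 * (a2 * (b1 * (b2 * (z2 * (z1 * x))))) := by
    intro x
    rw [e12, h11.left_comm, (hz1 a2 (by simp)).left_comm, h22.left_comm, e21,
      (hz2 b2 (by simp)).left_comm]
  have key' : (b1 * b2) * (a1 * a2) = (a1 * a2) * (b1 * b2) * (z2 * z1) := by
    have := key 1
    simp only [mul_assoc, mul_one] at this ⊢
    exact this
  have hZ : ∀ x ∈ [a1, a2, b1, b2], Commute (z2 * z1) x := fun x hx =>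
    (hz2 x hx).mul_left (hz1 x hx)
  have hZA : Commute (z2 * z1) (a1 * a2) :=
    (hZ a1 (by simp)).mul_right (hZ a2 (by simp))
  have hZB : Commute (z2 * z1) (b1 * b2) :=
    (hZ b1 (by simp)).mul_right (hZ b2 (by simp))
  have gen : ∀ A B Z : G, B * A = A * B * Z → Commute Z A → Commute Z B → ⁅A, B⁆ = Z⁻¹ := by
    intro A B Z h hA hB
    have hAB : Commute Z⁻¹ (A * B) := (hA.mul_right hB).inv_left
    have e : A * B = Z⁻¹ * (B * A) := by
      rw [h, ← mul_assoc Z⁻¹ (A * B) Z, hAB.eq, inv_mul_cancel_right]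
    rw [commutatorElement_def, e]
    group
  exact gen _ _ _ key' hZA hZB

section E6

variable {K : Type*} [Field K] (f : K ≃+* K)

/-- the class element of the class of `42` -/
theorem e6_yC42 (t : K) :
    yC E6.hF (E6.tw f) 2 (xGL chevE6 (E6.hF (K := K)).xadd 42 t) =
      xGL chevE6 (E6.hF (K := K)).xadd 42 t * xGL chevE6 (E6.hF (K := K)).xadd 37 (f t) := by
  have r42 : (E6.tw f).ρ 42 = 37 := by
    show Cfsg.Agent.Helper6.ChevC.GE6.gp.π 42 = 37
    decide +kernel
  have c42 : ∀ v : K, (E6.tw f).c 42 v = f v := by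
    intro v
    show ((Cfsg.Agent.Helper6.ChevC.GE6.gp.ε 42 : ℤ) : K) * f v = f v
    have : Cfsg.Agent.Helper6.ChevC.GE6.gp.ε 42 = 1 := by decide +kernel
    rw [this]
    simp
  rw [yC_two, (E6.tw f).map_x 42 (by decide +kernel), r42, c42]

/-- the class element of the class of `43` -/
theorem e6_yC43 (t : K) :
    yC E6.hF (E6.tw f) 2 (xGL chevE6 (E6.hF (K := K)).xadd 43 t) =
      xGL chevE6 (E6.hF (K := K)).xadd 43 t * xGL chevE6 (E6.hF (K := K)).xadd 40 (-(f t)) := by
  have r43 : (E6.tw f).ρ 43 = 40 := by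
    show Cfsg.Agent.Helper6.ChevC.GE6.gp.π 43 = 40
    decide +kernel
  have c43 : ∀ v : K, (E6.tw f).c 43 v = -(f v) := by
    intro v
    show ((Cfsg.Agent.Helper6.ChevC.GE6.gp.ε 43 : ℤ) : K) * f v = -(f v)
    have : Cfsg.Agent.Helper6.ChevC.GE6.gp.ε 43 = -1 := by decide +kernel
    rw [this]
    simp
  rw [yC_two, (E6.tw f).map_x 43 (by decide +kernel), r43, c43]

/-- the commutator relation in `GL` -/
theorem e6comm_rel (r s : ℕ) (hr : r < chevE6.nroots) (hs : s < chevE6.nroots) (h1 : s ≠ r)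
    (h2 : s ≠ chevE6.neg r) (t u : K) :
    xGL chevE6 (E6.hF (K := K)).xadd s u * xGL chevE6 (E6.hF (K := K)).xadd r t =
      xGL chevE6 (E6.hF (K := K)).xadd r t * xGL chevE6 (E6.hF (K := K)).xadd s u *
        wordGL chevE6 (E6.hF (K := K)).xadd (chevE6.commWord K r s t u) := by
  apply Units.ext
  rw [Units.val_mul, Units.val_mul, Units.val_mul, wordGL_val, xGL_val, xGL_val]
  exact (E6.hF (K := K)).comm r hr s hs h1 h2 t u

theorem e6comm_44 (r : ℕ) (hr : r ∈ [42, 37, 43, 40]) (t u : K) :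
    Commute (xGL chevE6 (E6.hF (K := K)).xadd 44 t) (xGL chevE6 (E6.hF (K := K)).xadd r u) := by
  simp only [List.mem_cons, List.not_mem_nil, or_false] at hr
  rcases hr with rfl | rfl | rfl | rfl
  · exact Cfsg.Agent.Lead.Tw.xGL_commute E6.hF 44 42 (by decide +kernel) (by decide +kernel)
      (by decide +kernel) _ _
  · exact Cfsg.Agent.Lead.Tw.xGL_commute E6.hF 44 37 (by decide +kernel) (by decide +kernel)
      (by decide +kernel) _ _
  · exact Cfsg.Agent.Lead.Tw.xGL_commute E6.hF 44 43 (by decide +kernel) (by decide +kernel)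
      (by decide +kernel) _ _
  · exact Cfsg.Agent.Lead.Tw.xGL_commute E6.hF 44 40 (by decide +kernel) (by decide +kernel)
      (by decide +kernel) _ _

theorem e6_comm [Fintype K] : ∃ e : K, (e = 1 ∨ e = -1) ∧ ∀ a b : K,
    ⁅yC E6.hF (E6.tw f) 2 (xGL chevE6 (E6.hF (K := K)).xadd 42 a),
      yC E6.hF (E6.tw f) 2 (xGL chevE6 (E6.hF (K := K)).xadd 43 b)⁆ =
      xGL chevE6 (E6.hF (K := K)).xadd 44 (e * (a * f b + b * f a)) := by
  refine ⟨1, Or.inl rfl, ?_⟩
  intro a b
  rw [e6_yC42, e6_yC43]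
  have t1 : chevE6.commTerms 42 40 = [(44, -1, 1, 1)] := by decide +kernel
  have t2 : chevE6.commTerms 37 43 = [(44, 1, 1, 1)] := by decide +kernel
  -- b2 = x_40(-(f b)), a1 = x_42(a)
  have h12 := e6comm_rel (K := K) 42 40 (by decide +kernel) (by decide +kernel) (by decide)
    (by decide +kernel) a (-(f b))
  -- b1 = x_43(b), a2 = x_37(f a)
  have h21 := e6comm_rel (K := K) 37 43 (by decide +kernel) (by decide +kernel) (by decide)
    (by decide +kernel) (f a) b
  have w1 : wordGL chevE6 (E6.hF (K := K)).xadd (chevE6.commWord K 42 40 a (-(f b))) =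
      xGL chevE6 (E6.hF (K := K)).xadd 44 (-(a * f b)) := by
    unfold ChevalleyDatum.commWord
    rw [t1, List.map_cons, List.map_nil, wordGL_cons, wordGL_nil, mul_one]
    congr 1
    simp
  have w2 : wordGL chevE6 (E6.hF (K := K)).xadd (chevE6.commWord K 37 43 (f a) b) =
      xGL chevE6 (E6.hF (K := K)).xadd 44 (-(b * f a)) := by
    unfold ChevalleyDatum.commWord
    rw [t2, List.map_cons, List.map_nil, wordGL_cons, wordGL_nil, mul_one]
    congr 1
    simp [mul_comm]
  rw [w1] at h12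
  rw [w2] at h21
  have hz : ∀ v : K, ∀ x ∈ [xGL chevE6 (E6.hF (K := K)).xadd 42 a,
      xGL chevE6 (E6.hF (K := K)).xadd 37 (f a), xGL chevE6 (E6.hF (K := K)).xadd 43 b,
      xGL chevE6 (E6.hF (K := K)).xadd 40 (-(f b))],
      Commute (xGL chevE6 (E6.hF (K := K)).xadd 44 v) x := by
    intro v x hx
    simp only [List.mem_cons, List.not_mem_nil, or_false] at hx
    rcases hx with rfl | rfl | rfl | rfl
    · exact e6comm_44 42 (by simp) _ _
    · exact e6comm_44 37 (by simp) _ _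
    · exact e6comm_44 43 (by simp) _ _
    · exact e6comm_44 40 (by simp) _ _
  rw [e6comm_group _ _ _ _ _ _ h12 h21
    (Cfsg.Agent.Lead.Tw.xGL_commute E6.hF 43 42 (by decide +kernel) (by decide +kernel)
      (by decide +kernel) _ _)
    (Cfsg.Agent.Lead.Tw.xGL_commute E6.hF 40 37 (by decide +kernel) (by decide +kernel)
      (by decide +kernel) _ _)
    (hz _) (hz _)]
  rw [xGL_mul, xGL_inv]
  congr 1
  ring

end E6

end Cfsg.Agent.Helper11.TG
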