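import Mathlib
import Cfsg.Agent.Lib.Helper11.TGBase
import Cfsg.Agent.Lib.Helper11.TGDefsE6
import Cfsg.Agent.Lib.Lead.TwE6Grp
import Cfsg.Agent.Lib.Lead.TwTorus
import Cfsg.Agent.Lib.Lead.TwFrob
import Cfsg.Agent.Lib.Helper6.RootCent
import Cfsg.Agent.Lib.Helper20.TGSTB
import Cfsg.Agent.Lib.Helper1.TGFF2
import Cfsg.Agent.Lib.Helper23.TGE6MEM
import Cfsg.Agent.Lib.Helper23.TGE6GEN
import Cfsg.Agent.Lib.Helper25.TGE6ACT
import Cfsg.Agent.Lib.Helper11.TGE6COMM

/-!
# S2406: `²E₆(q)` is generated by two elements — assembly (helper11)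

Pieces: `tw_steinberg` (helper20), `trace2_surj` (helper1), `e6_fixed … e6_y_mem`, `e6_gens` (helper23),
`e6_h_diag … e6_add56` (helper25), `e6_comm` (helper11).  See plans/TGSkel.lean.txt.
-/

set_option autoImplicit false

namespace Cfsg.Agent.Helper11.TG

open Cfsg Cfsg.Lie Cfsg.Agent.Lead.Chev Cfsg.Agent.Lead.Tw Cfsg.Agent.Helper11.CG
open scoped commutatorElement

section E6

variable {K : Type*} [Field K] [Fintype K] {q : ℕ} (hq : 1 < q) (hK : Fintype.card K = q ^ 2)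
  (f : K ≃+* K) (hf : ∀ t, f t = t ^ q)

/-! ### ASSEMBLY (helper11) -/

include hq hK hf in
/-- the commutator step -/
theorem e6_fullL44 (H : Subgroup (GL chevE6.Idx K))
    (h42 : FullS E6.hF (E6.tw f) 2 H 42) (h43 : FullS E6.hF (E6.tw f) 2 H 43) :
    FullL E6.hF (E6.tw f) H 44 := by
  intro v hv
  have h1 : (E6.tw f).σ (xGL chevE6 (E6.hF (K := K)).xadd 44 v) =
      xGL chevE6 (E6.hF (K := K)).xadd 44 (f v) := by
    rw [(E6.tw f).map_x 44 (by decide)]
    have e1 : (E6.tw f).ρ 44 = 44 := by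
      show Cfsg.Agent.Helper6.ChevC.GE6.gp.π 44 = 44
      decide +kernel
    have e2 : (E6.tw f).c 44 v = f v := by
      show ((Cfsg.Agent.Helper6.ChevC.GE6.gp.ε 44 : ℤ) : K) * f v = f v
      have : Cfsg.Agent.Helper6.ChevC.GE6.gp.ε 44 = 1 := by decide +kernel
      rw [this]
      simp
    rw [e1, e2]
  rw [h1] at hv
  have hpos : chevE6.IsPosRoot 44 := by decide +kernel
  have hfv : f v = v := Cfsg.Agent.Helper6.RootCent.xGL_pos_inj E6.hF 44 hpos _ _ hv
  rw [hf] at hfv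
  obtain ⟨e, he, hcomm⟩ := e6_comm (K := K) f
  have hee : e * e = 1 := by rcases he with rfl | rfl <;> simp
  have hev : (e * v) ^ q = e * v := by
    rw [mul_pow, hfv]
    rcases he with rfl | rfl
    · simp
    · have := hf (-1)
      rw [map_neg, map_one] at this
      rw [← this]
  obtain ⟨t, ht⟩ := trace2_surj hq hK (e * v) hev
  have h2 := hcomm t 1
  rw [map_one, mul_one, one_mul, hf t, ht, ← mul_assoc, hee, one_mul] at h2
  rw [← h2]
  rw [commutatorElement_def]
  exact H.mul_mem (H.mul_mem (H.mul_mem (h42 t) (h43 1)) (H.inv_mem (h42 t))) (H.inv_mem (h43 1))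

include hq hK hf in
theorem tw_e6_two_gen_aux :
    ∃ a b : ↥(twistedE6 K q), Subgroup.closure ({a, b} : Set ↥(twistedE6 K q)) = ⊤ := by
  obtain ⟨k, hk0, hgen, _⟩ := exists_gen (F := K)
  have hk1 : k ≠ 1 := tg_gen_ne_one (by rw [hK]; nlinarith) k hgen
  have hy := e6_y_mem hK f hf 1
  have hn := e6_n_mem hK f hf
  have hh := e6_h_mem hK f hf k hk0
  refine ⟨⟨hE6 f k, hh⟩, ⟨_, mul_mem hy hn⟩, ?_⟩
  apply tg_closure_subtype_eq_top
  set H := Subgroup.closure {hE6 f k, yC E6.hF (E6.tw f) 2 (xGL chevE6 (E6.hF (K := K)).xadd 56 1) *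
    nWordGL chevE6 (E6.hF (K := K)).xadd wE6} with hH
  have hhH : hE6 f k ∈ H := Subgroup.subset_closure (by simp)
  have hbH : yC E6.hF (E6.tw f) 2 (xGL chevE6 (E6.hF (K := K)).xadd 56 1) *
      nWordGL chevE6 (E6.hF (K := K)).xadd wE6 ∈ H := Subgroup.subset_closure (by simp)
  have hw : ∀ i ∈ wE6, i < chevE6.rank := by decide
  have hfixn := e6_fixed hK f hf _ hn
  have hfixh := e6_fixed hK f hf _ hh
  obtain ⟨hS56, hnH⟩ := tw_steinberg E6.hF (E6.tw f) 2 H wE6 hw hfixn (hE6 f k) (e6_h_diag f k hk0)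
    (e6_le_group hK f hf hh) hfixh 56 42 (by decide) (by decide) (by decide +kernel) k k hk0 hk1 hk0 hk1
    hgen (e6_h_act56 f k hk0) (e6_h_act42 f k hk0) (e6_add56 f) hhH hbH
  have hS : ∀ i, FullS E6.hF (E6.tw f) 2 H (iter chevE6 wE6 i 56) := fun i =>
    fullS_iter E6.hF (E6.tw f) 2 H wE6 hw hnH hfixn i 56 (by decide) hS56
  have h42 : FullS E6.hF (E6.tw f) 2 H 42 := by
    have := hS 11
    rwa [show iter chevE6 wE6 11 56 = 42 by decide +kernel] at this
  have h43 : FullS E6.hF (E6.tw f) 2 H 43 := by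
    have := hS 8
    rwa [show iter chevE6 wE6 8 56 = 43 by decide +kernel] at this
  have h35 : FullS E6.hF (E6.tw f) 2 H 35 := by
    have := hS 6
    rwa [show iter chevE6 wE6 6 56 = 35 by decide +kernel] at this
  have h34 : FullS E6.hF (E6.tw f) 2 H 34 := by
    have := hS 5
    rwa [show iter chevE6 wE6 5 56 = 34 by decide +kernel] at this
  have hL44 := e6_fullL44 hq hK f hf H h42 h43
  have hL : ∀ i, FullL E6.hF (E6.tw f) H (iter chevE6 wE6 i 44) := fun i =>
    fullL_iter E6.hF (E6.tw f) H wE6 hw hnH hfixn i 44 (by decide) hL44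
  have h46 : FullL E6.hF (E6.tw f) H 46 := by
    have := hL 8
    rwa [show iter chevE6 wE6 8 44 = 46 by decide +kernel] at this
  have h39 : FullL E6.hF (E6.tw f) H 39 := by
    have := hL 9
    rwa [show iter chevE6 wE6 9 44 = 39 by decide +kernel] at this
  have h25 : FullL E6.hF (E6.tw f) H 25 := by
    have := hL 2
    rwa [show iter chevE6 wE6 2 44 = 25 by decide +kernel] at this
  have h32 : FullL E6.hF (E6.tw f) H 32 := by
    have := hL 3
    rwa [show iter chevE6 wE6 3 44 = 32 by decide +kernel] at this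
  exact e6_gens hK f hf H hS56 h42 h35 h34 h46 h39 h25 h32

end E6

/-- **`²E₆(q)` is generated by two elements** -/
theorem tw_e6_two_gen {K : Type*} [Field K] [Fintype K] {q : ℕ} (hq : IsPrimePow q)
    (hK : Fintype.card K = q ^ 2) :
    ∃ a b : ↥(twistedE6 K q), Subgroup.closure ({a, b} : Set ↥(twistedE6 K q)) = ⊤ := by
  obtain ⟨f, hf⟩ := exists_frob hq hK
  exact tw_e6_two_gen_aux hq.one_lt hK f hf

end Cfsg.Agent.Helper11.TG
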