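import Mathlib
import Cfsg.Agent.Lib.Helper28.IsoFrames
import Cfsg.Agent.Lib.Helper11.UnitaryParabolic

set_option autoImplicit false

/-! Counting totally isotropic subspaces of a non-degenerate alternating form via frames. -/

namespace Cfsg.Agent.Helper11.TI

open Cfsg.Agent.Helper28.IsoFrames Cfsg.Agent.Helper11.Herm

section general

variable {F : Type*} [Field F] [Fintype F] {ι : Type*} [Fintype ι] [DecidableEq ι]
  (B : LinearMap.BilinForm F (ι → F))

/-- totally isotropic subspaces of dimension `k` -/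
def TIk (k : ℕ) : Type _ :=
  {W : Submodule F (ι → F) // Module.finrank F W = k ∧ ∀ u ∈ W, ∀ v ∈ W, B u v = 0}

instance instFiniteTIk (k : ℕ) : Finite (TIk B k) := by
  unfold TIk
  infer_instance

/-- the span of a frame -/
noncomputable def spanK (k : ℕ) (x : {x : Fin k → ι → F // IsFrame B k x}) : TIk B k :=
  ⟨Submodule.span F (Set.range x.1), by rw [finrank_span_eq_card x.2.1, Fintype.card_fin],
    isotropic_span x.2⟩

/-- frames spanning a given subspace are its ordered bases -/
def spanFiberEquiv (k : ℕ) (W : TIk B k) :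
    {x : {x : Fin k → ι → F // IsFrame B k x} // spanK B k x = W} ≃
      {y : Fin k → ι → F // LinearIndependent F y ∧ Submodule.span F (Set.range y) = W.1} where
  toFun x := ⟨x.1.1, x.1.2.1, congrArg Subtype.val x.2⟩
  invFun y := ⟨⟨y.1, y.2.1, fun i j => by
      obtain ⟨y, hy1, hy2⟩ := y
      have hi : y i ∈ Submodule.span F (Set.range y) := Submodule.subset_span ⟨i, rfl⟩
      have hj : y j ∈ Submodule.span F (Set.range y) := Submodule.subset_span ⟨j, rfl⟩
      rw [hy2] at hi hj
      exact W.2.2 _ hi _ hj⟩, Subtype.ext y.2.2⟩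
  left_inv x := rfl
  right_inv y := rfl

theorem card_frames_eq (k : ℕ) :
    Nat.card {x : Fin k → ι → F // IsFrame B k x} =
      Nat.card (TIk B k) * ∏ i : Fin k, (Fintype.card F ^ k - Fintype.card F ^ (i : ℕ)) := by
  classical
  have : Fintype (TIk B k) := Fintype.ofFinite _
  rw [Nat.card_congr (Equiv.sigmaFiberEquiv (spanK B k)).symm, Nat.card_sigma]
  have h1 : ∀ W : TIk B k, Nat.card {x : {x : Fin k → ι → F // IsFrame B k x} //
      spanK B k x = W} = ∏ i : Fin k, (Fintype.card F ^ k - Fintype.card F ^ (i : ℕ)) := by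
    intro W
    rw [Nat.card_congr (spanFiberEquiv B k W), card_bases W.1 W.2.1]
  rw [Finset.sum_congr rfl (fun W _ => h1 W), Finset.sum_const, smul_eq_mul, Finset.card_univ,
    Nat.card_eq_fintype_card (α := TIk B k)]

end general

section through

variable {F : Type*} [Field F] [Fintype F] {ι : Type*} [Fintype ι] [DecidableEq ι]
  (B : LinearMap.BilinForm F (ι → F))

/-- totally isotropic planes through a vector -/
def TIv (v : ι → F) : Type _ :=
  {W : Submodule F (ι → F) // Module.finrank F W = 2 ∧ v ∈ W ∧ ∀ u ∈ W, ∀ w ∈ W, B u w = 0}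

instance instFiniteTIv (v : ι → F) : Finite (TIv B v) := by
  unfold TIv
  infer_instance

/-- vectors orthogonal to `v` outside its span -/
def Fibv (v : ι → F) : Type _ := {w : ι → F // B v w = 0 ∧ w ∉ Submodule.span F {v}}

instance instFiniteFibv (v : ι → F) : Finite (Fibv B v) := by
  unfold Fibv
  infer_instance

variable {B}

theorem isFrame_pair (hA : B.IsAlt) (v : ι → F) (hv : v ≠ 0) (w : Fibv B v) :
    IsFrame B 2 ![v, w.1] := by
  have hLI : LinearIndependent F ![v, w.1] := by
    rw [LinearIndependent.pair_iff' hv]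
    intro a ha
    apply w.2.2
    rw [Submodule.mem_span_singleton]
    exact ⟨a, ha⟩
  refine ⟨hLI, ?_⟩
  have hwv : B w.1 v = 0 := by rw [← LinearMap.IsAlt.neg hA, w.2.1, neg_zero]
  intro i j
  fin_cases i <;> fin_cases j
  · exact hA v
  · exact w.2.1
  · exact hwv
  · exact hA w.1

/-- the plane spanned by `v` and a vector of the fibre -/
noncomputable def spanV (hA : B.IsAlt) (v : ι → F) (hv : v ≠ 0) (w : Fibv B v) : TIv B v :=
  ⟨Submodule.span F (Set.range ![v, w.1]), by
    rw [finrank_span_eq_card (isFrame_pair hA v hv w).1, Fintype.card_fin],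
    Submodule.subset_span ⟨0, rfl⟩, isotropic_span (isFrame_pair hA v hv w)⟩

/-- the fibre of `spanV` over a plane -/
noncomputable def spanVFiberEquiv (hA : B.IsAlt) (v : ι → F) (hv : v ≠ 0) (W : TIv B v) :
    {w : Fibv B v // spanV hA v hv w = W} ≃
      {w : ι → F // w ∈ W.1 ∧ w ∉ Submodule.span F {v}} where
  toFun w := ⟨w.1.1, by
    have h1 : Submodule.span F (Set.range ![v, w.1.1]) = W.1 := congrArg Subtype.val w.2
    rw [← h1]
    exact Submodule.subset_span ⟨1, rfl⟩, w.1.2.2⟩
  invFun w := ⟨⟨w.1, W.2.2.2 _ W.2.2.1 _ w.2.1, w.2.2⟩, by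
    apply Subtype.ext
    show Submodule.span F (Set.range ![v, w.1]) = W.1
    have hfr := isFrame_pair hA v hv ⟨w.1, W.2.2.2 _ W.2.2.1 _ w.2.1, w.2.2⟩
    apply Submodule.eq_of_le_of_finrank_eq
    · rw [Submodule.span_le]
      rintro _ ⟨i, rfl⟩
      fin_cases i
      · exact W.2.2.1
      · exact w.2.1
    · rw [finrank_span_eq_card hfr.1, Fintype.card_fin, W.2.1]⟩
  left_inv w := rfl
  right_inv w := rfl

theorem card_plane_sdiff (v : ι → F) (hv : v ≠ 0) (W : Submodule F (ι → F))
    (hW : Module.finrank F W = 2) (hvW : v ∈ W) :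
    Nat.card {w : ι → F // w ∈ W ∧ w ∉ Submodule.span F {v}} =
      Fintype.card F ^ 2 - Fintype.card F := by
  have hle : Submodule.span F {v} ≤ W := by
    rw [Submodule.span_le, Set.singleton_subset_iff]
    exact hvW
  have h1 : Nat.card {w : ι → F // w ∈ W ∧ w ∉ Submodule.span F {v}} =
      ((W : Set (ι → F)) \ (Submodule.span F {v} : Set (ι → F))).ncard := by
    rw [← Nat.card_coe_set_eq]
    rfl
  have h2 : ∀ U : Submodule F (ι → F), ((U : Submodule F (ι → F)) : Set (ι → F)).ncard
      = Fintype.card F ^ Module.finrank F U := by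
    intro U
    rw [← Nat.card_coe_set_eq]
    show Nat.card U = _
    rw [Module.natCard_eq_pow_finrank (K := F), Nat.card_eq_fintype_card]
  rw [h1, Set.ncard_sdiff (by exact_mod_cast hle) (Set.toFinite _), h2, h2, hW,
    finrank_span_singleton hv, pow_one]

theorem card_Fibv_eq (hA : B.IsAlt) (v : ι → F) (hv : v ≠ 0) :
    Nat.card (Fibv B v) = Nat.card (TIv B v) * (Fintype.card F ^ 2 - Fintype.card F) := by
  classical
  have : Fintype (TIv B v) := Fintype.ofFinite _
  rw [Nat.card_congr (Equiv.sigmaFiberEquiv (spanV hA v hv)).symm, Nat.card_sigma]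
  have h1 : ∀ W : TIv B v, Nat.card {w : Fibv B v // spanV hA v hv w = W} =
      Fintype.card F ^ 2 - Fintype.card F := by
    intro W
    rw [Nat.card_congr (spanVFiberEquiv hA v hv W), card_plane_sdiff v hv W.1 W.2.1 W.2.2.1]
  rw [Finset.sum_congr rfl (fun W _ => h1 W), Finset.sum_const, smul_eq_mul, Finset.card_univ,
    Nat.card_eq_fintype_card (α := TIv B v)]

theorem card_Fibv (hA : B.IsAlt) (hB : B.Nondegenerate) (v : ι → F) (hv : v ≠ 0) :
    Nat.card (Fibv B v) = Fintype.card F ^ (Fintype.card ι - 1) - Fintype.card F := by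
  have hs : IsFrame B 1 (fun _ : Fin 1 => v) :=
    ⟨LinearIndependent.of_subsingleton (0 : Fin 1) hv, fun _ _ => hA v⟩
  have h := card_fibre hA hB hs
  rw [Module.finrank_fintype_fun_eq_card, pow_one] at h
  rw [← h]
  apply Nat.card_congr
  unfold Fibv
  apply Equiv.subtypeEquivRight
  intro w
  have hr : Set.range (fun _ : Fin 1 => v) = {v} := by
    ext z
    simp [eq_comm]
  rw [hr]
  constructor
  · rintro ⟨h1, h3⟩
    exact ⟨fun _ => h1, h3⟩
  · rintro ⟨h1, h3⟩
    exact ⟨h1 0, h3⟩

end through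

end Cfsg.Agent.Helper11.TI
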