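import Mathlib
import Cfsg.Agent.Lib.Helper8.TIG5Defs

/-!
# S1786 Part G, step G5, piece TI-G5-2A: `[PA, V] ≤ E`.
-/

set_option autoImplicit false

namespace Cfsg.Agent.Helper26.TI

variable {G : Type*} [Group G] {V A P PA U : Subgroup G}

/-- TI-G5-2A.  `[PA, V] ≤ E`. -/
theorem g5_comm_mem_E (h : G5Data V A P PA U) (hnt : NoTwist V A PA) :
    ∀ y ∈ PA, ∀ v ∈ V, cm y v ∈ g5E V PA := by
  intro y hy v hv
  -- `c = cm y v ∈ PA`
  have hcPA : cm y v ∈ PA := by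
    have h1 : v * y⁻¹ * v⁻¹ ∈ PA :=
      h.norm_PA v (fun a ha => h.VA_comm v hv a ha) y⁻¹ (PA.inv_mem hy)
    have h2 : cm y v = y * (v * y⁻¹ * v⁻¹) := by unfold cm; group
    rw [h2]
    exact PA.mul_mem hy h1
  by_cases hv1 : v = 1
  · subst hv1
    have : cm y 1 = 1 := by unfold cm; group
    rw [this]
    exact (g5E V PA).one_mem
  · have hvv : v * v = 1 := h.V_sq v hv
    have hvinv : v⁻¹ = v := inv_eq_of_mul_eq_one_right hvv
    have e1 : v * (cm y v)⁻¹ * v⁻¹ = cm y v := by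
      unfold cm
      calc v * (y * v * y⁻¹ * v⁻¹)⁻¹ * v⁻¹ = (v * v) * y * v⁻¹ * y⁻¹ * v⁻¹ := by group
        _ = y * v⁻¹ * y⁻¹ * v⁻¹ := by rw [hvv, one_mul]
        _ = y * v * y⁻¹ * v⁻¹ := by rw [show y * v⁻¹ = y * v from by rw [hvinv]]
    have key : cm (cm y v) v = cm y v * cm y v := by
      have : cm (cm y v) v = cm y v * (v * (cm y v)⁻¹ * v⁻¹) := by
        unfold cm; group
      rw [this, e1]
    have hA : cm (cm y v) v ∈ A := by
      rw [key]
      exact h.sq_PA _ hcPA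
    have h1 : cm (cm y v) v = 1 := hnt _ hcPA v hv hA
    have hcomm : cm y v * v = v * cm y v := by
      have h2 : cm y v * v * (cm y v)⁻¹ * v⁻¹ = 1 := h1
      calc cm y v * v = (cm y v * v * (cm y v)⁻¹ * v⁻¹) * (v * cm y v) := by group
        _ = v * cm y v := by rw [h2, one_mul]
    have hall := h.g4 _ hcPA v hv hv1 hcomm
    rw [mem_g5E]
    exact ⟨hcPA, fun v' hv' => (hall v' hv').symm⟩

end Cfsg.Agent.Helper26.TI
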