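import Mathlib
import Cfsg.Prelude.Def_Local
import Cfsg.Prelude.Def_Transfer
import Cfsg.Agent.Lib.Helper26.TIDefs2

/-!
# S1786 piece TI-Q (core): `Q = P`, with the transitivity statement (TI-TORUS) as a hypothesis.
-/

set_option autoImplicit false
set_option linter.style.haveILetI false

namespace Cfsg.Agent.Helper26.TI

variable {G : Type*} [Group G]

/-- `Q = O_2(N_G(V))` as a subgroup of `G` (same term as the skeleton's `Qs`). -/
abbrev ti_q_Qs (V : Subgroup G) : Subgroup G :=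
  (Cfsg.pCore 2 ↥(Subgroup.normalizer (V : Set G))).map (Subgroup.normalizer (V : Set G)).subtype

/-- `P = C_Q(V)` (same term as the skeleton's `Ps`). -/
abbrev ti_q_Ps (V : Subgroup G) : Subgroup G := ti_q_Qs V ⊓ Subgroup.centralizer (V : Set G)

theorem ti_q_Qs_le (V : Subgroup G) : ti_q_Qs V ≤ Subgroup.normalizer (V : Set G) :=
  Subgroup.map_subtype_le _

theorem ti_q_Qs_isPGroup (V : Subgroup G) : IsPGroup 2 ↥(ti_q_Qs V) := by
  have h : IsPGroup 2 ↥(Cfsg.pCore 2 ↥(Subgroup.normalizer (V : Set G))) :=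
    Sylow.sSup_of_normal _ (fun _ h => h.2) (fun _ h => h.1)
  exact h.map _

theorem ti_q_Qs_conj (V : Subgroup G) {m q : G} (hm : m ∈ Subgroup.normalizer (V : Set G))
    (hq : q ∈ ti_q_Qs V) : m * q * m⁻¹ ∈ ti_q_Qs V := by
  have hn : (Cfsg.pCore 2 ↥(Subgroup.normalizer (V : Set G))).Normal :=
    Subgroup.sSup_normal _ (fun _ h => h.1)
  obtain ⟨q0, hq0, rfl⟩ := hq
  refine ⟨⟨m, hm⟩ * q0 * ⟨m, hm⟩⁻¹, hn.conj_mem q0 hq0 ⟨m, hm⟩, ?_⟩
  simp

/-- the conjugation action of a subgroup of the normalizer of `V` on `V` -/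
@[reducible] def ti_q_act (V Q' : Subgroup G) (hQN : Q' ≤ Subgroup.normalizer (V : Set G)) :
    MulAction ↥Q' ↥V where
  smul q v := ⟨(q : G) * (v : G) * (q : G)⁻¹,
    (Subgroup.mem_normalizer_iff.mp (hQN q.2) (v : G)).mp v.2⟩
  one_smul v := by
    apply Subtype.ext
    show ((1 : ↥Q') : G) * (v : G) * ((1 : ↥Q') : G)⁻¹ = (v : G)
    simp
  mul_smul q q' v := by
    apply Subtype.ext
    show ((q * q' : ↥Q') : G) * (v : G) * ((q * q' : ↥Q') : G)⁻¹ =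
      (q : G) * ((q' : G) * (v : G) * (q' : G)⁻¹) * (q : G)⁻¹
    simp [mul_assoc]

/-- a 2-group normalizing the nontrivial elementary abelian 2-group `V` centralizes some `1 ≠ z ∈ V` -/
theorem ti_q_exists_fixed [Finite G] (V Q' : Subgroup G) (hV : Cfsg.IsElementaryAbelian 2 V)
    (hVne : V ≠ ⊥) (hQN : Q' ≤ Subgroup.normalizer (V : Set G)) (hQ : IsPGroup 2 ↥Q') :
    ∃ z ∈ V, z ≠ 1 ∧ ∀ q ∈ Q', q * z = z * q := by
  haveI : Fact (Nat.Prime 2) := ⟨Nat.prime_two⟩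
  letI := ti_q_act V Q' hQN
  have hVp : IsPGroup 2 ↥V := by
    intro v
    refine ⟨1, ?_⟩
    apply Subtype.ext
    have := hV.2 (v : G) v.2
    simpa using this
  have hdvd : 2 ∣ Nat.card ↥V := by
    rcases hVp.card_eq_or_dvd with h1 | h2
    · exact absurd (Subgroup.eq_bot_of_card_eq V h1) hVne
    · exact h2
  have hfix1 : (1 : ↥V) ∈ MulAction.fixedPoints ↥Q' ↥V := by
    intro q
    apply Subtype.ext
    show (q : G) * ((1 : ↥V) : G) * (q : G)⁻¹ = ((1 : ↥V) : G)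
    simp
  obtain ⟨b, hb, hb1⟩ := hQ.exists_fixed_point_of_prime_dvd_card_of_fixed_point ↥V hdvd hfix1
  refine ⟨(b : G), b.2, ?_, ?_⟩
  · intro h
    apply hb1
    apply Subtype.ext
    rw [h]; rfl
  · intro q hq
    have := hb ⟨q, hq⟩
    have h2 : q * (b : G) * q⁻¹ = (b : G) := congrArg Subtype.val this
    calc q * (b : G) = (q * (b : G) * q⁻¹) * q := by group
      _ = (b : G) * q := by rw [h2]

/-- TI-Q, core form. -/
theorem ti_q_core [Finite G] (V : Subgroup G) (hV : Cfsg.IsElementaryAbelian 2 V) (hVne : V ≠ ⊥)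
    (htrans : ∀ v ∈ V, v ≠ 1 → ∀ v' ∈ V, v' ≠ 1 → ∃ t : G, cj t V = V ∧ t * v * t⁻¹ = v') :
    ti_q_Ps V = ti_q_Qs V := by
  obtain ⟨z, hzV, hz1, hz⟩ :=
    ti_q_exists_fixed V (ti_q_Qs V) hV hVne (ti_q_Qs_le V) (ti_q_Qs_isPGroup V)
  apply inf_eq_left.mpr
  intro q hq
  rw [Subgroup.mem_centralizer_iff]
  intro v' hv'
  by_cases hv'1 : v' = 1
  · rw [hv'1, one_mul, mul_one]
  · obtain ⟨t, htV, htz⟩ := htrans z hzV hz1 v' hv' hv'1
    have htN : t ∈ Subgroup.normalizer (V : Set G) :=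
      Subgroup.mem_normalizer_iff_map_conj_eq.mpr htV
    have htN' : t⁻¹ ∈ Subgroup.normalizer (V : Set G) := Subgroup.inv_mem _ htN
    have hq' : t⁻¹ * q * t⁻¹⁻¹ ∈ ti_q_Qs V := ti_q_Qs_conj V htN' hq
    have hc := hz _ hq'
    rw [← htz]
    calc t * z * t⁻¹ * q = t * (z * (t⁻¹ * q * t⁻¹⁻¹)) * t⁻¹ := by group
      _ = t * ((t⁻¹ * q * t⁻¹⁻¹) * z) * t⁻¹ := by rw [hc]
      _ = q * (t * z * t⁻¹) := by group

end Cfsg.Agent.Helper26.TI
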