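import Mathlib
import Cfsg.Agent.Lib.Helper26.TIDefs3
import Cfsg.Agent.Lib.Helper2.TITORUS
import Cfsg.Agent.Lib.Helper11.TIQCore

/-!
# S1786 piece TI-Q (G8): `Q = P` (exact skeleton name and signature).
-/

set_option autoImplicit false

namespace Cfsg.Agent.Helper26.TI

variable {G : Type*} [Group G]

section QP
variable {A PA U U' : Subgroup G}

/-- TI-Q: `Q = P` (`Q` centralizes `V`): `C_V(Q) ≠ 1` is invariant under `N_H(V)`, which is transitive on `V#`. -/
theorem Q_eq_P [Finite G] (V : Subgroup G) (hV : Cfsg.IsElementaryAbelian 2 V)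
    (h : Cfg8 V (Ps V) A PA U U') : Ps V = Qs V := by
  have hVne : V ≠ ⊥ := by
    intro hbot
    obtain ⟨g, hA, -⟩ := h.left.conj
    apply h.left.ne
    rw [hA, hbot, cj_bot]
  exact ti_q_core V hV hVne (fun v hv hv1 v' hv' hv'1 => by
    obtain ⟨t, -, ht1, ht2⟩ := h.trans hv hv1 hv' hv'1
    exact ⟨t, ht1, ht2⟩)
end QP

end Cfsg.Agent.Helper26.TI
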