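import Mathlib
import Cfsg.Agent.Lib.Helper17.TSLDefs

/-! # S3366 piece GELT (helper11): an element of order 3 outside `R` commuting with `t`. -/

set_option autoImplicit false

namespace Cfsg.Agent.Helper17.TSL

section nofin
variable {X : Type*} [Group X] (S : Setup X)

/-- the centraliser in `R` of an element -/
def gelt_CR (a : X) : Subgroup X := Subgroup.centralizer {a} ⊓ S.R

theorem gelt_mem_CR (a r : X) : r ∈ gelt_CR S a ↔ a * r = r * a ∧ r ∈ S.R := by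
  unfold gelt_CR
  rw [Subgroup.mem_inf, Subgroup.mem_centralizer_iff]
  constructor
  · rintro ⟨h, h2⟩
    exact ⟨h a rfl, h2⟩
  · rintro ⟨h, h2⟩
    exact ⟨fun b hb => by rw [Set.mem_singleton_iff.1 hb]; exact h, h2⟩

end nofin

variable {X : Type*} [Group X] [Finite X] (S : Setup X)

/-- a subgroup of `R` of order at least 9 inside the centraliser of a non-central element is that
centraliser -/
theorem gelt_CR_eq (a : X) (haR : a ∈ S.R) (haZ : a ∉ S.Z) (D : Subgroup X) (hD : D ≤ gelt_CR S a)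
    (hcard : Nat.card D = 9) : D = gelt_CR S a := by
  have hle : gelt_CR S a ≤ S.R := inf_le_right
  have hne : gelt_CR S a ≠ S.R := by
    intro h
    apply haZ
    rw [S.mem_Z]
    refine ⟨haR, fun r hr => ?_⟩
    have : r ∈ gelt_CR S a := by rw [h]; exact hr
    exact ((gelt_mem_CR S a r).1 this).1.symm
  have hdvd : Nat.card (gelt_CR S a) ∣ 27 := by
    rw [← S.card_R]; exact Subgroup.card_dvd_of_le hle
  have hge : 9 ≤ Nat.card (gelt_CR S a) := by
    rw [← hcard]; exact Subgroup.card_le_of_le hD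
  have hlt : Nat.card (gelt_CR S a) ≠ 27 := by
    intro h
    apply hne
    exact Subgroup.eq_of_le_of_card_ge hle (by rw [h, S.card_R])
  have h9 : Nat.card (gelt_CR S a) = 9 := by
    have hle27 : Nat.card (gelt_CR S a) ≤ 27 := Nat.le_of_dvd (by norm_num) hdvd
    interval_cases h : Nat.card (gelt_CR S a) <;> simp_all
  exact Subgroup.eq_of_le_of_card_ge hD (by rw [h9, hcard])

/-- `card (E ⊓ R) = 9` for an abelian subgroup `E` of order 27 not inside `R` -/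
theorem gelt_card_inf (E : Subgroup X) (hEcard : Nat.card E = 27) (u : X) (hu : u ∈ E)
    (huR : u ∉ S.R) : Nat.card (E ⊓ S.R : Subgroup X) = 9 := by
  classical
  let f : E →* SL23 := S.π.comp E.subtype
  have hmemR : ∀ x : X, x ∈ S.R ↔ S.π x = 1 := fun x => by
    rw [← S.ker, MonoidHom.mem_ker]
  have hker : Nat.card f.ker = Nat.card (E ⊓ S.R : Subgroup X) := by
    refine Nat.card_congr ⟨fun x => ⟨x.1.1, x.1.2, (hmemR _).2 (MonoidHom.mem_ker.1 x.2)⟩,
      fun y => ⟨⟨y.1, y.2.1⟩, MonoidHom.mem_ker.2 ((hmemR _).1 y.2.2)⟩, ?_, ?_⟩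
    · intro x; rfl
    · intro y; rfl
  have h1 : Nat.card f.ker * Nat.card f.range = 27 := by
    rw [← Subgroup.index_ker, Subgroup.card_mul_index, hEcard]
  have h2 : Nat.card f.range ∣ 24 := by
    have := Subgroup.card_subgroup_dvd_card f.range
    rwa [Nat.card_eq_fintype_card (α := SL23), card_SL23] at this
  have h3 : Nat.card f.range ∣ 27 := Dvd.intro_left _ h1
  have h4 : Nat.card f.range ∣ 3 := by
    have := Nat.dvd_gcd h2 h3
    simpa using this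
  have h5 : Nat.card f.range ≠ 1 := by
    intro h
    apply huR
    have hbot : f.range = ⊥ := Subgroup.card_eq_one.1 h
    have : f ⟨u, hu⟩ ∈ f.range := ⟨_, rfl⟩
    rw [hbot, Subgroup.mem_bot] at this
    exact (hmemR u).2 this
  have h6 : Nat.card f.range = 3 := by
    have := (Nat.dvd_prime Nat.prime_three).1 h4
    tauto
  rw [h6] at h1
  rw [← hker]
  omega

/-- core of GELT: FRAT and LIFT as hypotheses -/
theorem gelt_core (t : X)
    (hfrat : ∀ g : X, ∃ r ∈ S.R, (r⁻¹ * g) * t = t * (r⁻¹ * g))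
    (hlift : ∀ r : X, r ∈ S.R → ∃! i : X, (i ∈ S.R ∧ t * i * t⁻¹ = i⁻¹) ∧ i⁻¹ * r ∈ S.Z) :
    ∃ g : X, g ^ 3 = 1 ∧ g ∉ S.R ∧ g * t = t * g := by
  classical
  obtain ⟨E, hEc, hE3, hEcard⟩ := S.hE
  -- (a) an element of `E` outside `R`
  have hu : ∃ u ∈ E, u ∉ S.R := by
    by_contra hcon
    push Not at hcon
    have hle : E ≤ S.R := hcon
    have hER : E = S.R := Subgroup.eq_of_le_of_card_ge hle (by rw [S.card_R, hEcard])
    have hZR : S.R ≤ S.Z := by
      intro w hw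
      rw [S.mem_Z]
      refine ⟨hw, fun r hr => ?_⟩
      rw [← hER] at hw hr
      exact hEc r hr w hw
    have := Subgroup.card_le_of_le hZR
    rw [S.card_R, S.card_Z] at this
    omega
  obtain ⟨u, huE, huR⟩ := hu
  -- (b)
  have h9 : Nat.card (E ⊓ S.R : Subgroup X) = 9 := gelt_card_inf S E hEcard u huE huR
  -- (c) an element of `E ⊓ R` outside `Z`
  have hr0 : ∃ r0 ∈ (E ⊓ S.R : Subgroup X), r0 ∉ S.Z := by
    by_contra hcon
    push Not at hcon
    have hle : (E ⊓ S.R : Subgroup X) ≤ S.Z := hcon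
    have := Subgroup.card_le_of_le hle
    rw [h9, S.card_Z] at this
    omega
  obtain ⟨r0, hr0ER, hr0Z⟩ := hr0
  have hcomm_le : ∀ a ∈ E, (E ⊓ S.R : Subgroup X) ≤ gelt_CR S a := by
    intro a ha r hr
    rw [gelt_mem_CR]
    exact ⟨hEc a ha r hr.1, hr.2⟩
  have hCR0 : (E ⊓ S.R : Subgroup X) = gelt_CR S r0 :=
    gelt_CR_eq S r0 hr0ER.2 hr0Z _ (hcomm_le r0 hr0ER.1) h9
  have hZE : S.Z ≤ E := by
    intro w hw
    have hw' := (S.mem_Z w).1 hw
    have : w ∈ gelt_CR S r0 := by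
      rw [gelt_mem_CR]
      exact ⟨hw'.2 r0 hr0ER.2, hw'.1⟩
    rw [← hCR0] at this
    exact this.1
  -- (d) the inverted part `a` of `r0`
  obtain ⟨a, ⟨⟨haR, hat⟩, haw⟩, hauniq⟩ := hlift r0 hr0ER.2
  have haE : a ∈ E := by
    have h1 : a⁻¹ * r0 ∈ E := hZE haw
    have h2 : a = r0 * (a⁻¹ * r0)⁻¹ := by group
    rw [h2]
    exact E.mul_mem hr0ER.1 (E.inv_mem h1)
  have haZ : a ∉ S.Z := by
    intro h
    apply hr0Z
    have : r0 = a * (a⁻¹ * r0) := by group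
    rw [this]
    exact S.Z.mul_mem h haw
  have hCRa : (E ⊓ S.R : Subgroup X) = gelt_CR S a :=
    gelt_CR_eq S a haR haZ _ (hcomm_le a haE) h9
  -- uniqueness for the element `a` itself
  obtain ⟨i0, _, hi0uniq⟩ := hlift a haR
  -- (e)
  obtain ⟨r, hrR, hrt⟩ := hfrat u
  have hrinvR : r⁻¹ ∈ S.R := S.R.inv_mem hrR
  set g := r⁻¹ * u with hg
  have hconj : g * a * g⁻¹ = r⁻¹ * a * r := by
    have hua : u * a = a * u := hEc u huE a haE
    have : g * a * g⁻¹ = r⁻¹ * (u * a) * u⁻¹ * r := by rw [hg]; group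
    rw [this, hua]; group
  have hb_R : r⁻¹ * a * r ∈ S.R := S.R.mul_mem (S.R.mul_mem hrinvR haR) hrR
  have hb_t : t * (r⁻¹ * a * r) * t⁻¹ = (r⁻¹ * a * r)⁻¹ := by
    rw [← hconj]
    have h1 : t * g = g * t := hrt.symm
    have h2 : t * (g * a * g⁻¹) * t⁻¹ = g * (t * a * t⁻¹) * g⁻¹ := by
      have h3 : t * g * a * g⁻¹ * t⁻¹ = g * t * a * g⁻¹ * t⁻¹ := by rw [h1]
      have h4 : g⁻¹ * t⁻¹ = t⁻¹ * g⁻¹ := by
        rw [← mul_inv_rev, ← mul_inv_rev, h1]
      calc t * (g * a * g⁻¹) * t⁻¹ = t * g * a * (g⁻¹ * t⁻¹) := by group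
        _ = g * t * a * (t⁻¹ * g⁻¹) := by rw [h1, h4]
        _ = g * (t * a * t⁻¹) * g⁻¹ := by group
    rw [h2, hat]; group
  have hb_Z : (r⁻¹ * a * r)⁻¹ * a ∈ S.Z := by
    have := S.comm_mem r⁻¹ hrinvR a⁻¹ (S.R.inv_mem haR)
    have h2 : (r⁻¹ * a * r)⁻¹ * a = r⁻¹ * a⁻¹ * r⁻¹⁻¹ * a⁻¹⁻¹ := by group
    rw [h2]; exact this
  have h_a_self : (a ∈ S.R ∧ t * a * t⁻¹ = a⁻¹) ∧ a⁻¹ * a ∈ S.Z := by
    refine ⟨⟨haR, hat⟩, ?_⟩
    rw [inv_mul_cancel]; exact S.Z.one_mem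
  have heq : r⁻¹ * a * r = a := by
    rw [hi0uniq _ ⟨⟨hb_R, hb_t⟩, hb_Z⟩, hi0uniq _ h_a_self]
  have hrCR : r ∈ gelt_CR S a := by
    rw [gelt_mem_CR]
    refine ⟨?_, hrR⟩
    calc a * r = r * (r⁻¹ * a * r) := by group
      _ = r * a := by rw [heq]
  have hrE : r ∈ E := by
    rw [← hCRa] at hrCR
    exact hrCR.1
  have hgE : g ∈ E := E.mul_mem (E.inv_mem hrE) huE
  refine ⟨g, hE3 g hgE, ?_, hrt⟩
  intro hgR
  apply huR
  have : u = r * g := by rw [hg]; group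
  rw [this]
  exact S.R.mul_mem hrR hgR

end Cfsg.Agent.Helper17.TSL
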