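import Mathlib
import Cfsg.Agent.Lib.Helper11.TSLGELT
import Cfsg.Agent.Lib.Helper6.TSLFRAT
import Cfsg.Agent.Lib.Helper6.TSLDECOMP
import Cfsg.Agent.Lib.Helper2.TSLZCENT
import Cfsg.Agent.Lib.Helper2.TSLLIFTCore
import Cfsg.Agent.Lib.Helper24.TSLCENTCore

/-! # S3366 piece GELT (helper11): exact-signature wrapper `exists_gelt`. -/

set_option autoImplicit false

namespace Cfsg.Agent.Helper17.TSL

variable {X : Type*} [Group X] [Finite X] (S : Setup X)

/-- CENT, instantiated from the cores (ZCENT, FRAT, DECOMP) -/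
theorem gelt_cent (t : X) (ht : t * t = 1) (hπ : S.π t = negOne) :
    ∀ r ∈ S.R, t * r = r * t → r ∈ S.Z :=
  fun r hr hc => cent_t_core S (Z_central S) t ht hπ (frattini S t ht hπ) (decomp S t ht) r hr hc

/-! ## piece GELT (uses FRAT, LIFT) -/

theorem exists_gelt (t : X) (ht : t * t = 1) (hπ : S.π t = negOne) :
    ∃ g : X, g ^ 3 = 1 ∧ g ∉ S.R ∧ g * t = t * g :=
  gelt_core S t (frattini S t ht hπ)
    (fun r hr => lift_unique_core S t (gelt_cent S t ht hπ) r (decomp S t ht r hr))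

end Cfsg.Agent.Helper17.TSL
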