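import Mathlib
import Cfsg.Agent.Lib.Helper17.TSLDefs

/-! # S3366 piece K (helper11): a complement `K` of `R` inside `C_X(t)`. -/

set_option autoImplicit false

namespace Cfsg.Agent.Helper17.TSL

theorem k_pow8 : ∀ q : SL23, q ^ 8 = 1 → q ^ 4 = 1 := by decide

theorem k_fact648 : (648).factorization 2 = 3 := by
  have h : 648 = 2 ^ 3 * 81 := by norm_num
  rw [h, Nat.factorization_mul (by norm_num) (by norm_num), Nat.Prime.factorization_pow Nat.prime_two]
  have h81 : (81).factorization 2 = 0 := Nat.factorization_eq_zero_of_not_dvd (by norm_num)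
  simp [h81]

variable {X : Type*} [Group X] [Finite X] (S : Setup X)

theorem k_memR (x : X) : x ∈ S.R ↔ S.π x = 1 := by
  rw [← S.ker, MonoidHom.mem_ker]

theorem k_cardX (S : Setup X) : Nat.card X = 648 := by
  have h := Subgroup.card_mul_index S.π.ker
  rw [Subgroup.index_ker, S.ker, S.card_R] at h
  have h2 : Nat.card S.π.range = 24 := by
    rw [MonoidHom.range_eq_top.2 S.surj, Subgroup.card_top, Nat.card_eq_fintype_card, card_SL23]
  rw [h2] at h
  omega

/-- core of K: GELT, ZCENT, CENT as hypotheses -/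
theorem k_core (t : X) (ht : t * t = 1) (hπ : S.π t = negOne)
    (hgelt : ∃ g : X, g ^ 3 = 1 ∧ g ∉ S.R ∧ g * t = t * g)
    (hZc : ∀ g w : X, w ∈ S.Z → g * w = w * g)
    (hcent : ∀ r : X, r ∈ S.R → t * r = r * t → r ∈ S.Z) :
    ∃ K : Subgroup X, (∀ k ∈ K, k * t = t * k) ∧ K ⊓ S.R = ⊥ ∧ Nat.card K = 24 ∧ t ∈ K := by
  classical
  have : Fact (Nat.Prime 2) := ⟨Nat.prime_two⟩
  -- a Sylow 2-subgroup containing `t`
  have htp : IsPGroup 2 (Subgroup.zpowers t) := by
    intro x
    refine ⟨1, ?_⟩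
    obtain ⟨x, hx⟩ := x
    obtain ⟨k, rfl⟩ := Subgroup.mem_zpowers_iff.1 hx
    apply Subtype.ext
    simp only [pow_one, Subgroup.coe_pow, Subgroup.coe_one]
    rw [← zpow_natCast, ← zpow_mul, mul_comm, zpow_mul, zpow_natCast]
    have : t ^ 2 = 1 := by rw [pow_two]; exact ht
    rw [this, one_zpow]
  obtain ⟨P, hP⟩ := htp.exists_le_sylow
  have htP : t ∈ (P : Subgroup X) := hP (Subgroup.mem_zpowers t)
  have hPcard : Nat.card (P : Subgroup X) = 8 := by
    rw [P.card_eq_multiplicity, k_cardX S, k_fact648]; norm_num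
  have hP8 : ∀ p ∈ (P : Subgroup X), p ^ 8 = 1 := by
    intro p hp
    have := pow_card_eq_one' (G := (P : Subgroup X)) (x := ⟨p, hp⟩)
    rw [hPcard] at this
    exact congrArg Subtype.val this
  have hPR : ∀ p ∈ (P : Subgroup X), p ∈ S.R → p = 1 := by
    intro p hp hpR
    have h8 := hP8 p hp
    have h3 := S.exp_R p hpR
    have h9 : p ^ 9 = 1 := by
      have : p ^ 9 = (p ^ 3) ^ 3 := by rw [← pow_mul]
      rw [this, h3, one_pow]
    have : p ^ 9 = p ^ 8 * p := pow_succ p 8
    rw [h9, h8, one_mul] at this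
    exact this.symm
  have hinj : ∀ p ∈ (P : Subgroup X), ∀ p' ∈ (P : Subgroup X), S.π p = S.π p' → p = p' := by
    intro p hp p' hp' h
    have h1 : p⁻¹ * p' ∈ (P : Subgroup X) := (P : Subgroup X).mul_mem ((P : Subgroup X).inv_mem hp) hp'
    have h2 : p⁻¹ * p' ∈ S.R := by
      rw [k_memR, map_mul, map_inv, h, inv_mul_cancel]
    have := hPR _ h1 h2
    calc p = p * (p⁻¹ * p') := by rw [this, mul_one]
      _ = p' := by group
  -- `P` centralises `t`
  have hPC : ∀ p ∈ (P : Subgroup X), p * t = t * p := by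
    intro p hp
    have h1 : p * t * p⁻¹ ∈ (P : Subgroup X) :=
      (P : Subgroup X).mul_mem ((P : Subgroup X).mul_mem hp htP) ((P : Subgroup X).inv_mem hp)
    have h2 : S.π (p * t * p⁻¹) = S.π t := by
      rw [map_mul, map_mul, map_inv, hπ, negOne_central, mul_assoc, mul_inv_cancel, mul_one]
    have := hinj _ h1 _ htP h2
    calc p * t = (p * t * p⁻¹) * p := by group
      _ = t * p := by rw [this]
  -- the image of `P` is `{q | q ^ 4 = 1}`
  have himg : ∀ q : SL23, q ^ 4 = 1 → ∃ p ∈ (P : Subgroup X), S.π p = q := by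
    have hsub : (S.π '' ((P : Subgroup X) : Set X)) ⊆ {q : SL23 | q ^ 4 = 1} := by
      rintro q ⟨p, hp, rfl⟩
      apply k_pow8
      rw [← map_pow, hP8 p hp, map_one]
    have hc1 : (S.π '' ((P : Subgroup X) : Set X)).ncard = 8 := by
      rw [Set.InjOn.ncard_image (fun p hp p' hp' h => hinj p hp p' hp' h)]
      rw [← hPcard]; rfl
    have hc2 : ({q : SL23 | q ^ 4 = 1} : Set SL23).ncard = 8 := by
      rw [Set.ncard_eq_toFinset_card']
      rw [← q8_card]
      congr 1
    have heq := Set.eq_of_subset_of_ncard_le hsub (by rw [hc1, hc2]) (Set.toFinite _)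
    intro q hq
    have : q ∈ (S.π '' ((P : Subgroup X) : Set X)) := by rw [heq]; exact hq
    obtain ⟨p, hp, rfl⟩ := this
    exact ⟨p, hp, rfl⟩
  -- the 2-elements of the centraliser of `t` lie in `P`
  have hkey : ∀ c : X, c * t = t * c → c ^ 8 = 1 → c ∈ (P : Subgroup X) := by
    intro c hct hc8
    have hq : (S.π c) ^ 4 = 1 := by
      apply k_pow8
      rw [← map_pow, hc8, map_one]
    obtain ⟨p, hp, hpc⟩ := himg _ hq
    set z := c * p⁻¹ with hz
    have hzR : z ∈ S.R := by
      rw [k_memR, hz, map_mul, map_inv, hpc, mul_inv_cancel]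
    have hzt : t * z = z * t := by
      have hpt := hPC p hp
      have hpt' : t * p⁻¹ = p⁻¹ * t := by
        calc t * p⁻¹ = p⁻¹ * (p * t) * p⁻¹ := by group
          _ = p⁻¹ * (t * p) * p⁻¹ := by rw [hpt]
          _ = p⁻¹ * t := by group
      calc t * z = (t * c) * p⁻¹ := by rw [hz]; group
        _ = (c * t) * p⁻¹ := by rw [hct]
        _ = c * (t * p⁻¹) := by group
        _ = c * (p⁻¹ * t) := by rw [hpt']
        _ = z * t := by rw [hz]; group
    have hzZ : z ∈ S.Z := hcent z hzR hzt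
    have hcz : c = z * p := by rw [hz]; group
    have hzp : z * p = p * z := (hZc p z hzZ).symm
    have h8 : c ^ 8 = z ^ 8 * p ^ 8 := by
      rw [hcz]; exact (Commute.mul_pow hzp 8)
    rw [hc8, hP8 p hp, mul_one] at h8
    have hz3 : z ^ 3 = 1 := S.exp_R z hzR
    have hz1 : z = 1 := by
      have h9 : z ^ 9 = 1 := by
        have : z ^ 9 = (z ^ 3) ^ 3 := by rw [← pow_mul]
        rw [this, hz3, one_pow]
      have : z ^ 9 = z ^ 8 * z := pow_succ z 8
      rw [h9, ← h8, one_mul] at this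
      exact this.symm
    rw [hcz, hz1, one_mul]
    exact hp
  -- conjugation by elements of the centraliser preserves `P`
  have hconj : ∀ c : X, c * t = t * c → ∀ p ∈ (P : Subgroup X), c * p * c⁻¹ ∈ (P : Subgroup X) := by
    intro c hct p hp
    apply hkey
    · have hpt := hPC p hp
      have hct' : c⁻¹ * t = t * c⁻¹ := by
        calc c⁻¹ * t = c⁻¹ * (t * c) * c⁻¹ := by group
          _ = c⁻¹ * (c * t) * c⁻¹ := by rw [hct]
          _ = t * c⁻¹ := by group
      calc c * p * c⁻¹ * t = c * p * (c⁻¹ * t) := by group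
        _ = c * p * (t * c⁻¹) := by rw [hct']
        _ = c * (p * t) * c⁻¹ := by group
        _ = c * (t * p) * c⁻¹ := by rw [hpt]
        _ = (c * t) * p * c⁻¹ := by group
        _ = (t * c) * p * c⁻¹ := by rw [hct]
        _ = t * (c * p * c⁻¹) := by group
    · rw [conj_pow, hP8 p hp, mul_one, mul_inv_cancel]
  obtain ⟨g, hg3, hgR, hgt⟩ := hgelt
  have hgpow_t : ∀ j : ℕ, g ^ j * t = t * g ^ j := by
    intro j
    exact ((Commute.pow_left (show Commute g t from hgt) j)).eq
  have hginv : g⁻¹ = g ^ 2 := by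
    have : g ^ 2 * g = 1 := by rw [← pow_succ]; exact hg3
    exact inv_eq_of_mul_eq_one_left this
  -- the subgroup `K = P ⟨g⟩`
  let K : Subgroup X :=
    { carrier := {k | ∃ p ∈ (P : Subgroup X), ∃ j : ℕ, k = p * g ^ j}
      one_mem' := ⟨1, (P : Subgroup X).one_mem, 0, by simp⟩
      mul_mem' := by
        rintro _ _ ⟨p, hp, j, rfl⟩ ⟨p', hp', j', rfl⟩
        refine ⟨p * (g ^ j * p' * (g ^ j)⁻¹), (P : Subgroup X).mul_mem hp (hconj _ (hgpow_t j) p' hp'),
          j + j', ?_⟩
        rw [pow_add]; group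
      inv_mem' := by
        rintro _ ⟨p, hp, j, rfl⟩
        refine ⟨(g ^ (2 * j)) * p⁻¹ * (g ^ (2 * j))⁻¹,
          hconj _ (hgpow_t (2 * j)) p⁻¹ ((P : Subgroup X).inv_mem hp), 2 * j, ?_⟩
        have : (g ^ j)⁻¹ = g ^ (2 * j) := by
          rw [← inv_pow, hginv, ← pow_mul]
        rw [mul_inv_rev, this]; group }
  have hKmem : ∀ k : X, k ∈ K ↔ ∃ p ∈ (P : Subgroup X), ∃ j : ℕ, k = p * g ^ j := fun k => Iff.rfl
  have hPK : (P : Subgroup X) ≤ K := fun p hp => ⟨p, hp, 0, by simp⟩
  have hgK : g ∈ K := ⟨1, (P : Subgroup X).one_mem, 1, by simp⟩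
  have hKC : ∀ k ∈ K, k * t = t * k := by
    rintro _ ⟨p, hp, j, rfl⟩
    calc p * g ^ j * t = p * (g ^ j * t) := by group
      _ = p * (t * g ^ j) := by rw [hgpow_t j]
      _ = (p * t) * g ^ j := by group
      _ = (t * p) * g ^ j := by rw [hPC p hp]
      _ = t * (p * g ^ j) := by group
  have hπg3 : (S.π g) ^ 3 = 1 := by rw [← map_pow, hg3, map_one]
  have hKR : K ⊓ S.R = ⊥ := by
    rw [eq_bot_iff]
    rintro k ⟨⟨p, hp, j, rfl⟩, hkR⟩
    rw [Subgroup.mem_bot]
    have hkR' : p * g ^ j ∈ S.R := hkR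
    rw [k_memR, map_mul, map_pow] at hkR'
    have hp4 : (S.π p) ^ 4 = 1 := by
      apply k_pow8; rw [← map_pow, hP8 p hp, map_one]
    set q := S.π g ^ j with hq
    have hq3 : q ^ 3 = 1 := by rw [hq, ← pow_mul, mul_comm, pow_mul, hπg3, one_pow]
    have hqp : q = (S.π p)⁻¹ := by
      rw [eq_inv_iff_mul_eq_one]
      have : q * S.π p = (S.π p)⁻¹ * (S.π p * q) * S.π p := by group
      rw [this, hkR']; group
    have hq4 : q ^ 4 = 1 := by rw [hqp, inv_pow, hp4, inv_one]
    have hq1 : q = 1 := by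
      have : q ^ 4 = q ^ 3 * q := pow_succ q 3
      rw [hq4, hq3, one_mul] at this
      exact this.symm
    have hp1 : p = 1 := by
      apply hPR p hp
      rw [k_memR]
      rw [hq1, mul_one] at hkR'
      exact hkR'
    have hgj : g ^ j = 1 := by
      have hjR : g ^ j ∈ S.R := by rw [k_memR, map_pow]; exact hq1
      have hmod : g ^ j = g ^ (j % 3) := by
        conv_lhs => rw [← Nat.div_add_mod j 3, pow_add, pow_mul, hg3, one_pow, one_mul]
      rw [hmod] at hjR ⊢
      have hlt : j % 3 < 3 := Nat.mod_lt _ (by norm_num)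
      interval_cases (j % 3)
      · simp
      · exfalso; apply hgR; simpa using hjR
      · exfalso; apply hgR
        have h4 : g = (g ^ 2) ^ 2 := by
          rw [← pow_mul]
          have : g ^ (2 * 2) = g ^ 3 * g := pow_succ g 3
          rw [this, hg3, one_mul]
        rw [h4]; exact S.R.pow_mem hjR 2
    rw [hp1, hgj, one_mul]
  -- the order of `K`
  have hg1 : g ≠ 1 := by
    intro h; apply hgR; rw [h]; exact S.R.one_mem
  have hord : orderOf g = 3 := orderOf_eq_prime hg3 hg1
  have h8 : 8 ∣ Nat.card K := by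
    rw [← hPcard]; exact Subgroup.card_dvd_of_le hPK
  have h3 : 3 ∣ Nat.card K := by
    have hle : Subgroup.zpowers g ≤ K := by
      rw [Subgroup.zpowers_le]; exact hgK
    have := Subgroup.card_dvd_of_le hle
    rwa [Nat.card_zpowers, hord] at this
  have h24 : 24 ∣ Nat.card K := by
    have : 8 * 3 ∣ Nat.card K := Nat.Coprime.mul_dvd_of_dvd_of_dvd (by norm_num) h8 h3
    simpa using this
  have hle24 : Nat.card K ≤ 24 := by
    have hinjK : Function.Injective (fun k : K => S.π (k : X)) := by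
      intro k k' h
      have h1 : (k : X)⁻¹ * (k' : X) ∈ K ⊓ S.R := by
        refine ⟨K.mul_mem (K.inv_mem k.2) k'.2, (k_memR S _).2 ?_⟩
        rw [map_mul, map_inv]
        have h' : S.π (k : X) = S.π (k' : X) := h
        rw [h', inv_mul_cancel]
      rw [hKR, Subgroup.mem_bot] at h1
      apply Subtype.ext
      calc (k : X) = (k : X) * ((k : X)⁻¹ * (k' : X)) := by rw [h1, mul_one]
        _ = (k' : X) := by group
    have := Nat.card_le_card_of_injective _ hinjK
    rwa [Nat.card_eq_fintype_card (α := SL23), card_SL23] at this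
  have hpos : 0 < Nat.card K := Nat.card_pos
  have hcard : Nat.card K = 24 := by
    obtain ⟨m, hm⟩ := h24
    have : m = 1 := by nlinarith
    rw [hm, this]
  exact ⟨K, hKC, hKR, hcard, hPK htP⟩

end Cfsg.Agent.Helper17.TSL
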