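import Mathlib
import Cfsg.Agent.Lib.Helper11.TSLK
import Cfsg.Agent.Lib.Helper11.TSLGELTW

/-! # S3366 piece K (helper11): exact-signature wrapper `exists_K`. -/

set_option autoImplicit false

namespace Cfsg.Agent.Helper17.TSL

variable {X : Type*} [Group X] [Finite X] (S : Setup X)

/-! ## piece K (uses GELT, ZCENT, FRAT, CENT) -/

theorem exists_K (t : X) (ht : t * t = 1) (hπ : S.π t = negOne) :
    ∃ K : Subgroup X, (∀ k ∈ K, k * t = t * k) ∧ K ⊓ S.R = ⊥ ∧ Nat.card K = 24 ∧ t ∈ K :=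
  k_core S t ht hπ (exists_gelt S t ht hπ) (Z_central S) (gelt_cent S t ht hπ)

end Cfsg.Agent.Helper17.TSL
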