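import Mathlib

set_option autoImplicit false

/-! Abstract group-theoretic lemmas for the group `SU_3(2)'` of order 54: nonabelian groups of order
`p^3`, and a counting lemma for the commutator subgroup. -/

namespace Cfsg.Agent.Helper11.TT232C

open scoped commutatorElement

/-- a nonabelian group of order `p^3`: the centre has order `p` and contains the commutator subgroup -/
theorem center_of_card_pcube {p : ℕ} [hp : Fact p.Prime] {T : Type*} [Group T]
    (hT : Nat.card T = p ^ 3) (hnc : ∃ x y : T, x * y ≠ y * x) :
    Nat.card (Subgroup.center T) = p ∧ commutator T ≤ Subgroup.center T := by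
  have hfin : Finite T :=
    Nat.finite_of_card_ne_zero (by rw [hT]; exact pow_ne_zero _ hp.out.ne_zero)
  have hpg : IsPGroup p T := IsPGroup.of_card hT
  have hnt : Nontrivial T := by
    obtain ⟨x, y, hxy⟩ := hnc
    exact ⟨⟨x * y, y * x, hxy⟩⟩
  have hZnt := hpg.center_nontrivial
  obtain ⟨k, hk⟩ := (IsPGroup.iff_card (p := p) (G := Subgroup.center T)).1
    (hpg.to_subgroup (Subgroup.center T))
  have hmul := Subgroup.card_eq_card_quotient_mul_card_subgroup (Subgroup.center T)
  rw [hT, hk] at hmul
  have hk3 : k ≤ 3 := by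
    have h1 : p ^ k ∣ p ^ 3 := Dvd.intro_left _ hmul.symm
    exact (Nat.pow_dvd_pow_iff_le_right hp.out.one_lt).1 h1
  have hq : Nat.card (T ⧸ Subgroup.center T) = p ^ (3 - k) := by
    have h2 : p ^ 3 = p ^ (3 - k) * p ^ k := by
      rw [← pow_add]; congr 1; omega
    rw [h2] at hmul
    exact (Nat.eq_of_mul_eq_mul_right (pow_pos hp.out.pos k) hmul).symm
  have hk0 : k ≠ 0 := by
    intro h
    rw [h, pow_zero] at hk
    have := (Nat.card_eq_one_iff_unique.1 hk).1
    obtain ⟨z, w, hzw⟩ := hZnt
    exact hzw (Subsingleton.elim _ _)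
  have hk3' : k ≠ 3 := by
    intro h
    rw [h] at hk
    have htop : Subgroup.center T = ⊤ := by
      apply Subgroup.eq_top_of_card_eq
      rw [hk, hT]
    obtain ⟨x, y, hxy⟩ := hnc
    apply hxy
    have hy : y ∈ Subgroup.center T := by rw [htop]; trivial
    exact Subgroup.mem_center_iff.1 hy x
  have hk2 : k ≠ 2 := by
    intro h
    rw [h] at hq
    have hq' : Nat.card (T ⧸ Subgroup.center T) = p := by rw [hq]; norm_num
    have hcyc : IsCyclic (T ⧸ Subgroup.center T) := isCyclic_of_prime_card hq'
    obtain ⟨x, y, hxy⟩ := hnc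
    apply hxy
    exact commutative_of_cyclic_center_quotient (QuotientGroup.mk' (Subgroup.center T))
      (by rw [QuotientGroup.ker_mk']) x y
  have hk1 : k = 1 := by omega
  subst hk1
  refine ⟨by rw [hk, pow_one], ?_⟩
  have hq' : Nat.card (T ⧸ Subgroup.center T) = p ^ 2 := hq
  have hcomm := IsPGroup.commutative_of_card_eq_prime_sq hq'
  rw [commutator_def, Subgroup.commutator_le]
  intro x _ y _
  rw [← QuotientGroup.eq_one_iff, commutatorElement_def]
  have := hcomm (x : T ⧸ Subgroup.center T) (y : T ⧸ Subgroup.center T)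
  simp only [QuotientGroup.mk_mul, QuotientGroup.mk_inv]
  rw [this]
  group

/-- counting lemma: `|G'| = |K| * |T'|` when `f : G → T` is surjective with kernel `K ≤ G'` -/
theorem card_commutator_of_ker_le {G T : Type*} [Group G] [Group T] [Finite G]
    (f : G →* T) (hf : Function.Surjective f) (hK : f.ker ≤ commutator G) :
    Nat.card (commutator G) = Nat.card f.ker * Nat.card (commutator T) := by
  have hmap : (commutator G).map f = commutator T := by
    rw [commutator_def, Subgroup.map_commutator, ← MonoidHom.range_eq_map,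
      MonoidHom.range_eq_top.2 hf, commutator_def]
  let g : commutator G →* T := f.comp (commutator G).subtype
  have hrange : g.range = commutator T := by
    rw [← hmap]
    ext t
    constructor
    · rintro ⟨x, rfl⟩
      exact ⟨x.1, x.2, rfl⟩
    · rintro ⟨x, hx, rfl⟩
      exact ⟨⟨x, hx⟩, rfl⟩
  have hker : Nat.card g.ker = Nat.card f.ker := by
    have : g.ker = f.ker.subgroupOf (commutator G) := by
      ext x
      simp [g, MonoidHom.mem_ker, Subgroup.mem_subgroupOf]
    rw [this]
    exact Nat.card_congr (Subgroup.subgroupOfEquivOfLe hK).toEquiv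
  have h1 := Subgroup.card_eq_card_quotient_mul_card_subgroup g.ker
  rw [Nat.card_congr (QuotientGroup.quotientKerEquivRange g).toEquiv, hrange, hker] at h1
  rw [h1, mul_comm]

/-- a subgroup of a group of order `p^3` containing two non-commuting elements is everything -/
theorem eq_top_of_noncomm {p : ℕ} [hp : Fact p.Prime] {K : Type*} [Group K]
    (hK : Nat.card K = p ^ 3) (D : Subgroup K) (a b : K) (ha : a ∈ D) (hb : b ∈ D)
    (hab : a * b ≠ b * a) : D = ⊤ := by
  have hfin : Finite K :=
    Nat.finite_of_card_ne_zero (by rw [hK]; exact pow_ne_zero _ hp.out.ne_zero)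
  have hdvd := Subgroup.card_subgroup_dvd_card D
  rw [hK] at hdvd
  obtain ⟨k, hk3, hk⟩ := (Nat.dvd_prime_pow hp.out).1 hdvd
  have hnc : ¬ ∀ x y : D, x * y = y * x := by
    intro h
    apply hab
    have := h ⟨a, ha⟩ ⟨b, hb⟩
    exact congrArg Subtype.val this
  interval_cases k
  · exfalso
    apply hnc
    rw [pow_zero] at hk
    have := (Nat.card_eq_one_iff_unique.1 hk).1
    intro x y
    rw [Subsingleton.elim x 1, Subsingleton.elim y 1]
  · exfalso
    apply hnc
    rw [pow_one] at hk
    have hcyc : IsCyclic D := isCyclic_of_prime_card hk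
    intro x y
    exact (IsCyclic.commGroup).mul_comm x y
  · exfalso
    apply hnc
    exact IsPGroup.commutative_of_card_eq_prime_sq hk
  · apply Subgroup.eq_top_of_card_eq
    rw [hk, hK]

end Cfsg.Agent.Helper11.TT232C
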