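import Mathlib
import Cfsg.Agent.Lib.Helper11.UnitarySiegel
import Cfsg.Agent.Lib.Helper11.Unitary3
import Cfsg.Agent.Lib.Helper11.WittHerm
import Cfsg.Agent.Lib.Helper11.UnitaryGeom
import Cfsg.Prelude.Def_LieRecognition

set_option autoImplicit false

/-! The Heisenberg-type group `{(a, s) : s + φ s + a φ a = 0}` (the unipotent radical of the Borel
subgroup of `SU_3`), its basic structure, and its embedding into `SU_3` in characteristic two. -/

namespace Cfsg.Agent.Helper11.Herm

open Matrix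
open scoped commutatorElement

section abstract

variable {F : Type*} [Field F] (φ : F →+* F)

/-- pairs `(a, s)` with `s + φ s + a φ a = 0` -/
@[ext] structure Hs where
  a : F
  s : F
  h : s + φ s + a * φ a = 0

instance : One (Hs φ) := ⟨⟨0, 0, by simp⟩⟩

@[simp] theorem Hs.one_a : (1 : Hs φ).a = 0 := rfl
@[simp] theorem Hs.one_s : (1 : Hs φ).s = 0 := rfl

variable [hφφ : Fact (∀ x : F, φ (φ x) = x)]

instance : Mul (Hs φ) := ⟨fun x y => ⟨x.a + y.a, x.s + y.s - y.a * φ x.a, by
  have h1 := x.h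
  have h2 := y.h
  simp only [map_add, map_sub, map_mul, hφφ.out]
  linear_combination h1 + h2⟩⟩

instance : Inv (Hs φ) := ⟨fun x => ⟨-x.a, -x.s - x.a * φ x.a, by
  have h1 := x.h
  simp only [map_sub, map_neg, map_mul, hφφ.out]
  linear_combination -h1⟩⟩

@[simp] theorem Hs.mul_a (x y : Hs φ) : (x * y).a = x.a + y.a := rfl
@[simp] theorem Hs.mul_s (x y : Hs φ) : (x * y).s = x.s + y.s - y.a * φ x.a := rfl
@[simp] theorem Hs.inv_a (x : Hs φ) : (x⁻¹).a = -x.a := rfl
@[simp] theorem Hs.inv_s (x : Hs φ) : (x⁻¹).s = -x.s - x.a * φ x.a := rfl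

instance : Group (Hs φ) := Group.ofLeftAxioms
  (fun x y z => by
    ext
    · simp only [Hs.mul_a]; ring
    · simp only [Hs.mul_s, Hs.mul_a, map_add]; ring)
  (fun x => by
    ext
    · simp
    · simp)
  (fun x => by
    ext
    · simp
    · simp only [Hs.mul_s, Hs.inv_s, Hs.inv_a, Hs.one_s, map_neg]; ring)

theorem Hs.commute_iff (x y : Hs φ) : x * y = y * x ↔ y.a * φ x.a = x.a * φ y.a := by
  constructor
  · intro h
    have := congrArg Hs.s h
    simp only [Hs.mul_s] at this
    linear_combination -this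
  · intro h
    ext
    · simp only [Hs.mul_a]; ring
    · simp only [Hs.mul_s]; linear_combination -h

/-- every `a` occurs as first component -/
theorem Hs.exists_a (hφ : φ ≠ RingHom.id F) (a : F) : ∃ x : Hs φ, x.a = a := by
  obtain ⟨τ, hτ⟩ := Witt.exists_trace_eq φ hφ hφφ.out (-(a * φ a)) (by
    rw [map_neg, map_mul, hφφ.out]; ring)
  exact ⟨⟨a, τ, by rw [hτ]; ring⟩, rfl⟩

omit hφφ in
/-- elements with `a = 0` -/
theorem Hs.exists_zero (c : F) (hc : c + φ c = 0) : ∃ x : Hs φ, x.a = 0 ∧ x.s = c :=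
  ⟨⟨0, c, by rw [hc]; simp⟩, rfl, rfl⟩

theorem Hs.mem_center_iff (hφ : φ ≠ RingHom.id F) (x : Hs φ) :
    x ∈ Subgroup.center (Hs φ) ↔ x.a = 0 := by
  rw [Subgroup.mem_center_iff]
  constructor
  · intro h
    by_contra ha
    obtain ⟨c, hc⟩ : ∃ c, φ c ≠ c := by
      by_contra hc
      push Not at hc
      exact hφ (RingHom.ext hc)
    obtain ⟨y, hy⟩ := Hs.exists_a φ hφ (c * x.a)
    have h1 := (Hs.commute_iff φ x y).1 (h y).symm
    rw [hy, map_mul] at h1
    have h2 : x.a * φ x.a ≠ 0 := by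
      apply mul_ne_zero ha
      intro h0
      apply ha
      have := congrArg φ h0
      rwa [hφφ.out, map_zero] at this
    apply hc
    have : (c - φ c) * (x.a * φ x.a) = 0 := by linear_combination h1
    rcases mul_eq_zero.1 this with h3 | h3
    · exact (sub_eq_zero.1 h3).symm
    · exact absurd h3 h2
  · intro h y
    rw [Hs.commute_iff, h]
    simp

theorem Hs.commutator_a (x y : Hs φ) : (⁅x, y⁆).a = 0 := by
  rw [commutatorElement_def]
  simp only [Hs.mul_a, Hs.inv_a]
  ring

theorem Hs.commutator_s (x y : Hs φ) : (⁅x, y⁆).s = x.a * φ y.a - y.a * φ x.a := by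
  rw [commutatorElement_def]
  simp only [Hs.mul_a, Hs.inv_a, Hs.mul_s, Hs.inv_s, map_add, map_neg]
  ring

end abstract

section count

variable {F : Type*} [Field F] [Fintype F] {q : ℕ}

theorem card_fixed (hF : Fintype.card F = q ^ 2) : Nat.card {c : F // c ^ q = c} = q := by
  classical
  have hq := two_le_q hF
  have h := card_fixed_ne_zero hF
  rw [Nat.card_eq_fintype_card, Fintype.card_subtype] at h ⊢
  have h1 : Finset.univ.filter (fun c : F => c ^ q = c) =
      insert 0 (Finset.univ.filter (fun c : F => c ≠ 0 ∧ c ^ q = c)) := by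
    ext c
    simp only [Finset.mem_filter, Finset.mem_univ, true_and, Finset.mem_insert]
    by_cases hc : c = 0
    · subst hc
      simp only [ne_eq, not_true_eq_false, false_and, or_false, iff_true]
      exact zero_pow (by omega)
    · simp [hc]
  rw [h1, Finset.card_insert_of_notMem (by simp), h]
  omega

/-- the trace map `s ↦ s + φ s` -/
def traceHom (φ : F →+* F) : F →+ F := AddMonoidHom.id F + φ.toAddMonoidHom

omit [Fintype F] in
theorem traceHom_apply (φ : F →+* F) (s : F) : traceHom φ s = s + φ s := rfl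

theorem card_range_traceHom (hF : Fintype.card F = q ^ 2) (φ : F →+* F) (hφ : ∀ x, φ x = x ^ q) :
    Nat.card (traceHom φ).range = q := by
  rw [← card_fixed hF]
  apply Nat.card_congr
  refine Equiv.subtypeEquivRight (fun c => ?_)
  constructor
  · rintro ⟨s, rfl⟩
    rw [traceHom_apply, ← hφ, map_add, frob_frob hF φ hφ, add_comm]
  · intro hc
    rw [← hφ] at hc
    obtain ⟨τ, hτ⟩ := Witt.exists_trace_eq φ (frob_ne_id hF φ hφ) (frob_frob hF φ hφ) c hc
    exact ⟨τ, hτ⟩

theorem card_ker_traceHom (hF : Fintype.card F = q ^ 2) (φ : F →+* F) (hφ : ∀ x, φ x = x ^ q) :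
    Nat.card (traceHom φ).ker = q := by
  have hq := two_le_q hF
  have h1 := AddSubgroup.card_mul_index (traceHom φ).ker
  rw [AddSubgroup.index_ker, card_range_traceHom hF φ hφ, Nat.card_eq_fintype_card (α := F), hF,
    pow_two] at h1
  exact Nat.eq_of_mul_eq_mul_right (by omega) h1

theorem card_trace_fibre (hF : Fintype.card F = q ^ 2) (φ : F →+* F) (hφ : ∀ x, φ x = x ^ q)
    (c : F) (hc : φ c = c) : Nat.card {s : F // s + φ s = c} = q := by
  rw [← card_ker_traceHom hF φ hφ]
  obtain ⟨τ, hτ⟩ := Witt.exists_trace_eq φ (frob_ne_id hF φ hφ) (frob_frob hF φ hφ) c hc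
  apply Nat.card_congr
  refine
    { toFun := fun s => ⟨s.1 - τ, by
        rw [AddMonoidHom.mem_ker, traceHom_apply, map_sub]
        linear_combination s.2 - hτ⟩
      invFun := fun k => ⟨k.1 + τ, by
        have := k.2
        rw [AddMonoidHom.mem_ker, traceHom_apply] at this
        rw [map_add]
        linear_combination this + hτ⟩
      left_inv := fun s => by simp
      right_inv := fun k => by simp }

variable (hF : Fintype.card F = q ^ 2) (φ : F →+* F) (hφ : ∀ x, φ x = x ^ q)

instance (φ : F →+* F) : Finite (Hs φ) :=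
  Finite.of_injective (fun x : Hs φ => (x.a, x.s)) (fun x y h => by
    ext
    · exact congrArg Prod.fst h
    · exact congrArg Prod.snd h)

include hF hφ in
theorem card_Hs : Nat.card (Hs φ) = q ^ 3 := by
  have e : Hs φ ≃ Σ a : F, {s : F // s + φ s = -(a * φ a)} :=
    { toFun := fun x => ⟨x.a, x.s, by linear_combination x.h⟩
      invFun := fun p => ⟨p.1, p.2.1, by linear_combination p.2.2⟩
      left_inv := fun x => rfl
      right_inv := fun p => rfl }
  rw [Nat.card_congr e, Nat.card_sigma]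
  have : ∀ a : F, Nat.card {s : F // s + φ s = -(a * φ a)} = q := fun a =>
    card_trace_fibre hF φ hφ _ (by rw [map_neg, map_mul, frob_frob hF φ hφ]; ring)
  simp only [this, Finset.sum_const, Finset.card_univ, hF, smul_eq_mul]
  ring

include hF hφ in
theorem card_center_Hs [Fact (∀ x : F, φ (φ x) = x)] :
    Nat.card (Subgroup.center (Hs φ)) = q := by
  have hne := frob_ne_id hF φ hφ
  rw [← card_trace_fibre hF φ hφ 0 (map_zero φ)]
  apply Nat.card_congr
  refine
    { toFun := fun z => ⟨z.1.s, by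
        have h1 := z.1.h
        rw [(Hs.mem_center_iff φ hne z.1).1 z.2] at h1
        simpa using h1⟩
      invFun := fun s => ⟨⟨0, s.1, by rw [s.2]; simp⟩, (Hs.mem_center_iff φ hne _).2 rfl⟩
      left_inv := fun z => by
        apply Subtype.ext
        ext
        · exact ((Hs.mem_center_iff φ hne z.1).1 z.2).symm
        · rfl
      right_inv := fun s => rfl }

end count

section torus

variable {F : Type*} [Field F] (φ : F →+* F) [hφφ : Fact (∀ x : F, φ (φ x) = x)]

/-- the torus action `(a, s) ↦ (t a, t φ(t) s)` -/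
def Hs.aut (t : Fˣ) : MulAut (Hs φ) :=
  { toFun := fun x => ⟨t * x.a, t * φ t * x.s, by
      have := x.h
      simp only [map_mul, hφφ.out]
      linear_combination (t * φ t : F) * this⟩
    invFun := fun x => ⟨(t⁻¹ : Fˣ) * x.a, (t⁻¹ : Fˣ) * φ (t⁻¹ : Fˣ) * x.s, by
      have := x.h
      simp only [map_mul, hφφ.out]
      linear_combination ((t⁻¹ : Fˣ) * φ (t⁻¹ : Fˣ) : F) * this⟩
    left_inv := fun x => by
      have h1 : ((t⁻¹ : Fˣ) : F) * t = 1 := by rw [← Units.val_mul]; simp
      ext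
      · simp only
        rw [← mul_assoc, h1, one_mul]
      · simp only
        have : ((t⁻¹ : Fˣ) : F) * φ ((t⁻¹ : Fˣ) : F) * ((t : F) * φ t * x.s) =
            (((t⁻¹ : Fˣ) : F) * t) * φ (((t⁻¹ : Fˣ) : F) * t) * x.s := by
          rw [map_mul]; ring
        rw [this, h1, map_one, one_mul, one_mul]
    right_inv := fun x => by
      have h1 : (t : F) * ((t⁻¹ : Fˣ) : F) = 1 := by rw [← Units.val_mul]; simp
      ext
      · simp only
        rw [← mul_assoc, h1, one_mul]
      · simp only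
        have : (t : F) * φ t * (((t⁻¹ : Fˣ) : F) * φ ((t⁻¹ : Fˣ) : F) * x.s) =
            ((t : F) * ((t⁻¹ : Fˣ) : F)) * φ ((t : F) * ((t⁻¹ : Fˣ) : F)) * x.s := by
          rw [map_mul]; ring
        rw [this, h1, map_one, one_mul, one_mul]
    map_mul' := fun x y => by
      ext
      · simp only [Hs.mul_a]; ring
      · simp only [Hs.mul_s, map_mul]; ring }

theorem Hs.aut_a (t : Fˣ) (x : Hs φ) : (Hs.aut φ t x).a = t * x.a := rfl
theorem Hs.aut_s (t : Fˣ) (x : Hs φ) : (Hs.aut φ t x).s = t * φ t * x.s := rfl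

/-- the torus acts by automorphisms -/
def Hs.autHom : Fˣ →* MulAut (Hs φ) :=
  { toFun := Hs.aut φ
    map_one' := by
      ext x
      · simp [Hs.aut_a]
      · simp [Hs.aut_s]
    map_mul' := fun t u => by
      ext x
      · simp only [MulAut.mul_apply, Hs.aut_a, Units.val_mul]; ring
      · simp only [MulAut.mul_apply, Hs.aut_s, Units.val_mul, map_mul]; ring }

theorem Hs.autHom_apply (t : Fˣ) : Hs.autHom φ t = Hs.aut φ t := rfl

end torus

section chartwo

variable {F : Type*} [Field F] (φ : F →+* F) [hφφ : Fact (∀ x : F, φ (φ x) = x)] [CharP F 2]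

theorem Hs.mul_self_eq_one_iff (x : Hs φ) : x * x = 1 ↔ x.a = 0 := by
  constructor
  · intro h
    have h1 := congrArg Hs.s h
    simp only [Hs.mul_s, Hs.one_s, CharTwo.add_self_eq_zero, zero_sub, neg_eq_zero] at h1
    rcases mul_eq_zero.1 h1 with h2 | h2
    · exact h2
    · have := congrArg φ h2
      rwa [hφφ.out, map_zero] at this
  · intro h
    ext
    · simp [h]
    · simp [h, CharTwo.add_self_eq_zero]

omit hφφ in
theorem Hs.fixed_of_a_eq_zero (x : Hs φ) (h : x.a = 0) : φ x.s = x.s := by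
  have h1 := x.h
  rw [h, zero_mul, add_zero] at h1
  have h2 : x.s + x.s = 0 := CharTwo.add_self_eq_zero _
  linear_combination h1 - h2

theorem Hs.mul_self_mem_center (hφ : φ ≠ RingHom.id F) (x : Hs φ) :
    x * x ∈ Subgroup.center (Hs φ) := by
  rw [Hs.mem_center_iff φ hφ, Hs.mul_a]
  exact CharTwo.add_self_eq_zero _

end chartwo

section suzuki

variable {F : Type*} [Field F] [Fintype F] {q : ℕ} (hF : Fintype.card F = q ^ 2) (φ : F →+* F)
  (hφ : ∀ x, φ x = x ^ q) [hφφ : Fact (∀ x : F, φ (φ x) = x)] [CharP F 2]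

omit hφφ [CharP F 2] in
include hF hφ in
theorem exists_fixed_ne (hq : 3 ≤ q) : ∃ c : F, φ c = c ∧ c ≠ 0 ∧ c ≠ 1 := by
  classical
  by_contra hcon
  push Not at hcon
  have h1 := card_fixed hF
  have h2 : Nat.card {c : F // c ^ q = c} ≤ Nat.card (Fin 2) := by
    apply Nat.card_le_card_of_injective (fun c => if c.1 = 0 then (0 : Fin 2) else 1)
    intro c d hcd
    apply Subtype.ext
    by_cases hc : c.1 = 0
    · by_cases hd : d.1 = 0
      · rw [hc, hd]
      · simp [hc, hd] at hcd
    · by_cases hd : d.1 = 0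
      · simp [hc, hd] at hcd
      · rw [hcon c.1 (by rw [hφ]; exact c.2) hc, hcon d.1 (by rw [hφ]; exact d.2) hd]
  rw [h1, Nat.card_fin] at h2
  omega

omit [Fintype F] in
theorem sq_injective_of_charTwo {x y : F} (h : x * x = y * y) : x = y := by
  have h2 : (x + y) * (x + y) = 0 := by
    have h3 : x * y + x * y = 0 := CharTwo.add_self_eq_zero _
    have h4 : y * y + y * y = 0 := CharTwo.add_self_eq_zero _
    linear_combination h + h3 + h4
  have h5 : x + y = 0 := by
    rcases mul_eq_zero.1 h2 with h | h <;> exact h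
  have h6 : y + y = 0 := CharTwo.add_self_eq_zero _
  linear_combination h5 - h6

theorem exists_sqrt_of_charTwo (r : F) : ∃ t : F, t * t = r := by
  have hinj : Function.Injective (fun t : F => t * t) := fun x y h => sq_injective_of_charTwo h
  have hsurj := Finite.surjective_of_injective hinj
  exact hsurj r

include hF hφ in
theorem isSuzuki_Hs (hq4 : 4 ≤ q) (hq2 : ∃ n, q = 2 ^ n) : Cfsg.IsSuzukiTwoGroup (Hs φ) := by
  have hne := frob_ne_id hF φ hφ
  obtain ⟨n, hn⟩ := hq2
  have h11 : (1 : F) + 1 = 0 := CharTwo.add_self_eq_zero 1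
  refine ⟨inferInstance, ?_, ?_, ?_, ?_⟩
  · apply IsPGroup.of_card (n := 3 * n)
    rw [card_Hs hF φ hφ, hn, ← pow_mul, mul_comm]
  · obtain ⟨c, hc⟩ : ∃ c, φ c ≠ c := by
      by_contra hc
      push Not at hc
      exact hne (RingHom.ext hc)
    obtain ⟨x, hx⟩ := Hs.exists_a φ hne 1
    obtain ⟨y, hy⟩ := Hs.exists_a φ hne c
    refine ⟨x, y, ?_⟩
    rw [Ne, Hs.commute_iff, hx, hy, map_one, mul_one, one_mul]
    exact fun h => hc h.symm
  · obtain ⟨c, hc, hc0, hc1⟩ := exists_fixed_ne hF φ hφ (by omega)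
    obtain ⟨x, hxa, hxs⟩ := Hs.exists_zero φ 1 (by rw [map_one]; exact h11)
    obtain ⟨y, hya, hys⟩ := Hs.exists_zero φ c (by rw [hc]; exact CharTwo.add_self_eq_zero c)
    refine ⟨x, y, ?_, ?_, (Hs.mul_self_eq_one_iff φ x).2 hxa, ?_, (Hs.mul_self_eq_one_iff φ y).2 hya⟩
    · intro h
      apply hc1
      rw [← hys, ← h, hxs]
    · intro h
      have := congrArg Hs.s h
      rw [hxs, Hs.one_s] at this
      exact one_ne_zero this
    · intro h
      have := congrArg Hs.s h
      rw [hys, Hs.one_s] at this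
      exact hc0 this
  · -- the torus
    let K₀ : Subgroup Fˣ := (powMonoidHom (q - 1) : Fˣ →* Fˣ).ker
    have hK₀ : ∀ t : Fˣ, t ∈ K₀ ↔ φ (t : F) = t := by
      intro t
      rw [MonoidHom.mem_ker, powMonoidHom_apply, hφ]
      constructor
      · intro h
        have := congrArg Units.val h
        rw [Units.val_pow_eq_pow_val, Units.val_one] at this
        have h2 : (t : F) ^ q = (t : F) ^ (q - 1) * t := by
          rw [← pow_succ, Nat.sub_add_cancel (by omega)]
        rw [h2, this, one_mul]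
      · intro h
        apply Units.ext
        rw [Units.val_pow_eq_pow_val, Units.val_one]
        have h2 : (t : F) ^ (q - 1) * t = 1 * t := by
          rw [← pow_succ, Nat.sub_add_cancel (by omega), h, one_mul]
        exact mul_right_cancel₀ t.ne_zero h2
    refine ⟨K₀.map (Hs.autHom φ), ?_, ?_⟩
    · have : IsCyclic K₀ := inferInstance
      exact isCyclic_of_surjective ((Hs.autHom φ).subgroupMap K₀)
        ((Hs.autHom φ).subgroupMap_surjective K₀)
    · intro x y hx1 hx2 hy1 hy2
      have hxa := (Hs.mul_self_eq_one_iff φ x).1 hx2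
      have hya := (Hs.mul_self_eq_one_iff φ y).1 hy2
      have hxs : x.s ≠ 0 := by
        intro h
        apply hx1
        ext
        · exact hxa
        · exact h
      have hys : y.s ≠ 0 := by
        intro h
        apply hy1
        ext
        · exact hya
        · exact h
      have hxf := Hs.fixed_of_a_eq_zero φ x hxa
      have hyf := Hs.fixed_of_a_eq_zero φ y hya
      obtain ⟨t, ht⟩ := exists_sqrt_of_charTwo (y.s / x.s)
      have ht0 : t ≠ 0 := by
        intro h
        rw [h, mul_zero] at ht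
        exact (div_ne_zero hys hxs) ht.symm
      have htf : φ t = t := by
        apply sq_injective_of_charTwo
        rw [← map_mul, ht, map_div₀, hxf, hyf]
      have key : ∀ u : Fˣ, u ∈ K₀ → (Hs.aut φ u x = y ↔ (u : F) * u = y.s / x.s) := by
        intro u hu
        rw [hK₀] at hu
        constructor
        · intro h
          have := congrArg Hs.s h
          rw [Hs.aut_s, hu] at this
          rw [← this]
          field_simp
        · intro h
          ext
          · rw [Hs.aut_a, hxa, hya, mul_zero]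
          · rw [Hs.aut_s, hu, h]
            field_simp
      refine ⟨⟨Hs.autHom φ (Units.mk0 t ht0), Subgroup.mem_map_of_mem _
        ((hK₀ _).2 htf)⟩, ?_, ?_⟩
      · show Hs.aut φ (Units.mk0 t ht0) x = y
        rw [key _ ((hK₀ _).2 htf)]
        exact ht
      · rintro ⟨k, u, hu, rfl⟩ hk
        apply Subtype.ext
        show Hs.autHom φ u = Hs.autHom φ (Units.mk0 t ht0)
        congr 1
        apply Units.ext
        apply sq_injective_of_charTwo
        rw [Units.val_mk0, ht]
        exact (key u hu).1 hk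

end suzuki

section embed

variable {F : Type*} [Field F] (φ : F →+* F) [hφφ : Fact (∀ x : F, φ (φ x) = x)] [CharP F 2]

/-- the isotropic vector `(1,1,0)` -/
def eV (F : Type*) [Field F] : Fin 3 → F := ![1, 1, 0]
/-- the anisotropic vector `(0,0,1)` -/
def mV (F : Type*) [Field F] : Fin 3 → F := ![0, 0, 1]
/-- the vector `(1,0,0)` -/
def fV (F : Type*) [Field F] : Fin 3 → F := ![1, 0, 0]

omit hφφ in
theorem hdot_eV_eV : hdot φ (eV F) (eV F) = 0 := by
  simp [hdot_def, Fin.sum_univ_three, eV, CharTwo.add_self_eq_zero]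

omit hφφ [CharP F 2] in
theorem hdot_mV_eV : hdot φ (mV F) (eV F) = 0 := by
  simp [hdot_def, Fin.sum_univ_three, eV, mV]

omit hφφ [CharP F 2] in
theorem hdot_eV_mV : hdot φ (eV F) (mV F) = 0 := by
  simp [hdot_def, Fin.sum_univ_three, eV, mV]

omit hφφ [CharP F 2] in
theorem hdot_mV_mV : hdot φ (mV F) (mV F) = 1 := by
  simp [hdot_def, Fin.sum_univ_three, mV]

omit hφφ [CharP F 2] in
theorem hdot_fV_eV : hdot φ (fV F) (eV F) = 1 := by
  simp [hdot_def, Fin.sum_univ_three, eV, fV]

omit hφφ [CharP F 2] in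
theorem hdot_fV_mV : hdot φ (fV F) (mV F) = 0 := by
  simp [hdot_def, Fin.sum_univ_three, mV, fV]

/-- the matrix of `(a, s)` -/
def Hs.mat (x : Hs φ) : Matrix (Fin 3) (Fin 3) F := sg φ (eV F) (x.a • mV F) x.s

theorem Hs.mat_mul (x y : Hs φ) : Hs.mat φ (x * y) = Hs.mat φ x * Hs.mat φ y := by
  unfold Hs.mat
  rw [sg_mul_sg φ _ _ _ _ _ (hdot_eV_eV φ)
    (by rw [hdot_smul_left, hdot_mV_eV, mul_zero])
    (by rw [hdot_smul_right, hdot_eV_mV, mul_zero])]
  rw [Hs.mul_a, Hs.mul_s, add_smul, hdot_smul_left, hdot_smul_right, hdot_mV_mV, mul_one]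

omit hφφ [CharP F 2] in
theorem Hs.mat_one : Hs.mat φ 1 = 1 := by
  unfold Hs.mat
  rw [Matrix.ext_iff_mulVec]
  intro v
  rw [sg_mulVec]
  simp [hdot_zero_right]

theorem Hs.isU_mat (x : Hs φ) : IsU φ (Hs.mat φ x) := by
  apply isU_sg φ hφφ.out _ _ _ (hdot_eV_eV φ)
  · rw [hdot_smul_left, hdot_mV_eV, mul_zero]
  · rw [hdot_smul_left, hdot_smul_right, hdot_mV_mV, mul_one]
    linear_combination x.h

omit hφφ in
theorem Hs.det_mat (x : Hs φ) : (Hs.mat φ x).det = 1 := by
  apply det_sg φ _ _ _ (hdot_eV_eV φ)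
  · rw [hdot_smul_left, hdot_mV_eV, mul_zero]
  · rw [hdot_smul_right, hdot_eV_mV, mul_zero]

omit hφφ in
theorem Hs.mat_mulVec_eV (x : Hs φ) : Hs.mat φ x *ᵥ eV F = eV F := by
  unfold Hs.mat
  rw [sg_mulVec, hdot_eV_eV, hdot_smul_right, hdot_eV_mV]
  simp

omit hφφ [CharP F 2] in
theorem Hs.mat_mulVec_fV (x : Hs φ) : Hs.mat φ x *ᵥ fV F = fV F + x.a • mV F + x.s • eV F := by
  unfold Hs.mat
  rw [sg_mulVec, hdot_fV_eV, hdot_smul_right, hdot_fV_mV]
  simp

omit hφφ [CharP F 2] in
theorem Hs.mat_injective : Function.Injective (Hs.mat φ) := by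
  intro x y h
  have h1 : Hs.mat φ x *ᵥ fV F = Hs.mat φ y *ᵥ fV F := by rw [h]
  rw [Hs.mat_mulVec_fV, Hs.mat_mulVec_fV] at h1
  have h2 := congrFun h1 2
  have h3 := congrFun h1 1
  simp [fV, mV, eV] at h2 h3
  ext
  · exact h2
  · exact h3

end embed

section sylow

variable {F : Type*} [Field F] [Fintype F] {q : ℕ} (hF : Fintype.card F = q ^ 2) (φ : F →+* F)
  (hφ : ∀ x, φ x = x ^ q) [hφφ : Fact (∀ x : F, φ (φ x) = x)] [CharP F 2]

/-- the embedding of the Heisenberg-type group into `SU_3` -/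
noncomputable def Hs.toSU : Hs φ →* Cfsg.SU 3 F q :=
  { toFun := fun x => mkSU hF 3 (Hs.mat φ x) (Hs.det_mat φ x) (fun φ' hφ' => by
      have : φ' = φ := RingHom.ext (fun y => by rw [hφ', hφ])
      rw [this]
      exact Hs.isU_mat φ x)
    map_one' := by
      apply SU_ext
      rw [coe_mkSU, Hs.mat_one]
      rfl
    map_mul' := fun x y => by
      apply SU_ext
      rw [SU_mul_coe, coe_mkSU, coe_mkSU, coe_mkSU, Hs.mat_mul] }

theorem Hs.coe_toSU (x : Hs φ) :
    (((Hs.toSU hF φ hφ x : Cfsg.SU 3 F q) : Matrix.SpecialLinearGroup (Fin 3) F) :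
      Matrix (Fin 3) (Fin 3) F) = Hs.mat φ x := rfl

/-- the embedding into `PSU_3` -/
noncomputable def Hs.toPSU : Hs φ →* Cfsg.PSU 3 F q :=
  (QuotientGroup.mk' (Subgroup.center (Cfsg.SU 3 F q))).comp (Hs.toSU hF φ hφ)

theorem Hs.toPSU_injective : Function.Injective (Hs.toPSU hF φ hφ) := by
  rw [injective_iff_map_eq_one]
  intro x hx
  unfold Hs.toPSU at hx
  rw [MonoidHom.comp_apply, QuotientGroup.mk'_apply, QuotientGroup.eq_one_iff] at hx
  have h1 := center_SU_scalar hF 3 0 _ hx
  rw [Hs.coe_toSU] at h1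
  have h2 := Hs.mat_mulVec_eV φ x
  rw [h1, Matrix.smul_mulVec, Matrix.one_mulVec] at h2
  have h3 := congrFun h2 0
  simp [eV] at h3
  rw [h3, one_smul] at h1
  apply Hs.mat_injective φ
  rw [h1, Hs.mat_one]

theorem guOrder_three (q : ℕ) :
    guOrder q 3 = q ^ 3 * ((q + 1) * (q ^ 2 - 1) * (q ^ 3 + 1)) := by
  unfold guOrder
  simp [Finset.prod_range_succ]

omit [CharP F 2] in
include hF in
theorem card_PSU_three_dvd :
    Nat.card (Cfsg.PSU 3 F q) ∣ q ^ 3 * ((q + 1) * (q ^ 2 - 1) * (q ^ 3 + 1)) := by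
  have h1 := card_GU_eq_SU hF 3 (by norm_num)
  rw [card_GU hF, guOrder_three] at h1
  have h2 := Subgroup.card_eq_card_quotient_mul_card_subgroup (Subgroup.center (Cfsg.SU 3 F q))
  rw [← h1, h2]
  exact Dvd.intro_left ((q + 1) * Nat.card (Subgroup.center (Cfsg.SU 3 F q))) (by ring)

include hF hφ in
/-- every Sylow 2-subgroup of `PSU_3(2^n)` is isomorphic to the Heisenberg-type group -/
theorem exists_sylow_equiv (hq2 : ∃ n, q = 2 ^ n) (S : Sylow 2 (Cfsg.PSU 3 F q)) :
    Nonempty ((S : Subgroup (Cfsg.PSU 3 F q)) ≃* Hs φ) := by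
  obtain ⟨n, hn⟩ := hq2
  have hq := two_le_q hF
  have hn1 : 1 ≤ n := by
    rcases Nat.eq_zero_or_pos n with h | h
    · rw [h] at hn; omega
    · exact h
  have : Fact (Nat.Prime 2) := ⟨Nat.prime_two⟩
  have hcardH : Nat.card (Hs φ) = 2 ^ (3 * n) := by
    rw [card_Hs hF φ hφ, hn, ← pow_mul, mul_comm]
  let Q : Subgroup (Cfsg.PSU 3 F q) := (Hs.toPSU hF φ hφ).range
  let eQ : Hs φ ≃* Q := MonoidHom.ofInjective (Hs.toPSU_injective hF φ hφ)
  have hQcard : Nat.card Q = 2 ^ (3 * n) := by rw [← Nat.card_congr eQ.toEquiv, hcardH]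
  have hQp : IsPGroup 2 Q := IsPGroup.of_card hQcard
  obtain ⟨S₀, hS₀⟩ := hQp.exists_le_sylow
  obtain ⟨k, hk⟩ := IsPGroup.exists_card_eq S₀.isPGroup'
  have hdvd : 2 ^ k ∣ 2 ^ (3 * n) := by
    have h1 : Nat.card (S₀ : Subgroup (Cfsg.PSU 3 F q)) ∣ Nat.card (Cfsg.PSU 3 F q) :=
      Subgroup.card_subgroup_dvd_card _
    have h2 := h1.trans (card_PSU_three_dvd hF)
    rw [hk, hn] at h2
    have h3 : (2 ^ n) ^ 3 = 2 ^ (3 * n) := by rw [← pow_mul, mul_comm]
    rw [← h3]
    apply Nat.Coprime.dvd_of_dvd_mul_right _ h2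
    apply Nat.Coprime.pow_left
    rw [Nat.coprime_two_left]
    have he : Even (2 ^ n) := Nat.even_pow.2 ⟨even_two, by omega⟩
    have h1le : 1 ≤ (2 ^ n) ^ 2 := Nat.one_le_pow _ _ (by positivity)
    apply Odd.mul
    · apply Odd.mul
      · exact Even.add_one he
      · apply Nat.Even.sub_odd h1le (Nat.even_pow.2 ⟨he, by norm_num⟩) odd_one
    · exact Even.add_one (Nat.even_pow.2 ⟨he, by norm_num⟩)
  have hQS : Q = (S₀ : Subgroup (Cfsg.PSU 3 F q)) := by
    apply Subgroup.eq_of_le_of_card_ge hS₀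
    rw [hQcard, hk]
    exact Nat.le_of_dvd (by positivity) hdvd
  exact ⟨(Sylow.equiv S S₀).trans ((MulEquiv.subgroupCongr hQS.symm).trans eQ.symm)⟩

end sylow

section transport

theorem isSuzuki_of_mulEquiv {P Q : Type*} [Group P] [Group Q] (e : P ≃* Q)
    (h : Cfsg.IsSuzukiTwoGroup Q) : Cfsg.IsSuzukiTwoGroup P := by
  obtain ⟨hfin, hp, ⟨x, y, hxy⟩, ⟨u, v, huv, hu1, hu2, hv1, hv2⟩, K, hK, hreg⟩ := h
  refine ⟨Finite.of_equiv Q e.symm.toEquiv, hp.of_equiv e.symm, ⟨e.symm x, e.symm y, ?_⟩,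
    ⟨e.symm u, e.symm v, ?_, ?_, ?_, ?_, ?_⟩, K.map (MulAut.congr e.symm).toMonoidHom, ?_, ?_⟩
  · intro hc
    apply hxy
    have := congrArg e hc
    simpa using this
  · intro hc
    exact huv (e.symm.injective hc)
  · intro hc
    apply hu1
    have := congrArg e hc
    simpa using this
  · rw [← map_mul, hu2, map_one]
  · intro hc
    apply hv1
    have := congrArg e hc
    simpa using this
  · rw [← map_mul, hv2, map_one]
  · exact isCyclic_of_surjective ((MulAut.congr e.symm).toMonoidHom.subgroupMap K)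
      ((MulAut.congr e.symm).toMonoidHom.subgroupMap_surjective K)
  · intro a b ha1 ha2 hb1 hb2
    have hact : ∀ (k : MulAut Q) (p : P), (MulAut.congr e.symm k) p = e.symm (k (e p)) := by
      intro k p
      rfl
    obtain ⟨k, hk, hku⟩ := hreg (e a) (e b)
      (fun hc => ha1 (by have := congrArg e.symm hc; simpa using this))
      (by rw [← map_mul, ha2, map_one])
      (fun hc => hb1 (by have := congrArg e.symm hc; simpa using this))
      (by rw [← map_mul, hb2, map_one])
    refine ⟨⟨MulAut.congr e.symm k.1, Subgroup.mem_map_of_mem _ k.2⟩, ?_, ?_⟩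
    · show (MulAut.congr e.symm k.1) a = b
      rw [hact, hk]
      simp
    · rintro ⟨k', k₂, hk₂, rfl⟩ hk'
      have hk'' : (MulAut.congr e.symm k₂) a = b := hk'
      rw [hact] at hk''
      have h3 : k₂ (e a) = e b := by
        have := congrArg e hk''
        simpa using this
      have h4 := hku ⟨k₂, hk₂⟩ h3
      apply Subtype.ext
      show (MulAut.congr e.symm) k₂ = (MulAut.congr e.symm) k.1
      rw [← h4]

theorem mem_center_iff_of_mulEquiv {P Q : Type*} [Group P] [Group Q] (e : P ≃* Q) (x : P) :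
    x ∈ Subgroup.center P ↔ e x ∈ Subgroup.center Q := by
  rw [Subgroup.mem_center_iff, Subgroup.mem_center_iff]
  constructor
  · intro h y
    have := congrArg e (h (e.symm y))
    simpa using this
  · intro h y
    apply e.injective
    rw [map_mul, map_mul]
    exact h (e y)

variable {F : Type*} [Field F] (φ : F →+* F) [hφφ : Fact (∀ x : F, φ (φ x) = x)] [CharP F 2]
  {P : Type*} [Group P] (e : P ≃* Hs φ)

include e in
theorem mem_center_iff_mul_self (hφ : φ ≠ RingHom.id F) (x : P) :
    x ∈ Subgroup.center P ↔ x * x = 1 := by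
  rw [mem_center_iff_of_mulEquiv e, Hs.mem_center_iff φ hφ, ← Hs.mul_self_eq_one_iff, ← map_mul]
  constructor
  · intro h
    apply e.injective
    rw [h, map_one]
  · intro h
    rw [h, map_one]

include e in
theorem mul_self_mem_center (hφ : φ ≠ RingHom.id F) (x : P) : x * x ∈ Subgroup.center P := by
  rw [mem_center_iff_of_mulEquiv e, map_mul]
  exact Hs.mul_self_mem_center φ hφ _

include e in
theorem center_eq_commutator (hφ : φ ≠ RingHom.id F) : Subgroup.center P = commutator P := by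
  apply le_antisymm
  · intro z hz
    rw [mem_center_iff_of_mulEquiv e, Hs.mem_center_iff φ hφ] at hz
    have hfix := Hs.fixed_of_a_eq_zero φ (e z) hz
    obtain ⟨τ, hτ⟩ := Witt.exists_trace_eq φ hφ hφφ.out (e z).s hfix
    obtain ⟨x, hx⟩ := Hs.exists_a φ hφ τ
    obtain ⟨y, hy⟩ := Hs.exists_a φ hφ 1
    have h1 : e z = ⁅x, y⁆ := by
      ext
      · rw [hz, Hs.commutator_a]
      · rw [Hs.commutator_s, hx, hy, map_one, mul_one, one_mul, ← hτ]
        have : φ τ + φ τ = 0 := CharTwo.add_self_eq_zero _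
        linear_combination this
    have h2 : z = ⁅e.symm x, e.symm y⁆ := by
      apply e.injective
      rw [h1, map_commutatorElement]
      simp
    rw [h2, commutator_def]
    exact Subgroup.commutator_mem_commutator (Subgroup.mem_top _) (Subgroup.mem_top _)
  · rw [commutator_def, Subgroup.commutator_le]
    intro g₁ _ g₂ _
    rw [mem_center_iff_of_mulEquiv e, map_commutatorElement, Hs.mem_center_iff φ hφ,
      Hs.commutator_a]

end transport

end Cfsg.Agent.Helper11.Herm
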