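import Mathlib
import Cfsg.Agent.Lib.Helper11.UnitaryHeis
import Cfsg.Prelude.Def_Solvable
import Cfsg.Agent.Lib.Helper16.QuatRecog

set_option autoImplicit false

/-! The stabiliser of the isotropic vector `(1,1,0)` in `SU_3` (characteristic two) is the
Heisenberg-type group, and consequences for `PSU_3(2)`. -/

namespace Cfsg.Agent.Helper11.Herm

open Matrix
open scoped commutatorElement Pointwise

section borel

variable {F : Type*} [Field F] (φ : F →+* F) [hφφ : Fact (∀ x : F, φ (φ x) = x)] [CharP F 2]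

omit hφφ [CharP F 2] in
theorem Hs.mat_apply (x : Hs φ) :
    Hs.mat φ x = !![1 + x.s, x.s, -φ x.a; x.s, 1 + x.s, -φ x.a; x.a, x.a, 1] := by
  ext i j
  have h : Hs.mat φ x i j = (1 : Matrix (Fin 3) (Fin 3) F) i j + (x.a * mV F i) * φ (eV F j) -
      eV F i * φ (x.a * mV F j) + x.s * (eV F i * φ (eV F j)) := by
    simp only [Hs.mat, sg, Matrix.add_apply, Matrix.sub_apply, Matrix.smul_apply,
      Matrix.vecMulVec_apply, Function.comp_apply, Pi.smul_apply, smul_eq_mul]
  rw [h]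
  fin_cases i <;> fin_cases j <;> simp [eV, mV]

omit hφφ in
/-- a unitary matrix of determinant one fixing `(1,1,0)` is in the Heisenberg-type group -/
theorem exists_Hs_of_fix (g : Matrix (Fin 3) (Fin 3) F) (hU : IsU φ g) (hdet : g.det = 1)
    (hge : g *ᵥ eV F = eV F) : ∃ y : Hs φ, g = Hs.mat φ y := by
  have h2 : ∀ x : F, x + x = 0 := fun x => CharTwo.add_self_eq_zero x
  -- entries from `g e = e`
  have e0 := congrFun hge 0
  have e1 := congrFun hge 1
  have e2 := congrFun hge 2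
  simp [Matrix.mulVec, dotProduct, Fin.sum_univ_three, eV] at e0 e1 e2
  -- unitarity
  have u1 := hU.hdot_mulVec φ (fV F) (eV F)
  rw [hge, hdot_fV_eV] at u1
  have u2 := hU.hdot_mulVec φ (mV F) (eV F)
  rw [hge, hdot_mV_eV] at u2
  have u3 := hU.hdot_mulVec φ (mV F) (mV F)
  rw [hdot_mV_mV] at u3
  have u4 := hU.hdot_mulVec φ (fV F) (fV F)
  have u5 := hU.hdot_mulVec φ (mV F) (fV F)
  simp [hdot_def, Matrix.mulVec, dotProduct, Fin.sum_univ_three, eV, fV, mV] at u1 u2 u3 u4 u5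
  rw [Matrix.det_fin_three] at hdet
  have h00 : g 0 0 = 1 + g 1 0 := by linear_combination u1 - h2 (g 1 0)
  have h01 : g 0 1 = g 1 0 := by linear_combination e0 - h00 - h2 (g 1 0)
  have h11 : g 1 1 = 1 + g 1 0 := by linear_combination e1 - h2 (g 1 0)
  have h21 : g 2 1 = g 2 0 := by linear_combination e2 - h2 (g 2 0)
  have h12 : g 1 2 = g 0 2 := by linear_combination u2 - h2 (g 0 2)
  rw [h00, h01, h11, h21, h12] at hdet
  have h22 : g 2 2 = 1 := by
    linear_combination hdet - h2 (g 1 0 * g 2 2) + h2 (g 0 2 * g 2 0)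
  rw [h00, h12, h22, map_add, map_one] at u5
  have h02 : g 0 2 = -φ (g 2 0) := by
    linear_combination u5 - h2 (g 0 2 * φ (g 1 0))
  rw [h00, map_add, map_one] at u4
  have hcond : g 1 0 + φ (g 1 0) + g 2 0 * φ (g 2 0) = 0 := by
    linear_combination u4 - h2 (g 1 0 * φ (g 1 0))
  refine ⟨⟨g 2 0, g 1 0, hcond⟩, ?_⟩
  rw [Hs.mat_apply]
  ext i j
  fin_cases i <;> fin_cases j <;> simp
  · exact h00
  · exact h01
  · exact h02
  · exact h11
  · rw [h12, h02]
  · exact h21
  · exact h22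

/-- isotropic eigenvectors of nontrivial elements are multiples of `(1,1,0)` -/
theorem Hs.eig_in_line (x : Hs φ) (hx : x ≠ 1) (v : Fin 3 → F) (lam : F)
    (hv : Hs.mat φ x *ᵥ v = lam • v) (hiso : hdot φ v v = 0) : ∃ μ : F, v = μ • eV F := by
  have h2 : ∀ x : F, x + x = 0 := fun x => CharTwo.add_self_eq_zero x
  have h1 := (Hs.isU_mat φ x).hdot_mulVec φ v (eV F)
  rw [Hs.mat_mulVec_eV, hv, hdot_smul_left] at h1
  by_cases hve : hdot φ v (eV F) = 0
  · have hve' := hve
    simp [hdot_def, Fin.sum_univ_three, eV] at hve'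
    have hiso' := hiso
    simp only [hdot_def, Fin.sum_univ_three] at hiso'
    have h10 : v 1 = v 0 := by linear_combination hve' - h2 (v 0)
    rw [h10] at hiso'
    have h20 : v 2 * φ (v 2) = 0 := by linear_combination hiso' - h2 (v 0 * φ (v 0))
    have h21 : v 2 = 0 := by
      rcases mul_eq_zero.1 h20 with h | h
      · exact h
      · have := congrArg φ h
        rwa [hφφ.out, map_zero] at this
    refine ⟨v 0, ?_⟩
    funext i
    fin_cases i <;> simp [eV, h10, h21]
  · exfalso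
    have hl : lam = 1 := by
      have : (lam - 1) * hdot φ v (eV F) = 0 := by linear_combination h1
      rcases mul_eq_zero.1 this with h | h
      · linear_combination h
      · exact absurd h hve
    rw [hl, one_smul] at hv
    unfold Hs.mat at hv
    rw [sg_mulVec] at hv
    obtain ⟨c, hc⟩ : ∃ c, c = hdot φ v (eV F) := ⟨_, rfl⟩
    obtain ⟨d, hd⟩ : ∃ d, d = hdot φ v (x.a • mV F) := ⟨_, rfl⟩
    rw [← hc] at hve hv
    rw [← hd] at hv
    have e2 : eV F 2 = 0 := rfl
    have m2 : mV F 2 = 1 := rfl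
    have e0 : eV F 0 = 1 := rfl
    have m0 : mV F 0 = 0 := rfl
    have h3 := congrFun hv 2
    have h4 := congrFun hv 0
    simp only [Pi.add_apply, Pi.smul_apply, smul_eq_mul, e2, m2, e0, m0, mul_zero, mul_one,
      add_zero] at h3 h4
    have ha : x.a = 0 := by
      have : c * x.a = 0 := by linear_combination h3
      rcases mul_eq_zero.1 this with h | h
      · exact absurd h hve
      · exact h
    rw [ha, zero_smul, hdot_zero_right] at hd
    rw [hd] at h4
    apply hx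
    ext
    · exact ha
    · have : x.s * c = 0 := by linear_combination h4
      rcases mul_eq_zero.1 this with h | h
      · exact h
      · exact absurd h hve

/-- the key step for the trivial-intersection property -/
theorem exists_smul_mat_of_conj (G : Matrix (Fin 3) (Fin 3) F) (hU : IsU φ G) (hdet : G.det = 1)
    (hnorm : ∀ μ : F, μ ≠ 0 → μ * φ μ = 1 ∧ μ ^ 3 = 1)
    (y₁ y₂ : Hs φ) (hy₁ : y₁ ≠ 1) (lam : F) (h : Hs.mat φ y₁ * G = lam • (G * Hs.mat φ y₂)) :
    ∃ (y : Hs φ) (μ : F), μ ≠ 0 ∧ G = μ • Hs.mat φ y := by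
  have hv : Hs.mat φ y₁ *ᵥ (G *ᵥ eV F) = lam • (G *ᵥ eV F) := by
    rw [Matrix.mulVec_mulVec, h, Matrix.smul_mulVec, ← Matrix.mulVec_mulVec, Hs.mat_mulVec_eV]
  have hiso : hdot φ (G *ᵥ eV F) (G *ᵥ eV F) = 0 := by
    rw [hU.hdot_mulVec φ, hdot_eV_eV]
  obtain ⟨μ, hμ⟩ := Hs.eig_in_line φ y₁ hy₁ _ lam hv hiso
  have hμ0 : μ ≠ 0 := by
    intro h0
    rw [h0, zero_smul] at hμ
    have := hU.hdot_mulVec φ (fV F) (eV F)
    rw [hμ, hdot_zero_right, hdot_fV_eV] at this
    exact zero_ne_one this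
  obtain ⟨hn1, hn3⟩ := hnorm μ hμ0
  have hU' : IsU φ (μ⁻¹ • G) := by
    apply isU_of_preserves
    intro u w
    rw [Matrix.smul_mulVec, Matrix.smul_mulVec, hdot_smul_left, hdot_smul_right,
      hU.hdot_mulVec φ, map_inv₀]
    have : μ⁻¹ * ((φ μ)⁻¹ * hdot φ u w) = (μ * φ μ)⁻¹ * hdot φ u w := by
      rw [mul_inv]; ring
    rw [this, hn1, inv_one, one_mul]
  have hdet' : (μ⁻¹ • G).det = 1 := by
    rw [Matrix.det_smul, hdet, mul_one, Fintype.card_fin, inv_pow, hn3, inv_one]
  have hfix : (μ⁻¹ • G) *ᵥ eV F = eV F := by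
    rw [Matrix.smul_mulVec, hμ, smul_smul, inv_mul_cancel₀ hμ0, one_smul]
  obtain ⟨y, hy⟩ := exists_Hs_of_fix φ _ hU' hdet' hfix
  refine ⟨y, μ, hμ0, ?_⟩
  rw [← hy, smul_smul, mul_inv_cancel₀ hμ0, one_smul]

end borel

section psu32

variable {F : Type*} [Field F] [Fintype F] (hF : Fintype.card F = 2 ^ 2) (φ : F →+* F)
  (hφ : ∀ x, φ x = x ^ 2) [hφφ : Fact (∀ x : F, φ (φ x) = x)] [CharP F 2]

include hF hφ in
omit hφφ [CharP F 2] in
theorem norm_cube_of_ne_zero (μ : F) (hμ : μ ≠ 0) : μ * φ μ = 1 ∧ μ ^ 3 = 1 := by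
  have h3 : μ ^ 3 = 1 := by
    have := FiniteField.pow_card_sub_one_eq_one μ hμ
    rwa [hF] at this
  refine ⟨?_, h3⟩
  rw [hφ, ← h3]
  ring

omit hφφ [CharP F 2] in
include hF in
theorem card_SU_three_two : Nat.card (Cfsg.SU 3 F 2) = 216 := by
  have h1 := card_GU_eq_SU hF 3 (by norm_num)
  rw [card_GU hF, guOrder_three] at h1
  norm_num at h1
  omega

omit hφφ [CharP F 2] in
include hF in
theorem card_PSU_three_two : Nat.card (Cfsg.PSU 3 F 2) = 72 := by
  have h2 := Subgroup.card_eq_card_quotient_mul_card_subgroup (Subgroup.center (Cfsg.SU 3 F 2))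
  rw [card_SU_three_two hF, card_center_SU hF 3 (by norm_num)] at h2
  have h3 : Nat.gcd 3 (2 + 1) = 3 := by norm_num
  rw [h3] at h2
  show Nat.card (Cfsg.SU 3 F 2 ⧸ Subgroup.center (Cfsg.SU 3 F 2)) = 72
  omega

omit hφφ [CharP F 2] in
theorem mem_center_of_scalar {q : ℕ} (w : Cfsg.SU 3 F q) (μ : F)
    (hw : ((w : Matrix.SpecialLinearGroup (Fin 3) F) : Matrix (Fin 3) (Fin 3) F) =
      μ • (1 : Matrix (Fin 3) (Fin 3) F)) : w ∈ Subgroup.center (Cfsg.SU 3 F q) := by
  rw [Subgroup.mem_center_iff]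
  intro h
  apply SU_ext
  rw [SU_mul_coe, SU_mul_coe, hw]
  simp

/-- the image of the Heisenberg-type group in `PSU_3(2)` is a Frobenius complement -/
theorem isFrobeniusComplement_range :
    Cfsg.IsFrobeniusComplement (Hs.toPSU hF φ hφ).range := by
  have hcardG := card_PSU_three_two hF
  have hcardH : Nat.card (Hs.toPSU hF φ hφ).range = 8 := by
    rw [← Nat.card_congr (MonoidHom.ofInjective (Hs.toPSU_injective hF φ hφ)).toEquiv,
      card_Hs hF φ hφ]
    norm_num
  refine ⟨?_, ?_, ?_⟩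
  · intro h
    rw [h, Subgroup.card_bot] at hcardH
    omega
  · intro h
    rw [h, Subgroup.card_top, hcardG] at hcardH
    omega
  · intro g hg
    rw [Subgroup.eq_bot_iff_forall]
    rintro x ⟨⟨y₁, rfl⟩, hx2⟩
    by_contra hx1
    have hy₁ : y₁ ≠ 1 := by
      intro h
      apply hx1
      rw [h, map_one]
    have hx2' : Hs.toPSU hF φ hφ y₁ ∈ MulAut.conj g • (Hs.toPSU hF φ hφ).range := hx2
    rw [Subgroup.mem_smul_pointwise_iff_exists] at hx2'
    obtain ⟨_, ⟨y₂, rfl⟩, hy₂⟩ := hx2'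
    rw [MulAut.smul_def, MulAut.conj_apply] at hy₂
    obtain ⟨gt, rfl⟩ := QuotientGroup.mk_surjective g
    unfold Hs.toPSU at hy₂
    simp only [MonoidHom.comp_apply, QuotientGroup.mk'_apply] at hy₂
    rw [← QuotientGroup.mk_mul, ← QuotientGroup.mk_inv, ← QuotientGroup.mk_mul,
      QuotientGroup.eq] at hy₂
    -- the central element
    obtain ⟨z, hz⟩ : ∃ z, z = (gt * Hs.toSU hF φ hφ y₂ * gt⁻¹)⁻¹ * Hs.toSU hF φ hφ y₁ := ⟨_, rfl⟩
    rw [← hz] at hy₂
    have hzs := center_SU_scalar hF 3 0 z hy₂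
    have hz2 : Hs.toSU hF φ hφ y₁ * gt = gt * Hs.toSU hF φ hφ y₂ * z := by
      have hzc := Subgroup.mem_center_iff.1 hy₂
      rw [hz]
      have : gt * Hs.toSU hF φ hφ y₂ *
          ((gt * Hs.toSU hF φ hφ y₂ * gt⁻¹)⁻¹ * Hs.toSU hF φ hφ y₁) =
          (gt * Hs.toSU hF φ hφ y₂ * gt⁻¹) * ((gt * Hs.toSU hF φ hφ y₂ * gt⁻¹)⁻¹ *
            Hs.toSU hF φ hφ y₁) * gt := by
        rw [← hz]
        rw [mul_assoc (gt * Hs.toSU hF φ hφ y₂ * gt⁻¹), ← hzc gt]
        group
      rw [this]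
      group
    have hz3 := congrArg (fun w : Cfsg.SU 3 F 2 =>
      ((w : Matrix.SpecialLinearGroup (Fin 3) F) : Matrix (Fin 3) (Fin 3) F)) hz2
    simp only [SU_mul_coe, Hs.coe_toSU] at hz3
    rw [hzs] at hz3
    obtain ⟨G, hG⟩ : ∃ G, G = ((gt : Matrix.SpecialLinearGroup (Fin 3) F) :
      Matrix (Fin 3) (Fin 3) F) := ⟨_, rfl⟩
    rw [← hG] at hz3
    have hGU : IsU φ G := by
      rw [hG]
      exact (mem_SU_iff_isU φ hφ 3 _).1 gt.2
    have hGdet : G.det = 1 := by
      rw [hG]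
      exact (gt : Matrix.SpecialLinearGroup (Fin 3) F).2
    obtain ⟨y, μ, hμ0, hyμ⟩ := exists_smul_mat_of_conj φ G hGU hGdet
      (norm_cube_of_ne_zero hF φ hφ) y₁ y₂ hy₁ _ (by
        rw [hz3, Matrix.mul_smul, mul_one])
    obtain ⟨hn1, hn3⟩ := norm_cube_of_ne_zero hF φ hφ μ hμ0
    -- so `gt` is a scalar times an element of the group
    apply hg
    refine ⟨y, ?_⟩
    unfold Hs.toPSU
    rw [MonoidHom.comp_apply, QuotientGroup.mk'_apply, QuotientGroup.eq]
    apply mem_center_of_scalar _ μ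
    obtain ⟨w, hw⟩ : ∃ w, w = (Hs.toSU hF φ hφ y)⁻¹ * gt := ⟨_, rfl⟩
    rw [← hw]
    have h5 : Hs.toSU hF φ hφ y * w = gt := by rw [hw]; group
    have h6 := congrArg (fun w : Cfsg.SU 3 F 2 =>
      ((w : Matrix.SpecialLinearGroup (Fin 3) F) : Matrix (Fin 3) (Fin 3) F)) h5
    simp only [SU_mul_coe, Hs.coe_toSU] at h6
    rw [← hG, hyμ] at h6
    -- cancel the invertible matrix
    have h7 : Hs.mat φ y⁻¹ * Hs.mat φ y = 1 := by
      rw [← Hs.mat_mul, inv_mul_cancel, Hs.mat_one]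
    have h8 := congrArg (fun M => Hs.mat φ y⁻¹ * M) h6
    simp only [← Matrix.mul_assoc, h7, Matrix.one_mul, Matrix.mul_smul] at h8
    exact h8

omit [Fintype F] hφφ [CharP F 2] in
include hφ in
theorem fixed_eq_zero_or_one (d : F) (hd : φ d = d) : d = 0 ∨ d = 1 := by
  rw [hφ] at hd
  have : d * (d - 1) = 0 := by linear_combination hd
  rcases mul_eq_zero.1 this with h | h
  · exact Or.inl h
  · exact Or.inr (by linear_combination h)

include hF hφ in
/-- over the field with four elements the Heisenberg-type group is the quaternion group -/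
theorem Hs_equiv_quaternion : Nonempty (Hs φ ≃* QuaternionGroup 2) := by
  have hne := frob_ne_id hF φ hφ
  have h2 : ∀ x : F, x + x = 0 := fun x => CharTwo.add_self_eq_zero x
  obtain ⟨c, hc⟩ : ∃ c, φ c ≠ c := by
    by_contra hc
    push Not at hc
    exact hne (RingHom.ext hc)
  have hc0 : c ≠ 0 := by
    intro h
    apply hc
    rw [h, map_zero]
  have hcn := (norm_cube_of_ne_zero hF φ hφ c hc0).1
  have hctr : c + φ c = 1 := by
    rcases fixed_eq_zero_or_one φ hφ (c + φ c) (by rw [map_add, hφφ.out, add_comm]) with h | h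
    · exfalso
      apply hc
      linear_combination h - h2 c
    · exact h
  obtain ⟨x, hx⟩ := Hs.exists_a φ hne 1
  obtain ⟨t, ht⟩ := Hs.exists_a φ hne c
  have hxx : (x * x).a = 0 ∧ (x * x).s = 1 := by
    refine ⟨by rw [Hs.mul_a, hx]; exact h2 1, ?_⟩
    rw [Hs.mul_s, hx, map_one, mul_one]
    linear_combination h2 x.s - h2 1
  have htt : t * t = x * x := by
    ext
    · rw [hxx.1, Hs.mul_a]
      exact h2 _
    · rw [hxx.2, Hs.mul_s, ht, hcn]
      linear_combination h2 t.s - h2 1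
  have hx2 : x ^ 2 ≠ 1 := by
    rw [pow_two]
    intro h
    have := congrArg Hs.s h
    rw [hxx.2, Hs.one_s] at this
    exact one_ne_zero this
  have hx4 : x ^ 4 = 1 := by
    have : x ^ 4 = (x * x) * (x * x) := by
      rw [show (4 : ℕ) = 2 + 2 from rfl, pow_add, pow_two]
    rw [this, Hs.mul_self_eq_one_iff]
    exact hxx.1
  have hord : orderOf x = 2 * 2 := by
    have := orderOf_eq_prime_pow (p := 2) (n := 1) (x := x) (by simpa using hx2) (by simpa using hx4)
    simpa using this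
  have htx : t * x = x⁻¹ * t := by
    ext
    · simp only [Hs.mul_a, Hs.inv_a, ht, hx]
      linear_combination h2 1
    · simp only [Hs.mul_s, Hs.inv_s, Hs.inv_a, ht, hx, map_one, map_neg, mul_one]
      linear_combination h2 x.s - hctr
  have hncomm : x * t ≠ t * x := by
    rw [Ne, Hs.commute_iff, hx, ht, map_one, mul_one, one_mul]
    exact fun h => hc h.symm
  have htn : t ∉ Subgroup.zpowers x := by
    intro h
    obtain ⟨k, hk⟩ := Subgroup.mem_zpowers_iff.1 h
    apply hncomm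
    rw [← hk]
    exact ((Commute.refl x).zpow_right k).eq
  have hcard : Nat.card (Hs φ) = 8 := by
    rw [card_Hs hF φ hφ]; norm_num
  have hidx : (Subgroup.zpowers x).index = 2 := by
    have := Subgroup.card_mul_index (Subgroup.zpowers x)
    rw [Nat.card_zpowers, hord, hcard] at this
    omega
  have hfin : IsOfFinOrder x := by
    rw [← orderOf_pos_iff, hord]; norm_num
  apply Cfsg.Agent.Helper16.nonempty_mulEquiv_quaternion x t hord
  · rw [pow_two, pow_two]; exact htt
  · rw [htx]; group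
  · exact htn
  · intro g
    by_cases hg : g ∈ Subgroup.zpowers x
    · exact Or.inl hg
    · right
      have h1 : t⁻¹ * g ∈ Subgroup.zpowers x := by
        rw [Subgroup.mul_mem_iff_of_index_two hidx]
        constructor
        · intro h
          exact absurd ((Subgroup.inv_mem_iff _).1 h) htn
        · intro h
          exact absurd h hg
      rw [← hfin.mem_powers_iff_mem_zpowers, Submonoid.mem_powers_iff] at h1
      obtain ⟨s, hs⟩ := h1
      refine ⟨s, ?_⟩
      rw [hs]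
      group

end psu32

section frobenius

open scoped Pointwise

/-- a Frobenius kernel acted on by a nonabelian complement is not cyclic -/
theorem not_isCyclic_of_frobenius {G : Type*} [Group G] (H N : Subgroup G) [hNn : N.Normal]
    (hH : Cfsg.IsFrobeniusComplement H) (hNH : N ⊓ H = ⊥) (hN : N ≠ ⊥) (t : G)
    (ht : t ∈ ⁅H, H⁆) (ht1 : t ≠ 1) : ¬ IsCyclic N := by
  intro hcyc
  have hcomm : ∀ σ τ : MulAut N, σ * τ = τ * σ := by
    intro σ τ
    apply (IsCyclic.mulAutMulEquiv N).injective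
    rw [map_mul, map_mul, mul_comm]
  have htH : t ∈ H := by
    have : ⁅H, H⁆ ≤ H := Subgroup.commutator_le.2 (fun a ha b hb =>
      H.mul_mem (H.mul_mem (H.mul_mem ha hb) (H.inv_mem ha)) (H.inv_mem hb))
    exact this ht
  have hker : ⁅H, H⁆ ≤ (MulAut.conjNormal (H := N)).ker := by
    rw [Subgroup.commutator_le]
    intro a _ b _
    rw [MonoidHom.mem_ker, map_commutatorElement, commutatorElement_eq_one_iff_commute]
    exact hcomm _ _
  have ht2 := hker ht
  rw [MonoidHom.mem_ker] at ht2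
  obtain ⟨⟨n, hn⟩, hn1⟩ := (Subgroup.ne_bot_iff_exists_ne_one).1 hN
  have hn1' : n ≠ 1 := fun h => hn1 (Subtype.ext h)
  have h3 : t * n * t⁻¹ = n := by
    have := congrArg (fun σ : MulAut N => ((σ ⟨n, hn⟩ : N) : G)) ht2
    simpa [MulAut.conjNormal_apply] using this
  have hninv : n⁻¹ ∉ H := by
    intro h
    have : n⁻¹ ∈ N ⊓ H := ⟨N.inv_mem hn, h⟩
    rw [hNH, Subgroup.mem_bot, inv_eq_one] at this
    exact hn1' this
  have h4 := hH.2.2 n⁻¹ hninv
  have h5 : t ∈ H ⊓ MulAut.conj n⁻¹ • H := by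
    refine Subgroup.mem_inf.2 ⟨htH, ?_⟩
    rw [Subgroup.mem_smul_pointwise_iff_exists]
    refine ⟨t, htH, ?_⟩
    rw [MulAut.smul_def, MulAut.conj_apply, inv_inv]
    have : t * n = n * t := by
      have := congrArg (fun g => g * t) h3
      simpa using this
    rw [mul_assoc, this, ← mul_assoc, inv_mul_cancel, one_mul]
  rw [h4, Subgroup.mem_bot] at h5
  exact ht1 h5

end frobenius

end Cfsg.Agent.Helper11.Herm
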