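import Mathlib
import Cfsg.Agent.Lib.Helper11.UnitaryHeis2

set_option autoImplicit false

/-! Explicit monomial elements of `SU_3(2)`. -/

namespace Cfsg.Agent.Helper11.TT232C

open Matrix Cfsg.Agent.Helper11.Herm

section mats

variable {F : Type*} [Field F]

/-- the diagonal matrix `diag(ω, ω², 1)` -/
def mA (ω : F) : Matrix (Fin 3) (Fin 3) F := !![ω, 0, 0; 0, ω ^ 2, 0; 0, 0, 1]

/-- the permutation matrix of a 3-cycle -/
def mB (F : Type*) [Field F] : Matrix (Fin 3) (Fin 3) F := !![0, 0, 1; 1, 0, 0; 0, 1, 0]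

/-- the permutation matrix of a transposition -/
def mD (F : Type*) [Field F] : Matrix (Fin 3) (Fin 3) F := !![0, 1, 0; 1, 0, 0; 0, 0, 1]

variable (ω : F) (hω : ω ^ 3 = 1)

include hω in
theorem mA_cube : mA ω * mA ω * mA ω = 1 := by
  have h6 : ω ^ 2 * ω ^ 2 * ω ^ 2 = 1 := by
    have : ω ^ 2 * ω ^ 2 * ω ^ 2 = (ω ^ 3) ^ 2 := by ring
    rw [this, hω, one_pow]
  have h3 : ω * ω * ω = 1 := by rw [← hω]; ring
  ext i j
  fin_cases i <;> fin_cases j <;>
    simp [mA, Matrix.mul_apply, Fin.sum_univ_three, h3, h6]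

theorem mB_cube : mB F * mB F * mB F = 1 := by
  ext i j
  fin_cases i <;> fin_cases j <;>
    simp [mB, Matrix.mul_apply, Fin.sum_univ_three]

theorem mD_sq : mD F * mD F = 1 := by
  ext i j
  fin_cases i <;> fin_cases j <;>
    simp [mD, Matrix.mul_apply, Fin.sum_univ_three]

include hω in
theorem mD_mA : mD F * mA ω = mA ω * mA ω * mD F := by
  have h4 : ω * ω * (ω * ω) = ω := by
    have : ω * ω * (ω * ω) = ω ^ 3 * ω := by ring
    rw [this, hω, one_mul]
  ext i j
  fin_cases i <;> fin_cases j <;>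
    simp [mD, mA, Matrix.mul_apply, Fin.sum_univ_three, h4, pow_two]

theorem mD_mB : mD F * mB F = mB F * mB F * mD F := by
  ext i j
  fin_cases i <;> fin_cases j <;>
    simp [mD, mB, Matrix.mul_apply, Fin.sum_univ_three]

theorem mA_mB_ne (h : ω ^ 2 ≠ ω) : mA ω * mB F ≠ mB F * mA ω := by
  intro hc
  have := congrFun (congrFun hc 1) 0
  simp [mA, mB, Matrix.mul_apply, Fin.sum_univ_three] at this
  exact h this

include hω in
theorem mAB_cube : (mA ω * mB F) * (mA ω * mB F) * (mA ω * mB F) = 1 := by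
  have h3 : ω * ω ^ 2 = 1 := by rw [← hω]; ring
  have h3' : ω ^ 2 * ω = 1 := by rw [← hω]; ring
  ext i j
  fin_cases i <;> fin_cases j <;>
    simp [mA, mB, Matrix.mul_apply, Fin.sum_univ_three, h3, h3']

include hω in
theorem mABB_cube :
    (mA ω * (mB F * mB F)) * (mA ω * (mB F * mB F)) * (mA ω * (mB F * mB F)) = 1 := by
  have h3 : ω * ω ^ 2 = 1 := by rw [← hω]; ring
  have h3' : ω ^ 2 * ω = 1 := by rw [← hω]; ring
  ext i j
  fin_cases i <;> fin_cases j <;>
    simp [mA, mB, Matrix.mul_apply, Fin.sum_univ_three, h3, h3']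

include hω in
theorem det_mA : (mA ω).det = 1 := by
  rw [Matrix.det_fin_three]
  simp [mA]
  rw [← hω]; ring

theorem det_mB : (mB F).det = 1 := by
  rw [Matrix.det_fin_three]
  simp [mB]

theorem det_mD [CharP F 2] : (mD F).det = 1 := by
  rw [Matrix.det_fin_three]
  simp [mD]
  exact CharTwo.neg_eq (1 : F)

theorem mD_ne_one : mD F ≠ 1 := by
  intro hc
  have := congrFun (congrFun hc 0) 0
  simp [mD] at this

theorem isU_mB (φ : F →+* F) : IsU φ (mB F) := by
  unfold IsU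
  ext i j
  fin_cases i <;> fin_cases j <;>
    simp [mB, Matrix.mul_apply, Fin.sum_univ_three, Matrix.map_apply]

theorem isU_mD (φ : F →+* F) : IsU φ (mD F) := by
  unfold IsU
  ext i j
  fin_cases i <;> fin_cases j <;>
    simp [mD, Matrix.mul_apply, Fin.sum_univ_three, Matrix.map_apply]

include hω in
theorem isU_mA (φ : F →+* F) (hφ : ∀ x, φ x = x ^ 2) : IsU φ (mA ω) := by
  have h3 : ω * ω ^ 2 = 1 := by rw [← hω]; ring
  have h6 : ω ^ 2 * (ω ^ 2) ^ 2 = 1 := by
    have : ω ^ 2 * (ω ^ 2) ^ 2 = (ω ^ 3) ^ 2 := by ring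
    rw [this, hω, one_pow]
  unfold IsU
  ext i j
  fin_cases i <;> fin_cases j <;>
    simp [mA, Matrix.mul_apply, Fin.sum_univ_three, Matrix.map_apply, hφ, h3, h6]

end mats

end Cfsg.Agent.Helper11.TT232C
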