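import Mathlib
import Cfsg.Agent.Lib.Helper11.TT232C0
import Cfsg.Agent.Lib.Helper11.TT232C1a
import Cfsg.Agent.S0827

set_option autoImplicit false

/-! The commutator subgroup of `SU_3(2)` has order 54. -/

namespace Cfsg.Agent.Helper11.TT232C

open Matrix Cfsg.Agent.Helper11.Herm
open scoped commutatorElement

section su

variable {F : Type*} [Field F] [Fintype F] (hF : Fintype.card F = 2 ^ 2)

include hF in
theorem exists_omega : ∃ ω : F, ω ^ 3 = 1 ∧ ω ^ 2 ≠ ω := by
  obtain ⟨φ, hφ⟩ := exists_frob hF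
  have h2 : 2 < Fintype.card F := by rw [hF]; norm_num
  obtain ⟨x, y, z, hxy, hxz, hyz⟩ := Fintype.two_lt_card_iff.1 h2
  obtain ⟨ω, h0, h1⟩ : ∃ ω : F, ω ≠ 0 ∧ ω ≠ 1 := by
    by_cases hx0 : x = 0
    · by_cases hy1 : y = 1
      · refine ⟨z, ?_, ?_⟩
        · rw [← hx0]; exact fun h => hxz h.symm
        · rw [← hy1]; exact fun h => hyz h.symm
      · refine ⟨y, ?_, hy1⟩
        rw [← hx0]; exact fun h => hxy h.symm
    · by_cases hx1 : x = 1
      · by_cases hy0 : y = 0
        · refine ⟨z, ?_, ?_⟩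
          · rw [← hy0]; exact fun h => hyz h.symm
          · rw [← hx1]; exact fun h => hxz h.symm
        · refine ⟨y, hy0, ?_⟩
          rw [← hx1]; exact fun h => hxy h.symm
      · exact ⟨x, hx0, hx1⟩
  refine ⟨ω, (norm_cube_of_ne_zero hF φ hφ ω h0).2, ?_⟩
  intro h
  have : ω * (ω - 1) = 0 := by rw [mul_sub, mul_one, ← pow_two, h, sub_self]
  rcases mul_eq_zero.1 this with h' | h'
  · exact h0 h'
  · exact h1 (sub_eq_zero.1 h')

include hF in
/-- explicit generators of the group of order 54 inside `SU_3(2)` -/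
theorem exists_gens_mul : ∃ a b d : Cfsg.SU 3 F 2, a * a * a = 1 ∧ b * b * b = 1 ∧ d * d = 1 ∧
    d ≠ 1 ∧ d * a = a * a * d ∧ d * b = b * b * d ∧ a * b ≠ b * a ∧
    (a * b) * (a * b) * (a * b) = 1 ∧ (a * (b * b)) * (a * (b * b)) * (a * (b * b)) = 1 := by
  have hchar2 : CharP F 2 := by
    rw [← ringChar.eq_iff, FiniteField.even_card_iff_char_two, hF]
    norm_num
  obtain ⟨ω, hω, hω2⟩ := exists_omega hF
  refine ⟨mkSU hF 3 (mA ω) (det_mA ω hω) (fun φ hφ => isU_mA ω hω φ hφ),
    mkSU hF 3 (mB F) det_mB (fun φ _ => isU_mB φ),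
    mkSU hF 3 (mD F) det_mD (fun φ _ => isU_mD φ), ?_, ?_, ?_, ?_, ?_, ?_, ?_, ?_, ?_⟩
  · apply SU_ext
    simp only [SU_mul_coe, coe_mkSU]
    rw [mA_cube ω hω]; rfl
  · apply SU_ext
    simp only [SU_mul_coe, coe_mkSU]
    rw [mB_cube]; rfl
  · apply SU_ext
    simp only [SU_mul_coe, coe_mkSU]
    rw [mD_sq]; rfl
  · intro h
    have := congrArg (fun x : Cfsg.SU 3 F 2 =>
      ((x : Matrix.SpecialLinearGroup (Fin 3) F) : Matrix (Fin 3) (Fin 3) F)) h
    simp only [coe_mkSU] at this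
    exact mD_ne_one this
  · apply SU_ext
    simp only [SU_mul_coe, coe_mkSU]
    exact mD_mA ω hω
  · apply SU_ext
    simp only [SU_mul_coe, coe_mkSU]
    exact mD_mB
  · intro h
    have := congrArg (fun x : Cfsg.SU 3 F 2 =>
      ((x : Matrix.SpecialLinearGroup (Fin 3) F) : Matrix (Fin 3) (Fin 3) F)) h
    simp only [SU_mul_coe, coe_mkSU] at this
    exact mA_mB_ne ω hω2 this
  · apply SU_ext
    simp only [SU_mul_coe, coe_mkSU]
    rw [mAB_cube ω hω]; rfl
  · apply SU_ext
    simp only [SU_mul_coe, coe_mkSU]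
    rw [mABB_cube ω hω]; rfl

end su

/-- group-word consequences of the multiplicative relations -/
theorem rel_forms {X : Type*} [Group X] {a b d : X} (ha : a * a * a = 1) (hb : b * b * b = 1)
    (hd : d * d = 1) (hda : d * a = a * a * d) (hdb : d * b = b * b * d)
    (hab : (a * b) * (a * b) * (a * b) = 1)
    (habb : (a * (b * b)) * (a * (b * b)) * (a * (b * b)) = 1) :
    a ^ 3 = 1 ∧ b ^ 3 = 1 ∧ d ^ 2 = 1 ∧ d * a * d⁻¹ = a⁻¹ ∧ d * b * d⁻¹ = b⁻¹ ∧
      (a * b) ^ 3 = 1 ∧ (a * b⁻¹) ^ 3 = 1 := by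
  have hai : a⁻¹ = a * a := by
    rw [inv_eq_iff_mul_eq_one, ← mul_assoc]; exact ha
  have hbi : b⁻¹ = b * b := by
    rw [inv_eq_iff_mul_eq_one, ← mul_assoc]; exact hb
  refine ⟨by rw [pow_succ, pow_two]; exact ha, by rw [pow_succ, pow_two]; exact hb,
    by rw [pow_two]; exact hd, ?_, ?_, by rw [pow_succ, pow_two]; exact hab,
    by rw [hbi, pow_succ, pow_two]; exact habb⟩
  · rw [hda, mul_inv_cancel_right, hai]
  · rw [hdb, mul_inv_cancel_right, hbi]

section main

variable {F : Type*} [Field F] [Fintype F] (hF : Fintype.card F = 4)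

include hF in
/-- the structure of `SU_3(2)` relative to its commutator subgroup -/
theorem su3_structure : Nat.card ↥(commutator ↥(Cfsg.SU 3 F 2)) = 54 ∧
    (∀ g : Cfsg.SU 3 F 2, g ^ 3 = 1 → g ∈ commutator ↥(Cfsg.SU 3 F 2)) ∧
    (∀ g : Cfsg.SU 3 F 2, g ^ 2 = 1 → g ∈ commutator ↥(Cfsg.SU 3 F 2)) := by
  have hF' : Fintype.card F = 2 ^ 2 := by rw [hF]; norm_num
  obtain ⟨N, hNn, hcardN, -, ⟨e⟩⟩ := Cfsg.Agent.S0827.result hF
  have hcardG : Nat.card (Cfsg.SU 3 F 2) = 216 := card_SU_three_two hF'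
  have hfinG : Finite (Cfsg.SU 3 F 2) :=
    Nat.finite_of_card_ne_zero (by rw [hcardG]; norm_num)
  have hcardP : Nat.card (Cfsg.PSU 3 F 2) = 72 := card_PSU_three_two hF'
  have hcardT : Nat.card (Cfsg.PSU 3 F 2 ⧸ N) = 2 ^ 3 := by
    have := Subgroup.card_eq_card_quotient_mul_card_subgroup N
    rw [hcardP, hcardN] at this
    omega
  let f : Cfsg.SU 3 F 2 →* Cfsg.PSU 3 F 2 ⧸ N :=
    (QuotientGroup.mk' N).comp (QuotientGroup.mk' (Subgroup.center (Cfsg.SU 3 F 2)))
  have hf : Function.Surjective f :=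
    (QuotientGroup.mk'_surjective N).comp (QuotientGroup.mk'_surjective _)
  -- the kernel has order 27
  have hcardK : Nat.card f.ker = 3 ^ 3 := by
    have h1 := Subgroup.card_eq_card_quotient_mul_card_subgroup f.ker
    rw [Nat.card_congr (QuotientGroup.quotientKerEquivOfSurjective f hf).toEquiv, hcardG,
      hcardT] at h1
    omega
  -- the quotient is not abelian
  have hnc : ∃ x y : Cfsg.PSU 3 F 2 ⧸ N, x * y ≠ y * x := by
    refine ⟨e.symm (QuaternionGroup.a 1), e.symm (QuaternionGroup.xa 0), ?_⟩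
    rw [← map_mul, ← map_mul]
    intro h
    have := e.symm.injective h
    revert this
    decide
  obtain ⟨hcardZ, hTZ⟩ := center_of_card_pcube (p := 2) hcardT hnc
  have hcardT' : Nat.card (commutator (Cfsg.PSU 3 F 2 ⧸ N)) = 2 := by
    have hfinT : Finite (Cfsg.PSU 3 F 2 ⧸ N) :=
      Nat.finite_of_card_ne_zero (by rw [hcardT]; norm_num)
    have h1 := Subgroup.card_dvd_of_le hTZ
    rw [hcardZ] at h1
    rcases (Nat.dvd_prime Nat.prime_two).1 h1 with h2 | h2
    · exfalso
      obtain ⟨x, y, hxy⟩ := hnc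
      apply hxy
      have h3 : ⁅x, y⁆ ∈ commutator (Cfsg.PSU 3 F 2 ⧸ N) := by
        rw [commutator_def]
        exact Subgroup.commutator_mem_commutator (Subgroup.mem_top x) (Subgroup.mem_top y)
      have h4 := (Subgroup.card_eq_one.1 h2)
      rw [h4, Subgroup.mem_bot, commutatorElement_eq_one_iff_mul_comm] at h3
      exact h3
    · exact h2
  -- elements of order three lie in the kernel
  have hker3 : ∀ g : Cfsg.SU 3 F 2, g ^ 3 = 1 → g ∈ f.ker := by
    intro g hg
    rw [MonoidHom.mem_ker]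
    have h1 : orderOf (f g) ∣ 3 := by
      apply orderOf_dvd_of_pow_eq_one
      rw [← map_pow, hg, map_one]
    have h2 : orderOf (f g) ∣ 2 ^ 3 := by
      rw [← hcardT]
      exact orderOf_dvd_natCard _
    have h3 : orderOf (f g) ∣ Nat.gcd 3 (2 ^ 3) := Nat.dvd_gcd h1 h2
    have h4 : Nat.gcd 3 (2 ^ 3) = 1 := by norm_num
    rw [h4, Nat.dvd_one, orderOf_eq_one_iff] at h3
    exact h3
  -- the kernel lies in the commutator subgroup
  obtain ⟨a, b, d, ha, hb, hd, hd1, hda, hdb, hab, habc, habbc⟩ := exists_gens_mul hF'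
  obtain ⟨ha3, hb3, hd2, hdai, hdbi, -, -⟩ := rel_forms ha hb hd hda hdb habc habbc
  have hamem : a ∈ commutator (Cfsg.SU 3 F 2) := by
    have : a = ⁅d, a⁆ := by
      rw [commutatorElement_def, hdai]
      have hai : a⁻¹ = a * a := by
        rw [inv_eq_iff_mul_eq_one, ← mul_assoc]; exact ha
      rw [hai, ← mul_assoc, ha, one_mul]
    rw [this, commutator_def]
    exact Subgroup.commutator_mem_commutator (Subgroup.mem_top _) (Subgroup.mem_top _)
  have hbmem : b ∈ commutator (Cfsg.SU 3 F 2) := by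
    have : b = ⁅d, b⁆ := by
      rw [commutatorElement_def, hdbi]
      have hbi : b⁻¹ = b * b := by
        rw [inv_eq_iff_mul_eq_one, ← mul_assoc]; exact hb
      rw [hbi, ← mul_assoc, hb, one_mul]
    rw [this, commutator_def]
    exact Subgroup.commutator_mem_commutator (Subgroup.mem_top _) (Subgroup.mem_top _)
  have hKle : f.ker ≤ commutator (Cfsg.SU 3 F 2) := by
    have htop := eq_top_of_noncomm (p := 3) hcardK ((commutator (Cfsg.SU 3 F 2)).subgroupOf f.ker)
      ⟨a, hker3 a ha3⟩ ⟨b, hker3 b hb3⟩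
      (by rw [Subgroup.mem_subgroupOf]; exact hamem)
      (by rw [Subgroup.mem_subgroupOf]; exact hbmem)
      (by
        intro h
        apply hab
        exact congrArg Subtype.val h)
    exact Subgroup.subgroupOf_eq_top.1 htop
  have hcard := card_commutator_of_ker_le f hf hKle
  rw [hcardK, hcardT'] at hcard
  refine ⟨by rw [hcard]; norm_num, fun g hg => hKle (hker3 g hg), ?_⟩
  -- involutions
  intro g hg
  have h1 : e (f g) * e (f g) = 1 := by
    rw [← map_mul, ← map_mul, ← pow_two, hg, map_one, map_one]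
  have h2 : ∀ x : QuaternionGroup 2, x * x = 1 → x = 1 ∨ x = QuaternionGroup.a 2 := by decide
  have h3 : f g ∈ commutator (Cfsg.PSU 3 F 2 ⧸ N) := by
    rcases h2 _ h1 with h4 | h4
    · have : f g = 1 := by
        apply e.injective
        rw [h4, map_one]
      rw [this]
      exact Subgroup.one_mem _
    · have h5 : (QuaternionGroup.a 2 : QuaternionGroup 2) =
          ⁅(QuaternionGroup.a 1 : QuaternionGroup 2), (QuaternionGroup.xa 0 : QuaternionGroup 2)⁆ := by
        decide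
      have : f g = ⁅e.symm (QuaternionGroup.a 1), e.symm (QuaternionGroup.xa 0)⁆ := by
        apply e.injective
        rw [h4, h5, map_commutatorElement, MulEquiv.apply_symm_apply, MulEquiv.apply_symm_apply]
      rw [this, commutator_def]
      exact Subgroup.commutator_mem_commutator (Subgroup.mem_top _) (Subgroup.mem_top _)
  have hmap : (commutator (Cfsg.SU 3 F 2)).map f = commutator (Cfsg.PSU 3 F 2 ⧸ N) := by
    rw [commutator_def, Subgroup.map_commutator, ← MonoidHom.range_eq_map,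
      MonoidHom.range_eq_top.2 hf, commutator_def]
  rw [← hmap] at h3
  obtain ⟨c, hc, hcg⟩ := h3
  have h6 : g * c⁻¹ ∈ f.ker := by
    rw [MonoidHom.mem_ker, map_mul, map_inv, hcg, mul_inv_cancel]
  have h7 := Subgroup.mul_mem _ (hKle h6) hc
  rwa [inv_mul_cancel_right] at h7

include hF in
/-- `|SU_3(2)'| = 54` -/
theorem card_commutator_SU3 : Nat.card ↥(commutator ↥(Cfsg.SU 3 F 2)) = 54 :=
  (su3_structure hF).1

end main

end Cfsg.Agent.Helper11.TT232C
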