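import Mathlib
import Cfsg.Agent.Lib.Helper11.TT232C1
import Cfsg.Agent.Lib.Helper3.TT232P

set_option autoImplicit false

/-! Recognition of the group `SU_3(2)'` of order 54 by generators and relations. -/

namespace Cfsg.Agent.Helper11.TT232C

open scoped commutatorElement

/-- class two computation: `(ab)^3 = 1` -/
theorem cube_mul_of_central {X : Type*} [Group X] (a b c : X) (ha : a ^ 3 = 1) (hb : b ^ 3 = 1)
    (hc : c ^ 3 = 1) (hca : c * a = a * c) (hcb : c * b = b * c) (hba : b * a = a * b * c) :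
    (a * b) ^ 3 = 1 := by
  have e1 : a * b * (a * b) = a * a * (b * b) * c := by
    calc a * b * (a * b) = a * (b * a) * b := by simp only [mul_assoc]
      _ = a * (a * b * c) * b := by rw [hba]
      _ = a * a * b * (c * b) := by simp only [mul_assoc]
      _ = a * a * b * (b * c) := by rw [hcb]
      _ = a * a * (b * b) * c := by simp only [mul_assoc]
  have e2 : b * b * a = a * (b * b) * (c * c) := by
    calc b * b * a = b * (b * a) := by simp only [mul_assoc]
      _ = b * (a * b * c) := by rw [hba]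
      _ = (b * a) * b * c := by simp only [mul_assoc]
      _ = (a * b * c) * b * c := by rw [hba]
      _ = a * b * (c * b) * c := by simp only [mul_assoc]
      _ = a * b * (b * c) * c := by rw [hcb]
      _ = a * (b * b) * (c * c) := by simp only [mul_assoc]
  have ha' : a * a * a = 1 := by rw [← ha, pow_succ, pow_two]
  have hb' : b * b * b = 1 := by rw [← hb, pow_succ, pow_two]
  have hc' : c * c * c = 1 := by rw [← hc, pow_succ, pow_two]
  calc (a * b) ^ 3 = a * b * (a * b) * (a * b) := by rw [pow_succ, pow_two]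
    _ = a * a * (b * b) * c * (a * b) := by rw [e1]
    _ = a * a * (b * b) * (c * a) * b := by simp only [mul_assoc]
    _ = a * a * (b * b) * (a * c) * b := by rw [hca]
    _ = a * a * (b * b * a) * (c * b) := by simp only [mul_assoc]
    _ = a * a * (a * (b * b) * (c * c)) * (b * c) := by rw [e2, hcb]
    _ = a * a * a * (b * b) * (c * (c * b)) * c := by simp only [mul_assoc]
    _ = a * a * a * (b * b) * (c * (b * c)) * c := by rw [hcb]
    _ = a * a * a * (b * b) * ((c * b) * c) * c := by simp only [mul_assoc]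
    _ = a * a * a * (b * b) * ((b * c) * c) * c := by rw [hcb]
    _ = (a * a * a) * (b * b * b) * (c * c * c) := by simp only [mul_assoc]
    _ = 1 := by rw [ha', hb', hc', one_mul, one_mul]

/-- structure of a group of order 54 with two non-commuting elements of order three -/
theorem struct54 {X : Type*} [Group X] [Finite X] (hX : Nat.card X = 54) (a b : X)
    (ha : a ^ 3 = 1) (hb : b ^ 3 = 1) (hab : a * b ≠ b * a) :
    (a * b) ^ 3 = 1 ∧ (a * b⁻¹) ^ 3 = 1 ∧
      ∀ d : X, d ^ 2 = 1 → d ≠ 1 → Subgroup.closure {a, b, d} = ⊤ := by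
  haveI : Fact (Nat.Prime 3) := ⟨Nat.prime_three⟩
  obtain ⟨K, hK⟩ := Sylow.exists_subgroup_card_pow_prime 3
    (show 3 ^ 3 ∣ Nat.card X by rw [hX]; norm_num)
  have hidx : K.index = 2 := by
    have := K.card_mul_index
    rw [hK, hX] at this
    omega
  haveI hKn : K.Normal := Subgroup.normal_of_index_eq_two hidx
  have hcardQ : Nat.card (X ⧸ K) = 2 := by rw [← Subgroup.index_eq_card]; exact hidx
  have hmem3 : ∀ g : X, g ^ 3 = 1 → g ∈ K := by
    intro g hg
    rw [← QuotientGroup.eq_one_iff]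
    have h1 : orderOf (g : X ⧸ K) ∣ 3 := by
      apply orderOf_dvd_of_pow_eq_one
      rw [← QuotientGroup.mk_pow, hg, QuotientGroup.mk_one]
    have h2 : orderOf (g : X ⧸ K) ∣ 2 := by
      rw [← hcardQ]
      exact orderOf_dvd_natCard _
    have h3 : orderOf (g : X ⧸ K) ∣ Nat.gcd 3 2 := Nat.dvd_gcd h1 h2
    have h4 : Nat.gcd 3 2 = 1 := by norm_num
    rw [h4, Nat.dvd_one, orderOf_eq_one_iff] at h3
    exact h3
  have haK := hmem3 a ha
  have hbK := hmem3 b hb
  -- the centre of `K`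
  have hncK : ∃ x y : K, x * y ≠ y * x :=
    ⟨⟨a, haK⟩, ⟨b, hbK⟩, fun h => hab (congrArg Subtype.val h)⟩
  obtain ⟨hZ, hKZ⟩ := center_of_card_pcube (p := 3) hK hncK
  obtain ⟨z, hz⟩ : ∃ z : K, z = ⁅(⟨a, haK⟩ : K), ⟨b, hbK⟩⁆ := ⟨_, rfl⟩
  have hzc : z ∈ Subgroup.center K := by
    apply hKZ
    rw [hz, commutator_def]
    exact Subgroup.commutator_mem_commutator (Subgroup.mem_top _) (Subgroup.mem_top _)
  have hz3 : z ^ 3 = 1 := by
    have h1 : (⟨z, hzc⟩ : Subgroup.center K) ^ 3 = 1 := by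
      rw [← hZ]
      exact pow_card_eq_one'
    exact congrArg Subtype.val h1
  rw [Subgroup.mem_center_iff] at hzc
  -- pass to `X`
  have hzX : (z : X) = a * b * a⁻¹ * b⁻¹ := by
    rw [hz]; rfl
  obtain ⟨c, hc⟩ : ∃ c : X, c = (z : X)⁻¹ := ⟨_, rfl⟩
  have hc3 : c ^ 3 = 1 := by
    rw [hc, inv_pow]
    have : ((z : X)) ^ 3 = 1 := by
      have := congrArg Subtype.val hz3
      simpa using this
    rw [this, inv_one]
  have hza : (z : X) * a = a * z := by
    have := hzc ⟨a, haK⟩
    exact (congrArg Subtype.val this).symm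
  have hzb : (z : X) * b = b * z := by
    have := hzc ⟨b, hbK⟩
    exact (congrArg Subtype.val this).symm
  have hca : c * a = a * c := by
    rw [hc, inv_mul_eq_iff_eq_mul, ← mul_assoc, hza, mul_assoc, mul_inv_cancel, mul_one]
  have hcb : c * b = b * c := by
    rw [hc, inv_mul_eq_iff_eq_mul, ← mul_assoc, hzb, mul_assoc, mul_inv_cancel, mul_one]
  have h1 : (z : X) * b * a = a * b := by
    rw [hzX]; group
  have hba : b * a = a * b * c := by
    rw [hc, eq_mul_inv_iff_mul_eq, mul_assoc, ← hza, ← mul_assoc, ← hzb]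
    exact h1
  have hbi3 : b⁻¹ ^ 3 = 1 := by rw [inv_pow, hb, inv_one]
  have hci3 : c⁻¹ ^ 3 = 1 := by rw [inv_pow, hc3, inv_one]
  have hcia : c⁻¹ * a = a * c⁻¹ := by
    rw [inv_mul_eq_iff_eq_mul, ← mul_assoc, hca, mul_assoc, mul_inv_cancel, mul_one]
  have hcbi : c * b⁻¹ = b⁻¹ * c := by
    rw [eq_inv_mul_iff_mul_eq, ← mul_assoc, ← hcb, mul_assoc, mul_inv_cancel, mul_one]
  have hcibi : c⁻¹ * b⁻¹ = b⁻¹ * c⁻¹ := by
    rw [inv_mul_eq_iff_eq_mul, ← mul_assoc, hcbi, mul_assoc, mul_inv_cancel, mul_one]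
  have hbia : b⁻¹ * a = a * b⁻¹ * c⁻¹ := by
    rw [inv_mul_eq_iff_eq_mul, ← mul_assoc, ← mul_assoc, hba]
    rw [mul_assoc (a * b), hcbi, ← mul_assoc, mul_inv_cancel_right, mul_inv_cancel_right]
  refine ⟨cube_mul_of_central a b c ha hb hc3 hca hcb hba,
    cube_mul_of_central a b⁻¹ c⁻¹ ha hbi3 hci3 hcia hcibi hbia, ?_⟩
  -- generation
  intro d hd hd1
  obtain ⟨W, hW⟩ : ∃ W : Subgroup X, W = Subgroup.closure {a, b, d} := ⟨_, rfl⟩
  rw [← hW]
  have haW : a ∈ W := by rw [hW]; exact Subgroup.subset_closure (by simp)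
  have hbW : b ∈ W := by rw [hW]; exact Subgroup.subset_closure (by simp)
  have hdW : d ∈ W := by rw [hW]; exact Subgroup.subset_closure (by simp)
  have hKW : K ≤ W := by
    have htop := eq_top_of_noncomm (p := 3) hK (W.subgroupOf K) ⟨a, haK⟩ ⟨b, hbK⟩
      (by rw [Subgroup.mem_subgroupOf]; exact haW) (by rw [Subgroup.mem_subgroupOf]; exact hbW)
      (fun h => hab (congrArg Subtype.val h))
    exact Subgroup.subgroupOf_eq_top.1 htop
  have h27 : 27 ∣ Nat.card W := by
    have := Subgroup.card_dvd_of_le hKW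
    rw [hK] at this
    norm_num at this
    exact this
  have h2 : 2 ∣ Nat.card W := by
    have hord : orderOf (⟨d, hdW⟩ : W) = 2 := by
      apply orderOf_eq_prime
      · apply Subtype.ext
        simpa using hd
      · intro h
        apply hd1
        exact congrArg Subtype.val h
    rw [← hord]
    exact orderOf_dvd_natCard _
  have h54 : 54 ∣ Nat.card W := by
    have : Nat.Coprime 27 2 := by norm_num
    exact this.mul_dvd_of_dvd_of_dvd h27 h2
  apply Subgroup.eq_top_of_card_eq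
  rw [hX]
  have h3 := Subgroup.card_subgroup_dvd_card W
  rw [hX] at h3
  exact Nat.dvd_antisymm h3 h54

/-! ### The presented group -/

/-- the defining relators -/
def rels54 : Set (FreeGroup (Fin 3)) :=
  {FreeGroup.of 0 * FreeGroup.of 0, FreeGroup.of 1 ^ 3, FreeGroup.of 2 ^ 3,
    (FreeGroup.of 1 * FreeGroup.of 2) ^ 3, (FreeGroup.of 1 * (FreeGroup.of 2)⁻¹) ^ 3,
    FreeGroup.of 0 * FreeGroup.of 1 * (FreeGroup.of 0)⁻¹ * FreeGroup.of 1,
    FreeGroup.of 0 * FreeGroup.of 2 * (FreeGroup.of 0)⁻¹ * FreeGroup.of 2}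

/-- the presented group `B(2,3) ⋊ 2` -/
abbrev Gam54 : Type := PresentedGroup rels54

theorem gam54_finite_card : Finite Gam54 ∧ Nat.card Gam54 ≤ 54 := by
  have hr : ∀ r ∈ rels54, (PresentedGroup.mk rels54 r) = 1 := fun r hr =>
    PresentedGroup.one_of_mem hr
  have h0 := hr (FreeGroup.of 0 * FreeGroup.of 0) (by simp [rels54])
  have h1 := hr (FreeGroup.of 1 ^ 3) (by simp [rels54])
  have h2 := hr (FreeGroup.of 2 ^ 3) (by simp [rels54])
  have h3 := hr ((FreeGroup.of 1 * FreeGroup.of 2) ^ 3) (by simp [rels54])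
  have h4 := hr ((FreeGroup.of 1 * (FreeGroup.of 2)⁻¹) ^ 3) (by simp [rels54])
  have h5 := hr (FreeGroup.of 0 * FreeGroup.of 1 * (FreeGroup.of 0)⁻¹ * FreeGroup.of 1)
    (by simp [rels54])
  have h6 := hr (FreeGroup.of 0 * FreeGroup.of 2 * (FreeGroup.of 0)⁻¹ * FreeGroup.of 2)
    (by simp [rels54])
  simp only [map_mul, map_pow, map_inv] at h0 h1 h2 h3 h4 h5 h6
  obtain ⟨hfin, hcard⟩ := Cfsg.Agent.Helper3.TT232.card_le_54_of_rel
    (PresentedGroup.mk rels54 (FreeGroup.of 0)) (PresentedGroup.mk rels54 (FreeGroup.of 1))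
    (PresentedGroup.mk rels54 (FreeGroup.of 2)) h0 h1 h2 h3 h4
    (by rw [eq_inv_iff_mul_eq_one]; exact h5) (by rw [eq_inv_iff_mul_eq_one]; exact h6)
  have htop : Subgroup.closure {PresentedGroup.mk rels54 (FreeGroup.of 0),
      PresentedGroup.mk rels54 (FreeGroup.of 1), PresentedGroup.mk rels54 (FreeGroup.of 2)} =
      (⊤ : Subgroup Gam54) := by
    rw [← PresentedGroup.closure_range_of rels54]
    congr 1
    ext x
    constructor
    · rintro (h | h | h)
      · exact ⟨0, h.symm⟩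
      · exact ⟨1, h.symm⟩
      · exact ⟨2, h.symm⟩
    · rintro ⟨i, rfl⟩
      fin_cases i
      · left; rfl
      · right; left; rfl
      · right; right; rfl
  rw [htop] at hfin hcard
  have hfin' : Finite Gam54 := by
    have : Finite (⊤ : Subgroup Gam54) := hfin
    exact Finite.of_equiv _ Subgroup.topEquiv.toEquiv
  refine ⟨hfin', ?_⟩
  rwa [Nat.card_congr Subgroup.topEquiv.toEquiv] at hcard

/-- a group of order 54 generated by `d, a, b` subject to the relations is the presented group -/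
theorem equiv_gam54 {X : Type*} [Group X] [Finite X] (hX : Nat.card X = 54) (a b d : X)
    (ha : a ^ 3 = 1) (hb : b ^ 3 = 1) (hd : d ^ 2 = 1) (hd1 : d ≠ 1)
    (hda : d * a * d⁻¹ = a⁻¹) (hdb : d * b * d⁻¹ = b⁻¹) (hab : a * b ≠ b * a) :
    Nonempty (Gam54 ≃* X) := by
  obtain ⟨hab3, habi3, hgen⟩ := struct54 hX a b ha hb hab
  have hgen' := hgen d hd hd1
  obtain ⟨hfin, hcard⟩ := gam54_finite_card
  let f : Fin 3 → X := ![d, a, b]
  have hrel : ∀ r ∈ rels54, FreeGroup.lift f r = 1 := by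
    intro r hr
    simp only [rels54, Set.mem_insert_iff, Set.mem_singleton_iff] at hr
    rcases hr with rfl | rfl | rfl | rfl | rfl | rfl | rfl
    · simp only [map_mul, FreeGroup.lift_apply_of]
      show d * d = 1
      rw [← pow_two]; exact hd
    · simp only [map_pow, FreeGroup.lift_apply_of]
      exact ha
    · simp only [map_pow, FreeGroup.lift_apply_of]
      exact hb
    · simp only [map_pow, map_mul, FreeGroup.lift_apply_of]
      exact hab3
    · simp only [map_pow, map_mul, map_inv, FreeGroup.lift_apply_of]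
      exact habi3
    · simp only [map_mul, map_inv, FreeGroup.lift_apply_of]
      show d * a * d⁻¹ * a = 1
      rw [hda, inv_mul_cancel]
    · simp only [map_mul, map_inv, FreeGroup.lift_apply_of]
      show d * b * d⁻¹ * b = 1
      rw [hdb, inv_mul_cancel]
  let ψ : Gam54 →* X := PresentedGroup.toGroup hrel
  have hsurj : Function.Surjective ψ := by
    rw [← MonoidHom.range_eq_top, eq_top_iff, ← hgen', Subgroup.closure_le]
    rintro x (rfl | rfl | rfl)
    · exact ⟨PresentedGroup.of 1, PresentedGroup.toGroup.of hrel⟩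
    · exact ⟨PresentedGroup.of 2, PresentedGroup.toGroup.of hrel⟩
    · exact ⟨PresentedGroup.of 0, PresentedGroup.toGroup.of hrel⟩
  have hle : Nat.card X ≤ Nat.card Gam54 := Nat.card_le_card_of_surjective ψ hsurj
  have hbij : Function.Bijective ψ := by
    rw [Nat.bijective_iff_surjective_and_card]
    exact ⟨hsurj, by omega⟩
  exact ⟨MulEquiv.ofBijective ψ hbij⟩

/-- recognition of `SU_3(2)'` -/
theorem recog54.{u} : ∃ (F : Type) (_ : Field F) (_ : Fintype F), Fintype.card F = 4 ∧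
    ∀ (X : Type u) [Group X] [Finite X], Nat.card X = 54 →
      (∃ a b d : X, a ^ 3 = 1 ∧ b ^ 3 = 1 ∧ d ^ 2 = 1 ∧ d ≠ 1 ∧ d * a * d⁻¹ = a⁻¹ ∧
        d * b * d⁻¹ = b⁻¹ ∧ a * b ≠ b * a ∧ Subgroup.closure {a, b, d} = ⊤) →
      Nonempty (X ≃* ↥(commutator ↥(Cfsg.SU 3 (F) 2))) := by
  haveI : Fact (Nat.Prime 2) := ⟨Nat.prime_two⟩
  refine ⟨GaloisField 2 2, inferInstance, Fintype.ofFinite _, ?_, ?_⟩
  · rw [Fintype.card_eq_nat_card, GaloisField.card 2 2 (by norm_num)]
    norm_num
  rintro X _ _ hX ⟨a, b, d, ha, hb, hd, hd1, hda, hdb, hab, -⟩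
  letI : Fintype (GaloisField 2 2) := Fintype.ofFinite _
  have hF : Fintype.card (GaloisField 2 2) = 4 := by
    rw [Fintype.card_eq_nat_card, GaloisField.card 2 2 (by norm_num)]
    norm_num
  have hF' : Fintype.card (GaloisField 2 2) = 2 ^ 2 := by rw [hF]; norm_num
  obtain ⟨e1⟩ := equiv_gam54 hX a b d ha hb hd hd1 hda hdb hab
  -- the concrete side
  obtain ⟨hY, hY3, hY2⟩ := su3_structure hF
  obtain ⟨a', b', d', ha', hb', hd', hd1', hda', hdb', hab', habc', habbc'⟩ := exists_gens_mul hF'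
  obtain ⟨ha3, hb3, hd2, hdai, hdbi, -, -⟩ := rel_forms ha' hb' hd' hda' hdb' habc' habbc'
  have hfinY : Finite (commutator (Cfsg.SU 3 (GaloisField 2 2) 2)) :=
    Nat.finite_of_card_ne_zero (by rw [hY]; norm_num)
  obtain ⟨e2⟩ := equiv_gam54 hY (⟨a', hY3 a' ha3⟩ : commutator (Cfsg.SU 3 (GaloisField 2 2) 2))
    ⟨b', hY3 b' hb3⟩ ⟨d', hY2 d' hd2⟩ (Subtype.ext (by simpa using ha3))
    (Subtype.ext (by simpa using hb3)) (Subtype.ext (by simpa using hd2))
    (fun h => hd1' (congrArg Subtype.val h)) (Subtype.ext (by simpa using hdai))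
    (Subtype.ext (by simpa using hdbi)) (fun h => hab' (congrArg Subtype.val h))
  exact ⟨e1.symm.trans e2⟩

end Cfsg.Agent.Helper11.TT232C
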