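import Mathlib
import Cfsg.Agent.Lib.Helper27.Tw6Defs
import Cfsg.Agent.Lib.Helper13.InvNAsmA
import Cfsg.Agent.Lib.Helper13.InvNTabE6
import Cfsg.Agent.Lib.Helper28.InvNCollect
import Cfsg.Agent.Lib.Lead.TwE6Grp
import Cfsg.Agent.Lib.Lead.TwAutWords

/-!
TW6 piece CELLV (helper11 for helper27, S2182): `b y_v(χ) h n_w` with non-vanishing `χ` lies in the cell of `v ++ w`,
when `w` permutes the roots of the class `v`.
-/

set_option autoImplicit false
set_option linter.unusedSectionVars false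
set_option linter.unusedVariables false

namespace Cfsg.Agent.Helper27.Tw6

open Cfsg Cfsg.Lie Cfsg.Agent.Lead.Chev Cfsg.Agent.Lead.Tw Cfsg.Agent.Helper13.InvN Cfsg.Agent.Helper6.ChevL

variable {K : Type*} [Field K] [Fintype K] [CharP K 2] {D : ChevalleyDatum} {hF : ChevFacts D K}
  {T : Twist D K hF.xadd} {π' : ℕ → ℕ} {S l₀ : List (List ℕ)} {f : K ≃+* K} (hX : Ctx hF T π' S l₀ f)
include hX

/-- `n_w⁻¹ (h⁻¹ x_{α_i}(t) h) n_w ∈ U` when `w` maps a fundamental root `α_j` to `α_i` -/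
theorem tw6cellv_conj_root (w : List ℕ) (hw : WOK D w) (i j : ℕ) (hi : i < D.rank) (hj : j < D.rank)
    (hji : reflWord D w (D.simple j) = D.simple i) (h : GL D.Idx K) (hh : h ∈ D.diagonalSubgroup K) (t : K) :
    (nWordGL D hF.xadd w)⁻¹ * (h⁻¹ * xGL D hF.xadd (D.simple i) t * h) * nWordGL D hF.xadd w ∈
      D.posUnipotent K := by
  have hsi := hF.simple_lt i hi
  have hsj := hF.simple_lt j hj
  have hrev : reflWord D w.reverse (D.simple i) = D.simple j := by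
    have := reflWord_reverse_cancel' D (etaOf D) hF.facts w hw (D.simple j) hsj
    rwa [hji] at this
  obtain ⟨c, hc, hconj⟩ := hF.diagonal_conj_xGL h⁻¹ (inv_mem hh) (D.simple i) hsi
  have e1 : h⁻¹ * xGL D hF.xadd (D.simple i) t * h = xGL D hF.xadd (D.simple i) (c * t) := by
    have := hconj t
    rwa [inv_inv] at this
  rw [e1]
  obtain ⟨k0, hk0, e0⟩ := nWordGL_inv D hF.xadd (etaOf D) hF.nsimple hF.simple_lt w hw
  have hn : nWordGL D hF.xadd w = (nWordGL D hF.xadd w.reverse)⁻¹ * k0⁻¹ := by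
    have : nWordGL D hF.xadd w = ((nWordGL D hF.xadd w)⁻¹)⁻¹ := (inv_inv _).symm
    rw [this, e0]
    group
  have h1 := nWordGL_conj D hF.xadd (etaOf D) hF.nsimple w.reverse hw.reverse (D.simple i) hsi (c * t)
  rw [hrev] at h1
  have e2 : (nWordGL D hF.xadd w)⁻¹ * xGL D hF.xadd (D.simple i) (c * t) * nWordGL D hF.xadd w =
      k0 * (nWordGL D hF.xadd w.reverse * xGL D hF.xadd (D.simple i) (c * t) *
        (nWordGL D hF.xadd w.reverse)⁻¹) * k0⁻¹ := by
    calc (nWordGL D hF.xadd w)⁻¹ * xGL D hF.xadd (D.simple i) (c * t) * nWordGL D hF.xadd w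
        = (k0 * nWordGL D hF.xadd w.reverse) * xGL D hF.xadd (D.simple i) (c * t) *
            ((nWordGL D hF.xadd w.reverse)⁻¹ * k0⁻¹) := by rw [← e0, ← hn]
      _ = _ := by group
  rw [e2, h1]
  exact conj_mem_posUnipotent D hF.hall hF.hconj _ hk0 _
    (xGL_mem_posUnipotent D hF.xadd _ (hF.simple_pos j hj) _)

/-- `n_w⁻¹ (h⁻¹ x_v(φ) h) n_w ∈ U` when `w` permutes the roots of the class -/
theorem tw6cellv_conj_xs (v : List ℕ) (hv : v ∈ S) (w : List ℕ) (hw : WOK D w) (hp : PermV D v w)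
    (h : GL D.Idx K) (hh : h ∈ D.diagonalSubgroup K) (φ : ℕ → K) :
    (nWordGL D hF.xadd w)⁻¹ * (h⁻¹ * xs hF v φ * h) * nWordGL D hF.xadd w ∈ D.posUnipotent K := by
  have hle : ∀ x ∈ (v.map fun i => xGL D hF.xadd (D.simple i) (φ i)),
      x ∈ (D.posUnipotent K).comap (MulAut.conj ((nWordGL D hF.xadd w)⁻¹ * h⁻¹)).toMonoidHom := by
    intro x hx
    obtain ⟨i, hi, rfl⟩ := List.mem_map.1 hx
    obtain ⟨j, hj, -, hji⟩ := hp i hi
    rw [Subgroup.mem_comap, MulEquiv.coe_toMonoidHom, MulAut.conj_apply]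
    have := tw6cellv_conj_root hX w hw i j (hX.valid v hv i hi) (hX.valid v hv j hj) hji h hh (φ i)
    have e : (nWordGL D hF.xadd w)⁻¹ * h⁻¹ * xGL D hF.xadd (D.simple i) (φ i) *
        ((nWordGL D hF.xadd w)⁻¹ * h⁻¹)⁻¹ =
        (nWordGL D hF.xadd w)⁻¹ * (h⁻¹ * xGL D hF.xadd (D.simple i) (φ i) * h) * nWordGL D hF.xadd w := by
      group
    rw [e]
    exact this
  have h1 := Subgroup.list_prod_mem _ hle
  rw [Subgroup.mem_comap, MulEquiv.coe_toMonoidHom, MulAut.conj_apply] at h1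
  have e : (nWordGL D hF.xadd w)⁻¹ * (h⁻¹ * xs hF v φ * h) * nWordGL D hF.xadd w =
      (nWordGL D hF.xadd w)⁻¹ * h⁻¹ * xs hF v φ * ((nWordGL D hF.xadd w)⁻¹ * h⁻¹)⁻¹ := by
    group
  rw [e]
  exact h1

/-- PIECE CELLV: `b y_v(χ) h n_w` with non-vanishing `χ` lies in the cell of `v ++ w` -/
theorem cell_of_ys (v : List ℕ) (hv : v ∈ S) (w : List ℕ) (hw : WOK D w) (hp : PermV D v w)
    (b : GL D.Idx K) (hb : b ∈ D.borelSubgroup K) (χ : ℕ → K) (hχ : ∀ i ∈ v, χ i ≠ 0)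
    (h : GL D.Idx K) (hh : h ∈ D.diagonalSubgroup K) :
    InCell hF (b * ys hF v χ * h * nWordGL D hF.xadd w) (v ++ w) := by
  have hcls := hX.orth.cls v hv
  have hvv := hX.valid v hv
  set ψ : ℕ → K := fun i => -(χ i)⁻¹ with hψ
  have hψ0 : ∀ i ∈ v, ψ i ≠ 0 := fun i hi => neg_ne_zero.2 (inv_ne_zero (hχ i hi))
  have h1 := xs_ys_xs hF hcls ψ
  have hd := prod_hGLt_mem_diagonal hF hcls ψ hψ0
  set d := (v.map fun i => hGLt D hF.xadd (D.simple i) (ψ i)).prod with hdd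
  have e : (fun i : ℕ => -(ψ i)⁻¹) = χ := by
    funext i
    rw [hψ]
    simp only [inv_neg, inv_inv, neg_neg]
  rw [e] at h1
  set X := (xs hF v ψ)⁻¹ with hXd
  have hXx : X = xs hF v (fun i => - ψ i) := xs_inv hF hcls ψ
  have hXU : X ∈ D.posUnipotent K := inv_mem (xs_mem_posUnipotent hF v hvv ψ)
  have ey : ys hF v χ = X * d * nWordGL D hF.xadd v * X := by
    rw [hXd, mul_assoc _ d, ← h1]
    group
  have hu' := tw6cellv_conj_xs hX v hv w hw hp h hh (fun i => - ψ i)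
  rw [← hXx] at hu'
  have hk := nWordGL_conj_mem_diagonal D hF.xadd (etaOf D) hF.nsimple v hvv h hh
  refine ⟨b * X * d * (nWordGL D hF.xadd v * h * (nWordGL D hF.xadd v)⁻¹),
    mul_mem (mul_mem (mul_mem hb (posUnipotent_le_borel D hXU)) (diagonal_le_borel D hd))
      (diagonal_le_borel D hk),
    (nWordGL D hF.xadd w)⁻¹ * (h⁻¹ * X * h) * nWordGL D hF.xadd w, posUnipotent_le_borel D hu', ?_⟩
  rw [ey, nWordGL_append]
  group

end Cfsg.Agent.Helper27.Tw6
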