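import Mathlib
import Cfsg.Agent.Lib.Helper27.Tw6Defs
import Cfsg.Agent.Lib.Helper13.InvNAsmA
import Cfsg.Agent.Lib.Helper13.InvNTabE6
import Cfsg.Agent.Lib.Helper28.InvNCollect
import Cfsg.Agent.Lib.Lead.TwE6Grp
import Cfsg.Agent.Lib.Lead.TwAutWords
import Cfsg.Agent.Lib.Helper28.Tw6UVA
import Cfsg.Agent.Lib.Helper11.Tw6CELLV

/-!
TW6 piece SWAPB (helper11 for helper27, S2182): a swapped class `[i, j]` without coordinates: a conjugate under
`X_{-v} ∩ G₁` lies in the cell of `[i, j] ++ w`.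
-/

set_option autoImplicit false
set_option linter.unusedSectionVars false
set_option linter.unusedVariables false

namespace Cfsg.Agent.Helper27.Tw6

open Cfsg Cfsg.Lie Cfsg.Agent.Lead.Chev Cfsg.Agent.Lead.Tw Cfsg.Agent.Helper13.InvN Cfsg.Agent.Helper6.ChevL

/-- a field automorphism of order two which is not the identity: the two twisted linear conditions do not cover the
field -/
theorem tw6swapb_choose {K : Type*} [Field K] (f : K ≃+* K) (hff : ∀ t, f (f t) = t) (hne : ∃ t, f t ≠ t)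
    (lam mu : K) : ∃ s : K, s - mu * f s ≠ 0 ∧ f s - lam * s ≠ 0 := by
  obtain ⟨t0, ht0⟩ := hne
  -- the first condition fails somewhere
  have h1 : ∃ s : K, s - mu * f s ≠ 0 := by
    by_contra hcon
    simp only [not_exists, not_not] at hcon
    have e1 := hcon 1
    rw [map_one, mul_one] at e1
    have hmu : mu = 1 := by
      have := sub_eq_zero.1 e1
      exact this.symm
    have e2 := hcon t0
    rw [hmu, one_mul] at e2
    exact ht0 (sub_eq_zero.1 e2).symm
  have h2 : ∃ s : K, f s - lam * s ≠ 0 := by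
    by_contra hcon
    simp only [not_exists, not_not] at hcon
    have e1 := hcon 1
    rw [map_one, mul_one] at e1
    have hlam : lam = 1 := (sub_eq_zero.1 e1).symm
    have e2 := hcon t0
    rw [hlam, one_mul] at e2
    exact ht0 (sub_eq_zero.1 e2)
  obtain ⟨s1, hs1⟩ := h1
  obtain ⟨s2, hs2⟩ := h2
  by_cases c1 : f s1 - lam * s1 = 0
  · by_cases c2 : s2 - mu * f s2 = 0
    · refine ⟨s1 + s2, ?_, ?_⟩
      · have e : s1 + s2 - mu * f (s1 + s2) = (s1 - mu * f s1) + (s2 - mu * f s2) := by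
          rw [map_add]; ring
        rw [e, c2, add_zero]
        exact hs1
      · have e : f (s1 + s2) - lam * (s1 + s2) = (f s1 - lam * s1) + (f s2 - lam * s2) := by
          rw [map_add]; ring
        rw [e, c1, zero_add]
        exact hs2
    · exact ⟨s2, c2, hs2⟩
  · exact ⟨s1, hs1, c1⟩

variable {K : Type*} [Field K] [Fintype K] [CharP K 2] {D : ChevalleyDatum} {hF : ChevFacts D K}
  {T : Twist D K hF.xadd} {π' : ℕ → ℕ} {S l₀ : List (List ℕ)} {f : K ≃+* K} (hX : Ctx hF T π' S l₀ f)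
include hX

/-- `y_{[i,j]}(φ) = x_{-α_i}(φ i) x_{-α_j}(φ j)` -/
theorem tw6swapb_ys_pair (i j : ℕ) (φ : ℕ → K) :
    ys hF [i, j] φ = xGL D hF.xadd (D.neg (D.simple i)) (φ i) * xGL D hF.xadd (D.neg (D.simple j)) (φ j) := by
  unfold ys
  simp only [List.map_cons, List.map_nil, List.prod_cons, List.prod_nil, mul_one]

/-- `(h n_w) x_{-α_i}(t) (h n_w)⁻¹ = x_{-α_j}(λ t)` with `λ ≠ 0`, when `w α_i = α_j` -/
theorem tw6swapb_conj_neg (w : List ℕ) (hw : WOK D w) (h : GL D.Idx K) (hh : h ∈ D.diagonalSubgroup K)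
    (i j : ℕ) (hi : i < D.rank) (hj : j < D.rank) (hij : reflWord D w (D.simple i) = D.simple j) :
    ∃ lam : K, lam ≠ 0 ∧ ∀ t : K,
      (h * nWordGL D hF.xadd w) * xGL D hF.xadd (D.neg (D.simple i)) t * (h * nWordGL D hF.xadd w)⁻¹ =
        xGL D hF.xadd (D.neg (D.simple j)) (lam * t) := by
  have hsi := hF.simple_lt i hi
  have hni := hF.neg_simple_lt i hi
  have hnj := hF.neg_simple_lt j hj
  have hneg : reflWord D w (D.neg (D.simple i)) = D.neg (D.simple j) := by
    rw [reflWord_neg D (etaOf D) hF.facts w hw (D.simple i) hsi, hij]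
  obtain ⟨c, hc, hconj⟩ := hF.diagonal_conj_xGL h hh (D.neg (D.simple j)) hnj
  have hsign : ((signWord D (etaOf D) w (D.neg (D.simple i)) : ℤ) : K) ≠ 0 := by
    rcases signWord_sq D (etaOf D) w (fun k hk s => (hF.nsimple k (hw k hk)).sign s) (D.neg (D.simple i)) with h2 | h2
    · rw [h2]; simp
    · rw [h2]; simp
  refine ⟨c * ((signWord D (etaOf D) w (D.neg (D.simple i)) : ℤ) : K), mul_ne_zero hc hsign, fun t => ?_⟩
  have h1 := nWordGL_conj D hF.xadd (etaOf D) hF.nsimple w hw (D.neg (D.simple i)) hni t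
  rw [hneg] at h1
  calc (h * nWordGL D hF.xadd w) * xGL D hF.xadd (D.neg (D.simple i)) t * (h * nWordGL D hF.xadd w)⁻¹
      = h * (nWordGL D hF.xadd w * xGL D hF.xadd (D.neg (D.simple i)) t * (nWordGL D hF.xadd w)⁻¹) * h⁻¹ := by
        group
    _ = xGL D hF.xadd (D.neg (D.simple j)) (c * (((signWord D (etaOf D) w (D.neg (D.simple i)) : ℤ) : K) * t)) := by
        rw [h1, hconj]
    _ = _ := by rw [mul_assoc]

/-- PIECE SWAPB (needs UVA, CELLV): a swapped class `[i, j]` without coordinates: a conjugate under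
`X_{-v} ∩ G₁` lies in the cell of `[i, j] ++ w` -/
theorem swap_cell (t : GL D.Idx K) (ht : t ∈ orthGroup hF T S) (w : List ℕ) (hw : WOK D w)
    (a h : GL D.Idx K) (hG : Good hF t w a h) (hfa : T.σ a = a)
    (i j : ℕ) (hv : [i, j] ∈ S) (hij : reflWord D w (D.simple i) = D.simple j)
    (hji : reflWord D w (D.simple j) = D.simple i) (ha : a ∈ UV D K [i, j]) :
    ∃ g ∈ orthGroup hF T S, InCell hF (g * t * g⁻¹) ([i, j] ++ w) := by
  obtain ⟨et, haU, hh, haU'⟩ := hG
  have hcls := hX.orth.cls [i, j] hv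
  have hi : i < D.rank := hX.valid [i, j] hv i (by simp)
  have hj : j < D.rank := hX.valid [i, j] hv j (by simp)
  have hne : i ≠ j := by
    have := hcls.nodup
    simp only [List.nodup_cons, List.mem_singleton, List.not_mem_nil, not_false_eq_true, List.nodup_nil,
      and_true] at this
    exact this
  have hπi : T.π i = j := by
    rcases hX.orb [i, j] hv i (by simp) j (by simp) with h1 | h1
    · exact absurd h1.symm hne
    · exact h1.symm
  have hπj : T.π j = i := by
    rcases hX.orb [i, j] hv j (by simp) i (by simp) with h1 | h1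
    · exact absurd h1 hne
    · exact h1.symm
  -- the conjugation constants
  obtain ⟨li, hli, eli⟩ := tw6swapb_conj_neg hX w hw h hh i j hi hj hij
  obtain ⟨lj, hlj, elj⟩ := tw6swapb_conj_neg hX w hw h hh j i hj hi hji
  -- the parameter
  obtain ⟨s, hs1, hs2⟩ := tw6swapb_choose f hX.ff hX.fne li lj
  set ψ : ℕ → K := fun k => if k = i then s else f s with hψ
  have hψi : ψ i = s := by rw [hψ]; simp
  have hψj : ψ j = f s := by
    rw [hψ]
    simp only
    rw [if_neg (fun e => hne e.symm)]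
  have hfix : FixNeg hF T [i, j] ψ := by
    intro k hk
    rw [hX.cneg k (hX.valid [i, j] hv k hk)]
    rcases List.mem_cons.1 hk with rfl | hk'
    · rw [hπi, hψj, hψi]
    · have hkj : k = j := by simpa using hk'
      subst hkj
      rw [hπj, hψi, hψj, hX.ff]
  set g := ys hF [i, j] ψ with hg
  have hgm : g ∈ orthGroup hF T S := hX.orth.ys_mem [i, j] hv ψ hfix
  have hginv : g⁻¹ = ys hF [i, j] (fun k => - ψ k) := ys_inv hF hcls ψ
  set m := h * nWordGL D hF.xadd w with hm
  -- the commutation of the two negative root elements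
  have hcomm : ∀ x y : K, Commute (xGL D hF.xadd (D.neg (D.simple i)) x) (xGL D hF.xadd (D.neg (D.simple j)) y) :=
    fun x y => xGL_commute hF _ _ (hF.neg_simple_lt i hi) (hF.neg_simple_lt j hj)
      (hcls.orth i (by simp) j (by simp) hne).2.2.2 x y
  -- `m g⁻¹ m⁻¹ = y_v(χ')`
  set χ' : ℕ → K := fun k => if k = i then lj * (- ψ j) else li * (- ψ i) with hχ'
  have hχ'i : χ' i = lj * (- ψ j) := by rw [hχ']; simp
  have hχ'j : χ' j = li * (- ψ i) := by
    rw [hχ']
    simp only
    rw [if_neg (fun e => hne e.symm)]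
  have e1 : m * g⁻¹ * m⁻¹ = ys hF [i, j] χ' := by
    rw [hginv, tw6swapb_ys_pair hX, tw6swapb_ys_pair hX, hχ'i, hχ'j]
    calc m * (xGL D hF.xadd (D.neg (D.simple i)) (-ψ i) * xGL D hF.xadd (D.neg (D.simple j)) (-ψ j)) * m⁻¹
        = (m * xGL D hF.xadd (D.neg (D.simple i)) (-ψ i) * m⁻¹) *
            (m * xGL D hF.xadd (D.neg (D.simple j)) (-ψ j) * m⁻¹) := by group
      _ = xGL D hF.xadd (D.neg (D.simple j)) (li * -ψ i) * xGL D hF.xadd (D.neg (D.simple i)) (lj * -ψ j) := by
          rw [eli, elj]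
      _ = _ := ((hcomm _ _).eq).symm
  -- the product
  set χ : ℕ → K := fun k => ψ k + χ' k with hχ
  have e2 : g * (m * g⁻¹ * m⁻¹) = ys hF [i, j] χ := by
    rw [e1, hg, hχ, ys_add hF hcls]
  have hχ0 : ∀ k ∈ [i, j], χ k ≠ 0 := by
    intro k hk
    rcases List.mem_cons.1 hk with rfl | hk'
    · show ψ k + χ' k ≠ 0
      rw [hχ'i, hψi, hψj]
      have : s + lj * -f s = s - lj * f s := by ring
      rw [this]
      exact hs1
    · have hkj : k = j := by simpa using hk'
      subst hkj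
      show ψ k + χ' k ≠ 0
      rw [hχ'j, hψi, hψj]
      have : f s + li * -s = f s - li * s := by ring
      rw [this]
      exact hs2
  have hp : PermV D [i, j] w := by
    intro k hk
    rcases List.mem_cons.1 hk with rfl | hk'
    · exact ⟨j, by simp, hij, hji⟩
    · have hkj : k = j := by simpa using hk'
      subst hkj
      exact ⟨i, by simp, hji, hij⟩
  have hb : g * a * g⁻¹ ∈ D.borelSubgroup K :=
    posUnipotent_le_borel D (uv_le hX [i, j] (uv_conj hX [i, j] g (par_ys hX [i, j] hv ψ) a ha))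
  have hcell := cell_of_ys hX [i, j] hv w hw hp (g * a * g⁻¹) hb χ hχ0 h hh
  refine ⟨g, hgm, ?_⟩
  have e3 : g * t * g⁻¹ = g * a * g⁻¹ * ys hF [i, j] χ * h * nWordGL D hF.xadd w := by
    rw [← e2, et, hm]
    group
  rw [e3]
  exact hcell

end Cfsg.Agent.Helper27.Tw6
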