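import Mathlib
import Cfsg.Agent.Lib.Helper11.Unitary

set_option autoImplicit false

/-! Every non-degenerate Hermitian matrix over a field with surjective norm and non-zero trace is
congruent to the identity: `Pᵀ * H * P.map φ = 1`; transfer of isometries of `H` to unitary
matrices (`IsU φ`). -/

namespace Cfsg.Agent.Helper11.Herm

open Matrix

section cong

variable {F : Type*} [Field F]

/-- abstract extension step: an orthonormal family which is too short can be extended -/
theorem cong_extend {V : Type*} [AddCommGroup V] [Module F V] [FiniteDimensional F V]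
    (φ : F →+* F) (hφφ : ∀ x, φ (φ x) = x)
    (hN1 : ∀ c : F, c ≠ 0 → φ c = c → ∃ l : F, l ≠ 0 ∧ l * φ l = c)
    (hN2 : ∃ μ : F, μ + φ μ ≠ 0)
    (h : V → V → F)
    (hal : ∀ u u' v, h (u + u') v = h u v + h u' v) (hsl : ∀ (a : F) u v, h (a • u) v = a * h u v)
    (har : ∀ u v v', h u (v + v') = h u v + h u v')
    (hsr : ∀ (a : F) u v, h u (a • v) = φ a * h u v)
    (hs : ∀ u v, φ (h u v) = h v u) (hnd : ∀ u, (∀ v, h u v = 0) → u = 0)
    {κ : Type*} [DecidableEq κ] (S : Finset κ) (c : κ → V)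
    (hc : ∀ i ∈ S, ∀ j ∈ S, h (c i) (c j) = if i = j then 1 else 0)
    (hS : S.card < Module.finrank F V) :
    ∃ w, h w w = 1 ∧ ∀ i ∈ S, h w (c i) = 0 := by
  classical
  have hzl : ∀ v, h 0 v = 0 := fun v => by simpa using hsl 0 0 v
  have hzr : ∀ u, h u 0 = 0 := fun u => by simpa using hsr 0 u 0
  have hnl : ∀ u v, h (-u) v = - h u v := fun u v => by simpa using hsl (-1) u v
  have hnr : ∀ u v, h u (-v) = - h u v := fun u v => by simpa using hsr (-1) u v
  have hsubl : ∀ u u' v, h (u - u') v = h u v - h u' v := fun u u' v => by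
    rw [sub_eq_add_neg, hal, hnl, ← sub_eq_add_neg]
  have hsubr : ∀ u v v', h u (v - v') = h u v - h u v' := fun u v v' => by
    rw [sub_eq_add_neg, har, hnr, ← sub_eq_add_neg]
  have hsuml : ∀ (T : Finset κ) (f : κ → V) v, h (∑ i ∈ T, f i) v = ∑ i ∈ T, h (f i) v := by
    intro T f v
    induction T using Finset.induction_on with
    | empty => simp [hzl]
    | insert a T ha ih => rw [Finset.sum_insert ha, Finset.sum_insert ha, hal, ih]
  have hsumr : ∀ (T : Finset κ) (f : κ → V) u, h u (∑ i ∈ T, f i) = ∑ i ∈ T, h u (f i) := by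
    intro T f u
    induction T using Finset.induction_on with
    | empty => simp [hzr]
    | insert a T ha ih => rw [Finset.sum_insert ha, Finset.sum_insert ha, har, ih]
  let P : V → V := fun x => x - ∑ i ∈ S, h x (c i) • c i
  have hP : ∀ x, ∀ j ∈ S, h (P x) (c j) = 0 := by
    intro x j hj
    simp only [P]
    rw [hsubl, hsuml, Finset.sum_eq_single j]
    · rw [hsl, hc j hj j hj, if_pos rfl, mul_one, sub_self]
    · intro i hi hij
      rw [hsl, hc i hi j hj, if_neg hij, mul_zero]
    · intro hh; exact absurd hj hh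
  have h1 : ∃ x, P x ≠ 0 := by
    by_contra hcon
    push Not at hcon
    have hle : (⊤ : Submodule F V) ≤ Submodule.span F ((S.image c : Finset V) : Set V) := by
      intro x _
      have hx : x = ∑ i ∈ S, h x (c i) • c i := sub_eq_zero.1 (hcon x)
      rw [hx]
      apply Submodule.sum_mem
      intro i hi
      apply Submodule.smul_mem
      apply Submodule.subset_span
      exact Finset.mem_coe.2 (Finset.mem_image_of_mem c hi)
    have h2 : Module.finrank F (Submodule.span F ((S.image c : Finset V) : Set V)) ≤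
        (S.image c).card := finrank_span_finset_le_card (S.image c)
    have h3 := Finset.card_image_le (s := S) (f := c)
    have h4 := Submodule.finrank_mono hle
    rw [finrank_top] at h4
    omega
  obtain ⟨x, hx⟩ := h1
  obtain ⟨w0, hw0⟩ : ∃ w0, w0 = P x := ⟨_, rfl⟩
  have hw0c : ∀ j ∈ S, h w0 (c j) = 0 := by rw [hw0]; exact hP x
  rw [← hw0] at hx
  obtain ⟨y0, hy0⟩ : ∃ y0, h w0 y0 ≠ 0 := by
    by_contra hcon
    push Not at hcon
    exact hx (hnd w0 hcon)
  obtain ⟨y, hy⟩ : ∃ y, y = P y0 := ⟨_, rfl⟩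
  have hyc : ∀ j ∈ S, h y (c j) = 0 := by rw [hy]; exact hP y0
  have hw0y : h w0 y = h w0 y0 := by
    rw [hy]
    simp only [P]
    rw [hsubr, hsumr, Finset.sum_eq_zero, sub_zero]
    intro k hk
    rw [hsr, hw0c k hk, mul_zero]
  obtain ⟨u, hu0, hu⟩ : ∃ u, h u u ≠ 0 ∧ ∀ j ∈ S, h u (c j) = 0 := by
    by_cases h1 : h w0 w0 ≠ 0
    · exact ⟨w0, h1, hw0c⟩
    by_cases h2 : h y y ≠ 0
    · exact ⟨y, h2, hyc⟩
    push Not at h1 h2
    obtain ⟨μ, hμ⟩ := hN2
    have ht0 : h w0 y ≠ 0 := by rw [hw0y]; exact hy0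
    obtain ⟨t, ht⟩ : ∃ t, t = h w0 y := ⟨_, rfl⟩
    rw [← ht] at ht0
    refine ⟨w0 + φ (μ / t) • y, ?_, ?_⟩
    · rw [hal, har, har, hsl, hsl, hsr, hsr, h1, h2, ← hs w0 y, ← ht, hφφ]
      have : (0 : F) + μ / t * t + (φ (μ / t) * φ t + φ (μ / t) * (μ / t * 0)) = μ + φ μ := by
        rw [← map_mul, div_mul_cancel₀ _ ht0]
        ring
      rw [this]
      exact hμ
    · intro j hj
      rw [hal, hsl, hw0c j hj, hyc j hj, mul_zero, add_zero]
  have hfix : φ (h u u) = h u u := hs u u
  obtain ⟨l, hl0, hl⟩ := hN1 _ hu0 hfix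
  have hφl : φ l ≠ 0 := by
    intro hh
    apply hl0
    rw [← hφφ l, hh, map_zero]
  refine ⟨l⁻¹ • u, ?_, ?_⟩
  · rw [hsl, hsr, ← hl, map_inv₀]
    field_simp
  · intro j hj
    rw [hsl, hu j hj, mul_zero]

/-- abstract orthonormal basis of a non-degenerate Hermitian space -/
theorem cong_orthonormal {V : Type*} [AddCommGroup V] [Module F V] [FiniteDimensional F V]
    (φ : F →+* F) (hφφ : ∀ x, φ (φ x) = x)
    (hN1 : ∀ c : F, c ≠ 0 → φ c = c → ∃ l : F, l ≠ 0 ∧ l * φ l = c)
    (hN2 : ∃ μ : F, μ + φ μ ≠ 0)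
    (h : V → V → F)
    (hal : ∀ u u' v, h (u + u') v = h u v + h u' v) (hsl : ∀ (a : F) u v, h (a • u) v = a * h u v)
    (har : ∀ u v v', h u (v + v') = h u v + h u v')
    (hsr : ∀ (a : F) u v, h u (a • v) = φ a * h u v)
    (hs : ∀ u v, φ (h u v) = h v u) (hnd : ∀ u, (∀ v, h u v = 0) → u = 0)
    (k : ℕ) (hk : Module.finrank F V = k) :
    ∃ c : Fin k → V, ∀ i j, h (c i) (c j) = if i = j then 1 else 0 := by
  classical
  have hsym0 : ∀ u v, h u v = 0 → h v u = 0 := fun u v huv => by rw [← hs u v, huv, map_zero]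
  have key : ∀ T : Finset (Fin k), ∃ c : Fin k → V,
      ∀ i ∈ T, ∀ j ∈ T, h (c i) (c j) = if i = j then 1 else 0 := by
    intro T
    induction T using Finset.induction_on with
    | empty => exact ⟨fun _ => 0, fun i hi => absurd hi (Finset.notMem_empty i)⟩
    | insert a T ha ih =>
      obtain ⟨c, hc⟩ := ih
      have hcard : T.card < Module.finrank F V := by
        rw [hk]
        have h1 : (insert a T).card ≤ (Finset.univ : Finset (Fin k)).card :=
          Finset.card_le_card (Finset.subset_univ _)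
        rw [Finset.card_insert_of_notMem ha, Finset.card_univ, Fintype.card_fin] at h1
        omega
      obtain ⟨w, hww, hw⟩ :=
        cong_extend φ hφφ hN1 hN2 h hal hsl har hsr hs hnd T c hc hcard
      refine ⟨Function.update c a w, ?_⟩
      intro i hi j hj
      rcases Finset.mem_insert.1 hi with rfl | hi'
      · rcases Finset.mem_insert.1 hj with rfl | hj'
        · rw [Function.update_self, if_pos rfl, hww]
        · have hji : j ≠ i := fun hh => ha (hh ▸ hj')
          rw [Function.update_self, Function.update_of_ne hji, if_neg (Ne.symm hji)]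
          exact hw j hj'
      · rcases Finset.mem_insert.1 hj with rfl | hj'
        · have hij : i ≠ j := fun hh => ha (hh ▸ hi')
          rw [Function.update_self, Function.update_of_ne hij, if_neg hij]
          exact hsym0 _ _ (hw i hi')
        · have hia : i ≠ a := fun hh => ha (hh ▸ hi')
          have hja : j ≠ a := fun hh => ha (hh ▸ hj')
          rw [Function.update_of_ne hia, Function.update_of_ne hja]
          exact hc i hi' j hj'
  obtain ⟨c, hc⟩ := key Finset.univ
  exact ⟨c, fun i j => hc i (Finset.mem_univ _) j (Finset.mem_univ _)⟩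

/-- **CONG**: a Hermitian matrix with unit determinant is congruent to the identity. -/
theorem exists_cong_one (φ : F →+* F) (hφφ : ∀ x, φ (φ x) = x)
    (hN1 : ∀ c : F, c ≠ 0 → φ c = c → ∃ l : F, l ≠ 0 ∧ l * φ l = c)
    (hN2 : ∃ μ : F, μ + φ μ ≠ 0)
    (n : ℕ) (H : Matrix (Fin n) (Fin n) F) (hH : H.map φ = Hᵀ) (hdet : IsUnit H.det) :
    ∃ P : Matrix (Fin n) (Fin n) F, IsUnit P.det ∧ Pᵀ * H * P.map φ = 1 := by
  classical
  have hHij : ∀ i j, φ (H i j) = H j i := fun i j => by
    have := congrFun (congrFun hH i) j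
    simpa using this
  let h : (Fin n → F) → (Fin n → F) → F := fun u v => ∑ i, ∑ j, u i * H i j * φ (v j)
  have hal : ∀ u u' v, h (u + u') v = h u v + h u' v := by
    intro u u' v
    simp only [h, Pi.add_apply, add_mul, Finset.sum_add_distrib]
  have hsl : ∀ (a : F) u v, h (a • u) v = a * h u v := by
    intro a u v
    simp only [h, Pi.smul_apply, smul_eq_mul, Finset.mul_sum, mul_assoc]
  have har : ∀ u v v', h u (v + v') = h u v + h u v' := by
    intro u v v'
    simp only [h, Pi.add_apply, map_add, mul_add, Finset.sum_add_distrib]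
  have hsr : ∀ (a : F) u v, h u (a • v) = φ a * h u v := by
    intro a u v
    simp only [h, Pi.smul_apply, smul_eq_mul, map_mul, Finset.mul_sum]
    refine Finset.sum_congr rfl fun i _ => Finset.sum_congr rfl fun j _ => ?_
    ring
  have hs : ∀ u v, φ (h u v) = h v u := by
    intro u v
    simp only [h, map_sum, map_mul, hφφ, hHij]
    rw [Finset.sum_comm]
    refine Finset.sum_congr rfl fun i _ => Finset.sum_congr rfl fun j _ => ?_
    ring
  have hsingle : ∀ (u : Fin n → F) (j : Fin n), h u (Pi.single j 1) = (u ᵥ* H) j := by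
    intro u j
    simp only [h, Matrix.vecMul, dotProduct]
    refine Finset.sum_congr rfl fun i _ => ?_
    rw [Finset.sum_eq_single j]
    · simp
    · intro b _ hb
      simp [Pi.single_eq_of_ne hb]
    · intro hh; exact absurd (Finset.mem_univ j) hh
  have hnd : ∀ u, (∀ v, h u v = 0) → u = 0 := by
    intro u hu
    have h0 : u ᵥ* H = 0 := by
      funext j
      rw [← hsingle, hu]
      rfl
    have h1 : u ᵥ* (H * H⁻¹) = 0 := by
      rw [← Matrix.vecMul_vecMul, h0, Matrix.zero_vecMul]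
    rwa [Matrix.mul_nonsing_inv H hdet, Matrix.vecMul_one] at h1
  obtain ⟨c, hc⟩ := cong_orthonormal φ hφφ hN1 hN2 h hal hsl har hsr hs hnd n (by simp)
  have hP : (Matrix.of fun i k => c k i)ᵀ * H * (Matrix.of fun i k => c k i).map φ = 1 := by
    ext k l
    rw [Matrix.mul_apply, Matrix.one_apply, ← hc k l]
    simp only [h, Matrix.mul_apply, Matrix.transpose_apply, Matrix.of_apply, Matrix.map_apply,
      Finset.sum_mul]
    rw [Finset.sum_comm]
  refine ⟨Matrix.of fun i k => c k i, ?_, hP⟩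
  have hd := congrArg Matrix.det hP
  rw [Matrix.det_mul, Matrix.det_mul, Matrix.det_transpose, Matrix.det_one, mul_assoc] at hd
  exact IsUnit.of_mul_eq_one _ hd

/-- transfer: an isometry `A0` of the Hermitian matrix `H` becomes unitary after the base change
`P` with `Pᵀ * H * P.map φ = 1`. -/
theorem isU_conj_of_cong (φ : F →+* F) (n : ℕ) (H P A0 : Matrix (Fin n) (Fin n) F)
    (hPdet : IsUnit P.det) (hP : Pᵀ * H * P.map φ = 1) (hA0 : A0ᵀ * H * A0.map φ = H) :
    IsU φ (P⁻¹ * A0 * P) := by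
  classical
  have h1 : P * P⁻¹ = 1 := Matrix.mul_nonsing_inv P hPdet
  have h2 : (P⁻¹)ᵀ * Pᵀ = 1 := by rw [← Matrix.transpose_mul, h1, Matrix.transpose_one]
  have h3 : P.map φ * (P⁻¹).map φ = 1 := by
    rw [← Matrix.map_mul, h1]
    exact Matrix.map_one φ (map_zero φ) (map_one φ)
  have hH : H = (P⁻¹)ᵀ * (P⁻¹).map φ := by
    calc H = ((P⁻¹)ᵀ * Pᵀ) * H * (P.map φ * (P⁻¹).map φ) := by
            rw [h2, h3, Matrix.one_mul, Matrix.mul_one]
      _ = (P⁻¹)ᵀ * (Pᵀ * H * P.map φ) * (P⁻¹).map φ := by simp only [Matrix.mul_assoc]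
      _ = (P⁻¹)ᵀ * (P⁻¹).map φ := by rw [hP, Matrix.mul_one]
  unfold IsU
  rw [Matrix.transpose_mul, Matrix.transpose_mul, Matrix.map_mul, Matrix.map_mul]
  calc Pᵀ * (A0ᵀ * (P⁻¹)ᵀ) * ((P⁻¹).map φ * A0.map φ * P.map φ)
      = Pᵀ * (A0ᵀ * ((P⁻¹)ᵀ * (P⁻¹).map φ) * A0.map φ) * P.map φ := by
        simp only [Matrix.mul_assoc]
    _ = Pᵀ * H * P.map φ := by rw [← hH, hA0]
    _ = 1 := hP

end cong

end Cfsg.Agent.Helper11.Herm
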