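import Mathlib
import Cfsg.Agent.Lib.Helper11.RankOne
import Cfsg.Agent.Lib.Helper11.UnitaryInvol
import Cfsg.Agent.Lib.Helper11.UnitaryParabolic

set_option autoImplicit false

/-! Involutions of the three-dimensional special unitary group in odd characteristic. -/

namespace Cfsg.Agent.Helper11.Herm

open Matrix

section refl

variable {F : Type*} [Field F] {ι : Type*} [Fintype ι] [DecidableEq ι] (φ : F →+* F)

/-- the negative of the reflection along a vector of norm one: `x ↦ -x + 2 h(x,v) v` -/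
def rf (v : ι → F) : Matrix ι ι F := -(tv φ v (-2))

theorem rf_mulVec (v x : ι → F) : rf φ v *ᵥ x = -x + (2 * hdot φ x v) • v := by
  unfold rf
  rw [Matrix.neg_mulVec, tv_mulVec, neg_add, ← neg_smul]
  congr 2
  ring

theorem isU_neg {M : Matrix ι ι F} (hM : IsU φ M) : IsU φ (-M) := by
  unfold IsU at hM ⊢
  have : (-M).map φ = -(M.map φ) := by
    ext i j
    simp
  rw [Matrix.transpose_neg, this, neg_mul_neg]
  exact hM

theorem isU_rf (hφφ : ∀ x, φ (φ x) = x) (v : ι → F) (hv : hdot φ v v = 1) : IsU φ (rf φ v) := by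
  apply isU_neg
  apply isU_tv φ hφφ
  rw [hv, map_neg, map_ofNat]
  ring

theorem rf_mul_self (v : ι → F) (hv : hdot φ v v = 1) : rf φ v * rf φ v = 1 := by
  rw [Matrix.ext_iff_mulVec]
  intro x
  have hneg : hdot φ (-x) v = -hdot φ x v := by
    have : -x = (-1 : F) • x := by simp
    rw [this, hdot_smul_left]
    ring
  rw [← Matrix.mulVec_mulVec, rf_mulVec, rf_mulVec, Matrix.one_mulVec, hdot_add_left,
    hdot_smul_left, hv, hneg]
  module

theorem det_rf (v : ι → F) (hv : hdot φ v v = 1) :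
    (rf φ v).det = (-1) ^ Fintype.card ι * (-1) := by
  unfold rf
  rw [Matrix.det_neg, det_tv, hv]
  ring

theorem trace_rf (v : ι → F) (hv : hdot φ v v = 1) :
    (rf φ v).trace = -(Fintype.card ι : F) + 2 := by
  unfold rf tv
  rw [Matrix.trace_neg, Matrix.trace_add, Matrix.trace_one, Matrix.trace_smul]
  have : (Matrix.vecMulVec v (φ ∘ v)).trace = hdot φ v v := by
    unfold Matrix.trace
    rw [hdot_def]
    rfl
  rw [this, hv]
  simp
  ring

theorem rf_smul (δ : F) (hδ : δ * φ δ = 1) (v : ι → F) : rf φ (δ • v) = rf φ v := by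
  unfold rf
  rw [tv_smul_left, hδ, one_mul]

theorem isU_mul_rf {M : Matrix ι ι F} (hM : IsU φ M) (v : ι → F) :
    M * rf φ v = rf φ (M *ᵥ v) * M := by
  unfold rf
  rw [Matrix.mul_neg, Matrix.neg_mul, isU_mul_tv φ hM]

theorem rf_mulVec_self (v : ι → F) (hv : hdot φ v v = 1) : rf φ v *ᵥ v = v := by
  rw [rf_mulVec, hv]
  module

theorem rf_mulVec_orth (v x : ι → F) (hx : hdot φ x v = 0) : rf φ v *ᵥ x = -x := by
  rw [rf_mulVec, hx, mul_zero, zero_smul, add_zero]

/-- fixed vectors of `rf v` are multiples of `v` -/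
theorem eq_smul_of_rf_mulVec_eq (h2 : (2 : F) ≠ 0) (v x : ι → F) (hx : rf φ v *ᵥ x = x) :
    x = hdot φ x v • v := by
  rw [rf_mulVec] at hx
  have h1 : (2 : F) • x = (2 : F) • (hdot φ x v • v) := by
    rw [smul_smul, two_smul]
    nth_rewrite 1 [← hx]
    abel
  exact smul_right_injective _ h2 h1

/-- `rf v = rf w` iff `w` is a norm-one multiple of `v` -/
theorem rf_eq_rf_iff (hφφ : ∀ x, φ (φ x) = x) (h2 : (2 : F) ≠ 0) (v w : ι → F)
    (hv : hdot φ v v = 1) (hw : hdot φ w w = 1) :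
    rf φ v = rf φ w ↔ ∃ δ : F, δ * φ δ = 1 ∧ w = δ • v := by
  constructor
  · intro h
    have h1 : rf φ v *ᵥ w = w := by rw [h, rf_mulVec_self φ w hw]
    have h3 := eq_smul_of_rf_mulVec_eq φ h2 v w h1
    refine ⟨hdot φ w v, ?_, h3⟩
    have h4 := hw
    nth_rewrite 1 [h3] at h4
    rw [hdot_smul_left, ← hdot_conj φ hφφ w v] at h4
    have h5 : hdot φ v w = φ (hdot φ w v) := (hdot_conj φ hφφ w v).symm
    rw [hdot_conj φ hφφ] at h4
    rw [← h5]
    exact h4
  · rintro ⟨δ, hδ, rfl⟩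
    rw [rf_smul φ δ hδ]

end refl

section structure3

variable {F : Type*} [Field F] {ι : Type*} [Fintype ι] [DecidableEq ι] (φ : F →+* F)

theorem vecMulVec_mulVec'' (a b x : ι → F) : Matrix.vecMulVec a b *ᵥ x = (b ⬝ᵥ x) • a := by
  funext i
  simp only [Matrix.mulVec, dotProduct, Matrix.vecMulVec_apply, Pi.smul_apply, smul_eq_mul]
  rw [Finset.sum_mul]
  apply Finset.sum_congr rfl
  intro j _
  ring

/-- an idempotent-like rank one matrix: `N * N = 2 N`, `N = a bᵀ ≠ 0` gives `b ⬝ a = 2` -/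
theorem dot_eq_two_of_sq (a b : ι → F) (hN : Matrix.vecMulVec a b ≠ 0)
    (hsq : Matrix.vecMulVec a b * Matrix.vecMulVec a b = (2 : F) • Matrix.vecMulVec a b) :
    b ⬝ᵥ a = 2 := by
  rw [vecMulVec_mul_vecMulVec'] at hsq
  by_contra h
  apply hN
  have h1 : (b ⬝ᵥ a - 2) • Matrix.vecMulVec a b = 0 := by
    rw [sub_smul, hsq, sub_self]
  rcases smul_eq_zero.1 h1 with h3 | h3
  · exact absurd (sub_eq_zero.1 h3) h
  · exact h3

/-- structure of involutions of the three-dimensional special unitary group, odd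
characteristic -/
theorem exists_rf_of_involution (hφφ : ∀ x, φ (φ x) = x)
    (hN1 : ∀ c : F, c ≠ 0 → φ c = c → ∃ l : F, l ≠ 0 ∧ l * φ l = c) (h2 : (2 : F) ≠ 0)
    (hcard : Fintype.card ι = 3) (T : Matrix ι ι F) (hT : IsU φ T) (hdet : T.det = 1)
    (hTT : T * T = 1) (hT1 : T ≠ 1) : ∃ v : ι → F, hdot φ v v = 1 ∧ T = rf φ v := by
  obtain ⟨A, hA⟩ : ∃ A, A = T + 1 := ⟨_, rfl⟩
  obtain ⟨B, hB⟩ : ∃ B, B = 1 - T := ⟨_, rfl⟩
  have hAB : A * B = 0 := by
    rw [hA, hB, Matrix.add_mul, Matrix.mul_sub, Matrix.mul_sub, hTT]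
    simp
  have hAA : A * A = (2 : F) • A := by
    rw [hA, Matrix.add_mul, Matrix.mul_add, Matrix.mul_add, hTT, two_smul]
    simp only [Matrix.mul_one, Matrix.one_mul]
    abel
  have hBB : B * B = (2 : F) • B := by
    rw [hB, Matrix.sub_mul, Matrix.mul_sub, Matrix.mul_sub, hTT, two_smul]
    simp only [Matrix.mul_one, Matrix.one_mul]
    abel
  have hle : A.rank + B.rank ≤ 3 := by
    rw [← hcard]
    exact Matrix.rank_add_rank_le_card_of_mul_eq_zero hAB
  have hge : 3 ≤ A.rank + B.rank := by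
    have h1 : (⊤ : Submodule F (ι → F)) ≤
        LinearMap.range A.mulVecLin ⊔ LinearMap.range B.mulVecLin := by
      intro x _
      have hx : x = A *ᵥ ((2 : F)⁻¹ • x) + B *ᵥ ((2 : F)⁻¹ • x) := by
        rw [← Matrix.add_mulVec, hA, hB]
        have : T + 1 + (1 - T) = (2 : F) • (1 : Matrix ι ι F) := by
          rw [two_smul]
          abel
        rw [this, Matrix.smul_mulVec, Matrix.one_mulVec, smul_smul, mul_inv_cancel₀ h2, one_smul]
      rw [hx]
      exact Submodule.add_mem _ (Submodule.mem_sup_left ⟨_, rfl⟩)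
        (Submodule.mem_sup_right ⟨_, rfl⟩)
    have h3 := Submodule.finrank_mono h1
    rw [finrank_top, Module.finrank_fintype_fun_eq_card, hcard] at h3
    have h4 := Submodule.finrank_add_le_finrank_add_finrank (LinearMap.range A.mulVecLin)
      (LinearMap.range B.mulVecLin)
    unfold Matrix.rank
    omega
  have hB0 : B ≠ 0 := by
    intro h
    apply hT1
    rw [hB] at h
    exact (sub_eq_zero.1 h).symm
  have hBrk0 : B.rank ≠ 0 := by
    intro h
    exact hB0 (eq_zero_of_rank_eq_zero B h)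
  have hA0 : A ≠ 0 := by
    intro h
    rw [hA] at h
    have hT' : T = -1 := eq_neg_of_add_eq_zero_left h
    rw [hT', Matrix.det_neg, Matrix.det_one, hcard] at hdet
    apply h2
    linear_combination -hdet
  have hArk0 : A.rank ≠ 0 := by
    intro h
    exact hA0 (eq_zero_of_rank_eq_zero A h)
  have hBrk1 : B.rank ≠ 1 := by
    intro h
    obtain ⟨a, b, hab⟩ := exists_vecMulVec_of_rank_one B h
    have hdot2 := dot_eq_two_of_sq a b (by rw [← hab]; exact hB0) (by rw [← hab]; exact hBB)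
    have hT' : T = 1 + Matrix.vecMulVec (-a) b := by
      have : Matrix.vecMulVec (-a) b = -Matrix.vecMulVec a b := by
        ext i j
        simp [Matrix.vecMulVec_apply]
      rw [this, ← hab, hB]
      abel
    rw [hT', det_one_add_vecMulVec, dotProduct_neg, hdot2] at hdet
    apply h2
    linear_combination -hdet
  have hArk : A.rank = 1 := by omega
  obtain ⟨a, b, hab⟩ := exists_vecMulVec_of_rank_one A hArk
  have hdot2 := dot_eq_two_of_sq a b (by rw [← hab]; exact hA0) (by rw [← hab]; exact hAA)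
  have hAx : ∀ x, A *ᵥ x = (b ⬝ᵥ x) • a := by
    intro x
    rw [hab, vecMulVec_mulVec'']
  have hTx : ∀ x, T *ᵥ x = -x + (b ⬝ᵥ x) • a := by
    intro x
    rw [← hAx, hA, Matrix.add_mulVec, Matrix.one_mulVec]
    abel
  have hsa : ∀ x y, hdot φ (T *ᵥ x) y = hdot φ x (T *ᵥ y) := by
    intro x y
    have := hT.hdot_mulVec φ x (T *ᵥ y)
    rw [Matrix.mulVec_mulVec, hTT, Matrix.one_mulVec] at this
    exact this
  have hkey : ∀ x, (b ⬝ᵥ x) * hdot φ a a = 2 * hdot φ x a := by
    intro x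
    have := hsa x a
    rw [hTx, hTx, hdot2, hdot_add_left, hdot_add_right, hdot_smul_left, hdot_smul_right,
      map_ofNat] at this
    have hneg : hdot φ (-x) a = -hdot φ x a := by
      have : -x = (-1 : F) • x := by simp
      rw [this, hdot_smul_left]
      ring
    have hneg' : hdot φ x (-a) = -hdot φ x a := by
      have : -a = (-1 : F) • a := by simp
      rw [this, hdot_smul_right, map_neg, map_one]
      ring
    rw [hneg, hneg'] at this
    linear_combination this
  have ha0 : a ≠ 0 := by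
    intro h
    apply hA0
    rw [hab, h]
    ext i j
    simp [Matrix.vecMulVec_apply]
  have hNa : hdot φ a a ≠ 0 := by
    intro h
    apply ha0
    apply eq_zero_of_hdot_left φ hφφ
    intro x
    have := hkey x
    rw [h, mul_zero] at this
    rcases mul_eq_zero.1 this.symm with h3 | h3
    · exact absurd h3 h2
    · exact h3
  have hNfix : φ (hdot φ a a) = hdot φ a a := hdot_conj φ hφφ a a
  obtain ⟨l, hl0, hl⟩ := hN1 _ hNa hNfix
  have hφl0 : φ l ≠ 0 := (map_ne_zero φ).2 hl0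
  refine ⟨l⁻¹ • a, ?_, ?_⟩
  · rw [hdot_smul_left, hdot_smul_right, map_inv₀, ← hl]
    field_simp
  · rw [Matrix.ext_iff_mulVec]
    intro x
    rw [hTx, rf_mulVec, hdot_smul_right, smul_smul, map_inv₀]
    congr 2
    have := hkey x
    rw [← hl] at this
    field_simp
    linear_combination this

end structure3

section commuting

variable {F : Type*} [Field F] {ι : Type*} [Fintype ι] [DecidableEq ι] (φ : F →+* F)

/-- commuting reflections: equal or orthogonal -/
theorem rf_commute (hφφ : ∀ x, φ (φ x) = x) (h2 : (2 : F) ≠ 0) (v w : ι → F)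
    (hv : hdot φ v v = 1) (hw : hdot φ w w = 1) (hc : rf φ v * rf φ w = rf φ w * rf φ v) :
    rf φ v = rf φ w ∨ hdot φ v w = 0 := by
  by_cases h0 : hdot φ v w = 0
  · exact Or.inr h0
  left
  have h1 : rf φ v *ᵥ (rf φ w *ᵥ v) = rf φ w *ᵥ v := by
    rw [Matrix.mulVec_mulVec, hc, ← Matrix.mulVec_mulVec, rf_mulVec_self φ v hv]
  have h3 := eq_smul_of_rf_mulVec_eq φ h2 v _ h1
  obtain ⟨c, hc'⟩ : ∃ c, c = hdot φ (rf φ w *ᵥ v) v := ⟨_, rfl⟩
  rw [← hc', rf_mulVec] at h3
  have h4 : w = ((c + 1) * (2 * hdot φ v w)⁻¹) • v := by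
    have h5 : (2 * hdot φ v w) • w = (c + 1) • v := by
      rw [add_smul, one_smul, ← h3]
      abel
    have h6 : 2 * hdot φ v w ≠ 0 := mul_ne_zero h2 h0
    rw [mul_comm, mul_smul, ← h5, smul_smul, inv_mul_cancel₀ h6, one_smul]
  obtain ⟨δ, hδ⟩ : ∃ δ, δ = (c + 1) * (2 * hdot φ v w)⁻¹ := ⟨_, rfl⟩
  rw [← hδ] at h4
  have hδ1 : δ * φ δ = 1 := by
    have := hw
    rw [h4, hdot_smul_left, hdot_smul_right, hv, mul_one] at this
    exact this
  rw [h4, rf_smul φ δ hδ1]

/-- the product of the reflections along two vectors of an orthonormal basis of a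
three-dimensional space is the reflection along the third -/
theorem rf_mul_rf_eq (hφφ : ∀ x, φ (φ x) = x) (hcard : Fintype.card ι = 3) (v w u : ι → F)
    (hv : hdot φ v v = 1) (hw : hdot φ w w = 1) (hu : hdot φ u u = 1)
    (hvw : hdot φ v w = 0) (hvu : hdot φ v u = 0) (hwu : hdot φ w u = 0) :
    rf φ v * rf φ w = rf φ u := by
  have hwv : hdot φ w v = 0 := hdot_eq_zero_symm φ hφφ _ _ hvw
  have huv : hdot φ u v = 0 := hdot_eq_zero_symm φ hφφ _ _ hvu
  have huw : hdot φ u w = 0 := hdot_eq_zero_symm φ hφφ _ _ hwu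
  obtain ⟨c, hc⟩ : ∃ c : Fin 3 → ι → F, c = ![v, w, u] := ⟨_, rfl⟩
  have horth : ∀ i j, hdot φ (c i) (c j) = if i = j then 1 else 0 := by
    intro i j
    rw [hc]
    fin_cases i <;> fin_cases j <;> simp [hv, hw, hu, hvw, hvu, hwu, hwv, huv, huw]
  have hLI := linearIndependent_of_orthonormal φ c horth
  have hfin : Fintype.card (Fin 3) = Module.finrank F (ι → F) := by
    rw [Module.finrank_fintype_fun_eq_card, hcard, Fintype.card_fin]
  obtain ⟨b, hb⟩ : ∃ b : Module.Basis (Fin 3) F (ι → F), ⇑b = c :=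
    ⟨basisOfLinearIndependentOfCardEqFinrank hLI hfin,
      coe_basisOfLinearIndependentOfCardEqFinrank hLI hfin⟩
  have hlin : (rf φ v * rf φ w).mulVecLin = (rf φ u).mulVecLin := by
    apply b.ext
    intro i
    rw [hb, hc, Matrix.mulVecLin_apply, Matrix.mulVecLin_apply, ← Matrix.mulVec_mulVec]
    have hneg : ∀ (a z : ι → F), rf φ a *ᵥ (-z) = -(rf φ a *ᵥ z) := fun a z =>
      Matrix.mulVec_neg _ _
    fin_cases i
    · show rf φ v *ᵥ (rf φ w *ᵥ v) = rf φ u *ᵥ v
      rw [rf_mulVec_orth φ w v hvw, hneg, rf_mulVec_self φ v hv, rf_mulVec_orth φ u v hvu]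
    · show rf φ v *ᵥ (rf φ w *ᵥ w) = rf φ u *ᵥ w
      rw [rf_mulVec_self φ w hw, rf_mulVec_orth φ v w hwv, rf_mulVec_orth φ u w hwu]
    · show rf φ v *ᵥ (rf φ w *ᵥ u) = rf φ u *ᵥ u
      rw [rf_mulVec_orth φ w u huw, hneg, rf_mulVec_orth φ v u huv, neg_neg,
        rf_mulVec_self φ u hu]
  rw [Matrix.ext_iff_mulVec]
  intro x
  have := LinearMap.congr_fun hlin x
  rw [Matrix.mulVecLin_apply, Matrix.mulVecLin_apply] at this
  exact this

end commuting

end Cfsg.Agent.Helper11.Herm
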