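import Mathlib
import Cfsg.Agent.Lib.Helper11.UnitaryInvolOdd

set_option autoImplicit false

/-! Geometry of non-isotropic points of the Hermitian 3-space: Hermitian cross product, expansion
in orthonormal bases, counts of vectors of norm one by their inner product with a fixed one. -/

namespace Cfsg.Agent.Helper11.Herm

open Matrix

section cross

variable {F : Type*} [Field F] (φ : F →+* F)

/-- the Hermitian cross product: orthogonal to both arguments -/
def hcross (u w : Fin 3 → F) : Fin 3 → F := fun i => φ ((u ⨯₃ w) i)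

theorem hdot_hcross_left (hφφ : ∀ x, φ (φ x) = x) (u w : Fin 3 → F) :
    hdot φ u (hcross φ u w) = 0 := by
  rw [hdot_def]
  simp only [hcross, hφφ]
  exact dot_self_cross u w

theorem hdot_hcross_right (hφφ : ∀ x, φ (φ x) = x) (u w : Fin 3 → F) :
    hdot φ w (hcross φ u w) = 0 := by
  rw [hdot_def]
  simp only [hcross, hφφ]
  exact dot_cross_self u w

theorem hdot_hcross_self (hφφ : ∀ x, φ (φ x) = x) (u w : Fin 3 → F) :
    hdot φ (hcross φ u w) (hcross φ u w) =
      hdot φ u u * hdot φ w w - hdot φ u w * hdot φ w u := by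
  simp only [hdot_def, hcross, hφφ, cross_apply, Fin.sum_univ_three]
  simp only [Matrix.cons_val_zero, Matrix.cons_val_one, Matrix.cons_val, map_sub, map_mul]
  ring

end cross

section expand

variable {F : Type*} [Field F] (φ : F →+* F)

/-- expansion in an orthonormal basis of the three-dimensional space -/
theorem orthonormal_expand (c : Fin 3 → Fin 3 → F)
    (horth : ∀ i j, hdot φ (c i) (c j) = if i = j then 1 else 0) (z : Fin 3 → F) :
    z = ∑ i, hdot φ z (c i) • c i := by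
  have hLI := linearIndependent_of_orthonormal φ c horth
  have hfin : Fintype.card (Fin 3) = Module.finrank F (Fin 3 → F) := by
    rw [Module.finrank_fintype_fun_eq_card]
  obtain ⟨b, hb⟩ : ∃ b : Module.Basis (Fin 3) F (Fin 3 → F), ⇑b = c :=
    ⟨basisOfLinearIndependentOfCardEqFinrank hLI hfin,
      coe_basisOfLinearIndependentOfCardEqFinrank hLI hfin⟩
  have h1 : z = ∑ i, b.repr z i • c i := by
    rw [← hb]
    exact (b.sum_repr z).symm
  have h2 : ∀ j, hdot φ z (c j) = b.repr z j := by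
    intro j
    nth_rewrite 1 [h1]
    rw [hdot_sum_left, Finset.sum_eq_single j]
    · rw [hdot_smul_left, horth, if_pos rfl, mul_one]
    · intro i _ hij
      rw [hdot_smul_left, horth, if_neg hij, mul_zero]
    · intro h
      exact absurd (Finset.mem_univ j) h
  nth_rewrite 1 [h1]
  apply Finset.sum_congr rfl
  intro i _
  rw [h2]

/-- a vector orthogonal to two orthonormal vectors, in the three-dimensional space, is either
zero or non-isotropic -/
theorem eq_zero_of_orth_of_isotropic (hφφ : ∀ x, φ (φ x) = x) (v u z : Fin 3 → F)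
    (hv : hdot φ v v = 1) (hu : hdot φ u u = 1) (hvu : hdot φ v u = 0)
    (hzv : hdot φ z v = 0) (hzu : hdot φ z u = 0) (hzz : hdot φ z z = 0) : z = 0 := by
  obtain ⟨e, he⟩ : ∃ e, e = hcross φ v u := ⟨_, rfl⟩
  have hve : hdot φ v e = 0 := by rw [he]; exact hdot_hcross_left φ hφφ v u
  have hue : hdot φ u e = 0 := by rw [he]; exact hdot_hcross_right φ hφφ v u
  have huv : hdot φ u v = 0 := hdot_eq_zero_symm φ hφφ _ _ hvu
  have hee : hdot φ e e = 1 := by
    rw [he, hdot_hcross_self φ hφφ, hv, hu, hvu, huv]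
    ring
  have hev : hdot φ e v = 0 := hdot_eq_zero_symm φ hφφ _ _ hve
  have heu : hdot φ e u = 0 := hdot_eq_zero_symm φ hφφ _ _ hue
  have horth : ∀ i j, hdot φ (![v, u, e] i) (![v, u, e] j) = if i = j then 1 else 0 := by
    intro i j
    fin_cases i <;> fin_cases j <;> simp [hv, hu, hee, hvu, huv, hve, hue, hev, heu]
  have h1 := orthonormal_expand φ ![v, u, e] horth z
  rw [Fin.sum_univ_three] at h1
  simp only [Matrix.cons_val_zero, Matrix.cons_val_one, Matrix.cons_val] at h1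
  rw [hzv, hzu, zero_smul, zero_smul, zero_add, zero_add] at h1
  have h2 := hzz
  nth_rewrite 1 [h1] at h2
  rw [hdot_smul_left, ← hdot_conj φ hφφ z e] at h2
  obtain ⟨a, ha⟩ : ∃ a, a = hdot φ z e := ⟨_, rfl⟩
  rw [← ha] at h1 h2
  have ha0 : a = 0 := by
    rcases mul_eq_zero.1 h2 with h3 | h3
    · exact h3
    · exact (map_eq_zero φ).1 h3
  rw [h1, ha0, zero_smul]

end expand

section middle

variable {F : Type*} [Field F] (φ : F →+* F)

theorem rf_commute_of_orth {ι : Type*} [Fintype ι] [DecidableEq ι] (hφφ : ∀ x, φ (φ x) = x)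
    (v w : ι → F) (hvw : hdot φ v w = 0) : rf φ v * rf φ w = rf φ w * rf φ v := by
  have hwv : hdot φ w v = 0 := hdot_eq_zero_symm φ hφφ _ _ hvw
  rw [Matrix.ext_iff_mulVec]
  intro x
  rw [← Matrix.mulVec_mulVec, ← Matrix.mulVec_mulVec, rf_mulVec φ w x, rf_mulVec φ v x,
    Matrix.mulVec_add, Matrix.mulVec_add, Matrix.mulVec_neg, Matrix.mulVec_neg,
    Matrix.mulVec_smul, Matrix.mulVec_smul, rf_mulVec_orth φ v w hwv, rf_mulVec_orth φ w v hvw,
    rf_mulVec, rf_mulVec]
  module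

/-- a vector of norm one orthogonal to two given vectors spanning a non-degenerate plane -/
theorem exists_norm_one_orth_pair (hφφ : ∀ x, φ (φ x) = x)
    (hN1 : ∀ c : F, c ≠ 0 → φ c = c → ∃ l : F, l ≠ 0 ∧ l * φ l = c) (a w : Fin 3 → F)
    (hne : hdot φ a a * hdot φ w w - hdot φ a w * hdot φ w a ≠ 0) :
    ∃ b : Fin 3 → F, hdot φ b b = 1 ∧ hdot φ a b = 0 ∧ hdot φ w b = 0 := by
  obtain ⟨u0, hu0⟩ : ∃ u0, u0 = hcross φ a w := ⟨_, rfl⟩
  have h1 : hdot φ a u0 = 0 := by rw [hu0]; exact hdot_hcross_left φ hφφ a w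
  have h2 : hdot φ w u0 = 0 := by rw [hu0]; exact hdot_hcross_right φ hφφ a w
  have h3 : hdot φ u0 u0 ≠ 0 := by rw [hu0, hdot_hcross_self φ hφφ]; exact hne
  obtain ⟨l, hl0, hl⟩ := hN1 _ h3 (hdot_conj φ hφφ u0 u0)
  have hφl0 : φ l ≠ 0 := (map_ne_zero φ).2 hl0
  refine ⟨l⁻¹ • u0, ?_, ?_, ?_⟩
  · rw [hdot_smul_left, hdot_smul_right, map_inv₀, ← hl]
    field_simp
  · rw [hdot_smul_right, h1, mul_zero]
  · rw [hdot_smul_right, h2, mul_zero]

/-- two distinct reflections have a common orthogonal reflection iff the plane they span is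
non-degenerate -/
theorem exists_common_orth_iff (hφφ : ∀ x, φ (φ x) = x)
    (hN1 : ∀ c : F, c ≠ 0 → φ c = c → ∃ l : F, l ≠ 0 ∧ l * φ l = c) (v w : Fin 3 → F)
    (hv : hdot φ v v = 1) (hw : hdot φ w w = 1) (hne : rf φ v ≠ rf φ w) :
    (∃ u : Fin 3 → F, hdot φ u u = 1 ∧ hdot φ v u = 0 ∧ hdot φ w u = 0) ↔
      hdot φ w v * φ (hdot φ w v) ≠ 1 := by
  have hvw : hdot φ v w = φ (hdot φ w v) := (hdot_conj φ hφφ w v).symm
  constructor
  · rintro ⟨u, hu, hvu, hwu⟩ h1
    apply hne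
    obtain ⟨h, hh⟩ : ∃ h, h = hdot φ w v := ⟨_, rfl⟩
    rw [← hh] at h1 hvw
    obtain ⟨z, hz⟩ : ∃ z, z = w - h • v := ⟨_, rfl⟩
    have hzv : hdot φ z v = 0 := by
      rw [hz, hdot_sub_left, hdot_smul_left, hv, ← hh]
      ring
    have hzu : hdot φ z u = 0 := by
      rw [hz, hdot_sub_left, hdot_smul_left, hvu, hwu]
      ring
    have hzz : hdot φ z z = 0 := by
      rw [hz, hdot_sub_left, hdot_sub_right, hdot_sub_right, hdot_smul_left, hdot_smul_left,
        hdot_smul_right, hdot_smul_right, hv, hw, hvw, ← hh]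
      linear_combination -h1
    have hz0 := eq_zero_of_orth_of_isotropic φ hφφ v u z hv hu hvu hzv hzu hzz
    have hwv : w = h • v := by
      rw [hz] at hz0
      exact sub_eq_zero.1 hz0
    rw [hwv, rf_smul φ h h1]
  · intro h1
    obtain ⟨b, hb, hab, hwb⟩ := exists_norm_one_orth_pair φ hφφ hN1 v w (by
      rw [hv, hw, hvw]
      intro h3
      apply h1
      linear_combination -h3)
    exact ⟨b, hb, hab, hwb⟩

end middle

section path

variable {F : Type*} [Field F] (φ : F →+* F)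

/-- any two reflections are joined by a path of length at most three in the orthogonality
graph -/
theorem exists_path_vec (hφ : φ ≠ RingHom.id F) (hφφ : ∀ x, φ (φ x) = x)
    (hN1 : ∀ c : F, c ≠ 0 → φ c = c → ∃ l : F, l ≠ 0 ∧ l * φ l = c) (h2 : (2 : F) ≠ 0)
    (v w : Fin 3 → F) (hv : hdot φ v v = 1) (hw : hdot φ w w = 1) :
    ∃ a b : Fin 3 → F, hdot φ a a = 1 ∧ hdot φ b b = 1 ∧
      (hdot φ v a = 0 ∨ rf φ v = rf φ a) ∧ (hdot φ a b = 0 ∨ rf φ a = rf φ b) ∧
      (hdot φ b w = 0 ∨ rf φ b = rf φ w) := by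
  have hvw : hdot φ v w = φ (hdot φ w v) := (hdot_conj φ hφφ w v).symm
  obtain ⟨h, hh⟩ : ∃ h, h = hdot φ w v := ⟨_, rfl⟩
  rw [← hh] at hvw
  obtain ⟨z, hz⟩ : ∃ z, z = w - h • v := ⟨_, rfl⟩
  have hwz : w = h • v + z := by rw [hz]; abel
  have hzv : hdot φ z v = 0 := by
    rw [hz, hdot_sub_left, hdot_smul_left, hv, ← hh]
    ring
  have hvz : hdot φ v z = 0 := hdot_eq_zero_symm φ hφφ _ _ hzv
  have hzz : hdot φ z z = 1 - h * φ h := by
    rw [hz, hdot_sub_left, hdot_sub_right, hdot_sub_right, hdot_smul_left, hdot_smul_left,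
      hdot_smul_right, hdot_smul_right, hv, hw, hvw, ← hh]
    ring
  by_cases hz0 : z = 0
  · -- same point
    have hwv : w = h • v := by rw [hwz, hz0, add_zero]
    have hh1 : h * φ h = 1 := by
      rw [hz0, hdot_zero_left] at hzz
      linear_combination hzz
    refine ⟨v, v, hv, hv, Or.inr rfl, Or.inr rfl, Or.inr ?_⟩
    rw [hwv, rf_smul φ h hh1]
  by_cases hzn : hdot φ z z = 0
  · -- the distance three case
    obtain ⟨s1, hs1⟩ : ∃ s1, hdot φ z s1 ≠ 0 := by
      by_contra hcon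
      push Not at hcon
      exact hz0 (eq_zero_of_hdot_right φ z hcon)
    obtain ⟨f0, hf0⟩ : ∃ f0, f0 = s1 - hdot φ s1 v • v := ⟨_, rfl⟩
    have hf0v : hdot φ f0 v = 0 := by
      rw [hf0, hdot_sub_left, hdot_smul_left, hv]
      ring
    have hzf0 : hdot φ z f0 = hdot φ z s1 := by
      rw [hf0, hdot_sub_right, hdot_smul_right, hzv]
      ring
    obtain ⟨g, hg⟩ : ∃ g, g = hdot φ z s1 := ⟨_, rfl⟩
    rw [← hg] at hs1 hzf0
    obtain ⟨f, hf⟩ : ∃ f, f = (φ g)⁻¹ • f0 := ⟨_, rfl⟩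
    have hφg0 : φ g ≠ 0 := (map_ne_zero φ).2 hs1
    have hfv : hdot φ f v = 0 := by rw [hf, hdot_smul_left, hf0v, mul_zero]
    have hvf : hdot φ v f = 0 := hdot_eq_zero_symm φ hφφ _ _ hfv
    have hzf : hdot φ z f = 1 := by
      rw [hf, hdot_smul_right, hzf0, map_inv₀, hφφ]
      exact inv_mul_cancel₀ hs1
    have hfz : hdot φ f z = 1 := by rw [← hdot_conj φ hφφ z f, hzf, map_one]
    obtain ⟨ε, hε0, hε⟩ := hN1 (-1) (by simp) (by rw [map_neg, map_one])
    have hφε0 : φ ε ≠ 0 := (map_ne_zero φ).2 hε0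
    obtain ⟨τ, hτ⟩ := Witt.exists_trace_eq φ hφ hφφ (1 + hdot φ f f)
      (by rw [map_add, map_one, hdot_conj φ hφφ f f])
    obtain ⟨α, hα⟩ : ∃ α, α = τ * (φ ε)⁻¹ := ⟨_, rfl⟩
    have hαε : α * φ ε = τ := by
      rw [hα, mul_assoc, inv_mul_cancel₀ hφε0, mul_one]
    have hεα : ε * φ α = φ τ := by
      have := congrArg φ hαε
      rw [map_mul, hφφ] at this
      rw [mul_comm]
      exact this
    obtain ⟨a, ha⟩ : ∃ a, a = α • z + ε • f := ⟨_, rfl⟩
    have hav : hdot φ a v = 0 := by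
      rw [ha, hdot_add_left, hdot_smul_left, hdot_smul_left, hzv, hfv]
      ring
    have hva : hdot φ v a = 0 := hdot_eq_zero_symm φ hφφ _ _ hav
    have haa : hdot φ a a = 1 := by
      rw [ha]
      simp only [hdot_add_left, hdot_add_right, hdot_smul_left, hdot_smul_right, hzn, hzf, hfz]
      linear_combination hαε + hεα + hτ + (hdot φ f f) * hε
    have hwa : hdot φ w a = φ ε := by
      rw [hwz, hdot_add_left, hdot_smul_left, hva, ha, hdot_add_right, hdot_smul_right,
        hdot_smul_right, hzn, hzf]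
      ring
    have haw : hdot φ a w = ε := by rw [← hdot_conj φ hφφ w a, hwa, hφφ]
    obtain ⟨b, hb, hab, hwb⟩ := exists_norm_one_orth_pair φ hφφ hN1 a w (by
      rw [haa, hw, haw, hwa, hε]
      intro h3
      apply h2
      linear_combination h3)
    exact ⟨a, b, haa, hb, Or.inl hva, Or.inl hab,
      Or.inl (hdot_eq_zero_symm φ hφφ _ _ hwb)⟩
  · -- distance at most two
    obtain ⟨b, hb, hvb, hzb⟩ := exists_norm_one_orth_pair φ hφφ hN1 v z (by
      rw [hv, hvz, one_mul, zero_mul, sub_zero]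
      exact hzn)
    have hwb : hdot φ w b = 0 := by
      rw [hwz, hdot_add_left, hdot_smul_left, hvb, hzb]
      ring
    exact ⟨v, b, hv, hb, Or.inr rfl, Or.inl hvb, Or.inl (hdot_eq_zero_symm φ hφφ _ _ hwb)⟩

end path

section counts

variable {F : Type*} [Field F] [Fintype F] (φ : F →+* F)

theorem hdot_fin_succ {n : ℕ} (u w : Fin (n + 1) → F) :
    hdot φ u w = u 0 * φ (w 0) + hdot φ (Fin.tail u) (Fin.tail w) := by
  rw [hdot_def, hdot_def, Fin.sum_univ_succ]
  rfl

/-- vectors of norm one, split by first coordinate -/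
noncomputable def normOneEquiv (P : F → Prop) :
    {w : Fin 3 → F // hdot φ w w = 1 ∧ P (w 0)} ≃
      Σ h : {h : F // P h}, {w' : Fin 2 → F // hdot φ w' w' = 1 - h.1 * φ h.1} where
  toFun w := ⟨⟨w.1 0, w.2.2⟩, ⟨Fin.tail w.1, by
    have := w.2.1
    rw [hdot_fin_succ] at this
    linear_combination this⟩⟩
  invFun p := ⟨Fin.cons p.1.1 p.2.1, by
    rw [hdot_fin_succ, Fin.cons_zero, Fin.tail_cons, p.2.2]
    ring, by
    rw [Fin.cons_zero]
    exact p.1.2⟩
  left_inv w := by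
    apply Subtype.ext
    exact Fin.cons_self_tail w.1
  right_inv p := by
    obtain ⟨⟨h, hh⟩, ⟨w', hw'⟩⟩ := p
    rfl

theorem card_norm_one_le [DecidableEq F] (P : F → Prop) (v v' : Fin 3 → F) (M : Matrix (Fin 3) (Fin 3) F)
    (hM : IsU φ M) (hMv : M *ᵥ v = v') :
    Nat.card {w : Fin 3 → F // hdot φ w w = 1 ∧ P (hdot φ w v)} ≤
      Nat.card {w : Fin 3 → F // hdot φ w w = 1 ∧ P (hdot φ w v')} := by
  have hf : ∀ w : {w : Fin 3 → F // hdot φ w w = 1 ∧ P (hdot φ w v)},
      hdot φ (M *ᵥ w.1) (M *ᵥ w.1) = 1 ∧ P (hdot φ (M *ᵥ w.1) v') := by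
    intro w
    rw [← hMv, hM.hdot_mulVec, hM.hdot_mulVec]
    exact w.2
  apply Nat.card_le_card_of_injective (fun w => (⟨M *ᵥ w.1, hf w⟩ :
    {w : Fin 3 → F // hdot φ w w = 1 ∧ P (hdot φ w v')}))
  intro w w' hww
  have := congrArg Subtype.val hww
  exact Subtype.ext (hM.mulVec_injective this)

/-- the number of vectors of norm one with prescribed behaviour of the inner product with a
fixed vector of norm one -/
theorem card_norm_one_by_h (hφ : φ ≠ RingHom.id F) (hφφ : ∀ x, φ (φ x) = x) (P : F → Prop)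
    (v : Fin 3 → F) (hv : hdot φ v v = 1) :
    Nat.card {w : Fin 3 → F // hdot φ w w = 1 ∧ P (hdot φ w v)} =
      Nat.card (Σ h : {h : F // P h}, {w' : Fin 2 → F // hdot φ w' w' = 1 - h.1 * φ h.1}) := by
  classical
  obtain ⟨e, he⟩ : ∃ e : Fin 3 → F, e = Pi.single 0 1 := ⟨_, rfl⟩
  have hee : hdot φ e e = 1 := by
    rw [he, hdot_single_single, if_pos rfl]
  have hv0 : v ≠ 0 := by
    intro h
    rw [h, hdot_zero_left] at hv
    exact zero_ne_one hv
  have he0 : e ≠ 0 := by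
    intro h
    rw [h, hdot_zero_left] at hee
    exact zero_ne_one hee
  obtain ⟨M, hM, hMv⟩ := exists_isU_map φ hφ hφφ v e hv0 he0 (by rw [hv, hee])
  obtain ⟨M', hM', hMv'⟩ := exists_isU_map φ hφ hφφ e v he0 hv0 (by rw [hv, hee])
  have h1 : Nat.card {w : Fin 3 → F // hdot φ w w = 1 ∧ P (hdot φ w v)} =
      Nat.card {w : Fin 3 → F // hdot φ w w = 1 ∧ P (hdot φ w e)} :=
    le_antisymm (card_norm_one_le φ P v e M hM hMv) (card_norm_one_le φ P e v M' hM' hMv')
  rw [h1, ← Nat.card_congr (normOneEquiv φ P)]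
  apply Nat.card_congr
  apply Equiv.subtypeEquivRight
  intro w
  rw [he, hdot_single_right]

end counts

section counts2

variable {F : Type*} [Field F] [Fintype F] {q : ℕ}

theorem card_norm_eq_cnt (φ : F →+* F) (hφ : ∀ x, φ x = x ^ q) (n : ℕ) (c : F) :
    Nat.card {w : Fin n → F // hdot φ w w = c} = cnt F q n c := by
  unfold cnt
  simp only [hermForm_eq_hdot φ hφ]

theorem card_norm_one_orth (hF : Fintype.card F = q ^ 2) (φ : F →+* F) (hφ : ∀ x, φ x = x ^ q)
    (v : Fin 3 → F) (hv : hdot φ v v = 1) :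
    Nat.card {w : Fin 3 → F // hdot φ w w = 1 ∧ hdot φ w v = 0} = q * (q ^ 2 - 1) := by
  have hφφ := frob_frob hF φ hφ
  have hφid := frob_ne_id hF φ hφ
  rw [card_norm_one_by_h φ hφid hφφ (fun h => h = 0) v hv]
  have : Fintype {h : F // h = 0} := Fintype.ofFinite _
  rw [Nat.card_sigma]
  have h1 : ∀ h ∈ (Finset.univ : Finset {h : F // h = 0}),
      Nat.card {w' : Fin 2 → F // hdot φ w' w' = 1 - h.1 * φ h.1} = q * (q ^ 2 - 1) := by
    intro h _
    rw [h.2, zero_mul, sub_zero, card_norm_eq_cnt φ hφ, cnt_one_eq hF 2, if_pos (by decide)]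
    norm_num
  rw [Finset.sum_congr rfl h1, Finset.sum_const, Finset.card_univ, smul_eq_mul]
  have : Fintype.card {h : F // h = 0} = 1 := by
    rw [Fintype.card_eq_one_iff]
    exact ⟨⟨0, rfl⟩, fun y => Subtype.ext y.2⟩
  rw [this, one_mul]

theorem card_norm_one_unit (hF : Fintype.card F = q ^ 2) (φ : F →+* F) (hφ : ∀ x, φ x = x ^ q)
    (v : Fin 3 → F) (hv : hdot φ v v = 1) :
    Nat.card {w : Fin 3 → F // hdot φ w w = 1 ∧ hdot φ w v * φ (hdot φ w v) = 1} =
      (q + 1) * cnt F q 2 0 := by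
  have hφφ := frob_frob hF φ hφ
  have hφid := frob_ne_id hF φ hφ
  rw [card_norm_one_by_h φ hφid hφφ (fun h => h * φ h = 1) v hv]
  have : Fintype {h : F // h * φ h = 1} := Fintype.ofFinite _
  rw [Nat.card_sigma]
  have h1 : ∀ h ∈ (Finset.univ : Finset {h : F // h * φ h = 1}),
      Nat.card {w' : Fin 2 → F // hdot φ w' w' = 1 - h.1 * φ h.1} = cnt F q 2 0 := by
    intro h _
    rw [h.2, sub_self, card_norm_eq_cnt φ hφ]
  rw [Finset.sum_congr rfl h1, Finset.sum_const, Finset.card_univ, smul_eq_mul]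
  congr 1
  rw [← Nat.card_eq_fintype_card, ← card_norm_one hF]
  apply Nat.card_congr
  apply Equiv.subtypeEquivRight
  intro h
  rw [hφ]

end counts2

end Cfsg.Agent.Helper11.Herm
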