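import Mathlib
import Cfsg.Agent.Lib.Helper20.W3Defs

/-! # S3300 piece W3-MINY (helper11): an element of `H ∖ K` of minimal order has 2-power order. -/

set_option autoImplicit false

namespace Cfsg.Agent.Helper20.W3

open Cfsg.Agent.Helper8.XS Cfsg.Agent.Helper8.AB

variable {G : Type*} [Group G] [Finite G] {z : G} {H E K : Subgroup G} {n : ℕ}

/-- PIECE W3-MINY: an element of `H ∖ K` of minimal order; its order is a power of `2`. -/
theorem exists_minP (c : Ctx3 z H E K n) :
    ∃ y : G, y ∈ H ∧ y ∉ K ∧ (∃ k : ℕ, 1 ≤ k ∧ orderOf y = 2 ^ k) ∧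
      ∀ w ∈ H, orderOf w < orderOf y → w ∈ K := by
  classical
  have hidx : (K.subgroupOf H).index = 2 := c.hKi
  have hne : ∃ h : ↥H, h ∈ {h : ↥H | h ∉ K.subgroupOf H} := by
    by_contra hcon
    push Not at hcon
    have htop : K.subgroupOf H = ⊤ := by
      rw [eq_top_iff]
      intro h _
      by_contra hh
      exact hcon h hh
    rw [htop, Subgroup.index_top] at hidx
    omega
  obtain ⟨y, hyS, hymin⟩ := Set.exists_min_image {h : ↥H | h ∉ K.subgroupOf H}
    (fun h => orderOf (h : G)) (Set.toFinite _) hne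
  have hyS' : y ∉ K.subgroupOf H := hyS
  have hmin : ∀ w : ↥H, orderOf (w : G) < orderOf (y : G) → w ∈ K.subgroupOf H := by
    intro w hw
    by_contra hcon
    exact absurd (hymin w hcon) (not_le.2 hw)
  have hsq : y * y ∈ K.subgroupOf H := by
    rw [Subgroup.mul_mem_iff_of_index_two hidx]
  have hyK : (y : G) ∉ K := fun h => hyS' (Subgroup.mem_subgroupOf.2 h)
  refine ⟨(y : G), y.2, hyK, ?_, ?_⟩
  · have hn0 : orderOf (y : G) ≠ 0 := (orderOf_pos (y : G)).ne'
    obtain ⟨k, s, hs_odd, hn⟩ := Nat.exists_eq_two_pow_mul_odd hn0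
    have hs1 : s = 1 := by
      by_contra hs1
      have hs_pos : 0 < s := hs_odd.pos
      have hs2 : 2 ≤ s := by omega
      have hsdvd : s ∣ orderOf (y : G) := ⟨2 ^ k, by rw [hn, mul_comm]⟩
      have hord : orderOf ((y ^ s : ↥H) : G) = orderOf (y : G) / s := by
        rw [Subgroup.coe_pow]
        exact orderOf_pow_of_dvd hs_pos.ne' hsdvd
      have hlt : orderOf ((y ^ s : ↥H) : G) < orderOf (y : G) := by
        rw [hord]
        exact Nat.div_lt_self (orderOf_pos _) (by omega)
      have h1 := hmin (y ^ s) hlt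
      obtain ⟨j, hj⟩ := hs_odd
      have h2 : y ^ s = (y * y) ^ j * y := by
        rw [hj, pow_succ, pow_mul, pow_two]
      have h3 : y = ((y * y) ^ j)⁻¹ * y ^ s := by
        rw [h2]; group
      apply hyS'
      rw [h3]
      exact (K.subgroupOf H).mul_mem ((K.subgroupOf H).inv_mem ((K.subgroupOf H).pow_mem hsq j)) h1
    refine ⟨k, ?_, by rw [hn, hs1, mul_one]⟩
    by_contra hk
    have hk0 : k = 0 := by omega
    have h1 : orderOf (y : G) = 1 := by rw [hn, hs1, hk0]; norm_num
    have hy1 : (y : G) = 1 := orderOf_eq_one_iff.1 h1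
    apply hyK
    rw [hy1]
    exact K.one_mem
  · intro w hw hlt
    have := hmin ⟨w, hw⟩ hlt
    exact Subgroup.mem_subgroupOf.1 this

end Cfsg.Agent.Helper20.W3
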