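import Mathlib

/-! # S3300 piece W3-QUAD (helper11): the zero set of a quadratic form on an elementary abelian
2-group of order at least 8 has even cardinality. -/

set_option autoImplicit false

namespace Cfsg.Agent.Helper20.W3

/-- PIECE W3-QUAD: the zero set of a quadratic form on an elementary abelian `2`-group of order at
least `8` has even cardinality. -/
theorem even_quadric {R : Type*} [Group R] [Finite R] (hexp : ∀ x : R, x * x = 1)
    (hcard : 8 ≤ Nat.card R) (S : Set R) (h1 : (1 : R) ∈ S)
    (hq : ∀ c : R, ∃ g : R → ℤˣ, (∀ x y : R, g (x * y) = g x * g y) ∧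
      ∀ x : R, (x * c ∈ S ↔ ((x ∈ S ↔ c ∈ S) ↔ g x = 1))) :
    Even (Set.ncard S) := by
  classical
  have := Fintype.ofFinite R
  have hp : IsPGroup 2 R := fun x => ⟨1, by rw [pow_one, pow_two]; exact hexp x⟩
  by_cases hall : ∀ x : R, x ∈ S
  · have hS : S = Set.univ := Set.eq_univ_of_forall hall
    obtain ⟨m, hm⟩ := hp.exists_card_eq
    rw [hS, Set.ncard_univ, hm]
    have hm1 : m ≠ 0 := by
      intro h0
      rw [hm, h0] at hcard
      norm_num at hcard
    exact (Nat.even_pow.2 ⟨even_two, hm1⟩)
  · push Not at hall
    obtain ⟨c, hc⟩ := hall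
    obtain ⟨g, hgmul, hg⟩ := hq c
    let φ : R →* ℤˣ := MonoidHom.mk' g hgmul
    have hφ : ∀ x, φ x = g x := fun x => rfl
    have hgc : g c = 1 := by
      have h2 := hg c
      rw [hexp c] at h2
      exact (h2.1 h1).1 Iff.rfl
    have hc1 : c ≠ 1 := fun h => hc (h ▸ h1)
    have hgxc : ∀ x, g (x * c) = g x := fun x => by rw [hgmul, hgc, mul_one]
    -- membership of `x * c`
    have hmemA : ∀ x, g x ≠ 1 → (x * c ∈ S ↔ x ∈ S) := by
      intro x hx
      rw [hg x]
      constructor
      · intro h
        by_contra hxS
        exact hx (h.1 ⟨fun h' => absurd h' hxS, fun h' => absurd h' hc⟩)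
      · intro hxS
        exact ⟨fun h => absurd (h.1 hxS) hc, fun h => absurd h hx⟩
    have hmemB : ∀ x, g x = 1 → (x * c ∈ S ↔ x ∉ S) := by
      intro x hx
      rw [hg x]
      constructor
      · intro h hxS
        exact hc ((h.2 hx).1 hxS)
      · intro hxS
        exact ⟨fun _ => hx, fun _ => ⟨fun h' => absurd h' hxS, fun h' => absurd h' hc⟩⟩
    have hcc : ∀ x : R, x * c * c = x := fun x => by rw [mul_assoc, hexp c, mul_one]
    -- the finsets
    set Sf : Finset R := Finset.univ.filter (fun x => x ∈ S) with hSf
    set Cf : Finset R := Finset.univ.filter (fun x => g x = 1) with hCf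
    set T1 : Finset R := Sf.filter (fun x => ¬ g x = 1) with hT1
    set T2 : Finset R := Sf.filter (fun x => g x = 1) with hT2
    set T3 : Finset R := Cf.filter (fun x => ¬ x ∈ S) with hT3
    have hncard : S.ncard = Sf.card := by
      rw [Set.ncard_eq_toFinset_card', hSf, Set.filter_mem_univ_eq_toFinset]
    have hsplit : T2.card + T1.card = Sf.card := Finset.card_filter_add_card_filter_not _
    -- `T1` is even
    have hT1even : Even T1.card := by
      have hsum : ∑ x ∈ T1, (1 : ZMod 2) = 0 := by
        refine Finset.sum_involution (fun x _ => x * c) ?_ ?_ ?_ ?_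
        · intro a _
          decide
        · intro a _ _ h
          apply hc1
          have : a * c = a * 1 := by rw [h, mul_one]
          exact mul_left_cancel this
        · intro a ha
          rw [hT1, Finset.mem_filter, hSf, Finset.mem_filter] at ha ⊢
          refine ⟨⟨Finset.mem_univ _, (hmemA a ha.2).2 ha.1.2⟩, ?_⟩
          rw [hgxc]; exact ha.2
        · intro a _
          exact hcc a
      rw [Finset.sum_const, nsmul_eq_mul, mul_one] at hsum
      exact ZMod.natCast_eq_zero_iff_even.1 hsum
    -- `T2` and `T3` have the same size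
    have hT23 : T2.card = T3.card := by
      refine Finset.card_nbij' (fun x => x * c) (fun x => x * c) ?_ ?_ ?_ ?_
      · intro a ha
        have ha' : a ∈ T2 := ha
        rw [hT2, Finset.mem_filter, hSf, Finset.mem_filter] at ha'
        show a * c ∈ T3
        rw [hT3, Finset.mem_filter, hCf, Finset.mem_filter]
        refine ⟨⟨Finset.mem_univ _, by rw [hgxc]; exact ha'.2⟩, ?_⟩
        rw [hmemB a ha'.2]
        exact fun h => h ha'.1.2
      · intro a ha
        have ha' : a ∈ T3 := ha
        rw [hT3, Finset.mem_filter, hCf, Finset.mem_filter] at ha'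
        show a * c ∈ T2
        rw [hT2, Finset.mem_filter, hSf, Finset.mem_filter]
        refine ⟨⟨Finset.mem_univ _, (hmemB a ha'.1.2).2 ha'.2⟩, by rw [hgxc]; exact ha'.1.2⟩
      · intro a _
        exact hcc a
      · intro a _
        exact hcc a
    have hT2' : T2 = Cf.filter (fun x => x ∈ S) := by
      rw [hT2, hSf, hCf, Finset.filter_comm]
    have hsplitC : T2.card + T3.card = Cf.card := by
      rw [hT2']
      exact Finset.card_filter_add_card_filter_not _
    -- the size of `Cf`
    have hker : Nat.card φ.ker = Cf.card := by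
      rw [Nat.card_eq_fintype_card, Fintype.card_subtype]
      congr 1
      ext x
      rw [hCf, Finset.mem_filter, Finset.mem_filter, MonoidHom.mem_ker, hφ]
    have hmul : Nat.card φ.ker * Nat.card φ.range = Nat.card R := by
      rw [← Subgroup.index_ker]; exact Subgroup.card_mul_index _
    have hrange : Nat.card φ.range ∣ 2 := by
      have := Subgroup.card_subgroup_dvd_card φ.range
      rwa [Nat.card_eq_fintype_card (α := ℤˣ), Fintype.card_units_int] at this
    have hrange2 : Nat.card φ.range ≤ 2 := Nat.le_of_dvd (by norm_num) hrange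
    have hker4 : 4 ≤ Nat.card φ.ker := by
      by_contra hlt
      push Not at hlt
      have : Nat.card φ.ker * Nat.card φ.range ≤ 3 * 2 := Nat.mul_le_mul (by omega) hrange2
      omega
    obtain ⟨j, hj⟩ := (hp.to_subgroup φ.ker).exists_card_eq
    have hj2 : 2 ≤ j := by
      by_contra hlt
      push Not at hlt
      have : 2 ^ j ≤ 2 ^ 1 := Nat.pow_le_pow_right (by norm_num) (by omega)
      omega
    obtain ⟨j', rfl⟩ := Nat.exists_eq_add_of_le hj2
    have hT2card : T2.card = 2 * 2 ^ j' := by
      have h2 : T2.card + T2.card = 2 ^ (2 + j') := by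
        rw [← hj, hker, ← hsplitC, ← hT23]
      have h3 : 2 ^ (2 + j') = 2 * (2 * 2 ^ j') := by rw [pow_add]; ring
      omega
    rw [hncard, ← hsplit, hT2card]
    exact Even.add (even_two_mul _) hT1even

end Cfsg.Agent.Helper20.W3
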