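import Mathlib
import Cfsg.Agent.Lib.Helper4.ZasExc
import Cfsg.Agent.Lib.Helper25.ZassOut
import Cfsg.Agent.Lib.Helper11.Zas120A

/-!
# Non-solvable regular linear groups (helper11, for S0689), part B: the structure

Everything is proved modulo the hypothesis `ZHyp` (= Zassenhaus' theorem S0690).
-/

set_option autoImplicit false
set_option linter.style.haveILetI false
set_option linter.unusedSectionVars false

namespace Cfsg.Agent.Helper11.Zas120

open Module Cfsg.Agent.Helper4.Zas
open scoped commutatorElement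

universe u

variable {p : ℕ} [Fact p.Prime] {V : Type u} [AddCommGroup V] [Module (ZMod p) V] [Finite V]
variable {H : Subgroup (V ≃ₗ[ZMod p] V)}

/-- the hypothesis: Zassenhaus' theorem (S0690) in the universe of `V` -/
def ZHyp : Prop :=
  ∀ (K : Type u) [Group K] [Finite K] (G : Subgroup (MulAut K)),
    (∀ φ ∈ G, φ ≠ 1 → ∀ k : K, φ k = k → k = 1) → commutator G = ⊤ → G ≠ ⊥ →
    Nonempty (G ≃* S25)

/-- the action on `Multiplicative V` -/
def toMulAut (H : Subgroup (V ≃ₗ[ZMod p] V)) : H →* MulAut (Multiplicative V) where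
  toFun h := AddEquiv.toMultiplicative ((h : V ≃ₗ[ZMod p] V).toAddEquiv)
  map_one' := by ext x; rfl
  map_mul' g h := by ext x; rfl

theorem toMulAut_apply (h : H) (x : Multiplicative V) :
    toMulAut H h x = Multiplicative.ofAdd ((h : V ≃ₗ[ZMod p] V) (Multiplicative.toAdd x)) := rfl

theorem toMulAut_injective : Function.Injective (toMulAut H) := by
  intro g h hgh
  apply Subtype.ext
  apply LinearEquiv.ext
  intro v
  have := congrArg (fun φ : MulAut (Multiplicative V) =>
    Multiplicative.toAdd (φ (Multiplicative.ofAdd v))) hgh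
  exact this

/-- a nontrivial perfect subgroup of a regular linear group is `SL(2,5)` -/
theorem perfect_iso (hZ : ZHyp.{u}) (hreg : Reg H) (L : Subgroup H) (hL : ⁅L, L⁆ = L)
    (hL1 : L ≠ ⊥) : Nonempty (L ≃* S25) := by
  have hinj := toMulAut_injective (H := H)
  set G : Subgroup (MulAut (Multiplicative V)) := L.map (toMulAut H) with hG
  let e₀ : L ≃* G := L.equivMapOfInjective (toMulAut H) hinj
  have hfpf : ∀ φ ∈ G, φ ≠ 1 → ∀ k : Multiplicative V, φ k = k → k = 1 := by
    rintro φ ⟨l, hl, rfl⟩ hne k hk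
    by_contra hk1
    apply hne
    have hv : Multiplicative.toAdd k ≠ 0 := by
      intro h0
      apply hk1
      have : Multiplicative.ofAdd (Multiplicative.toAdd k) = Multiplicative.ofAdd 0 := by rw [h0]
      simpa using this
    have h2 : (l : V ≃ₗ[ZMod p] V) (Multiplicative.toAdd k) = Multiplicative.toAdd k :=
      congrArg Multiplicative.toAdd hk
    rw [hreg.fpf l hv h2, map_one]
  have hperfL : commutator L = ⊤ := by
    apply Subgroup.map_injective L.subtype_injective
    rw [commutator_def, Subgroup.map_commutator, ← MonoidHom.range_eq_map, Subgroup.range_subtype,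
      hL]
  have hperf : commutator G = ⊤ := by
    have hs : Function.Surjective e₀.toMonoidHom := e₀.surjective
    rw [commutator_def, ← Subgroup.map_top_of_surjective e₀.toMonoidHom hs,
      ← Subgroup.map_commutator, ← commutator_def, hperfL]
  have hne : G ≠ ⊥ := by
    intro hbot
    apply hL1
    rw [eq_bot_iff]
    intro l hl
    have h1 : toMulAut H l ∈ G := ⟨l, hl, rfl⟩
    rw [hbot, Subgroup.mem_bot] at h1
    rw [Subgroup.mem_bot]
    exact hinj (h1.trans (map_one _).symm)
  obtain ⟨e₁⟩ := hZ _ G hfpf hperf hne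
  exact ⟨e₀.trans e₁⟩

/-- a perfect subgroup centralises a normal abelian subgroup -/
theorem perfect_le_centralizer [Nontrivial V] (hreg : Reg H) {A : Subgroup H} (hA : MaxAb A)
    {L : Subgroup H} (hL : ⁅L, L⁆ = L) : L ≤ Subgroup.centralizer (A : Set H) := by
  haveI := hA.normal
  have hcyc : IsCyclic A := hreg.isCyclic_of_comm A hA.comm
  have h1 := commutator_le_centralizer_of_cyclic A hcyc
  calc L = ⁅L, L⁆ := hL.symm
    _ ≤ ⁅(⊤ : Subgroup H), ⊤⁆ := Subgroup.commutator_mono le_top le_top
    _ = commutator H := (commutator_def H).symm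
    _ ≤ _ := h1

/-- the hypotheses of the quaternion lemma, for a non-perfect minimal subgroup -/
theorem q8Hyp' [Nontrivial V] (hreg : Reg H) {A : Subgroup H} (hA : MaxAb A)
    {N : Subgroup H} (hNn : N.Normal) (hNC : N ≤ Subgroup.centralizer (A : Set H))
    (hNc : ¬ Comm N) (hNmin : ∀ M : Subgroup H, M.Normal → M ≤ N → ¬ Comm M → M = N)
    (hcomm_ne : ⁅N, N⁆ ≠ N) :
    Q8Hyp N (N ⊓ A) := by
  haveI : Finite H := finite_H
  have hAn := hA.normal
  have h1 : ∀ M : Subgroup H, M.Normal → M ≤ N → M = N ∨ M ≤ N ⊓ A := by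
    intro M hMn hMN
    by_cases hMc : Comm M
    · right
      have hMA : ∀ m ∈ M, ∀ a ∈ A, m * a = a * m := by
        intro m hm a ha
        exact (Subgroup.mem_centralizer_iff.1 (hNC (hMN hm)) a ha).symm
      have h2 := hA.max (M ⊔ A) inferInstance (comm_sup hMc hA.comm hMA) le_sup_right
      exact le_inf hMN (by rw [← h2]; exact le_sup_left)
    · exact Or.inl (hNmin M hMn hMN hMc)
  have hcomm_le : ⁅N, N⁆ ≤ N := Subgroup.commutator_le_left N N
  refine
    { hZN := inf_le_left
      h1 := h1
      h2 := ?_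
      h3 := ?_
      h4 := ?_
      h5 := fun B hB => hreg.isCyclic_of_comm B hB
      h6 := fun s t hs2 hs1 ht2 ht1 => hreg.invol_unique hs2 hs1 ht2 ht1 }
  · intro z hz g hg
    exact Subgroup.mem_centralizer_iff.1 (hNC hg) z hz.2
  · unfold Comm at hNc
    push Not at hNc
    obtain ⟨x, hx, y, hy, hxy⟩ := hNc
    exact ⟨x, hx, y, hy, hxy⟩
  · intro g hg h hh
    rcases h1 ⁅N, N⁆ inferInstance hcomm_le with h2 | h2
    · exact absurd h2 hcomm_ne
    · have := Subgroup.commutator_mem_commutator hg hh
      rw [commutatorElement_def] at this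
      exact h2 this

/-- the centraliser of the perfect core inside the centraliser of `A` is `A` -/
theorem cent_inf' [Nontrivial V] (hreg : Reg H) {A : Subgroup H} (hA : MaxAb A)
    {L : Subgroup H} (hLn : L.Normal) (hLC : L ≤ Subgroup.centralizer (A : Set H))
    (hLmax : ∀ M : Subgroup H, ⁅M, M⁆ = M → M ≤ L)
    {x : H} (hxL : x ∈ L) (hx2 : x * x ≠ 1) (hx4 : (x * x) * (x * x) = 1) :
    Subgroup.centralizer (A : Set H) ⊓ Subgroup.centralizer (L : Set H) = A := by
  haveI : Finite H := finite_H
  have hAn := hA.normal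
  have hAD : A ≤ Subgroup.centralizer (A : Set H) ⊓ Subgroup.centralizer (L : Set H) := by
    refine le_inf hA.le_centralizer ?_
    intro a ha
    rw [Subgroup.mem_centralizer_iff]
    intro n hn
    exact (Subgroup.mem_centralizer_iff.1 (hLC hn) a ha).symm
  by_contra hne
  have hDc : ¬ Comm (Subgroup.centralizer (A : Set H) ⊓ Subgroup.centralizer (L : Set H)) := by
    intro hc
    exact hne (hA.max _ inferInstance hc hAD)
  obtain ⟨N₂, hN₂n, hN₂D, hN₂c, hN₂min⟩ := exists_min_nonab _ inferInstance hDc
  have hcentL : ∀ a ∈ N₂, ∀ b ∈ L, a * b = b * a := by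
    intro a ha b hb
    have h1 : a ∈ Subgroup.centralizer (L : Set H) := (hN₂D ha).2
    exact (Subgroup.mem_centralizer_iff.1 h1 b hb).symm
  have hne2 : ⁅N₂, N₂⁆ ≠ N₂ := by
    intro h
    apply hN₂c
    have hle : N₂ ≤ L := hLmax N₂ h
    intro a ha b hb
    exact hcentL a ha b (hle hb)
  have hyp₂ := q8Hyp' hreg hA hN₂n (hN₂D.trans inf_le_left) hN₂c hN₂min hne2
  haveI : (N₂ ⊓ A).Normal := inferInstance
  apply hN₂c
  have hle : N₂ ≤ L := by
    intro u hu
    have hu4 : (u * u) * (u * u) = 1 := by
      have := hyp₂.pow_four hu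
      rw [← this]
      simp only [pow_succ, pow_zero, one_mul, mul_assoc]
    have hux : u * x = x * u := hcentL u hu x hxL
    by_cases hu2 : u * u = 1
    · by_cases hu1 : u = 1
      · rw [hu1]; exact L.one_mem
      · rw [hreg.invol_unique hu2 hu1 hx4 hx2]
        exact L.mul_mem hxL hxL
    · have h1 : u * u = x * x := hreg.invol_unique hu4 hu2 hx4 hx2
      have h2 : (u * x⁻¹) * (u * x⁻¹) = 1 := by
        have h3 : x⁻¹ * u = u * x⁻¹ := by
          calc x⁻¹ * u = x⁻¹ * (u * x) * x⁻¹ := by group
            _ = x⁻¹ * (x * u) * x⁻¹ := by rw [hux]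
            _ = u * x⁻¹ := by group
        calc (u * x⁻¹) * (u * x⁻¹) = u * (x⁻¹ * u) * x⁻¹ := by group
          _ = u * (u * x⁻¹) * x⁻¹ := by rw [h3]
          _ = (u * u) * (x * x)⁻¹ := by group
          _ = 1 := by rw [h1, mul_inv_cancel]
      by_cases hw1 : u * x⁻¹ = 1
      · have : u = x := by
          calc u = (u * x⁻¹) * x := by group
            _ = x := by rw [hw1, one_mul]
        rw [this]; exact hxL
      · have h3 := hreg.invol_unique h2 hw1 hx4 hx2
        have : u = (x * x) * x := by
          calc u = (u * x⁻¹) * x := by group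
            _ = (x * x) * x := by rw [h3]
        rw [this]
        exact L.mul_mem (L.mul_mem hxL hxL) hxL
  intro a ha b hb
  exact hcentL a ha b (hle hb)

/-- if `V` is one-dimensional over the enveloping field then the centraliser of `A` is abelian -/
theorem comm_of_card_eq [Nontrivial V] (hreg : Reg H) {A : Subgroup H} (hA : MaxAb A)
    (hcard : Nat.card V = Nat.card (KA A)) : Comm (Subgroup.centralizer (A : Set H)) := by
  haveI := hA.normal
  obtain ⟨v, hv⟩ := exists_ne (0 : V)
  have hinj := KA_inj hreg A hA.comm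
  let f : KA A → V := fun x => (x : Module.End (ZMod p) V) v
  have hf : Function.Injective f := by
    intro x y hxy
    by_contra hne
    have h2 : ((x - y : KA A) : Module.End (ZMod p) V) ≠ 0 := by
      intro h
      apply hne
      have : x - y = 0 := Subtype.ext h
      exact sub_eq_zero.1 this
    apply hv
    apply hinj _ (x - y).2 h2 v
    rw [Subalgebra.coe_sub, LinearMap.sub_apply]
    exact sub_eq_zero.2 hxy
  have hbij : Function.Bijective f := by
    rw [Nat.bijective_iff_injective_and_card]
    exact ⟨hf, hcard.symm⟩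
  intro g hg h hh
  obtain ⟨x, hx⟩ := hbij.2 ((g : V ≃ₗ[ZMod p] V) v)
  obtain ⟨y, hy⟩ := hbij.2 ((h : V ≃ₗ[ZMod p] V) v)
  have hx' : (x : Module.End (ZMod p) V) v = (g : V ≃ₗ[ZMod p] V) v := hx
  have hy' : (y : Module.End (ZMod p) V) v = (h : V ≃ₗ[ZMod p] V) v := hy
  have hgy := (mem_centralizer_iff_KA g).1 hg y y.2
  have hhx := (mem_centralizer_iff_KA h).1 hh x x.2
  have hxy := KA_comm hA.comm x x.2 y y.2
  apply hreg.fpf' hv
  rw [coe_mul_apply, coe_mul_apply, ← hy', ← hx']
  have e1 : (g : V ≃ₗ[ZMod p] V) ((y : Module.End (ZMod p) V) v) =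
      (y : Module.End (ZMod p) V) ((x : Module.End (ZMod p) V) v) := by
    have := congrArg (fun F : Module.End (ZMod p) V => F v) hgy
    simp only [Module.End.mul_apply, toEnd_apply] at this
    rw [this, hx']
  have e2 : (h : V ≃ₗ[ZMod p] V) ((x : Module.End (ZMod p) V) v) =
      (x : Module.End (ZMod p) V) ((y : Module.End (ZMod p) V) v) := by
    have := congrArg (fun F : Module.End (ZMod p) V => F v) hhx
    simp only [Module.End.mul_apply, toEnd_apply] at this
    rw [this, hy']
  rw [e1, e2]
  have := congrArg (fun F : Module.End (ZMod p) V => F v) hxy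
  simp only [Module.End.mul_apply] at this
  exact this.symm

end Cfsg.Agent.Helper11.Zas120
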