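import Mathlib
import Cfsg.Agent.Lib.Helper11.Zas120B

/-!
# Non-solvable regular linear groups (helper11, for S0689), part C: counting and the main theorem
-/

set_option autoImplicit false
set_option linter.style.haveILetI false
set_option linter.unusedSectionVars false

namespace Cfsg.Agent.Helper11.Zas120

open Module Cfsg.Agent.Helper4.Zas
open scoped commutatorElement

universe u

variable {p : ℕ} [Fact p.Prime] {V : Type u} [AddCommGroup V] [Module (ZMod p) V] [Finite V]
variable {H : Subgroup (V ≃ₗ[ZMod p] V)}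

/-- `G = L × ⟨c⟩` -/
theorem final_prod {G : Type*} [Group G] [Finite G] (L : Subgroup G) (e : L ≃* S25) (c : G) (m : ℕ)
    [Fact m.Prime] (hc : orderOf c = m) (hcomm : ∀ l ∈ L, l * c = c * l)
    (hcop : Nat.Coprime 120 m) (hcard : Nat.card G = 120 * m) :
    Nonempty (G ≃* S25 × Multiplicative (ZMod m)) := by
  have hL : Nat.card L = 120 := by rw [Nat.card_congr e.toEquiv, card_S25]
  have hC : Nat.card (Subgroup.zpowers c) = m := by rw [Nat.card_zpowers, hc]
  have hcomm' : ∀ t ∈ L, ∀ z ∈ Subgroup.zpowers c, t * z = z * t := by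
    intro t ht z hz
    obtain ⟨i, rfl⟩ := Subgroup.mem_zpowers_iff.1 hz
    exact ((show Commute t c from hcomm t ht).zpow_right i).eq
  obtain ⟨e₁⟩ := nonempty_mulEquiv_prod L (Subgroup.zpowers c) hcomm'
    (by rw [hL, hC]; exact hcop) (by rw [hL, hC, hcard])
  have hm : Nat.card (Multiplicative (ZMod m)) = m := by
    rw [Nat.card_congr Multiplicative.toAdd, Nat.card_zmod]
  let e₂ : Subgroup.zpowers c ≃* Multiplicative (ZMod m) := mulEquivOfPrimeCardEq hC hm
  exact ⟨e₁.trans (MulEquiv.prodCongr e e₂)⟩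

/-- **Zassenhaus**: the non-solvable regular linear groups, modulo S0690. -/
theorem main (hZ : ZHyp.{u}) (hreg : Reg H) (hns : ¬ Group.IsSolvable H) :
    (Nat.card V = 121 ∧ Nonempty (H ≃* S25)) ∨
    (Nat.card V = 841 ∧ Nonempty (H ≃* S25 × Multiplicative (ZMod 7))) ∨
    (Nat.card V = 3481 ∧ Nonempty (H ≃* S25 × Multiplicative (ZMod 29))) := by
  classical
  haveI : Nontrivial V := by
    by_contra hnt
    rw [not_nontrivial_iff_subsingleton] at hnt
    apply hns
    haveI : Subsingleton H :=
      ⟨fun a b => Subtype.ext (LinearEquiv.ext fun v => Subsingleton.elim _ _)⟩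
    infer_instance
  haveI : Finite H := finite_H
  obtain ⟨L, hLn, hLperf, hLmax, hLne⟩ := exists_perfCore H
  have hL1 := hLne hns
  obtain ⟨e⟩ := perfect_iso hZ hreg L hLperf hL1
  have hLcard : Nat.card L = 120 := by rw [Nat.card_congr e.toEquiv, card_S25]
  -- an element of order four
  set x : H := ((e.symm sx : L) : H) with hxdef
  have hxL : x ∈ L := (e.symm sx).2
  have hx2 : x * x ≠ 1 := by
    intro h
    apply sx_sq_ne
    have h1 : (e.symm sx * e.symm sx : L) = 1 := Subtype.ext h
    rw [← map_mul] at h1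
    exact e.symm.injective (h1.trans (map_one _).symm)
  have hx4 : (x * x) * (x * x) = 1 := by
    have h1 : ((e.symm sx * e.symm sx) * (e.symm sx * e.symm sx) : L) = 1 := by
      rw [← map_mul, ← map_mul, sx_four, map_one]
    exact congrArg Subtype.val h1
  set z : H := x * x with hz
  have hzL : z ∈ L := L.mul_mem hxL hxL
  have hzc : ∀ h : H, z * h = h * z := by
    intro h
    apply Subtype.ext
    apply LinearEquiv.ext
    intro v
    show (z : V ≃ₗ[ZMod p] V) ((h : V ≃ₗ[ZMod p] V) v) =
      (h : V ≃ₗ[ZMod p] V) ((z : V ≃ₗ[ZMod p] V) v)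
    rw [hreg.invol hx4 hx2, hreg.invol hx4 hx2, map_neg]
  have hzord : orderOf z = 2 := by
    haveI : Fact (Nat.Prime 2) := ⟨Nat.prime_two⟩
    exact orderOf_eq_prime (by rw [pow_two]; exact hx4) hx2
  -- the maximal abelian normal subgroup
  obtain ⟨A, hA⟩ := exists_maxAb H
  have hAn := hA.normal
  have hLC := perfect_le_centralizer hreg hA hLperf
  have hinf := cent_inf' hreg hA hLn hLC hLmax hxL hx2 hx4
  set C : Subgroup H := Subgroup.centralizer (L : Set H) with hCdef
  set CA : Subgroup H := Subgroup.centralizer (A : Set H) with hCAdef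
  have hzC : z ∈ C := by
    rw [hCdef, Subgroup.mem_centralizer_iff]
    intro g _
    exact (hzc g).symm
  have hzCA : z ∈ CA := by
    rw [hCAdef, Subgroup.mem_centralizer_iff]
    intro g _
    exact (hzc g).symm
  have hzA : z ∈ A := by
    rw [← hinf]
    exact ⟨hzCA, hzC⟩
  have hAC : A ≤ C := by
    rw [← hinf]
    exact inf_le_right
  -- the centre of `L`
  have hLCz : L ⊓ C = Subgroup.zpowers z := by
    ext g
    constructor
    · rintro ⟨hgL, hgC⟩
      have hcomm : ∀ l : L, (⟨g, hgL⟩ : L) * l = l * ⟨g, hgL⟩ := by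
        intro l
        apply Subtype.ext
        exact ((Subgroup.mem_centralizer_iff.1 hgC) l l.2).symm
      have h1 : e ⟨g, hgL⟩ * sx = sx * e ⟨g, hgL⟩ := by
        have := congrArg e (hcomm (e.symm sx))
        rwa [map_mul, map_mul, MulEquiv.apply_symm_apply] at this
      have h2 : e ⟨g, hgL⟩ * tx = tx * e ⟨g, hgL⟩ := by
        have := congrArg e (hcomm (e.symm tx))
        rwa [map_mul, map_mul, MulEquiv.apply_symm_apply] at this
      rcases cent_S25 _ h1 h2 with h3 | h3
      · have h4 : (⟨g, hgL⟩ : L) = 1 := e.injective (h3.trans (map_one e).symm)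
        have h5 : g = 1 := congrArg Subtype.val h4
        rw [h5]
        exact Subgroup.one_mem _
      · have h4 : (⟨g, hgL⟩ : L) = e.symm sx * e.symm sx := by
          apply e.injective
          rw [h3, map_mul, MulEquiv.apply_symm_apply]
        have h5 : g = z := congrArg Subtype.val h4
        rw [h5]
        exact Subgroup.mem_zpowers z
    · intro hg
      obtain ⟨i, rfl⟩ := Subgroup.mem_zpowers_iff.1 hg
      exact ⟨L.zpow_mem hzL i, C.zpow_mem hzC i⟩
  have hLCcard : Nat.card (L ⊓ C : Subgroup H) = 2 := by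
    rw [hLCz, Nat.card_zpowers, hzord]
  -- the field
  have hcommK := KA_comm hA.comm
  have hinjK := KA_inj hreg A hA.comm
  set k := Module.finrank (ZMod p) (KA A) with hk
  have hcardK : Nat.card (KA A) = p ^ k := card_K (KA A)
  obtain ⟨d, hd⟩ := card_V_pow (KA A) hcommK hinjK
  have hcardH := hreg.card
  have hAdvd : Nat.card A ∣ p ^ k - 1 := by
    rw [← hcardK]
    let f : A →* KA A :=
      { toFun := fun a => ⟨toEnd H a, toEnd_mem_KA a.2⟩
        map_one' := by apply Subtype.ext; simp
        map_mul' := by intro a b; apply Subtype.ext; simp }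
    have hf : Function.Injective f := by
      intro a b hab
      apply Subtype.ext
      apply toEnd_injective
      exact congrArg Subtype.val hab
    exact card_dvd_of_hom (KA A) hcommK hinjK f hf
  have hCidx : CA.index ∣ k :=
    index_dvd_finrank (KA A) KA_conj hcommK hinjK _ mem_centralizer_iff_KA
  -- counting
  set S : Subgroup H := L ⊔ C with hSdef
  have hε := Cfsg.Agent.Helper25.ZassOut.index_sup_centralizer_le_two L ⟨e⟩
  rw [← hCdef, ← hSdef] at hε
  have h1 : Nat.card S * S.index = Nat.card H := Subgroup.card_mul_index S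
  have h2 : Nat.card C * C.relIndex S = Nat.card S := by
    have := Subgroup.relIndex_mul_relIndex (⊥ : Subgroup H) C S bot_le le_sup_right
    rwa [Subgroup.relIndex_bot_left, Subgroup.relIndex_bot_left] at this
  have h3 : C.relIndex S = C.relIndex L := Subgroup.relIndex_sup_right L C
  have h4 : (L ⊓ C).relIndex L = C.relIndex L := by
    rw [inf_comm]
    exact Subgroup.inf_relIndex_right C L
  have h5 : Nat.card (L ⊓ C : Subgroup H) * (L ⊓ C).relIndex L = Nat.card L := by
    have := Subgroup.relIndex_mul_relIndex (⊥ : Subgroup H) (L ⊓ C) L bot_le inf_le_left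
    rwa [Subgroup.relIndex_bot_left, Subgroup.relIndex_bot_left] at this
  have h60 : C.relIndex L = 60 := by
    rw [hLCcard, h4, hLcard] at h5
    omega
  have h6 : Nat.card A * CA.relIndex C = Nat.card C := by
    have := Subgroup.relIndex_inf_mul_relIndex (⊥ : Subgroup H) CA C
    rwa [Subgroup.relIndex_bot_left, bot_inf_eq, Subgroup.relIndex_bot_left, hinf] at this
  have ht : CA.relIndex C ∣ k := (Subgroup.relIndex_dvd_index_of_normal CA C).trans hCidx
  set t := CA.relIndex C with htdef
  set a := Nat.card A with hadef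
  have hHeq : Nat.card H = a * t * 60 * S.index := by
    rw [← h1, ← h2, h3, h60, ← h6]
  have hHdvd : Nat.card H ∣ 120 * k * (p ^ k - 1) := by
    rw [hHeq]
    have e1 : 120 * k * (p ^ k - 1) = (p ^ k - 1) * k * 60 * 2 := by ring
    rw [e1]
    apply Nat.mul_dvd_mul (Nat.mul_dvd_mul (Nat.mul_dvd_mul hAdvd ht) (dvd_refl 60))
    rcases hε with h | h <;> rw [h] <;> norm_num
  have h120 : 120 ∣ Nat.card H := by
    rw [← hLcard]
    exact Subgroup.card_subgroup_dvd_card L
  have hVpos : 1 < Nat.card V := Finite.one_lt_card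
  have hk1 : 1 ≤ k := by
    by_contra hcon
    have hk0 : k = 0 := by omega
    rw [hk0, pow_zero] at hcardK
    rw [hd, hcardK, one_pow] at hVpos
    exact lt_irrefl _ hVpos
  have hLnc : ¬ Comm L := by
    intro hc
    apply sx_tx_ne
    have h7 := hc _ (e.symm sx).2 _ (e.symm tx).2
    have h8 : (e.symm sx * e.symm tx : L) = e.symm tx * e.symm sx := Subtype.ext h7
    rw [← map_mul, ← map_mul] at h8
    exact e.symm.injective h8
  have hd2 : 2 ≤ d := by
    by_contra hcon
    have : d = 0 ∨ d = 1 := by omega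
    rcases this with h | h
    · rw [hd, h, pow_zero] at hVpos
      exact lt_irrefl _ hVpos
    · rw [h, pow_one] at hd
      have hc := comm_of_card_eq hreg hA hd
      exact hLnc (fun a ha b hb => hc a (hLC ha) b (hLC hb))
  have hp2 : 2 ≤ p := (Fact.out : p.Prime).two_le
  have hdvd : (p ^ k) ^ d - 1 ∣ 120 * k * (p ^ k - 1) := by
    have e1 : (p ^ k) ^ d - 1 = Nat.card H := by rw [hcardH, hd, hcardK]
    rw [e1]
    exact hHdvd
  have h120' : 120 ∣ (p ^ k) ^ d - 1 := by
    have e1 : (p ^ k) ^ d - 1 = Nat.card H := by rw [hcardH, hd, hcardK]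
    rw [e1]
    exact h120
  obtain ⟨hk1', hd2', hpcases⟩ := arith_main120 p k d hp2 hk1 hd2 hdvd h120'
  have hcardV : Nat.card V = p ^ 2 := by rw [hd, hcardK, hk1', hd2', pow_one]
  have hcardH' : Nat.card H = p ^ 2 - 1 := by rw [hcardH, hcardV]
  have ht1 : t = 1 := by
    rw [hk1'] at ht
    exact Nat.dvd_one.1 ht
  have hAdvd' : a ∣ p - 1 := by
    rw [hk1', pow_one] at hAdvd
    exact hAdvd
  have h2a : 2 ∣ a := by
    rw [← hzord, hadef]
    have : orderOf (⟨z, hzA⟩ : A) ∣ Nat.card A := orderOf_dvd_natCard _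
    rwa [← Subgroup.orderOf_coe] at this
  rw [ht1, mul_one] at hHeq
  have hHeq2 : p ^ 2 - 1 = a * 60 * S.index := by rw [← hcardH']; exact hHeq
  -- an element of prime order `m` of `A` when `m ∣ a`
  have hcauchy : ∀ m : ℕ, m.Prime → m ∣ a → ∃ c : H, c ∈ A ∧ orderOf c = m := by
    intro m hm hma
    haveI : Fact m.Prime := ⟨hm⟩
    obtain ⟨c, hc⟩ := exists_prime_orderOf_dvd_card' (G := A) m hma
    exact ⟨c, c.2, by rw [Subgroup.orderOf_coe, hc]⟩
  have hcommA : ∀ c ∈ A, ∀ l ∈ L, l * c = c * l := by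
    intro c hc l hl
    exact Subgroup.mem_centralizer_iff.1 (hAC hc) l hl
  rcases hpcases with hp | hp | hp | hp | hp
  · -- `p = 11`
    left
    refine ⟨by rw [hcardV, hp]; norm_num, ?_⟩
    have hLtop : L = ⊤ := by
      apply Subgroup.eq_top_of_card_eq
      rw [hLcard, hcardH', hp]; norm_num
    exact ⟨(Subgroup.topEquiv.symm.trans (MulEquiv.subgroupCongr hLtop.symm)).trans e⟩
  · -- `p = 19`
    exfalso
    have hHeq3 : 19 ^ 2 - 1 = a * 60 * S.index := by
      calc 19 ^ 2 - 1 = p ^ 2 - 1 := by rw [hp]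
        _ = _ := hHeq2
    have h3a : 3 ∣ a := by
      rcases hε with h | h <;> rw [h] at hHeq3 <;> omega
    obtain ⟨c, hcA, hc3⟩ := hcauchy 3 Nat.prime_three h3a
    -- an element of order three of `L`
    set w : H := ((e.symm ux : L) : H) with hwdef
    have hwL : w ∈ L := (e.symm ux).2
    have hw3 : w ^ 3 = 1 := by
      have h7 : (e.symm ux : L) ^ 3 = 1 := by rw [← map_pow, ux_cube, map_one]
      exact congrArg Subtype.val h7
    have hw1 : w ≠ 1 := by
      intro h
      apply ux_ne
      have h7 : (e.symm ux : L) = 1 := Subtype.ext h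
      exact e.symm.injective (h7.trans (map_one _).symm)
    have hcw : w * c = c * w := hcommA c hcA w hwL
    have hBc : Comm (Subgroup.zpowers c ⊔ Subgroup.zpowers w) := by
      apply comm_sup
      · intro a ha b hb
        obtain ⟨i, rfl⟩ := Subgroup.mem_zpowers_iff.1 ha
        obtain ⟨j, rfl⟩ := Subgroup.mem_zpowers_iff.1 hb
        exact ((Commute.refl c).zpow_zpow i j).eq
      · intro a ha b hb
        obtain ⟨i, rfl⟩ := Subgroup.mem_zpowers_iff.1 ha
        obtain ⟨j, rfl⟩ := Subgroup.mem_zpowers_iff.1 hb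
        exact ((Commute.refl w).zpow_zpow i j).eq
      · intro a ha b hb
        obtain ⟨i, rfl⟩ := Subgroup.mem_zpowers_iff.1 ha
        obtain ⟨j, rfl⟩ := Subgroup.mem_zpowers_iff.1 hb
        exact ((show Commute c w from hcw.symm).zpow_zpow i j).eq
    have hBcyc := hreg.isCyclic_of_comm _ hBc
    have hcB : c ∈ Subgroup.zpowers c ⊔ Subgroup.zpowers w :=
      (le_sup_left : Subgroup.zpowers c ≤ _) (Subgroup.mem_zpowers c)
    have hwB : w ∈ Subgroup.zpowers c ⊔ Subgroup.zpowers w :=
      (le_sup_right : Subgroup.zpowers w ≤ _) (Subgroup.mem_zpowers w)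
    have hc3' : c ^ 3 = 1 := by rw [← hc3]; exact pow_orderOf_eq_one c
    have hmem := mem_zpowers_of_cyclic hBcyc Nat.prime_three
      (g := (⟨c, hcB⟩ : ↥(Subgroup.zpowers c ⊔ Subgroup.zpowers w)))
      (c := (⟨w, hwB⟩ : ↥(Subgroup.zpowers c ⊔ Subgroup.zpowers w)))
      (Subtype.ext hc3') (Subtype.ext hw3) (fun h => hw1 (congrArg Subtype.val h))
    obtain ⟨i, hi⟩ := Subgroup.mem_zpowers_iff.1 hmem
    have hcL : c ∈ L := by
      have h7 : w ^ i = c := by
        have := congrArg Subtype.val hi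
        simpa using this
      rw [← h7]
      exact L.zpow_mem hwL i
    have hcz : c ∈ Subgroup.zpowers z := by
      rw [← hLCz]
      exact ⟨hcL, hAC hcA⟩
    have := orderOf_dvd_of_mem_zpowers hcz
    rw [hc3, hzord] at this
    omega
  · -- `p = 29`
    right; left
    refine ⟨by rw [hcardV, hp]; norm_num, ?_⟩
    have hHeq3 : 29 ^ 2 - 1 = a * 60 * S.index := by
      calc 29 ^ 2 - 1 = p ^ 2 - 1 := by rw [hp]
        _ = _ := hHeq2
    have h7a : 7 ∣ a := by
      rcases hε with h | h <;> rw [h] at hHeq3 <;> omega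
    obtain ⟨c, hcA, hc7⟩ := hcauchy 7 (by norm_num) h7a
    haveI : Fact (Nat.Prime 7) := ⟨by norm_num⟩
    exact final_prod L e c 7 hc7 (hcommA c hcA) (by norm_num) (by rw [hcardH', hp]; norm_num)
  · -- `p = 59`
    right; right
    refine ⟨by rw [hcardV, hp]; norm_num, ?_⟩
    have hHeq3 : 59 ^ 2 - 1 = a * 60 * S.index := by
      calc 59 ^ 2 - 1 = p ^ 2 - 1 := by rw [hp]
        _ = _ := hHeq2
    have h29a : 29 ∣ a := by
      rcases hε with h | h <;> rw [h] at hHeq3 <;> omega
    obtain ⟨c, hcA, hc29⟩ := hcauchy 29 (by norm_num) h29a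
    haveI : Fact (Nat.Prime 29) := ⟨by norm_num⟩
    exact final_prod L e c 29 hc29 (hcommA c hcA) (by norm_num) (by rw [hcardH', hp]; norm_num)
  · -- `p = 119` is not prime
    exfalso
    have hpp : p.Prime := Fact.out
    rw [hp] at hpp
    norm_num at hpp

end Cfsg.Agent.Helper11.Zas120
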