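import Mathlib
import Cfsg.Agent.Lib.Helper11.Zas120C

/-!
# Regular linear groups without irreducible cyclic normal subgroups: the minimal nonabelian
normal subgroup is irreducible and self-centralising modulo `A` (helper11, for S0687)
-/

set_option autoImplicit false
set_option linter.style.haveILetI false
set_option linter.unusedSectionVars false

namespace Cfsg.Agent.Helper11.Zas120

open Module Cfsg.Agent.Helper4.Zas
open scoped commutatorElement

universe u

variable {p : ℕ} [Fact p.Prime] {V : Type u} [AddCommGroup V] [Module (ZMod p) V] [Finite V]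
variable {H : Subgroup (V ≃ₗ[ZMod p] V)}

/-- a second element of order four of `SL(2,5)` -/
def sy : S25 := ⟨!![1, 1; 3, 4], by decide⟩

theorem sy_four : (sy * sy) * (sy * sy) = 1 := by decide
theorem sx_sy_pow : (sx * sy) ^ 8 ≠ 1 := by decide

/-- a nonabelian subgroup of a regular linear group on a plane is irreducible -/
theorem irred_of_card_sq [Nontrivial V] (hreg : Reg H) (hV : Nat.card V = p ^ 2)
    (N : Subgroup H) (hNc : ¬ Comm N) (W : Submodule (ZMod p) V)
    (hW : ∀ n ∈ N, ∀ v ∈ W, ((n : H) : V ≃ₗ[ZMod p] V) v ∈ W) : W = ⊥ ∨ W = ⊤ := by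
  by_contra hcon
  push Not at hcon
  obtain ⟨hW0, hWtop⟩ := hcon
  haveI : Module.Finite (ZMod p) V := Module.Finite.of_finite
  have hp1 : 1 < p := (Fact.out : p.Prime).one_lt
  have hfin : Module.finrank (ZMod p) V = 2 := by
    have h1 := Module.natCard_eq_pow_finrank (K := ZMod p) (V := V)
    rw [Nat.card_zmod, hV] at h1
    exact (Nat.pow_right_injective hp1 h1).symm
  have hlt : Module.finrank (ZMod p) W < 2 := by
    rw [← hfin]
    exact Submodule.finrank_lt hWtop
  have hpos : 0 < Module.finrank (ZMod p) W := by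
    rw [Module.finrank_pos_iff_exists_ne_zero]
    obtain ⟨w, hwW, hw0⟩ := (Submodule.ne_bot_iff W).1 hW0
    exact ⟨⟨w, hwW⟩, fun h => hw0 (congrArg Subtype.val h)⟩
  have h1 : Module.finrank (ZMod p) W = 1 := by omega
  obtain ⟨w, hw0, hw⟩ := finrank_eq_one_iff'.1 h1
  have hw0' : (w : V) ≠ 0 := fun h => hw0 (Subtype.ext h)
  apply hNc
  intro a ha b hb
  obtain ⟨ca, hca⟩ := hw ⟨_, hW a ha w w.2⟩
  obtain ⟨cb, hcb⟩ := hw ⟨_, hW b hb w w.2⟩
  have hca' : ((a : H) : V ≃ₗ[ZMod p] V) w = ca • (w : V) := by
    have := congrArg Subtype.val hca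
    simpa using this.symm
  have hcb' : ((b : H) : V ≃ₗ[ZMod p] V) w = cb • (w : V) := by
    have := congrArg Subtype.val hcb
    simpa using this.symm
  apply hreg.fpf' hw0'
  rw [coe_mul_apply, coe_mul_apply, hcb', hca', map_smul, map_smul, hca', hcb', smul_smul, smul_smul,
    mul_comm]

/-- helper4's structure theorem for a given minimal subgroup `N` -/
theorem structure_thm_of [Nontrivial V] (hreg : Reg H) (hsolv : Group.IsSolvable H)
    {A : Subgroup H} (hA : MaxAb A)
    {N : Subgroup H} (hNn : N.Normal) (hNC : N ≤ Subgroup.centralizer (A : Set H))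
    (hNc : ¬ Comm N) (hNmin : ∀ M : Subgroup H, M.Normal → M ≤ N → ¬ Comm M → M = N)
    (W : Submodule (ZMod p) V) (hW0 : W ≠ ⊥) (hWtop : W ≠ ⊤) (hW : Inv A W) :
    Subgroup.centralizer (N : Set H) = A ∧ Nat.card V = p ^ 2 := by
  haveI : Finite H := finite_H
  have hAn := hA.normal
  have hyp := q8Hyp hreg hsolv hA hNn hNC hNc hNmin
  obtain ⟨e⟩ := hyp.nonempty_mulEquiv
  have hinf := cent_inf hreg hsolv hA hNn hNC hNc hNmin
  obtain ⟨x, hxN, hx2, hx4⟩ := exists_order_four hyp
  have hp3 : 3 ≤ p := hreg.two_lt hx4 hx2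
  have hcommK := KA_comm hA.comm
  have hinjK := KA_inj hreg A hA.comm
  set k := Module.finrank (ZMod p) (KA A) with hk
  have hcardK : Nat.card (KA A) = p ^ k := card_K (KA A)
  obtain ⟨d, hd⟩ := card_V_pow (KA A) hcommK hinjK
  have hlt := card_KA_lt hreg A hA.comm W hW0 hWtop hW
  have hcardH := hreg.card
  have hAdvd : Nat.card A ∣ p ^ k - 1 := by
    rw [← hcardK]
    let f : A →* KA A :=
      { toFun := fun a => ⟨toEnd H a, toEnd_mem_KA a.2⟩
        map_one' := by apply Subtype.ext; simp
        map_mul' := by intro a b; apply Subtype.ext; simp }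
    have hf : Function.Injective f := by
      intro a b hab
      apply Subtype.ext
      apply toEnd_injective
      exact congrArg Subtype.val hab
    exact card_dvd_of_hom (KA A) hcommK hinjK f hf
  have hCidx : (Subgroup.centralizer (A : Set H)).index ∣ k :=
    index_dvd_finrank (KA A) KA_conj hcommK hinjK _ mem_centralizer_iff_KA
  have hDidx := index_centralizer_dvd hNn e
  have hHdvd : Nat.card H ∣ 24 * k * (p ^ k - 1) := by
    have h1 := Subgroup.index_mul_card (Subgroup.centralizer (N : Set H))
    have h2 := Subgroup.relIndex_inf_mul_relIndex (⊥ : Subgroup H)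
      (Subgroup.centralizer (A : Set H)) (Subgroup.centralizer (N : Set H))
    rw [Subgroup.relIndex_bot_left, bot_inf_eq, Subgroup.relIndex_bot_left, hinf] at h2
    have h3 : (Subgroup.centralizer (A : Set H)).relIndex (Subgroup.centralizer (N : Set H)) ∣ k :=
      (Subgroup.relIndex_dvd_index_of_normal _ _).trans hCidx
    rw [← h1, ← h2]
    calc (Subgroup.centralizer (N : Set H)).index *
          (Nat.card A * (Subgroup.centralizer (A : Set H)).relIndex
            (Subgroup.centralizer (N : Set H)))
        = (Subgroup.centralizer (N : Set H)).index *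
          (Subgroup.centralizer (A : Set H)).relIndex (Subgroup.centralizer (N : Set H)) *
            Nat.card A := by ring
      _ ∣ 24 * k * (p ^ k - 1) := Nat.mul_dvd_mul (Nat.mul_dvd_mul hDidx h3) hAdvd
  have hk1 : 1 ≤ k := by
    by_contra hcon
    have hk0 : k = 0 := by omega
    rw [hk0, pow_zero] at hcardK
    have hlt' : 1 < Nat.card V := Finite.one_lt_card
    rw [hd, hcardK, one_pow] at hlt'
    exact lt_irrefl _ hlt'
  have hd2 : 2 ≤ d := by
    by_contra hcon
    have hKpos : 0 < Nat.card (KA A) := by rw [hcardK]; positivity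
    rw [hd] at hlt
    have : d = 0 ∨ d = 1 := by omega
    rcases this with h | h
    · rw [h, pow_zero] at hlt; omega
    · rw [h, pow_one] at hlt; omega
  have hdvd : (p ^ k) ^ d - 1 ∣ 24 * k * (p ^ k - 1) := by
    have e1 : (p ^ k) ^ d - 1 = Nat.card H := by rw [hcardH, hd, hcardK]
    rw [e1]; exact hHdvd
  obtain ⟨hk1', hd2', -⟩ := arith_main p k d hp3 hk1 hd2 hdvd
  have hcardV : Nat.card V = p ^ 2 := by rw [hd, hcardK, hk1', hd2', pow_one]
  have hCtop : Subgroup.centralizer (A : Set H) = ⊤ := by
    rw [hk1', Nat.dvd_one] at hCidx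
    exact Subgroup.index_eq_one.1 hCidx
  have hcentN : Subgroup.centralizer (N : Set H) = A := by
    rw [hCtop, top_inf_eq] at hinf
    exact hinf
  exact ⟨hcentN, hcardV⟩

/-- the structure in the non-solvable case, for a given maximal abelian normal subgroup -/
theorem structure120 (hZ : ZHyp.{u}) [Nontrivial V] (hreg : Reg H) (hns : ¬ Group.IsSolvable H)
    {A : Subgroup H} (hA : MaxAb A) :
    ∃ L : Subgroup H, L.Normal ∧ Nonempty (L ≃* S25) ∧ (∀ M : Subgroup H, ⁅M, M⁆ = M → M ≤ L) ∧
      Subgroup.centralizer (L : Set H) = A ∧ Nat.card V = p ^ 2 ∧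
      (p = 11 ∨ p = 19 ∨ p = 29 ∨ p = 59) := by
  classical
  haveI : Finite H := finite_H
  obtain ⟨L, hLn, hLperf, hLmax, hLne⟩ := exists_perfCore H
  have hL1 := hLne hns
  obtain ⟨e⟩ := perfect_iso hZ hreg L hLperf hL1
  have hLcard : Nat.card L = 120 := by rw [Nat.card_congr e.toEquiv, card_S25]
  set x : H := ((e.symm sx : L) : H) with hxdef
  have hxL : x ∈ L := (e.symm sx).2
  have hx2 : x * x ≠ 1 := by
    intro h
    apply sx_sq_ne
    have h1 : (e.symm sx * e.symm sx : L) = 1 := Subtype.ext h
    rw [← map_mul] at h1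
    exact e.symm.injective (h1.trans (map_one _).symm)
  have hx4 : (x * x) * (x * x) = 1 := by
    have h1 : ((e.symm sx * e.symm sx) * (e.symm sx * e.symm sx) : L) = 1 := by
      rw [← map_mul, ← map_mul, sx_four, map_one]
    exact congrArg Subtype.val h1
  set z : H := x * x with hz
  have hzL : z ∈ L := L.mul_mem hxL hxL
  have hzc : ∀ h : H, z * h = h * z := by
    intro h
    apply Subtype.ext
    apply LinearEquiv.ext
    intro v
    show (z : V ≃ₗ[ZMod p] V) ((h : V ≃ₗ[ZMod p] V) v) =
      (h : V ≃ₗ[ZMod p] V) ((z : V ≃ₗ[ZMod p] V) v)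
    rw [hreg.invol hx4 hx2, hreg.invol hx4 hx2, map_neg]
  have hzord : orderOf z = 2 := by
    haveI : Fact (Nat.Prime 2) := ⟨Nat.prime_two⟩
    exact orderOf_eq_prime (by rw [pow_two]; exact hx4) hx2
  have hAn := hA.normal
  have hLC := perfect_le_centralizer hreg hA hLperf
  have hinf := cent_inf' hreg hA hLn hLC hLmax hxL hx2 hx4
  set C : Subgroup H := Subgroup.centralizer (L : Set H) with hCdef
  set CA : Subgroup H := Subgroup.centralizer (A : Set H) with hCAdef
  have hzC : z ∈ C := by
    rw [hCdef, Subgroup.mem_centralizer_iff]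
    intro g _
    exact (hzc g).symm
  have hLCz : L ⊓ C = Subgroup.zpowers z := by
    ext g
    constructor
    · rintro ⟨hgL, hgC⟩
      have hcomm : ∀ l : L, (⟨g, hgL⟩ : L) * l = l * ⟨g, hgL⟩ := by
        intro l
        apply Subtype.ext
        exact ((Subgroup.mem_centralizer_iff.1 hgC) l l.2).symm
      have h1 : e ⟨g, hgL⟩ * sx = sx * e ⟨g, hgL⟩ := by
        have := congrArg e (hcomm (e.symm sx))
        rwa [map_mul, map_mul, MulEquiv.apply_symm_apply] at this
      have h2 : e ⟨g, hgL⟩ * tx = tx * e ⟨g, hgL⟩ := by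
        have := congrArg e (hcomm (e.symm tx))
        rwa [map_mul, map_mul, MulEquiv.apply_symm_apply] at this
      rcases cent_S25 _ h1 h2 with h3 | h3
      · have h4 : (⟨g, hgL⟩ : L) = 1 := e.injective (h3.trans (map_one e).symm)
        have h5 : g = 1 := congrArg Subtype.val h4
        rw [h5]
        exact Subgroup.one_mem _
      · have h4 : (⟨g, hgL⟩ : L) = e.symm sx * e.symm sx := by
          apply e.injective
          rw [h3, map_mul, MulEquiv.apply_symm_apply]
        have h5 : g = z := congrArg Subtype.val h4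
        rw [h5]
        exact Subgroup.mem_zpowers z
    · intro hg
      obtain ⟨i, rfl⟩ := Subgroup.mem_zpowers_iff.1 hg
      exact ⟨L.zpow_mem hzL i, C.zpow_mem hzC i⟩
  have hLCcard : Nat.card (L ⊓ C : Subgroup H) = 2 := by
    rw [hLCz, Nat.card_zpowers, hzord]
  have hcommK := KA_comm hA.comm
  have hinjK := KA_inj hreg A hA.comm
  set k := Module.finrank (ZMod p) (KA A) with hk
  have hcardK : Nat.card (KA A) = p ^ k := card_K (KA A)
  obtain ⟨d, hd⟩ := card_V_pow (KA A) hcommK hinjK
  have hcardH := hreg.card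
  have hAdvd : Nat.card A ∣ p ^ k - 1 := by
    rw [← hcardK]
    let f : A →* KA A :=
      { toFun := fun a => ⟨toEnd H a, toEnd_mem_KA a.2⟩
        map_one' := by apply Subtype.ext; simp
        map_mul' := by intro a b; apply Subtype.ext; simp }
    have hf : Function.Injective f := by
      intro a b hab
      apply Subtype.ext
      apply toEnd_injective
      exact congrArg Subtype.val hab
    exact card_dvd_of_hom (KA A) hcommK hinjK f hf
  have hCidx : CA.index ∣ k :=
    index_dvd_finrank (KA A) KA_conj hcommK hinjK _ mem_centralizer_iff_KA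
  set S : Subgroup H := L ⊔ C with hSdef
  have hε := Cfsg.Agent.Helper25.ZassOut.index_sup_centralizer_le_two L ⟨e⟩
  rw [← hCdef, ← hSdef] at hε
  have h1 : Nat.card S * S.index = Nat.card H := Subgroup.card_mul_index S
  have h2 : Nat.card C * C.relIndex S = Nat.card S := by
    have := Subgroup.relIndex_mul_relIndex (⊥ : Subgroup H) C S bot_le le_sup_right
    rwa [Subgroup.relIndex_bot_left, Subgroup.relIndex_bot_left] at this
  have h3 : C.relIndex S = C.relIndex L := Subgroup.relIndex_sup_right L C
  have h4 : (L ⊓ C).relIndex L = C.relIndex L := by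
    rw [inf_comm]
    exact Subgroup.inf_relIndex_right C L
  have h5 : Nat.card (L ⊓ C : Subgroup H) * (L ⊓ C).relIndex L = Nat.card L := by
    have := Subgroup.relIndex_mul_relIndex (⊥ : Subgroup H) (L ⊓ C) L bot_le inf_le_left
    rwa [Subgroup.relIndex_bot_left, Subgroup.relIndex_bot_left] at this
  have h60 : C.relIndex L = 60 := by
    rw [hLCcard, h4, hLcard] at h5
    omega
  have h6 : Nat.card A * CA.relIndex C = Nat.card C := by
    have := Subgroup.relIndex_inf_mul_relIndex (⊥ : Subgroup H) CA C
    rwa [Subgroup.relIndex_bot_left, bot_inf_eq, Subgroup.relIndex_bot_left, hinf] at this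
  have ht : CA.relIndex C ∣ k := (Subgroup.relIndex_dvd_index_of_normal CA C).trans hCidx
  set t := CA.relIndex C with htdef
  set a := Nat.card A with hadef
  have hHeq : Nat.card H = a * t * 60 * S.index := by
    rw [← h1, ← h2, h3, h60, ← h6]
  have hHdvd : Nat.card H ∣ 120 * k * (p ^ k - 1) := by
    rw [hHeq]
    have e1 : 120 * k * (p ^ k - 1) = (p ^ k - 1) * k * 60 * 2 := by ring
    rw [e1]
    apply Nat.mul_dvd_mul (Nat.mul_dvd_mul (Nat.mul_dvd_mul hAdvd ht) (dvd_refl 60))
    rcases hε with h | h <;> rw [h] <;> norm_num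
  have h120 : 120 ∣ Nat.card H := by
    rw [← hLcard]
    exact Subgroup.card_subgroup_dvd_card L
  have hVpos : 1 < Nat.card V := Finite.one_lt_card
  have hk1 : 1 ≤ k := by
    by_contra hcon
    have hk0 : k = 0 := by omega
    rw [hk0, pow_zero] at hcardK
    rw [hd, hcardK, one_pow] at hVpos
    exact lt_irrefl _ hVpos
  have hLnc : ¬ Comm L := by
    intro hc
    apply sx_tx_ne
    have h7 := hc _ (e.symm sx).2 _ (e.symm tx).2
    have h8 : (e.symm sx * e.symm tx : L) = e.symm tx * e.symm sx := Subtype.ext h7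
    rw [← map_mul, ← map_mul] at h8
    exact e.symm.injective h8
  have hd2 : 2 ≤ d := by
    by_contra hcon
    have : d = 0 ∨ d = 1 := by omega
    rcases this with h | h
    · rw [hd, h, pow_zero] at hVpos
      exact lt_irrefl _ hVpos
    · rw [h, pow_one] at hd
      have hc := comm_of_card_eq hreg hA hd
      exact hLnc (fun a ha b hb => hc a (hLC ha) b (hLC hb))
  have hp2 : 2 ≤ p := (Fact.out : p.Prime).two_le
  have hdvd : (p ^ k) ^ d - 1 ∣ 120 * k * (p ^ k - 1) := by
    have e1 : (p ^ k) ^ d - 1 = Nat.card H := by rw [hcardH, hd, hcardK]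
    rw [e1]
    exact hHdvd
  have h120' : 120 ∣ (p ^ k) ^ d - 1 := by
    have e1 : (p ^ k) ^ d - 1 = Nat.card H := by rw [hcardH, hd, hcardK]
    rw [e1]
    exact h120
  obtain ⟨hk1', hd2', hpcases⟩ := arith_main120 p k d hp2 hk1 hd2 hdvd h120'
  have hcardV : Nat.card V = p ^ 2 := by rw [hd, hcardK, hk1', hd2', pow_one]
  have hCAtop : CA = ⊤ := by
    rw [hk1', Nat.dvd_one] at hCidx
    exact Subgroup.index_eq_one.1 hCidx
  have hcentL : C = A := by
    rw [hCAtop, top_inf_eq] at hinf
    exact hinf
  refine ⟨L, hLn, ⟨e⟩, hLmax, hcentL, hcardV, ?_⟩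
  rcases hpcases with hp | hp | hp | hp | hp
  · exact Or.inl hp
  · exact Or.inr (Or.inl hp)
  · exact Or.inr (Or.inr (Or.inl hp))
  · exact Or.inr (Or.inr (Or.inr hp))
  · exfalso
    have hpp : p.Prime := Fact.out
    rw [hp] at hpp
    norm_num at hpp

/-- **S0687**, in the language of helper4's library, modulo S0690. -/
theorem irred_cent (hZ : ZHyp.{u}) [Nontrivial V] (hreg : Reg H) {A : Subgroup H} (hA : MaxAb A)
    {N : Subgroup H} (hNn : N.Normal) (hNC : N ≤ Subgroup.centralizer (A : Set H))
    (hNc : ¬ Comm N) (hNmin : ∀ M : Subgroup H, M.Normal → M ≤ N → ¬ Comm M → M = N)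
    (W₀ : Submodule (ZMod p) V) (hW0 : W₀ ≠ ⊥) (hWtop : W₀ ≠ ⊤) (hW : Inv A W₀) :
    (∀ W : Submodule (ZMod p) V,
      (∀ n ∈ N, ∀ v ∈ W, ((n : H) : V ≃ₗ[ZMod p] V) v ∈ W) → W = ⊥ ∨ W = ⊤) ∧
      Subgroup.centralizer (N : Set H) = A := by
  classical
  haveI : Finite H := finite_H
  have hAn := hA.normal
  by_cases hsolv : Group.IsSolvable H
  · obtain ⟨hcent, hcard⟩ := structure_thm_of hreg hsolv hA hNn hNC hNc hNmin W₀ hW0 hWtop hW
    exact ⟨fun W hWN => irred_of_card_sq hreg hcard N hNc W hWN, hcent⟩
  · obtain ⟨L, hLn, ⟨e⟩, hLmax, hcentL, hcard, hpcases⟩ := structure120 hZ hreg hsolv hA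
    refine ⟨fun W hWN => irred_of_card_sq hreg hcard N hNc W hWN, ?_⟩
    have hLcard : Nat.card L = 120 := by rw [Nat.card_congr e.toEquiv, card_S25]
    have hN1 : N ≠ ⊥ := by
      intro hbot
      apply hNc
      intro a ha b hb
      rw [hbot, Subgroup.mem_bot] at ha hb
      rw [ha, hb]
    have hNL : N = L := by
      by_cases hperf : ⁅N, N⁆ = N
      · obtain ⟨e'⟩ := perfect_iso hZ hreg N hperf hN1
        have hNcard : Nat.card N = 120 := by rw [Nat.card_congr e'.toEquiv, card_S25]
        exact Subgroup.eq_of_le_of_card_ge (hLmax N hperf) (by rw [hNcard, hLcard])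
      · exfalso
        have hyp := q8Hyp' hreg hA hNn hNC hNc hNmin hperf
        haveI : (N ⊓ A).Normal := inferInstance
        obtain ⟨e'⟩ := hyp.nonempty_mulEquiv
        have hNcard : Nat.card N = 8 := by
          rw [Nat.card_congr e'.toEquiv, Nat.card_eq_fintype_card, QuaternionGroup.card]
        have hHcard : Nat.card H = p ^ 2 - 1 := by rw [hreg.card, hcard]
        have hidx : N.index * 8 = p ^ 2 - 1 := by
          rw [← hNcard, ← hHcard]
          exact Subgroup.index_mul_card N
        have hodd : (N.index).Coprime 4 := by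
          have h2 : ¬ 2 ∣ N.index := by
            obtain ⟨n, hn⟩ : ∃ n, n = N.index := ⟨_, rfl⟩
            rw [← hn] at hidx ⊢
            rcases hpcases with hp | hp | hp | hp <;> rw [hp] at hidx <;> omega
          have : (N.index).Coprime 2 := by
            rw [Nat.coprime_comm, Nat.Prime.coprime_iff_not_dvd Nat.prime_two]
            exact h2
          exact Nat.Coprime.pow_right 2 this
        -- elements of order dividing four lie in `N`
        have hmem : ∀ g : H, g ^ 4 = 1 → g ∈ N := by
          intro g hg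
          have h1 : orderOf (QuotientGroup.mk g : H ⧸ N) ∣ 4 := by
            apply orderOf_dvd_of_pow_eq_one
            rw [← QuotientGroup.mk_pow, hg, QuotientGroup.mk_one]
          have h2 : orderOf (QuotientGroup.mk g : H ⧸ N) ∣ N.index := by
            rw [Subgroup.index_eq_card]
            exact orderOf_dvd_natCard _
          have h3 : orderOf (QuotientGroup.mk g : H ⧸ N) = 1 :=
            Nat.eq_one_of_dvd_coprimes hodd h2 h1
          rw [orderOf_eq_one_iff, QuotientGroup.eq_one_iff] at h3
          exact h3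
        have hx : ((e.symm sx : L) : H) ∈ N := by
          apply hmem
          have h1 : (e.symm sx : L) ^ 4 = 1 := by
            rw [← map_pow]
            have : sx ^ 4 = 1 := by
              rw [← sx_four]
              simp only [pow_succ, pow_zero, one_mul, mul_assoc]
            rw [this, map_one]
          exact congrArg Subtype.val h1
        have hy : ((e.symm sy : L) : H) ∈ N := by
          apply hmem
          have h1 : (e.symm sy : L) ^ 4 = 1 := by
            rw [← map_pow]
            have : sy ^ 4 = 1 := by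
              rw [← sy_four]
              simp only [pow_succ, pow_zero, one_mul, mul_assoc]
            rw [this, map_one]
          exact congrArg Subtype.val h1
        have hxy : (((e.symm sx : L) : H) * ((e.symm sy : L) : H)) ^ 8 = 1 := by
          have h1 := N.mul_mem hx hy
          have h2 : (⟨_, h1⟩ : N) ^ 8 = 1 := by
            rw [← hNcard]
            exact pow_card_eq_one'
          exact congrArg Subtype.val h2
        apply sx_sy_pow
        have h3 : ((e.symm sx * e.symm sy : L)) ^ 8 = 1 := Subtype.ext hxy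
        rw [← map_mul, ← map_pow] at h3
        exact e.symm.injective (h3.trans (map_one _).symm)
    rw [hNL]
    exact hcentL

end Cfsg.Agent.Helper11.Zas120
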