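import Mathlib
import Cfsg.Agent.Lib.Helper1.ZasDefs
import Cfsg.Agent.Lib.Helper1.CyclicCriterion
import Cfsg.Agent.Lib.Helper11.KleinAbs1

/-!
# Zassenhaus, piece ZR2: central traces + fixed-point-freeness give Klein's axioms

A group `M` with a homomorphism `ι : M →* Rˣ` such that `ι g - 1` is a unit for `g ≠ 1` and all
"traces" `ι g + ι g⁻¹` commute with the image of `M` satisfies the axioms `KA Z` of Klein's
analysis, `Z` the subgroup of elements mapping to `± 1`.
-/

set_option autoImplicit false
set_option linter.unusedVariables false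
set_option linter.unusedSectionVars false

namespace Cfsg.Agent.Helper11.ZasR2

open Cfsg.Agent.Helper1.Zas Cfsg.Agent.Helper11.Klein Cfsg.Agent.Helper4.DC

variable {R : Type*} [Ring R] {G : Type*} [Group G]

theorem inj_of_fpf [Nontrivial R] {ι : G →* Rˣ} (h : Fpf ι) : Function.Injective ι := by
  intro a b hab
  by_contra hne
  have h1 : a * b⁻¹ ≠ 1 := fun h => hne (mul_inv_eq_one.1 h)
  have hu := h _ h1
  have : ι (a * b⁻¹) = 1 := by rw [map_mul, map_inv, hab, mul_inv_cancel]
  rw [this, Units.val_one, sub_self] at hu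
  exact not_isUnit_zero hu

theorem neg_one_of_sq {ι : G →* Rˣ} (h : Fpf ι) {g : G} (hg : g * g = 1) (hg1 : g ≠ 1) :
    ((ι g : Rˣ) : R) = -1 := by
  have hu := h g hg1
  have h1 : ((ι g : Rˣ) : R) * (ι g : Rˣ) = 1 := by
    rw [← Units.val_mul, ← map_mul, hg, map_one, Units.val_one]
  have h0 : (((ι g : Rˣ) : R) - 1) * (((ι g : Rˣ) : R) + 1) = 0 := by
    have : (((ι g : Rˣ) : R) - 1) * (((ι g : Rˣ) : R) + 1) =
        ((ι g : Rˣ) : R) * (ι g : Rˣ) - 1 := by noncomm_ring
    rw [this, h1, sub_self]
  have := (hu.mul_right_eq_zero).mp h0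
  exact eq_neg_of_add_eq_zero_left this

/-- the core statement, for a group all of whose traces are central -/
theorem ka_core [Nontrivial R] {M : Type*} [Group M] [Finite M] {ι : M →* Rˣ} (hfpf : Fpf ι)
    (h2 : IsUnit (2 : R)) (hct : ∀ a b : M, Commute (tr (ι a)) ((ι b : Rˣ) : R))
    (hcp : ∀ p : ℕ, p.Prime → ∀ x y : M, orderOf x = p → orderOf y = p → x * y = y * x →
      y ∈ Subgroup.zpowers x)
    (Z : Subgroup M) (hZ : ∀ m : M, m ∈ Z ↔ (m = 1 ∨ ((ι m : Rˣ) : R) = -1)) : KA Z := by
  have hinj := inj_of_fpf hfpf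
  set e : M → R := fun m => ((ι m : Rˣ) : R) with he
  have e_mul : ∀ a b, e (a * b) = e a * e b := fun a b => by simp [he]
  have e_one : e 1 = 1 := by simp [he]
  have e_inv_mul : ∀ a, e a⁻¹ * e a = 1 := fun a => by rw [← e_mul, inv_mul_cancel, e_one]
  have e_mul_inv : ∀ a, e a * e a⁻¹ = 1 := fun a => by rw [← e_mul, mul_inv_cancel, e_one]
  have tr_eq : ∀ a, tr (ι a) = e a + e a⁻¹ := fun a => by simp [tr, he]
  have e_inj : ∀ a b, e a = e b → a = b := fun a b h => hinj (Units.ext h)
  have hctx : ∀ a b : M, Commute (e a + e a⁻¹) (e b) := fun a b => by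
    rw [← tr_eq]; exact hct a b
  -- elements outside `Z` do not square to one
  have sq_ne : ∀ g, g ∉ Z → g * g ≠ 1 := by
    intro g hg hgg
    apply hg
    rw [hZ]
    by_cases h1 : g = 1
    · exact Or.inl h1
    · exact Or.inr (neg_one_of_sq hfpf hgg h1)
  have unit_d : ∀ g, g ∉ Z → IsUnit (e g - e g⁻¹) := by
    intro g hg
    have h1 : e g - e g⁻¹ = e g⁻¹ * (e (g * g) - 1) := by
      rw [mul_sub, mul_one, ← e_mul]
      congr 2
      group
    rw [h1]
    exact (ι g⁻¹).isUnit.mul (hfpf _ (sq_ne g hg))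
  have comm_e : ∀ a b : M, a * b = b * a → Commute (e a) (e b) := fun a b h => by
    change e a * e b = e b * e a
    rw [← e_mul, ← e_mul, h]
  -- centralisers are commutative
  have key : ∀ g, g ∉ Z → ∀ x y : M, g * x = x * g → g * y = y * g → x * y = y * x := by
    intro g hg x y hx hy
    have hd := unit_d g hg
    have cgx : Commute g x := hx
    have cgy : Commute g y := hy
    have hdw : (e g - e g⁻¹) * (e x - e x⁻¹) =
        (e (g * x) + e (g * x)⁻¹) - (e (g⁻¹ * x) + e (g⁻¹ * x)⁻¹) := by
      have i1 : (g * x)⁻¹ = g⁻¹ * x⁻¹ := by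
        rw [mul_inv_rev]; exact (cgx.inv_inv).eq.symm
      have i2 : (g⁻¹ * x)⁻¹ = g * x⁻¹ := by
        rw [mul_inv_rev, inv_inv]; exact (cgx.inv_right).eq.symm
      rw [i1, i2, e_mul, e_mul, e_mul, e_mul]
      noncomm_ring
    have c1 : Commute (e y) (e g - e g⁻¹) :=
      (comm_e y g cgy.symm.eq).sub_right (comm_e y g⁻¹ (cgy.symm.inv_right).eq)
    have c2 : Commute (e y) ((e g - e g⁻¹) * (e x - e x⁻¹)) := by
      rw [hdw]
      exact ((hctx _ y).symm).sub_right ((hctx _ y).symm)
    have hyw : Commute (e y) (e x - e x⁻¹) := by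
      obtain ⟨u, hu⟩ := hd
      have c1' : Commute (e y) ((u⁻¹ : Rˣ) : R) := by
        rw [← hu] at c1
        exact c1.units_inv_right
      have e1 : e x - e x⁻¹ = ((u⁻¹ : Rˣ) : R) * ((u : R) * (e x - e x⁻¹)) := by
        rw [← mul_assoc, Units.inv_mul, one_mul]
      rw [e1]
      exact c1'.mul_right (by rw [hu]; exact c2)
    have hyt : Commute (e y) (e x + e x⁻¹) := (hctx x y).symm
    have h2x : Commute (e y) (e x + e x) := by
      have : e x + e x = (e x - e x⁻¹) + (e x + e x⁻¹) := by abel
      rw [this]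
      exact hyw.add_right hyt
    have h3 : (2 : R) * (e y * e x) = 2 * (e x * e y) := by
      have := h2x.eq
      rw [two_mul, two_mul, ← mul_add, this, add_mul]
    have h4 := h2.mul_left_cancel h3
    apply e_inj
    rw [e_mul, e_mul, h4]
  refine ⟨⟨?_, ?_⟩, ?_, ?_⟩
  · -- central
    intro m hm
    rw [Subgroup.mem_center_iff]
    intro a
    rcases (hZ m).1 hm with h | h
    · rw [h, mul_one, one_mul]
    · apply e_inj
      rw [e_mul, e_mul]
      change e a * ((ι m : Rˣ) : R) = ((ι m : Rˣ) : R) * e a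
      rw [h]
      noncomm_ring
  · -- comm
    intro g hg x hx y hy
    exact key g hg x y (mem_Cen.1 hx) (mem_Cen.1 hy)
  · -- cyc
    intro g hg
    apply Cfsg.Agent.Helper1.isCyclic_of_comm_of_unique
    · intro a b
      apply Subtype.ext
      exact key g hg a b (mem_Cen.1 a.2) (mem_Cen.1 b.2)
    · intro r hr x y hx hy
      have hxy : (x : M) * y = y * x := key g hg x y (mem_Cen.1 x.2) (mem_Cen.1 y.2)
      have := hcp r hr (x : M) (y : M) (by rw [Subgroup.orderOf_coe, hx])
        (by rw [Subgroup.orderOf_coe, hy]) hxy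
      rw [Subgroup.mem_zpowers_iff] at this ⊢
      obtain ⟨k, hk⟩ := this
      exact ⟨k, Subtype.ext (by simpa using hk)⟩
  · -- inv
    intro g hg x hx hxC
    have hnorm : ∀ c, c ∈ Cen g → x * c * x⁻¹ ∈ Cen g := fun c hc =>
      (Subgroup.mem_normalizer_iff.1 hx c).1 hc
    have hci : ∀ c ∈ Cen g, x * c * x⁻¹ = c ∨ x * c * x⁻¹ = c⁻¹ := by
      intro c hc
      by_cases heq : x * c * x⁻¹ = c
      · exact Or.inl heq
      · right
        set c' := x * c * x⁻¹ with hc'def
        have hc' : c' ∈ Cen g := hnorm c hc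
        have hcc : c * c' = c' * c := key g hg c c' (mem_Cen.1 hc) (mem_Cen.1 hc')
        have htr : e c' + e c'⁻¹ = e c + e c⁻¹ := by
          have i1 : c'⁻¹ = x * c⁻¹ * x⁻¹ := by rw [hc'def]; group
          rw [i1, hc'def, e_mul, e_mul, e_mul, e_mul, ← add_mul, ← mul_add,
            ← (hctx c x).eq, mul_assoc, e_mul_inv, mul_one]
        have hprod : (e c' - e c) * (e c' - e c⁻¹) = 0 := by
          have hcc' : e c * e c' = e c' * e c := (comm_e c c' hcc).eq
          have h1 : e c'⁻¹ = e c + e c⁻¹ - e c' := by rw [← htr]; abel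
          have h2' : e c' * e c'⁻¹ = 1 := e_mul_inv c'
          rw [h1] at h2'
          have h3 : e c * e c⁻¹ = 1 := e_mul_inv c
          have : (e c' - e c) * (e c' - e c⁻¹) =
              e c' * e c' - e c' * e c⁻¹ - e c * e c' + e c * e c⁻¹ := by noncomm_ring
          rw [this, hcc', h3]
          have h4 : e c' * (e c + e c⁻¹ - e c') =
              e c' * e c + e c' * e c⁻¹ - e c' * e c' := by noncomm_ring
          rw [h4] at h2'
          rw [← h2']
          abel
        have hunit : IsUnit (e c' - e c) := by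
          have h1 : e c' - e c = e c * (e (c⁻¹ * c') - 1) := by
            rw [mul_sub, mul_one, ← e_mul]
            congr 2
            group
          rw [h1]
          refine (ι c).isUnit.mul (hfpf _ ?_)
          intro h
          apply heq
          have : c' = c := by
            have := congrArg (fun t => c * t) h
            simpa using this
          exact this
        have := (hunit.mul_right_eq_zero).mp hprod
        exact e_inj _ _ (sub_eq_zero.1 this)
    have hg2 : g * g ≠ 1 := sq_ne g hg
    have hxg : x * g * x⁻¹ = g⁻¹ := by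
      rcases hci g (self_mem_Cen g) with h | h
      · exfalso
        apply hxC
        rw [mem_Cen]
        calc g * x = (x * g * x⁻¹) * x := by rw [h]
          _ = x * g := by group
      · exact h
    have hall : ∀ c ∈ Cen g, x * c * x⁻¹ = c⁻¹ := by
      intro c hc
      rcases hci c hc with h | h
      · have hcg : c * g ∈ Cen g := Subgroup.mul_mem _ hc (self_mem_Cen g)
        have e1 : x * (c * g) * x⁻¹ = c * g⁻¹ := by
          calc x * (c * g) * x⁻¹ = (x * c * x⁻¹) * (x * g * x⁻¹) := by group
            _ = c * g⁻¹ := by rw [h, hxg]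
        rcases hci (c * g) hcg with h' | h'
        · exfalso
          rw [e1] at h'
          apply hg2
          have h3 : g⁻¹ = g := mul_left_cancel h'
          calc g * g = g⁻¹ * g := by rw [h3]
            _ = 1 := inv_mul_cancel g
        · rw [e1] at h'
          have hcg' : Commute g c := mem_Cen.1 hc
          have h3 : (c * g)⁻¹ = c⁻¹ * g⁻¹ := by
            rw [mul_inv_rev]; exact (hcg'.inv_inv).eq
          rw [h3] at h'
          rw [h]
          exact mul_right_cancel h'
      · exact h
    refine ⟨hall, ?_⟩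
    have hxx : x * x ∈ Cen g := by
      rw [mem_Cen]
      have h1 : x * x * g * (x * x)⁻¹ = g := by
        calc x * x * g * (x * x)⁻¹ = x * (x * g * x⁻¹) * x⁻¹ := by group
          _ = x * g⁻¹ * x⁻¹ := by rw [hxg]
          _ = (x * g * x⁻¹)⁻¹ := by group
          _ = g := by rw [hxg, inv_inv]
      calc g * (x * x) = (x * x * g * (x * x)⁻¹) * (x * x) := by rw [h1]
        _ = x * x * g := by group
    have h4 := hall (x * x) hxx
    have h5 : (x * x) * (x * x) = 1 := by
      have h6 : x * (x * x) * x⁻¹ = x * x := by group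
      rw [h6] at h4
      calc (x * x) * (x * x) = (x * x)⁻¹ * (x * x) := by rw [← h4]
        _ = 1 := inv_mul_cancel _
    rw [hZ]
    by_cases h1 : x * x = 1
    · exact Or.inl h1
    · exact Or.inr (neg_one_of_sq hfpf h5 h1)

end Cfsg.Agent.Helper11.ZasR2

namespace Cfsg.Agent.Helper1.Zas

open Cfsg.Agent.Helper11.Klein Cfsg.Agent.Helper4.DC

variable {R : Type*} [Ring R] {G : Type*} [Group G]

/-- **ZR2**: Klein's axioms from central traces -/
theorem ka_of_ct [Nontrivial R] [Finite G] {ι : G →* Rˣ} (hfpf : Fpf ι) (h2 : IsUnit (2 : R))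
    {z : G} (hz : ((ι z : Rˣ) : R) = -1)
    (hcp : ∀ p : ℕ, p.Prime → ∀ x y : G, orderOf x = p → orderOf y = p → x * y = y * x →
      y ∈ Subgroup.zpowers x)
    (M : Subgroup G) (hct : CT ι M) :
    KA ((Subgroup.zpowers z).subgroupOf M) := by
  have hinj := Cfsg.Agent.Helper11.ZasR2.inj_of_fpf hfpf
  have hzz : z * z = 1 := by
    apply hinj
    apply Units.ext
    rw [map_mul, Units.val_mul, hz, map_one, Units.val_one]
    noncomm_ring
  have hzp : ∀ g : G, g ∈ Subgroup.zpowers z ↔ g = 1 ∨ g = z := by
    intro g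
    constructor
    · intro hg
      rw [Subgroup.mem_zpowers_iff] at hg
      obtain ⟨k, rfl⟩ := hg
      rcases Int.even_or_odd k with ⟨j, hj⟩ | ⟨j, hj⟩
      · left
        rw [hj, ← two_mul, zpow_mul, zpow_two, hzz, one_zpow]
      · right
        rw [hj, zpow_add, zpow_one, zpow_mul, zpow_two, hzz, one_zpow, one_mul]
    · rintro (h | h)
      · rw [h]; exact Subgroup.one_mem _
      · rw [h]; exact Subgroup.mem_zpowers z
  apply Cfsg.Agent.Helper11.ZasR2.ka_core (ι := ι.comp M.subtype) (R := R)
  · intro g hg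
    exact hfpf (g : G) (fun h => hg (Subtype.ext h))
  · exact h2
  · intro a b
    exact hct a a.2 b b.2
  · intro p hp x y hx hy hxy
    have := hcp p hp (x : G) (y : G) (by rw [Subgroup.orderOf_coe, hx])
      (by rw [Subgroup.orderOf_coe, hy]) (by
        have := congrArg (fun t : ↥M => (t : G)) hxy
        simpa using this)
    rw [Subgroup.mem_zpowers_iff] at this ⊢
    obtain ⟨k, hk⟩ := this
    exact ⟨k, Subtype.ext (by simpa using hk)⟩
  · intro m
    rw [Subgroup.mem_subgroupOf, hzp]
    constructor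
    · rintro (h | h)
      · left; exact Subtype.ext h
      · right
        change ((ι (m : G) : Rˣ) : R) = -1
        rw [h, hz]
    · rintro (h | h)
      · left; rw [h]; rfl
      · right
        apply hinj
        apply Units.ext
        rw [hz]
        exact h

end Cfsg.Agent.Helper1.Zas
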