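import Mathlib
import Cfsg.Agent.Lib.Helper11.ZasR2
import Cfsg.Agent.Lib.Helper11.KleinAbs3
import Cfsg.Agent.Lib.Helper11.DicksonMax1
import Cfsg.Agent.Lib.Helper17.ZasR4
import Cfsg.Agent.Lib.Helper27.ZassCyc
import Cfsg.Agent.Lib.Helper4.ZassG

/-!
# Zassenhaus: the step (N1)

In a finite group with a fixed-point-free homomorphism into the units of a ring (in which `2` is
a unit), the product of two elements of order dividing three has order dividing `4`, `6` or `10`.
With helper4's `of_fpf_hom` this gives Zassenhaus' theorem in ring form without further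
hypotheses.
-/

set_option autoImplicit false
set_option linter.unusedVariables false
set_option linter.unusedSectionVars false

namespace Cfsg.Agent.Helper11.ZasN1

open Cfsg.Agent.Helper1.Zas Cfsg.Agent.Helper11.Klein Cfsg.Agent.Helper4.DC

/-- rotations of a dihedral group: elements with trivial cube are rotations -/
theorem dihedral_cube {a : ℕ} (g : DihedralGroup a) (hg : g ^ 3 = 1) : ∃ i, g = DihedralGroup.r i := by
  cases g with
  | r i => exact ⟨i, rfl⟩
  | sr i =>
    exfalso
    have h1 : (DihedralGroup.sr i : DihedralGroup a) ^ 3 = DihedralGroup.sr i := by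
      rw [pow_succ, pow_two, DihedralGroup.sr_mul_self, one_mul]
    rw [h1, DihedralGroup.one_def] at hg
    cases hg

set_option maxRecDepth 100000 in
theorem perm_four_prod : ∀ a b : Equiv.Perm (Fin 4), a ^ 3 = 1 → b ^ 3 = 1 →
    (a * b) ^ 2 = 1 ∨ (a * b) ^ 3 = 1 := by
  decide

section abstract

variable {M : Type*} [Group M] [Finite M] {Z : Subgroup M}

/-- orders of products of two elements of order dividing three in a group with Klein's axioms -/
theorem orders_of_ka (ka : KA Z) (hZ2 : ∀ m ∈ Z, m * m = 1) (x y : M) (hx : x ^ 3 = 1)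
    (hy : y ^ 3 = 1) : (x * y) ^ 4 = 1 ∨ (x * y) ^ 6 = 1 ∨ (x * y) ^ 10 = 1 := by
  haveI hZn : Z.Normal := by
    constructor
    intro n hn g
    have := Subgroup.mem_center_iff.1 (ka.central hn) g
    have e : g * n * g⁻¹ = n := by rw [this]; group
    rw [e]; exact hn
  -- a general principle: if `f : M →* Q` has kernel `Z` and `f (x*y) ^ k = 1` then
  -- `(x*y)^(2k) = 1`
  have lift : ∀ {Q : Type} [Group Q] (f : M →* Q), (∀ m, f m = 1 → m ∈ Z) → ∀ k : ℕ,
      f (x * y) ^ k = 1 → (x * y) ^ (2 * k) = 1 := by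
    intro Q _ f hf k hk
    have h1 : (x * y) ^ k ∈ Z := hf _ (by rw [map_pow, hk])
    have := hZ2 _ h1
    rw [mul_comm 2 k, pow_mul, pow_two]
    exact this
  have hker : ∀ m : M, (QuotientGroup.mk' Z) m = 1 → m ∈ Z := fun m hm =>
    (QuotientGroup.eq_one_iff m).1 hm
  rcases ka.main with ⟨hcyc, -⟩ | ⟨g, a, -, -, ⟨φ⟩⟩ | ⟨⟨φ⟩⟩ | ⟨⟨φ⟩⟩ | ⟨⟨φ⟩⟩
  · -- cyclic quotient: the group is commutative
    right; left
    haveI := hcyc
    have hcomm : ∀ u v : M, u * v = v * u :=
      ((QuotientGroup.mk' Z).isMulCommutative_of_isCyclic_of_ker_le_center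
        (by rw [QuotientGroup.ker_mk']; exact ka.central)).is_comm.comm
    have h3 : (x * y) ^ 3 = 1 := by
      rw [(show Commute x y from hcomm x y).mul_pow, hx, hy, one_mul]
    rw [show 6 = 3 * 2 from rfl, pow_mul, h3, one_pow]
  · -- dihedral quotient
    right; left
    let f : M →* DihedralGroup a := φ.toMonoidHom.comp (QuotientGroup.mk' Z)
    have hf : ∀ m, f m = 1 → m ∈ Z := by
      intro m hm
      apply hker
      have : φ ((QuotientGroup.mk' Z) m) = 1 := hm
      exact (MulEquiv.map_eq_one_iff φ).1 this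
    obtain ⟨i, hi⟩ := dihedral_cube (f x) (by rw [← map_pow, hx, map_one])
    obtain ⟨j, hj⟩ := dihedral_cube (f y) (by rw [← map_pow, hy, map_one])
    have hcomm : Commute (f x) (f y) := by
      rw [hi, hj]
      change DihedralGroup.r i * DihedralGroup.r j = DihedralGroup.r j * DihedralGroup.r i
      rw [DihedralGroup.r_mul_r, DihedralGroup.r_mul_r, add_comm]
    have h3 : f (x * y) ^ 3 = 1 := by
      rw [map_mul, hcomm.mul_pow, ← map_pow, ← map_pow, hx, hy, map_one, one_mul]
    exact lift f hf 3 h3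
  · -- A4
    let f : M →* alternatingGroup (Fin 4) := φ.toMonoidHom.comp (QuotientGroup.mk' Z)
    have hf : ∀ m, f m = 1 → m ∈ Z := by
      intro m hm
      apply hker
      have : φ ((QuotientGroup.mk' Z) m) = 1 := hm
      exact (MulEquiv.map_eq_one_iff φ).1 this
    rcases Cfsg.Agent.Helper11.Dickson.alt_four_pow (f (x * y)) with h | h
    · left; exact lift f hf 2 h
    · right; left; exact lift f hf 3 h
  · -- S4
    let f : M →* Equiv.Perm (Fin 4) := φ.toMonoidHom.comp (QuotientGroup.mk' Z)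
    have hf : ∀ m, f m = 1 → m ∈ Z := by
      intro m hm
      apply hker
      have : φ ((QuotientGroup.mk' Z) m) = 1 := hm
      exact (MulEquiv.map_eq_one_iff φ).1 this
    have h := perm_four_prod (f x) (f y) (by rw [← map_pow, hx, map_one])
      (by rw [← map_pow, hy, map_one])
    rw [← map_mul] at h
    rcases h with h | h
    · left; exact lift f hf 2 h
    · right; left; exact lift f hf 3 h
  · -- A5
    let f : M →* alternatingGroup (Fin 5) := φ.toMonoidHom.comp (QuotientGroup.mk' Z)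
    have hf : ∀ m, f m = 1 → m ∈ Z := by
      intro m hm
      apply hker
      have : φ ((QuotientGroup.mk' Z) m) = 1 := hm
      exact (MulEquiv.map_eq_one_iff φ).1 this
    rcases Cfsg.Agent.Helper11.Dickson.alt_five_pow (f (x * y)) with h | h | h
    · left; exact lift f hf 2 h
    · right; left; exact lift f hf 3 h
    · right; right; exact lift f hf 5 h

end abstract

section ring

variable {R : Type*} [Ring R] {G : Type*} [Group G] [Finite G]

theorem isUnit_sub_of_fpf' (ι : G →* Rˣ) (hfpf : Fpf ι) {g h : G} (hgh : g ≠ h) :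
    IsUnit (((ι g : Rˣ) : R) - ((ι h : Rˣ) : R)) := by
  have e : ((ι g : Rˣ) : R) - ((ι h : Rˣ) : R) =
      (((ι (g * h⁻¹) : Rˣ) : R) - 1) * ((ι h : Rˣ) : R) := by
    rw [sub_mul, one_mul, ← Units.val_mul, ← map_mul, inv_mul_cancel_right]
  rw [e]
  exact (hfpf _ (fun e => hgh (mul_inv_eq_one.mp e))).mul (ι h).isUnit

/-- commuting elements of the same prime order generate the same subgroup -/
theorem comm_prime_of_fpf [Nontrivial R] (ι : G →* Rˣ) (hfpf : Fpf ι) (p : ℕ) (hp : p.Prime)
    (x y : G) (hx : orderOf x = p) (hy : orderOf y = p) (hxy : x * y = y * x) :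
    y ∈ Subgroup.zpowers x := by
  classical
  have hinj := Cfsg.Agent.Helper11.ZasR2.inj_of_fpf hfpf
  set A : Subgroup G := Subgroup.closure {x, y} with hA
  have hAc : ∀ a ∈ A, ∀ b ∈ A, a * b = b * a := by
    have hcen : A ≤ Subgroup.centralizer ({x, y} : Set G) := by
      rw [hA, Subgroup.closure_le]
      intro a ha
      rw [SetLike.mem_coe, Subgroup.mem_centralizer_iff]
      intro b hb
      rcases ha with rfl | rfl <;> rcases hb with rfl | rfl
      · rfl
      · exact hxy.symm
      · exact hxy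
      · rfl
    intro a ha b hb
    have h1 : ({x, y} : Set G) ⊆ Subgroup.centralizer ({a} : Set G) := by
      intro c hc
      rw [SetLike.mem_coe, Subgroup.mem_centralizer_iff]
      intro d hd
      rw [Set.mem_singleton_iff] at hd
      subst hd
      exact ((Subgroup.mem_centralizer_iff.1 (hcen ha)) c hc).symm
    have h2 : A ≤ Subgroup.centralizer ({a} : Set G) := by
      rw [hA, Subgroup.closure_le]; exact h1
    exact ((Subgroup.mem_centralizer_iff.1 (h2 hb)) a rfl)
  -- `A` is cyclic
  have hcycA : IsCyclic A := by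
    let e := Subgroup.equivMapOfInjective A ι hinj
    haveI : Finite (A.map ι) := Finite.of_equiv _ e.toEquiv
    have hc : IsCyclic (A.map ι) := by
      apply Cfsg.Agent.Helper27.Zass.isCyclic_of_fpf
      · rintro _ ⟨a, ha, rfl⟩ _ ⟨b, hb, rfl⟩
        rw [← map_mul, ← map_mul, hAc a ha b hb]
      · rintro _ ⟨a, ha, rfl⟩ _ ⟨b, hb, rfl⟩ hab
        exact isUnit_sub_of_fpf' ι hfpf (fun h => hab (by rw [h]))
    exact isCyclic_of_surjective e.symm e.symm.surjective
  have hxA : x ∈ A := Subgroup.subset_closure (by simp)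
  have hyA : y ∈ A := Subgroup.subset_closure (by simp)
  set x' : A := ⟨x, hxA⟩
  set y' : A := ⟨y, hyA⟩
  have hx' : orderOf x' = p := by rw [← Subgroup.orderOf_coe]; exact hx
  have hy' : y' ^ p = 1 := by
    apply Subtype.ext
    rw [Subgroup.coe_pow, Subgroup.coe_one]
    change y ^ p = 1
    rw [← hy]; exact pow_orderOf_eq_one y
  haveI := Fintype.ofFinite A
  have h1 : (Finset.univ.filter (fun a : A => a ^ p = 1)).card ≤ p :=
    IsCyclic.card_pow_eq_one_le hp.pos
  have hsub : (Finset.univ.filter (fun a : A => a ∈ Subgroup.zpowers x')) ⊆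
      (Finset.univ.filter (fun a : A => a ^ p = 1)) := by
    intro a ha
    rw [Finset.mem_filter] at ha ⊢
    refine ⟨Finset.mem_univ _, ?_⟩
    obtain ⟨n, rfl⟩ := ha.2
    rw [← zpow_natCast, ← zpow_mul, mul_comm, zpow_mul, zpow_natCast, ← hx', pow_orderOf_eq_one,
      one_zpow]
  have h2 : (Finset.univ.filter (fun a : A => a ∈ Subgroup.zpowers x')).card = p := by
    rw [← hx', ← Nat.card_zpowers, Nat.card_eq_fintype_card, Fintype.card_subtype]
  have h3 := Finset.eq_of_subset_of_card_le hsub (by rw [h2]; exact h1)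
  have hb' : y' ∈ Finset.univ.filter (fun a : A => a ^ p = 1) := by
    rw [Finset.mem_filter]; exact ⟨Finset.mem_univ _, hy'⟩
  rw [← h3, Finset.mem_filter] at hb'
  obtain ⟨k, hk⟩ := Subgroup.mem_zpowers_iff.1 hb'.2
  rw [Subgroup.mem_zpowers_iff]
  refine ⟨k, ?_⟩
  have := congrArg (fun t : A => (t : G)) hk
  simpa using this

/-- an element of order three satisfies `x² + x + 1 = 0` -/
theorem quad_of_cube (ι : G →* Rˣ) (hfpf : Fpf ι) {x : G} (hx : x ^ 3 = 1) (hx1 : x ≠ 1) :
    ((ι x : Rˣ) : R) ^ 2 + (ι x : Rˣ) + 1 = 0 := by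
  have hu := hfpf x hx1
  set a : R := ((ι x : Rˣ) : R) with ha
  have ha3 : a ^ 3 = 1 := by
    rw [ha, ← Units.val_pow_eq_pow_val, ← map_pow, hx, map_one, Units.val_one]
  have h0 : (a - 1) * (a ^ 2 + a + 1) = 0 := by
    have : (a - 1) * (a ^ 2 + a + 1) = a ^ 3 - 1 := by noncomm_ring
    rw [this, ha3, sub_self]
  exact (hu.mul_right_eq_zero).mp h0

/-- **(N1)** -/
theorem n1_of_fpf [Nontrivial R] (ι : G →* Rˣ) (hfpf : Fpf ι) (h2 : IsUnit (2 : R)) (x y : G)
    (hx : x ^ 3 = 1) (hy : y ^ 3 = 1) :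
    (x * y) ^ 4 = 1 ∨ (x * y) ^ 6 = 1 ∨ (x * y) ^ 10 = 1 := by
  have hinj := Cfsg.Agent.Helper11.ZasR2.inj_of_fpf hfpf
  by_cases hx1 : x = 1
  · right; left
    rw [hx1, one_mul, show 6 = 3 * 2 from rfl, pow_mul, hy, one_pow]
  by_cases hy1 : y = 1
  · right; left
    rw [hy1, mul_one, show 6 = 3 * 2 from rfl, pow_mul, hx, one_pow]
  set M : Subgroup G := Subgroup.closure {x, y} with hM
  have hct : CT ι M := ct_closure_pair ι x y (quad_of_cube ι hfpf hx hx1) (quad_of_cube ι hfpf hy hy1)
  let ι' : M →* Rˣ := ι.comp M.subtype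
  have hfpf' : Fpf ι' := by
    intro g hg
    exact hfpf (g : G) (fun h => hg (Subtype.ext h))
  have hinj' := Cfsg.Agent.Helper11.ZasR2.inj_of_fpf hfpf'
  -- the subgroup of elements mapping to `±1`
  have hneg : ((-1 : Rˣ) : R) = -1 := by simp
  have hzp : ∀ u : Rˣ, u ∈ Subgroup.zpowers (-1 : Rˣ) ↔ u = 1 ∨ u = -1 := by
    intro u
    have hmm : (-1 : Rˣ) * (-1) = 1 := by simp
    constructor
    · intro hu
      rw [Subgroup.mem_zpowers_iff] at hu
      obtain ⟨k, rfl⟩ := hu
      rcases Int.even_or_odd k with ⟨j, hj⟩ | ⟨j, hj⟩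
      · left
        rw [hj, ← two_mul, zpow_mul, zpow_two, hmm, one_zpow]
      · right
        rw [hj, zpow_add, zpow_one, zpow_mul, zpow_two, hmm, one_zpow, one_mul]
    · rintro (h | h)
      · rw [h]; exact Subgroup.one_mem _
      · rw [h]; exact Subgroup.mem_zpowers _
  set Z : Subgroup M := (Subgroup.zpowers (-1 : Rˣ)).comap ι' with hZdef
  have hZ : ∀ m : M, m ∈ Z ↔ (m = 1 ∨ ((ι' m : Rˣ) : R) = -1) := by
    intro m
    rw [hZdef, Subgroup.mem_comap, hzp]
    constructor
    · rintro (h | h)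
      · left
        apply hinj'
        rw [h, map_one]
      · right
        rw [h, hneg]
    · rintro (h | h)
      · left; rw [h, map_one]
      · right
        apply Units.ext
        rw [h, hneg]
  have ka : KA Z := by
    apply Cfsg.Agent.Helper11.ZasR2.ka_core hfpf' h2 _ _ Z hZ
    · intro a b
      exact hct a a.2 b b.2
    · intro p hp a b ha hb hab
      have := comm_prime_of_fpf ι hfpf p hp (a : G) (b : G) (by rw [Subgroup.orderOf_coe, ha])
        (by rw [Subgroup.orderOf_coe, hb]) (by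
          have := congrArg (fun t : ↥M => (t : G)) hab
          simpa using this)
      rw [Subgroup.mem_zpowers_iff] at this ⊢
      obtain ⟨k, hk⟩ := this
      exact ⟨k, Subtype.ext (by simpa using hk)⟩
  have hZ2 : ∀ m ∈ Z, m * m = 1 := by
    intro m hm
    rcases (hZ m).1 hm with h | h
    · rw [h, mul_one]
    · apply hinj'
      apply Units.ext
      rw [map_mul, Units.val_mul, h, map_one, Units.val_one]
      noncomm_ring
  have hxM : x ∈ M := Subgroup.subset_closure (by simp)
  have hyM : y ∈ M := Subgroup.subset_closure (by simp)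
  have key := orders_of_ka ka hZ2 (⟨x, hxM⟩ : M) ⟨y, hyM⟩ (Subtype.ext (by simpa using hx))
    (Subtype.ext (by simpa using hy))
  have back : ∀ k : ℕ, ((⟨x, hxM⟩ : M) * ⟨y, hyM⟩) ^ k = 1 → (x * y) ^ k = 1 := by
    intro k hk
    have := congrArg (fun t : ↥M => (t : G)) hk
    simpa using this
  rcases key with h | h | h
  · exact Or.inl (back 4 h)
  · exact Or.inr (Or.inl (back 6 h))
  · exact Or.inr (Or.inr (back 10 h))

end ring

section final

universe u

variable {R : Type u} [Ring R]

/-- **Zassenhaus' theorem**, ring form: a finite nontrivial perfect group with a fixed-point-free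
homomorphism into the units of a ring is `SL(2,5)`. -/
theorem zassenhaus_of_fpf_hom [Nontrivial R] {G : Type u} [Group G] [Finite G] [Nontrivial G]
    (ι : G →* Rˣ) (hfpf : ∀ g : G, g ≠ 1 → IsUnit (((ι g : Rˣ) : R) - 1))
    (hperf : commutator G = ⊤) :
    Nonempty (G ≃* Matrix.SpecialLinearGroup (Fin 2) (ZMod 5)) := by
  have hinj := Cfsg.Agent.Helper4.Zass.injective_of_fpf ι hfpf
  have hcyc : ∀ A : Subgroup G, (∀ a ∈ A, ∀ b ∈ A, a * b = b * a) → IsCyclic A := by
    intro A hA
    let e := Subgroup.equivMapOfInjective A ι hinj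
    haveI : Finite (A.map ι) := Finite.of_equiv _ e.toEquiv
    have hc : IsCyclic (A.map ι) := by
      apply Cfsg.Agent.Helper27.Zass.isCyclic_of_fpf
      · rintro _ ⟨a, ha, rfl⟩ _ ⟨b, hb, rfl⟩
        rw [← map_mul, ← map_mul, hA a ha b hb]
      · rintro _ ⟨a, ha, rfl⟩ _ ⟨b, hb, rfl⟩ hab
        exact Cfsg.Agent.Helper4.Zass.isUnit_sub_of_fpf ι hfpf (fun h => hab (by rw [h]))
    exact isCyclic_of_surjective e.symm e.symm.surjective
  haveI : Fact (Nat.Prime 2) := ⟨Nat.prime_two⟩
  obtain ⟨z, hz⟩ := exists_prime_orderOf_dvd_card' 2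
    (Cfsg.Agent.Helper4.Zass.two_dvd_card hperf hcyc)
  have hz2 : z * z = 1 := by rw [← pow_two, ← hz]; exact pow_orderOf_eq_one z
  have hz1 : z ≠ 1 := by intro h; rw [h, orderOf_one] at hz; omega
  have h2 : IsUnit (2 : R) := Cfsg.Agent.Helper4.Zass.isUnit_two_of_fpf ι hfpf hz2 hz1
  exact Cfsg.Agent.Helper4.Zass.of_fpf_hom ι hfpf (n1_of_fpf ι hfpf h2) hperf

end final

end Cfsg.Agent.Helper11.ZasN1
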